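import Cfsg.Statements.S0617
import Cfsg.Agent.H1.FF3

set_option autoImplicit false
open Cfsg

namespace Cfsg.Agent.S0617

open scoped commutatorElement
open H1

/-- Structure Theorem for failure of factorization: a faithful group generated by best offenders, with self-centralizing p'-core, is a direct product of copies of SL(2, p) (p = 2 or 3), each acting on its own plane in V, which is the direct product of these planes and C_V(H). -/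
theorem result {G : Type*} [Group G] [Finite G] {p : ℕ} [Fact p.Prime] (V H : Subgroup G) (hV : Cfsg.IsElementaryAbelian p V) (hHV : H ≤ Subgroup.normalizer (V : Set G)) (hf : H ⊓ Subgroup.centralizer (V : Set G) = ⊥) (hS1 : Subgroup.centralizer (Cfsg.pPrimeCore p ↥H : Set ↥H) ≤ Cfsg.pPrimeCore p ↥H) (hS3 : H = ⨆ A : {A : Subgroup G // A ≤ H ∧ Cfsg.IsBestOffenderOn p V A}, (A : Subgroup G)) (hH1 : H ≠ ⊥) : (p = 2 ∨ p = 3) ∧ (∀ E : {E : Subgroup G // ∃ A : Subgroup G, A ≤ H ∧ Cfsg.IsBestOffenderOn p V A ∧ ⁅V, A⁆ ≠ ⊥ ∧ (∀ B : Subgroup G, B ≤ A → Cfsg.IsBestOffenderOn p V B → ⁅V, B⁆ ≠ ⊥ → B = A) ∧ E = ⁅((Cfsg.pPrimeCore p ↥H).map H.subtype), A⁆ ⊔ A}, H ≤ Subgroup.normalizer ((E : Subgroup G) : Set G) ∧ Nonempty (↥(E : Subgroup G) ≃* Matrix.SpecialLinearGroup (Fin 2) (ZMod p)) ∧ Nat.card ↥(⁅V, (E : Subgroup G)⁆) = p ^ 2) ∧ iSupIndep (fun E : {E : Subgroup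 G // ∃ A : Subgroup G, A ≤ H ∧ Cfsg.IsBestOffenderOn p V A ∧ ⁅V, A⁆ ≠ ⊥ ∧ (∀ B : Subgroup G, B ≤ A → Cfsg.IsBestOffenderOn p V B → ⁅V, B⁆ ≠ ⊥ → B = A) ∧ E = ⁅((Cfsg.pPrimeCore p ↥H).map H.subtype), A⁆ ⊔ A} => (E : Subgroup G)) ∧ (⨆ E : {E : Subgroup G // ∃ A : Subgroup G, A ≤ H ∧ Cfsg.IsBestOffenderOn p V A ∧ ⁅V, A⁆ ≠ ⊥ ∧ (∀ B : Subgroup G, B ≤ A → Cfsg.IsBestOffenderOn p V B → ⁅V, B⁆ ≠ ⊥ → B = A) ∧ E = ⁅((Cfsg.pPrimeCore p ↥H).map H.subtype), A⁆ ⊔ A}, (E : Subgroup G)) = H ∧ iSupIndep (fun o : Option {E : Subgroup G // ∃ A : Subgroup G, A ≤ H ∧ Cfsg.IsBestOffenderOn p V A ∧ ⁅V, A⁆ ≠ ⊥ ∧ (∀ B : Subgroup G, B ≤ A → Cfsg.IsBestOffenderOn p V B → ⁅V, B⁆ ≠ ⊥ → B = A) ∧ E = ⁅((Cfsg.pPrimeCore p ↥H).map H.subtype), A⁆ ⊔ A} => o.elim (V ⊓ Subgroup.centralizer (H : Set G)) (fun E => ⁅V, (E : Subgroup G)⁆)) ∧ (V ⊓ Subgroup.centralizer (H : Set G)) ⊔ (⨆ E : {E :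 Subgroup G // ∃ A : Subgroup G, A ≤ H ∧ Cfsg.IsBestOffenderOn p V A ∧ ⁅V, A⁆ ≠ ⊥ ∧ (∀ B : Subgroup G, B ≤ A → Cfsg.IsBestOffenderOn p V B → ⁅V, B⁆ ≠ ⊥ → B = A) ∧ E = ⁅((Cfsg.pPrimeCore p ↥H).map H.subtype), A⁆ ⊔ A}, ⁅V, (E : Subgroup G)⁆) = V := by
  have h := fp_of hV hHV hf hS1
  have g := h.gen hS3.le
  rw [H9.Op'_eq]
  set I := {E : Subgroup G // ∃ A : Subgroup G, A ≤ H ∧ Cfsg.IsBestOffenderOn p V A ∧ ⁅V, A⁆ ≠ ⊥ ∧ (∀ B : Subgroup G, B ≤ A → Cfsg.IsBestOffenderOn p V B → ⁅V, B⁆ ≠ ⊥ → B = A) ∧ E = ⁅H9.Op' p H, A⁆ ⊔ A}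
  have ex : ∀ E : I, ∃ A, Tv p V H A ∧ E.1 = Ea p H A := fun ⟨E, A, h1, h2, h3, h4, h5⟩ =>
    ⟨A, h.tv_iff.2 ⟨h1, h2, h3, h4⟩, h5⟩
  have ne : ∀ (E E' : I) A, Tv p V H A → E.1 = Ea p H A → E' ≠ E →
      E'.1 ≤ H ⊓ Subgroup.centralizer ((⁅V, Ea p H A⁆ : Subgroup G) : Set G) := fun E E' A t e c => by
    obtain ⟨B, t', e'⟩ := ex E'
    exact e' ▸ (h.E_eq_or t g t').resolve_left fun s => c (Subtype.ext (e'.trans (s.symm.trans e.symm)))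
  have lH : ∀ E : I, E.1 ≤ H := fun E => let ⟨A, t, e⟩ := ex E; e.le.trans t.E_le
  have sp : ⨆ E : I, E.1 = H := le_antisymm (iSup_le lH) (g _ fun B t =>
    let ⟨h1, h2, h3, h4⟩ := h.tv_iff.1 t; le_iSup_of_le ⟨_, B, h1, h2, h3, h4, rfl⟩ le_sup_right)
  have n := (H9.Op'_le p H).trans h.nv
  refine ⟨let ⟨A, t⟩ := g.exists hH1; h.p23 t, fun E => ?_, fun E => ?_, sp, fun o => ?_, ?_⟩
  · obtain ⟨A, t, e⟩ := ex E
    rw [e]; exact ⟨h.nE t g, h.E_iso t g, h.card_W t⟩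
  · obtain ⟨A, t, e⟩ := ex E
    refine disjoint_iff.2 (le_bot_iff.1 ((inf_le_inf e.le (iSup₂_le fun E' c => (ne E E' A t e c).trans inf_le_right)).trans
      (h.E_faith t).le))
  · rcases o with _ | E
    · refine disjoint_iff.2 (le_bot_iff.1 ((inf_le_inf (inf_le_inf_left _ (H9.centralizer_anti (H9.Op'_le p H)))
        (iSup₂_le fun o c => ?_)).trans (H9.cop_abelian_inf hV.1 n (H9.card_cop_of_p h.pV (H9.Op'_cop p H)).symm).le))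
      rcases o with _ | E
      · exact (c rfl).elim
      obtain ⟨A, t, e⟩ := ex E
      exact (congrArg (⁅V, ·⁆) e).le.trans ((h.comm_Q t).1.ge.trans (Subgroup.commutator_mono le_rfl t.Q_le))
    · obtain ⟨A, t, e⟩ := ex E
      refine disjoint_iff.2 (le_bot_iff.1 ((inf_le_inf (congrArg (⁅V, ·⁆) e).le (iSup₂_le fun o c => ?_)).trans
        (h.C_Q t).2.1.le))
      rcases o with _ | E'
      · exact inf_le_inf_left _ (H9.centralizer_anti t.E_le)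
      · exact (Subgroup.commutator_mono le_rfl (ne E E' A t e fun s => c (congrArg _ s))).trans (h.Y_comm t g)
  · have l : ⨆ E : I, ⁅V, E.1⁆ ≤ V := iSup_le fun E => H9.commutator_le_left' ((lH E).trans hHV)
    refine le_antisymm (sup_le inf_le_left l) ((H9.cop_commutator_sup n (H9.copA_of_p' h.pV (H9.Op'_cop p H))).ge.trans
      (sup_le (le_sup_of_le_right ((Subgroup.commutator_mono le_rfl ((H9.Op'_le p H).trans sp.ge)).trans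
        (comm_iSup_le_of_le l fun E => le_iSup (fun E : I => ⁅V, E.1⁆) E))) (le_sup_of_le_left (le_inf inf_le_left
          (Subgroup.le_centralizer_iff.1 (g _ fun B t => Subgroup.le_centralizer_iff.1 ?_))))))
    exact ((inf_le_inf_left _ (H9.centralizer_anti t.Q_le)).trans (h.C_Q t).1.le).trans
      (inf_le_right.trans (H9.centralizer_anti le_sup_right))

end Cfsg.Agent.S0617
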