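import Cfsg.Statements.S0102
import Cfsg.Agent.H1.Tr

set_option autoImplicit false
open Cfsg

namespace Cfsg.Agent.S0102

open H1

/-- A finite perfect group with cyclic Sylow p-subgroups has no perfect central extension whose kernel has order divisible by p. -/
theorem result {G : Type*} {H : Type*} [Group G] [Group H] [Finite G] [Finite H] (hG : commutator G = ⊤) {p : ℕ} [Fact p.Prime] (hcyc : ∀ P : Sylow p G, IsCyclic P) (σ : H →* G) (hσ : Function.Surjective σ) (hz : σ.ker ≤ Subgroup.center H) (hH : commutator H = ⊤) : ¬ p ∣ Nat.card σ.ker := by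
  intro h
  obtain ⟨x, hx, h2⟩ := exists_mem_orderOf_eq_prime Fact.out h
  obtain ⟨P, hP⟩ := exists_sylow_mem (p := p) (x := x) ⟨1, by rw [h2, pow_one]⟩
  obtain ⟨Q, hQ⟩ := ((isSylowIn_top P).map_surj hσ).exists_sylow_top
  obtain ⟨g, -, hg⟩ := exists_le_sup_zpowers_of_isCyclic_map σ (hQ ▸ hcyc Q)
  have h3 : IsMulCommutative (P : Subgroup H) := isMulCommutative_of_le_sup_zpowers
    (isMulCommutative_of_le hz inferInstance) (fun z h => (Subgroup.mem_center_iff.1 (hz h) g).symm) hg
  have := sylow_inf_commutator_inf_center P ⟨⟨hP, hH ▸ Subgroup.mem_top x⟩, hz hx⟩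
  rw [L.commutator_eq_bot_iff_comm.2 h3] at this
  exact ne_one_of_orderOf_prime Fact.out h2 this

end Cfsg.Agent.S0102
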