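import Cfsg.Statements.S0727
import Cfsg.Agent.H3.Zass4

set_option autoImplicit false
open Cfsg

namespace Cfsg.Agent.S0727

/-- A sharply triply transitive permutation group of degree `2^f + 1` is isomorphic to the projective general linear group of degree 2 over the field with `2^f` elements. -/
theorem result {α : Type*} [Fintype α] [DecidableEq α] {f : ℕ} (hf : 1 ≤ f) (hα : Fintype.card α = 2 ^ f + 1) (G : Subgroup (Equiv.Perm α)) (h3 : MulAction.IsMultiplyPretransitive G α 3) (hsharp : ∀ x : Fin 3 ↪ α, MulAction.stabilizer G x = ⊥) : ∃ (F : Type) (_ : Field F) (_ : Fintype F), Fintype.card F = 2 ^ f ∧ Nonempty (G ≃* Matrix.ProjGenLinGroup (Fin 2) F) := by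
  have h := H3.sh3_iff.2 ⟨h3, hsharp⟩
  rw [← Nat.card_eq_fintype_card] at hα
  have l : 2 ≤ 2 ^ f := Nat.le_self_pow (by omega) 2
  have ev : 2 ∣ 2 ^ f := dvd_pow_self 2 (by omega)
  have : Nontrivial α := Finite.one_lt_card_iff_nontrivial.1 (by omega)
  obtain ⟨a, b, hab⟩ := exists_pair_ne α
  by_cases h4 : 4 ≤ Nat.card α
  · obtain ⟨H, k, e⟩ := h.zg h4 hab
    have c := k.card
    have ho : Odd (Nat.card (H3.St2 G a b)) := Nat.odd_iff.2 (by omega)
    have hp := k.perfect_of_comm (h.zass h4 (Nat.odd_iff.2 (by omega))) ho (k.elem (by omega)).1 (Or.inr (Nat.even_iff.2 (by omega)))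
    obtain ⟨w, w1, w2⟩ := k.exists_swap
    obtain ⟨F, _, _, p, q⟩ := (k.zi (by omega) fun _ e _ => k.comm ho hp e).pgl w1 (k.swap_sq ho hp w1 w2) (fun _ => k.inverts ho hp w1 w2)
      (by rw [k.cardG, e, add_tsub_cancel_right]; ring)
    exact ⟨F, _, _, by omega, q⟩
  obtain ⟨c, p, q⟩ : ∃ c, c ≠ a ∧ c ≠ b := by
    obtain ⟨c, -, e⟩ := Finset.exists_mem_notMem_of_card_lt_card (s := {a, b}) (t := Finset.univ)
      (Finset.card_le_two.trans_lt (by rw [Finset.card_univ, ← Nat.card_eq_fintype_card]; omega))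
    exact ⟨c, by simpa [not_or] using e⟩
  have all : ∀ d, d = a ∨ d = b ∨ d = c := fun d => by
    have := Finset.eq_univ_of_card {a, b, c} (by
      rw [Finset.card_eq_three.2 ⟨a, b, c, hab, p.symm, q.symm, rfl⟩, ← Nat.card_eq_fintype_card]; omega)
    simpa using this.ge (Finset.mem_univ d)
  have one : ∀ g : G, g • a = a → g • b = b → g = 1 := fun g r s => h.three g a b c hab q.symm p.symm r s
    ((all (g • c)).resolve_left (fun e => p (smul_left_cancel g (e.trans r.symm))) |>.resolve_left
      fun e => q (smul_left_cancel g (e.trans s.symm)))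
  obtain ⟨w, w1, w2, w3⟩ := h.tr hab p.symm q.symm hab.symm q.symm p.symm
  obtain ⟨u, u1, u2, u3⟩ := h.tr hab p.symm q.symm p.symm hab q
  have st : ∀ g ∈ MulAction.stabilizer G a, g = 1 ∨ g = u := fun g r => by
    rcases all (g • b) with e | e | e
    · exact absurd (smul_left_cancel g ((show g • a = a from r).trans e.symm)) hab
    · exact Or.inl (one g r e)
    · exact Or.inr (inv_mul_eq_one.1 (one _ (by simp [mul_smul, show g • a = a from r, inv_smul_eq_iff, u1])
        (by simp [mul_smul, e, inv_smul_eq_iff, u2]))).symm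
  have u0 : u ≠ 1 := fun e => q (by simpa [e] using u2.symm)
  have cs : Nat.card (MulAction.stabilizer G a) = 2 := by
    rw [← Set.ncard_pair u0.symm, ← Nat.card_coe_set_eq]
    exact congrArg (fun s : Set G => Nat.card s) (Set.ext fun g => ⟨st g, by rintro (rfl | rfl); exacts [one_mem _, u1]⟩)
  obtain ⟨F, _, _, r, s⟩ := H3.ZI.pgl (a := a) (b := b) (Q := MulAction.stabilizer G a) (D := ⊥) (w := w) ⟨hab, fun x r y s => by
    rcases st x r with rfl | rfl <;> rcases st y s with rfl | rfl <;> simp, by simp, fun _ r => r, bot_le, fun d r => by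
      rcases all d with rfl | rfl | rfl; exacts [absurd rfl r, ⟨1, one_mem _, one_smul _ _⟩, ⟨u, u1, u2⟩], one, fun g => ⟨by rintro rfl; simp,
        fun r => one g r.1 r.2⟩, by simp, by rw [cs]; simp, fun e => u0 (e.le u1)⟩ w1 (one _ (by simp [mul_smul, w1, w2]) (by simp [mul_smul, w1, w2]))
    (by simp) (by
      have : MulAction.IsPretransitive G α := MulAction.isPretransitive_of_is_two_pretransitive (h2 := MulAction.isMultiplyPretransitive_of_le (n := 3) (by simp) (by omega))
      rw [← (MulAction.stabilizer G a).index_mul_card, MulAction.index_stabilizer_of_transitive, cs]; omega)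
  exact ⟨F, _, _, by omega, s⟩

end Cfsg.Agent.S0727
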