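import Cfsg.Statements.S4702
import Cfsg.Agent.S0727
import Cfsg.Agent.H5.SL2
import Cfsg.Agent.H5.SL

set_option autoImplicit false
open Cfsg

namespace Cfsg.Agent.S4702

/-- Let G be a triply transitive permutation group on a finite set of odd size m ≥ 3 in which only the identity fixes three or more points. Then m = 2^a + 1 for some a ≥ 1 and G is isomorphic to SL(2, 2^a). -/
theorem result {α : Type*} [Fintype α] [DecidableEq α] (hm : 3 ≤ Fintype.card α) (hodd : Odd (Fintype.card α)) (G : Subgroup (Equiv.Perm α)) (h3 : MulAction.IsMultiplyPretransitive G α 3) (hfix : ∀ g : G, 3 ≤ Nat.card (MulAction.fixedBy α g) → g = 1) : ∃ a : ℕ, 1 ≤ a ∧ Fintype.card α = 2 ^ a + 1 ∧ ∃ (F : Type) (_ : Field F) (_ : Fintype F), Fintype.card F = 2 ^ a ∧ Nonempty (G ≃* Matrix.SpecialLinearGroup (Fin 2) F) := by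
  have hs : ∀ x : Fin 3 ↪ α, MulAction.stabilizer G x = ⊥ := fun x =>
    (Subgroup.eq_bot_iff_forall _).2 fun g hg => hfix g ((Nat.card_fin 3).ge.trans
      (Nat.card_le_card_of_injective (fun i => (⟨x i, DFunLike.congr_fun hg i⟩ :
        MulAction.fixedBy α g)) fun i j e => x.injective (congrArg Subtype.val e)))
  obtain ⟨f, hf, hα⟩ : ∃ f, 1 ≤ f ∧ Fintype.card α = 2 ^ f + 1 := by
    by_cases h4 : 4 ≤ Nat.card α
    swap
    · exact ⟨1, le_rfl, by rw [Nat.card_eq_fintype_card] at h4; omega⟩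
    have : Nontrivial α := Finite.one_lt_card_iff_nontrivial.1 (by omega)
    obtain ⟨a, b, hab⟩ := exists_pair_ne α
    obtain ⟨H, k, e⟩ := (H3.sh3_iff.2 ⟨h3, hs⟩).zg h4 hab
    have c := k.card
    obtain ⟨-, p, f, hp, -, hc⟩ := k.elem (by omega)
    rw [Nat.card_eq_fintype_card (α := α)] at c h4
    have h2 : 2 ∣ p ^ f := by rw [Nat.odd_iff] at hodd; omega
    obtain rfl := (Nat.prime_dvd_prime_iff_eq Nat.prime_two hp).1 (Nat.prime_two.dvd_of_dvd_pow h2)
    exact ⟨f, Nat.pos_of_ne_zero (by rintro rfl; omega), by omega⟩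
  obtain ⟨F, _, _, hF, ⟨e⟩⟩ := Cfsg.Agent.S0727.result hf hα G h3 hs
  refine ⟨f, hf, hα, F, _, _, hF, ⟨e.trans (MulEquiv.ofBijective H5.mkS
    ((Nat.bijective_iff_injective_and_card _).2 ⟨(injective_iff_map_eq_one _).2 fun g hg => ?_,
      H5.card_PGL_eq_card_SL.symm⟩)).symm⟩⟩
  refine (H5.mkS_eq_one_iff.1 hg).elim id fun e => e.trans (H5.neg_one_eq_one_iff.2 ?_)
  have := FiniteField.cast_card_eq_zero F
  rw [hF, Nat.cast_pow] at this
  exact_mod_cast (pow_eq_zero_iff (by omega)).1 this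

end Cfsg.Agent.S4702
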