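import Cfsg.Statements.S0732
import Cfsg.Agent.H3.Zass6

set_option autoImplicit false
open Cfsg

namespace Cfsg.Agent.S0732

/-- A transitive permutation group on `p + 1` points (`p` prime) of order `(p+1) p d` with `d < p` is isomorphic to `PGL(2,p)` with `d = p - 1`, or to `PSL(2,p)` with `2d = p - 1`, or else `p + 1 = 2^q` for a prime `q`, `d = 1` or `d = q`, and the group is permutation-isomorphic to a group of semi-affine maps `x ↦ a φ(x) + b` of the field with `2^q` elements. -/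
theorem result {α : Type*} [Fintype α] [DecidableEq α] {p d : ℕ} (hp : p.Prime) (hα : Fintype.card α = p + 1) (G : Subgroup (Equiv.Perm α)) [MulAction.IsPretransitive G α] (hG : Nat.card G = (p + 1) * p * d) (hd : d < p) : (d = p - 1 ∧ Nonempty (G ≃* Matrix.ProjGenLinGroup (Fin 2) (ZMod p))) ∨ (2 * d = p - 1 ∧ Nonempty (G ≃* Matrix.ProjectiveSpecialLinearGroup (Fin 2) (ZMod p))) ∨ (∃ q : ℕ, q.Prime ∧ p + 1 = 2 ^ q ∧ (d = 1 ∨ d = q) ∧ ∃ e : α ≃ GaloisField 2 q, ∀ g : G, (e.symm.trans (((g : Equiv.Perm α)).trans e)) ∈ Cfsg.semiaffineGroup (GaloisField 2 q)) := by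
  have := Fact.mk hp
  have p2 := hp.two_le
  rw [← Nat.card_eq_fintype_card] at hα
  have key : ∀ a : α, ∃ π : G, π • a = a ∧ orderOf π = p ∧ (∀ c d, c ≠ a → d ≠ a → ∃ u ∈ Subgroup.zpowers π, u • c = d) ∧
      (∀ u ∈ Subgroup.zpowers π, u ≠ 1 → ∀ c, u • c = c → c = a) ∧ MulAction.stabilizer G a ≤ Subgroup.normalizer (Subgroup.zpowers π : Set G) ∧
      Nat.card (MulAction.stabilizer G a) = p * d := fun a => by
    have c := (MulAction.stabilizer G a).index_mul_card
    rw [MulAction.index_stabilizer_of_transitive, hα, hG, mul_assoc, Nat.mul_right_inj (by omega)] at c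
    obtain ⟨π, p1, o⟩ := H9.exists_orderOf_eq_of_dvd (p := p) (Dvd.intro _ c.symm)
    have o' := (Subgroup.orderOf_coe π).trans o
    have cy := Equiv.Perm.isCycle_of_prime_order' (o' ▸ hp) (by rw [o', ← Nat.card_eq_fintype_card]; omega)
    have s : (π : Equiv.Perm α).support = {a}ᶜ := Finset.eq_of_subset_of_card_le (fun x e => by
      rw [Finset.mem_compl, Finset.mem_singleton]; rintro rfl; exact Equiv.Perm.mem_support.1 e p1) (by
        rw [← cy.orderOf, o', Finset.card_compl, ← Nat.card_eq_fintype_card, hα]; simp)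
    have m : ∀ c, c ≠ a → (π : Equiv.Perm α) c ≠ c := fun c e => Equiv.Perm.mem_support.1 (s.ge (by simpa using e))
    have cz := (Nat.card_zpowers π).trans o
    have l := Subgroup.zpowers_le_of_mem p1
    refine ⟨π, p1, o, fun c d e f => let ⟨i, r⟩ := cy.exists_pow_eq (m c e) (m d f); ⟨π ^ i, Subgroup.npow_mem_zpowers _ _, r⟩,
      fun u r s c t => by_contra fun e => m c e ?_, fun g r => H9.mem_normalizer_iff_cj.2 (by_contra fun e => ?_), c⟩
    · have := H1.eq_of_le_of_card_eq (Subgroup.zpowers_le_of_mem r) (by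
        rw [Nat.card_zpowers, cz]; exact ((Nat.dvd_prime hp).1 (o ▸ orderOf_dvd_of_mem_zpowers r)).resolve_left (mt orderOf_eq_one_iff.1 s))
      exact (this.ge.trans (Subgroup.zpowers_le_of_mem (H := MulAction.stabilizer G c) t)) (Subgroup.mem_zpowers π)
    · have := H1.card_mul_card_le (show H9.cj g _ ≤ _ from H2.cj_le_of_mem l r) l
      rw [H9.card_cj, cz, c, ((Nat.dvd_prime hp).1 (cz ▸ Subgroup.card_dvd_of_le inf_le_right)).resolve_right fun f => e
        (H1.eq_of_le_of_card_eq (inf_eq_right.1 (H1.eq_of_le_of_card_eq inf_le_right (f.trans cz.symm))) (H9.card_cj _ _).symm).symm] at this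
      nlinarith
  have three : ∀ (g : G) (c d f : α), c ≠ d → d ≠ f → c ≠ f → g • c = c → g • d = d → g • f = f → g = 1 := fun g c d f r s t g1 g2 g3 => by
    obtain ⟨π, -, o, k1, k2, k3, -⟩ := key c
    have k : ∀ u ∈ Subgroup.zpowers π, g • u • d = u • d → g * u * g⁻¹ = u := fun u e l => (inv_mul_eq_one.1 (by_contra fun n => r
      (k2 _ (mul_mem (inv_mem e) (H1.conj_mem_of_mem_normalizer (k3 g1) e)) n d (by
        simp [mul_smul, inv_smul_eq_iff.2 g2.symm, l])).symm)).symm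
    obtain ⟨u, u1, u2⟩ := k1 d f r.symm t.symm
    have := H1.eq_of_le_of_card_eq (Subgroup.zpowers_le_of_mem u1) (by
      rw [Nat.card_zpowers, Nat.card_zpowers, o]
      exact ((Nat.dvd_prime hp).1 (o ▸ orderOf_dvd_of_mem_zpowers u1)).resolve_left fun e => s (by simpa [orderOf_eq_one_iff.1 e] using u2))
    refine Subtype.ext (Equiv.ext fun x => ?_)
    by_cases e : x = c
    · exact e ▸ g1
    obtain ⟨v, v1, rfl⟩ := k1 d x r.symm e
    obtain ⟨i, rfl⟩ := this.ge v1
    change g • (u ^ i) • d = (u ^ i) • d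
    rw [← mul_smul, ((show Commute g u from mul_inv_eq_iff_eq_mul.1 (k u u1 (u2 ▸ g3))).zpow_right i).eq, mul_smul, g2]
  have : Nontrivial α := Finite.one_lt_card_iff_nontrivial.1 (by omega)
  obtain ⟨a, b, hab⟩ := exists_pair_ne α
  obtain ⟨π, p1, o, k1, k2, k3, k4⟩ := key a
  have cz := (Nat.card_zpowers π).trans o
  have l : Subgroup.zpowers π ≤ MulAction.stabilizer G a := Subgroup.zpowers_le_of_mem p1
  have cm : ∀ x ∈ Subgroup.zpowers π, ∀ y ∈ Subgroup.zpowers π, x * y = y * x := fun _ r _ => H1.comm_of_mem inferInstance r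
  generalize Subgroup.zpowers π = P at *
  have two : MulAction.IsMultiplyPretransitive G α 2 := MulAction.is_two_pretransitive_iff.2 fun {x y z w} r s => by
    obtain ⟨g, rfl⟩ := MulAction.exists_smul_eq G a x
    obtain ⟨k, rfl⟩ := MulAction.exists_smul_eq G a z
    obtain ⟨u, u1, u2⟩ := k1 (g⁻¹ • y) (k⁻¹ • w) (fun e => r (inv_smul_eq_iff.1 e).symm) fun e => s (inv_smul_eq_iff.1 e).symm
    exact ⟨k * u * g⁻¹, by simp [mul_smul, show u • a = a from l u1], by simp [mul_smul, u2]⟩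
  have cE : Nat.card (H3.St2 G a b) = d := by
    have := H1.card_mul_relIndex (inf_le_left : H3.St2 G a b ≤ _)
    have r := H3.card_stab2 two hab
    rw [hα, Nat.add_right_cancel_iff] at r
    rwa [r, k4, mul_comm, Nat.mul_right_inj (by omega)] at this
  have iso : ∀ (F : Type) [Field F] [Fintype F], Fintype.card F = Nat.card P → Nonempty (F ≃+* ZMod p) := fun F _ _ r =>
    ⟨FiniteField.ringEquivOfCardEq (by rw [r, cz, ZMod.card])⟩
  obtain ⟨c, c1, c2⟩ : ∃ c, c ≠ a ∧ c ≠ b := by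
    obtain ⟨c, -, e⟩ := Finset.exists_mem_notMem_of_card_lt_card (s := {a, b}) (t := Finset.univ)
      (Finset.card_le_two.trans_lt (by rw [Finset.card_univ, ← Nat.card_eq_fintype_card]; omega))
    exact ⟨c, by simpa [not_or] using e⟩
  have d0 : 0 < d := cE ▸ Nat.card_pos
  by_cases e2 : p = 2
  · have e0 : H3.St2 G a b = ⊥ := Subgroup.card_eq_one.1 (by omega)
    obtain ⟨w, w1, w2⟩ := MulAction.is_two_pretransitive_iff.1 two hab hab.symm
    obtain ⟨F, _, _, r, ⟨s⟩⟩ := H3.ZI.pgl (a := a) (b := b) (Q := P) (D := ⊥) (w := w) ⟨hab, cm, by simp, l, bot_le, fun c => k1 b c hab.symm,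
      fun u r s => by_contra fun t => hab (k2 u r t b s).symm, fun g => e0 ▸ Iff.rfl, by simp, by rw [cz, e2]; simp,
        fun e => by simp [e, e2] at cz⟩ w1 (e0.le ⟨by simp [mul_smul, w1, w2], by simp [mul_smul, w1, w2]⟩) (by simp)
          (by rw [hG, cz, e2, show d = 1 by omega])
    exact Or.inl ⟨by omega, (iso F r).map fun t => s.trans (H5.pgCongr t)⟩
  have po := hp.odd_of_ne_two e2
  by_cases hZ : ∀ N : Subgroup G, N.Normal → MulAction.IsPretransitive N α → ∃ a : α, MulAction.stabilizer N a ≠ ⊥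
  · have e0 : H3.St2 G a b ≠ ⊥ := fun e0 => by
      obtain ⟨K, n, -, r, -⟩ := H1.IsFrob.exists_kernel (H1.isFrob_iff.2 ⟨fun e => by rw [e, Subgroup.card_bot] at k4; nlinarith,
        fun e => by have := Subgroup.card_top (G := G); rw [← e, k4, hG] at this; nlinarith, fun g x x1 x2 x3 => by_contra fun f => x2 (by
          obtain ⟨s, s1, s2⟩ := MulAction.is_two_pretransitive_iff.1 two (show a ≠ g⁻¹ • a from fun k => f (eq_inv_smul_iff.1 k)) hab
          have x1 : x • a = a := x1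
          have x3 : x • g⁻¹ • a = g⁻¹ • a := H3.conj_smul_iff.1 x3
          simpa using Subgroup.mem_bot.1 (e0.le (show s * x * s⁻¹ ∈ H3.St2 G a b from
            ⟨by simp [mul_smul, inv_smul_eq_iff.2 s1.symm, x1, s1], by simp [mul_smul, ← s2, x3]⟩)))⟩ :
              IsFrobeniusComplement (MulAction.stabilizer G a))
      have t : ∀ x : α, ∃ k : K, k • a = x := fun x => by
        obtain ⟨g, rfl⟩ := MulAction.exists_smul_eq G a x
        obtain ⟨⟨k, s⟩, rfl⟩ := r.2 g
        exact ⟨k, by simp [mul_smul, show (s : G) • a = a from s.2, Subgroup.smul_def]⟩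
      obtain ⟨x, s⟩ := hZ K n (MulAction.IsPretransitive.of_orbit t)
      obtain ⟨k, rfl⟩ := t x
      obtain ⟨⟨y, y1⟩, y2⟩ := Subgroup.ne_bot_iff_exists_ne_one.1 s
      exact y2 (Subtype.ext (H1.conj_eq_one_iff'.1 (Subtype.ext (Subgroup.disjoint_def.1 r.disjoint (k⁻¹ * y * k).2 (by
        change (k⁻¹ * y * k) • a = a
        rw [mul_smul, mul_smul, y1, inv_smul_smul])))))
    obtain ⟨⟨y, y1⟩, y2⟩ := Subgroup.ne_bot_iff_exists_ne_one.1 e0
    have z : IsZassenhausGroup G α := ⟨inferInstance, two, three, ⟨y, by simpa using y2, a, b, hab, y1⟩, hZ⟩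
    have h := H3.ZG.of z hab l (by rw [cz, ← hα, Nat.card_eq_fintype_card]) k2
    by_cases e : Nat.card P = Nat.card (H3.St2 G a b) + 1
    · have he : Even (Nat.card (H3.St2 G a b)) := by rw [Nat.even_iff]; rw [Nat.odd_iff] at po; omega
      obtain ⟨F, _, _, r, ⟨s⟩⟩ := h.pgl_of_comm e he fun _ r _ => h.comm_of_odd e he hp (cz.trans (pow_one p).symm) odd_one r
      exact Or.inl ⟨by omega, (iso F r).map fun t => s.trans (H5.pgCongr t)⟩
    have := (h.card_cases (((Nat.even_or_odd _).imp h.le_of_even (h.feit' z)).elim id fun e => e.resolve_right fun e => e.2.1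
      (Subgroup.commutator_eq_bot_iff_le_centralizer.2 fun x e y f => cm y f x e))).resolve_left e
    obtain ⟨F, _, _, r, ⟨s⟩⟩ := (Nat.even_or_odd _).elim (h.psl_of_even · e) fun o => h.psl_of_comm o (h.perfect_of_comm z o cm (Or.inl e)) cm
    exact Or.inr (Or.inl ⟨by omega, (iso F r).map fun t => s.trans (H5.pslCongr t)⟩)
  push Not at hZ
  obtain ⟨N, n, t, r⟩ := hZ
  have cN := (H3.card_of_reg t r a).trans hα
  have n1 : ∀ x ∈ N, x ≠ 1 → x • a ≠ a := fun x p q e => q (H3.eq_of_reg r p (one_mem _) (by simpa using e))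
  have tr : ∀ x ∈ N, ∀ y ∈ N, x ≠ 1 → y ≠ 1 → ∃ u ∈ P, u * x * u⁻¹ = y := fun x x1 y y1 x2 y2 => by
    obtain ⟨u, u1, u2⟩ := k1 _ _ (n1 x x1 x2) (n1 y y1 y2)
    exact ⟨u, u1, H3.eq_of_reg r (n.conj_mem x x1 u) y1 (a := a) (by rw [mul_smul, mul_smul, show u⁻¹ • a = a from inv_mem (l u1), u2])⟩
  obtain ⟨z, z1, z2⟩ := H9.exists_orderOf_eq_of_dvd (p := 2) (H := N) (cN ▸ po.add_one.two_dvd)
  have sq : ∀ x ∈ N, x * x = 1 := fun x x1 => by
    by_cases e : x = 1
    · simp [e]
    obtain ⟨u, -, rfl⟩ := tr z z1 x x1 (H4.ne_one_of_two z2) e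
    exact H4.conj_mul_self (H4.mul_self_of_two z2) u
  obtain ⟨q, hq⟩ := IsPGroup.iff_card.1 (show IsPGroup 2 N from fun x => ⟨1, Subtype.ext (by simpa [pow_two] using sq x x.2)⟩)
  have qp : q.Prime := Nat.Prime.of_mersenne (by rwa [mersenne, ← hq, cN, add_tsub_cancel_right])
  obtain ⟨F, _, _, f, ψ, fl⟩ := H3.exists_fld (Q := N) (D := P) (fun _ r _ => H1.comm_of_mem (H1.isMulCommutative_of_conj_eq_inv (s := 1)
    fun k p => by simpa using eq_inv_of_mul_eq_one_left (sq k p)) r) cm Subgroup.le_normalizer_of_normal (fun e => by simp [e] at cN; omega)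
    fun W w1 w2 => or_iff_not_imp_left.2 fun w3 => w1.antisymm fun y y1 => by
      obtain ⟨⟨x, x1⟩, x2⟩ := Subgroup.ne_bot_iff_exists_ne_one.1 w3
      by_cases e : y = 1
      · simp [e]
      obtain ⟨u, u1, rfl⟩ := tr x (w1 x1) y y1 (by simpa using x2) e
      exact w2 u u1 x x1
  have := Fintype.ofFinite (GaloisField 2 q)
  replace fl := fl.congr (FiniteField.ringEquivOfCardEq (K := GaloisField 2 q) (by
    rw [fl.card, hq, ← Nat.card_eq_fintype_card, GaloisField.card _ _ qp.ne_zero]))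
  generalize (fun x => f _ : GaloisField 2 q → G) = f, (fun x => _ : G → GaloisField 2 q) = ψ at fl
  have sj : ∀ x : α, ∃ y, f y • a = x := fun x => by
    obtain ⟨⟨k, k1⟩, rfl⟩ := t.exists_smul_eq a x
    obtain ⟨y, rfl⟩ := (fl.mem k).1 k1
    exact ⟨y, rfl⟩
  let E := Equiv.ofBijective (fun x => f x • a) ⟨fun x y e => fl.inj (H3.eq_of_reg r (fl.fm x) (fl.fm y) e), sj⟩
  refine Or.inr (Or.inr ⟨q, qp, cN ▸ hq, or_iff_not_imp_left.2 fun d1 => ?_, E.symm, fun g => ?_⟩)
  · have e0 : H3.St2 G a b ≠ ⊥ := fun e => d1 (by simpa [e] using cE.symm)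
    obtain ⟨H, h⟩ := H3.exists_ZG' two three hab c1.symm c2.symm e0
    rcases Nat.even_or_odd d with e | e
    · obtain ⟨x, x1, x2⟩ := H9.exists_orderOf_eq_of_dvd (p := 2) (cE ▸ e.two_dvd)
      have c := (Nat.card_zpowers x).trans x2
      have := h.card_reg t r (Subgroup.zpowers_le_of_mem x1) (fun f => by simp [f] at c) (Or.inr c)
      rw [c, hα, ← cN, hq, Nat.pow_right_inj one_lt_two] at this
      rw [this] at hq; rw [Nat.even_iff] at e; omega
    · have := h.card_reg t r le_rfl e0 (Or.inl (cE ▸ e))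
      rwa [cE, hα, ← cN, hq, Nat.pow_right_inj one_lt_two, eq_comm] at this
  obtain ⟨y, e⟩ := sj (g • a)
  have m : (f y)⁻¹ * g ∈ MulAction.stabilizer G a := by simp [mul_smul, ← e]
  obtain ⟨σ, c, c0, s, -⟩ := fl.semi (y := (f y)⁻¹ * g) (Subgroup.le_normalizer_of_normal (Subgroup.mem_top _))
    fun d => H1.conj_mem_of_mem_normalizer (k3 m)
  refine ⟨Units.mk0 c c0, y, RingEquiv.ofBijective σ σ.injective.bijective_of_finite, fun x => E.symm_apply_eq.2 ?_⟩
  change g • f x • a = f (c * σ x + y) • a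
  rw [add_comm, fl.add, ← s, mul_smul, mul_smul _ _ a, show ((f y)⁻¹ * g)⁻¹ • a = a from inv_mem m]; simp [mul_smul]

end Cfsg.Agent.S0732
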