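import Cfsg.Statements.S0111
import Cfsg.Agent.H2.Control

set_option autoImplicit false
open Cfsg

namespace Cfsg.Agent.S0111

/-- The Thompson transfer lemma states that an involution of a Sylow 2-subgroup P lying outside a subgroup Q of index 2 in P either lies outside some normal subgroup of index 2 in G or is conjugate to an element of Q. -/
theorem result {G : Type*} [Group G] [Finite G] (P : Sylow 2 G) (Q : Subgroup G) (hQP : Q ≤ (P : Subgroup G)) (hQi : Q.relIndex (P : Subgroup G) = 2) (u : G) (hu : orderOf u = 2) (huP : u ∈ (P : Subgroup G)) (huQ : u ∉ Q) : (∃ M : Subgroup G, M.Normal ∧ M.index = 2 ∧ u ∉ M) ∨ ∃ g : G, g * u * g⁻¹ ∈ Q := by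
  by_contra hcon
  push Not at hcon
  obtain ⟨h1, h2⟩ := hcon
  have hn : (Q.subgroupOf P).Normal := Subgroup.normal_of_index_eq_two hQi
  have hmul : ∀ a ∈ (P : Subgroup G), ∀ b ∈ (P : Subgroup G), (a * b ∈ Q ↔ (a ∈ Q ↔ b ∈ Q)) :=
    fun a ha b hb => Subgroup.mul_mem_iff_of_index_two hQi (a := ⟨a, ha⟩) (b := ⟨b, hb⟩)
  have hc : ⁅(P : Subgroup G), (P : Subgroup G)⁆ ≤ Q := by
    rw [Subgroup.commutator_le]
    intro a ha b hb
    rw [commutatorElement_def, hmul _ (mul_mem (mul_mem ha hb) (inv_mem ha)) _ (inv_mem hb),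
      hmul _ (mul_mem ha hb) _ (inv_mem ha), hmul _ ha _ hb, inv_mem_iff, inv_mem_iff]
    tauto
  obtain ⟨N, hN, -, h3, -, h4⟩ := H2.exists_transfer_kernel hc
  have hu2 : u ^ 2 = 1 := hu ▸ pow_orderOf_eq_one u
  have hodd : ∀ k, Odd k → u ^ k = u := by
    rintro k ⟨j, rfl⟩; rw [pow_succ, pow_mul, hu2, one_pow, one_mul]
  have h5 := h4 u huP (fun k a ha => by
    rcases Nat.even_or_odd k with ⟨j, rfl⟩ | hk
    · rw [← two_mul, pow_mul, hu2, one_pow]; simp
    · rw [hodd k hk] at ha ⊢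
      rw [hmul _ ha _ (inv_mem huP), inv_mem_iff]
      exact iff_of_false (h2 a) huQ)
  rw [hodd _ (Nat.not_even_iff_odd.1 (fun h => P.not_dvd_index (even_iff_two_dvd.1 h)))] at h5
  have h6 : u ∉ N := fun h => huQ (h5.1 h)
  rw [hQi] at h3
  rcases (Nat.dvd_prime Nat.prime_two).1 h3 with h | h
  · exact h6 (by rw [Subgroup.index_eq_one.1 h]; trivial)
  · exact h6 (h1 N hN h)

end Cfsg.Agent.S0111
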