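import Cfsg.Statements.S0251
import Cfsg.Agent.H5.SL2

set_option autoImplicit false
open Cfsg

namespace Cfsg.Agent.S0251

open H5

/-- PSL_2(3) is isomorphic to A_4. -/
theorem result {F : Type*} [Field F] [Fintype F] (hF : Fintype.card F = 3) : Nonempty (Matrix.ProjectiveSpecialLinearGroup (Fin 2) F ≃* alternatingGroup (Fin 4)) := by
  have h1 := card_PS (k := F)
  rw [hF] at h1
  refine alt_of_injective ((MulAction.toPermHom (PG F) (OnePoint F)).comp Matrix.ProjectiveSpecialLinearGroup.toPGL)
    ?_ (by rw [card_onePoint, hF]) (by rw [Nat.card_congr (psEquiv F).toEquiv]; exact h1)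
  rw [injective_iff_map_eq_one]
  intro g hg
  exact Matrix.ProjectiveSpecialLinearGroup.toPGL_injective
    ((pg_ext ((Equiv.congr_fun hg _).trans (one_smul _ _).symm) ((Equiv.congr_fun hg _).trans (one_smul _ _).symm) ((Equiv.congr_fun hg _).trans (one_smul _ _).symm)).trans (map_one _).symm)


end Cfsg.Agent.S0251
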