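import Cfsg.Statements.S0254
import Cfsg.Agent.H5.PSL2Max

set_option autoImplicit false
open Cfsg

namespace Cfsg.Agent.S0254

open H5

/-- PSL_2(9) is isomorphic to A_6. -/
theorem result {F : Type*} [Field F] [Fintype F] (hF : Fintype.card F = 9) : Nonempty (Matrix.ProjectiveSpecialLinearGroup (Fin 2) F ≃* alternatingGroup (Fin 6)) := by
  have hs : IsSimpleGroup (PSL2 F) :=
    Matrix.ProjectiveSpecialLinearGroup.rank_two_simple (by rw [Nat.card_eq_fintype_card, hF]; norm_num)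
  obtain ⟨X, ⟨e⟩⟩ := (exists_A5_iff (F := F)).2 (by rw [hF]; norm_num)
  obtain ⟨H, ⟨e⟩⟩ := exists_psl_sub.2 ⟨X, A5_le_PS e, ⟨e⟩⟩
  have h1 : Nat.card (PSL2 F) = 360 := by rw [card_PSL2, card_PS_of hF (N := 360) rfl]
  have h2 := H.card_mul_index
  rw [card_equiv e, KB.card_A5, h1] at h2
  refine alt_of_injective _ (toPermHom_quotient_injective (H := H) ?_) (show H.index = 6 by omega) (by rw [h1]; rfl)
  rintro rfl
  simp at h2


end Cfsg.Agent.S0254
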