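import Cfsg.Statements.S0499
import Cfsg.Agent.H1.Tr

set_option autoImplicit false
open Cfsg

namespace Cfsg.Agent.S0499

open Subgroup

/-- A non-abelian finite simple group of even order has order divisible by 12, 16 or 56. -/
theorem result {G : Type*} [Group G] [Finite G] [IsSimpleGroup G]
    (hG : ¬ IsMulCommutative G) (h2 : Even (Nat.card G)) :
    12 ∣ Nat.card G ∨ 16 ∣ Nat.card G ∨ 56 ∣ Nat.card G := by
  haveI : Fact (Nat.Prime 2) := ⟨Nat.prime_two⟩
  by_contra hcon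
  push Not at hcon
  obtain ⟨h12, h16, h56⟩ := hcon
  obtain ⟨P⟩ : Nonempty (Sylow 2 G) := inferInstance
  have hn : ¬ Cfsg.HasNormalPComplement 2 G := fun h =>
    hG ⟨⟨H1.comm_of_simple_of_isPGroup (H1.isPGroup_of_hasNPC_of_simple h (even_iff_two_dvd.mp h2))⟩⟩
  obtain ⟨Q, hQ, q, k, hq, hq2, hqG, g, hg, ho, hc⟩ := H1.exists_of_not_hasNPC P hn
  have hQp : IsPGroup 2 Q := P.isPGroup'.to_le hQ
  obtain ⟨d, hd⟩ := IsPGroup.iff_card.mp hQp
  have hdG : 2 ^ d ∣ Nat.card G := hd ▸ Subgroup.card_subgroup_dvd_card Q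
  obtain ⟨i, h1, h2', h3⟩ := H1.dvd_pow_sub_one_of_card hQp hd.le hg hq hq2 ho hc
  have hd3 : d ≤ 3 := by
    by_contra h
    exact h16 ((pow_dvd_pow 2 (show 4 ≤ d by omega)).trans hdG)
  have hi : 2 ^ i ∣ Nat.card G := (pow_dvd_pow 2 h2').trans hdG
  have hi3 : i ≤ 3 := h2'.trans hd3
  interval_cases i
  · exact hq.one_lt.ne' (Nat.dvd_one.mp (by simpa using h3))
  · have : q = 3 := (Nat.prime_dvd_prime_iff_eq hq Nat.prime_three).mp (by simpa using h3)
    subst this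
    exact h12 (Nat.Coprime.mul_dvd_of_dvd_of_dvd (show Nat.Coprime 4 3 by norm_num) hi hqG)
  · have : q = 7 := (Nat.prime_dvd_prime_iff_eq hq (by norm_num)).mp (by simpa using h3)
    subst this
    exact h56 (Nat.Coprime.mul_dvd_of_dvd_of_dvd (show Nat.Coprime 8 7 by norm_num) hi hqG)

end Cfsg.Agent.S0499
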