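import Cfsg.Statements.S4343
import Cfsg.Agent.H1.SylN

set_option autoImplicit false
open Cfsg

namespace Cfsg.Agent.S4343

open scoped Pointwise
open H1

/-- Let S be a finite non-abelian simple group and p a prime dividing its order. If S has fewer than p² Sylow p-subgroups, then its Sylow p-subgroups have order p. -/
theorem result {S : Type*} [Group S] [Finite S]
    [IsSimpleGroup S] (hS : ¬ IsMulCommutative S) (p : ℕ) [Fact p.Prime] (hp : p ∣ Nat.card S)
    (hn : Nat.card (Sylow p S) < p ^ 2) (P : Sylow p S) : Nat.card P = p := by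
  open Subgroup in
  have h0 : p.Prime := Fact.out
  have h1 : ∀ P R : Sylow p S, (R : Subgroup S).relIndex P ≤ p ^ 1 := fun P R => by
    obtain ⟨k, hk⟩ := L.exists_relIndex_eq_pow (N := R) P.isPGroup'
    have := (relIndex_sylow_le P R).trans_lt hn
    rw [hk, Nat.pow_lt_pow_iff_right h0.one_lt] at this
    exact hk ▸ Nat.pow_le_pow_right h0.pos (by omega)
  have h2 : ∀ K : Subgroup S, (∀ R : Sylow p S, K ≤ R) → K = ⊥ := fun K h => by
    refine eq_bot_iff.2 ((le_iInf h).trans ?_)
    have hn : (⨅ R : Sylow p S, (R : Subgroup S)).Normal := ⟨fun x hx g => mem_iInf.2 fun R => by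
      simpa [Sylow.coe_subgroup_smul, mem_pointwise_smul_iff_inv_smul_mem] using
        mem_iInf.1 hx (g⁻¹ • R)⟩
    refine (hn.eq_bot_or_eq_top.resolve_right fun e => hS ?_).le
    have := (P.isPGroup'.to_le (e.ge.trans (iInf_le _ P))).of_equiv topEquiv
    have := this.isNilpotent
    exact ⟨⟨IsSimpleGroup.comm_iff_isSolvable.2 inferInstance⟩⟩
  have h3 : ∀ P : Sylow p S, IsMulCommutative P := fun P =>
    L.comm_of_le_centralizer (commutator_eq_bot_iff_le_centralizer.1 (h2 _ fun R => by
      by_cases e : (P : Subgroup S) ≤ R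
      · exact (commutator_le_of_le_normalizer le_normalizer).trans e
      have h4 : ((P : Subgroup S) ⊓ R).relIndex P = p := by
        rw [inf_relIndex_left]; exact L.relIndex_eq_of_le P.isPGroup' e (by simpa using h1 P R)
      exact (L.commutator_le_of_relIndex_prime P.isPGroup' inf_le_left le_rfl
        (L.le_normalizer_of_relIndex_prime P.isPGroup' inf_le_left (h4.symm ▸ h0)) le_normalizer
        (h4.symm ▸ h0)).trans inf_le_right))
  obtain ⟨A, B, h4⟩ := exists_pair_core (p := p) (G := S)
  have h5 := relIndex_mul_card_inf (B : Subgroup S) A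
  rw [h2 _ (h4 _ inf_le_left inf_le_right (le_normalizer_of_abelian (h3 A) inf_le_left)
    (le_normalizer_of_abelian (h3 B) inf_le_right)), card_bot, mul_one,
    (isSylowIn_top A).card_eq_card (isSylowIn_top P)] at h5
  exact le_antisymm (by simpa [h5] using h1 A B) (Nat.le_of_dvd Nat.card_pos (P.dvd_card_of_dvd_card hp))

end Cfsg.Agent.S4343
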