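import Cfsg.Statements.S4345
import Cfsg.Agent.H1.SylN

set_option autoImplicit false
open Cfsg

namespace Cfsg.Agent.S4345

open H1

/-- Let G be a finite solvable group and p, ℓ primes. Then the largest power of ℓ dividing the number of Sylow p-subgroups of G is congruent to 1 modulo p. -/
theorem result {G : Type*} [Group G] [Finite G]
    (hG : Group.IsSolvable G) (p ℓ : ℕ) [Fact p.Prime] (hℓ : ℓ.Prime) :
    ℓ ^ (Nat.card (Sylow p G)).factorization ℓ ≡ 1 [MOD p] := by
  obtain ⟨l, h1, h2⟩ := sylow_list (p := p) G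
  have h0 : l.prod ≠ 0 := h1 ▸ Nat.card_pos.ne'
  rw [← h1]
  clear h1
  induction l with
  | nil => simp [Nat.ModEq]
  | cons m l ih =>
    rw [List.prod_cons, mul_ne_zero_iff] at h0
    rw [List.prod_cons, Nat.factorization_mul h0.1 h0.2, Finsupp.add_apply, pow_add]
    refine Nat.ModEq.mul (b := 1) (d := 1) ?_ (ih (fun x hx => h2 x (by simp [hx])) h0.2)
    rcases h2 m (by simp) with ⟨h3, h4⟩ | ⟨S, _, _, _, rfl, h3⟩
    · obtain ⟨q, k, h5, -, rfl⟩ := (isPrimePow_nat_iff _).1 h3
      by_cases e : q = ℓ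
      · subst e
        rw [h5.factorization_pow, Finsupp.single_eq_same]
        exact h4.trans (Nat.mod_eq_of_lt (Fact.out : p.Prime).one_lt).symm
      · rw [h5.factorization_pow, Finsupp.single_eq_of_ne' e, pow_zero]
    · have := (IsSimpleGroup.comm_iff_isSolvable.2 (h3 hG))
      obtain ⟨P⟩ : Nonempty (Sylow p S) := inferInstance
      have : (P : Subgroup S).Normal := ⟨fun x hx g => by rwa [this g, mul_inv_cancel_right]⟩
      have := Sylow.unique_of_normal P this
      simp [Nat.ModEq]

end Cfsg.Agent.S4345
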