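import Cfsg.Statements.S2475
import Cfsg.Agent.H5.PSL2

set_option autoImplicit false
open Cfsg

namespace Cfsg.Agent.S2475

open H5

/-- The set of element orders of PSL(2,q): let F be a finite field of characteristic p with q ≥ 4 elements and d = gcd(2, q − 1). The orders of elements of PSL(2,F) are exactly the divisors of p, of (q − 1)/d and of (q + 1)/d. -/
theorem result {F : Type*} [Field F] [Fintype F] (p : ℕ) [Fact p.Prime] [CharP F p] (h4 : 4 ≤ Fintype.card F) :
    Set.range (orderOf : Matrix.ProjectiveSpecialLinearGroup (Fin 2) F → ℕ) =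
      {m : ℕ | m ∣ p ∨ m ∣ (Fintype.card F - 1) / Nat.gcd 2 (Fintype.card F - 1) ∨ m ∣ (Fintype.card F + 1) / Nat.gcd 2 (Fintype.card F - 1)} := by
  have k : ∀ g ∈ PS F, ∀ m, m ∣ orderOf g → m ∈ Set.range (orderOf : PSL2 F → ℕ) := fun g hg m hm => by
    obtain ⟨x, rfl⟩ := exists_psl hg
    rw [orderOf_psl] at hm
    exact ⟨x ^ (orderOf x / m), orderOf_pow_orderOf_div (orderOf_pos x).ne' hm⟩
  ext m
  constructor
  · rintro ⟨g, rfl⟩
    rw [← orderOf_psl]
    exact (orderOf_PS p (psl_mem g)).imp_left fun e => e.dvd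
  · rintro (h | h | h)
    · exact k (aff 1 1) (aff_mem_PS.2 (by simp)) m (by rwa [orderOf_aff_one p one_ne_zero])
    · obtain ⟨T, D, h'⟩ := exists_tor (F := F) (Or.inl rfl)
      obtain ⟨r, h1, h2⟩ := h'.exists_gen_PS
      exact k r (h1.le (Subgroup.mem_zpowers r)).2 m (h2 ▸ h)
    · obtain ⟨T, D, h'⟩ := exists_tor (F := F) (Or.inr rfl)
      obtain ⟨r, h1, h2⟩ := h'.exists_gen_PS
      exact k r (h1.le (Subgroup.mem_zpowers r)).2 m (h2 ▸ h)


end Cfsg.Agent.S2475
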