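import Cfsg.Statements.S4650
import Cfsg.Agent.H4.Cons

set_option autoImplicit false
open Cfsg

namespace Cfsg.Agent.S4650

open H4 H1 MonoidAlgebra
open scoped Pointwise


/-- Let B be a block of the finite group G relative to a maximal ideal M of the algebraic integers containing the prime p, with a nontrivial commutative defect group P; let c be a block of C_G(P) inducing B and T the stabilizer of c in N_G(P). Then T/C_G(P) acts freely on the non-identity elements of P (an element of T fixing a non-identity element of P under conjugation lies in C_G(P)) if and only if, for every nontrivial subgroup Q of P, the block of C_G(Q) induced by c inside C_G(Q) is a nilpotent block of C_G(Q). -/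
theorem result {G : Type*} [Group G] [Finite G] (p : ℕ) [Fact p.Prime] (M : Ideal Cfsg.AlgInt) (hM : Cfsg.IsPModular p M) (B : Set (Cfsg.IrrCharacter G)) (hB : Cfsg.IsPBlock M B) (P : Subgroup G) (hPD : Cfsg.IsDefectGroup p M B P) (hPab : ∀ x ∈ P, ∀ y ∈ P, x * y = y * x) (hP1 : P ≠ ⊥) (c : Set (Cfsg.IrrCharacter (Subgroup.centralizer (P : Set G)))) (hc : Cfsg.IsInducedBlock M (Subgroup.centralizer (P : Set G)) c B) (T : Subgroup G) (hT : ∀ g : G, g ∈ T ↔ (g ∈ Subgroup.normalizer (P : Set G) ∧ Cfsg.StabilizesBlock (Subgroup.centralizer (P : Set G)) c g)) : (∀ g ∈ T, ∀ x ∈ P, x ≠ 1 → g * x * g⁻¹ = x → g ∈ Subgroup.centralizer (P : Set G)) ↔ ∀ Q : Subgroup G, Q ≤ P → Q ≠ ⊥ → ∀ f : Set (Cfsg.IrrCharacter (Subgroup.centralizer (Q : Set G))), Cfsg.IsInducedBlockIn M (Subgroup.centralizer (Q : Set G)) (Subgroup.centralizer (P : Set G)) c f → Cfsg.IsNilpotentBlock p M f := by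
  haveI := charP_k hM
  have hz := isBI_eB hM hB
  have hP := (dg_iff_ADG_top hM hB).1 hPD
  have he := isBI_aE hM hc.1
  have hm : MaxP p (eB M B) P (aE M _ c) := ⟨hz, hP, he, (ind_CS_iff hM hP.isP hc.1 hB).1 hc⟩
  obtain rfl := eq_Stab hM hc.1 hT
  have hab : P ≤ CS P := fun a ha u hu => hPab u hu a ha
  have key : ∀ Q ≤ P, ∀ f : Set (IrrCharacter (CS Q)), IsPBlock M f → (IsInducedBlockIn M (CS Q) (CS P) c f ↔
      NSub p Q (aE M _ f) P (aE M _ c)) := fun Q hQ f hf => by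
    have h1 := hab.trans (CS_anti hQ)
    rw [indIn_iff_mul hM hf hc.1 hP.isP hab (CS_anti hQ) (CS_le_NS P) inf_le_left]
    exact ⟨fun h => ⟨hP.isP, isBI_aE hM hf, he, hQ, h1.trans (CS_le_NS Q), Fix_anti h1 (aE_mem_ZA _ f).1, h⟩,
      fun h => h.mul⟩
  constructor
  · intro h Q hQ hQ1 f hf
    have hf' := hf.2.1
    have h1 := (key Q hQ f hf').1 hf
    refine (isNilpotentBlock_iff hM).2 ⟨hf', fun R hR hRp g hg h2 x hx h3 h4 h5 => ?_⟩
    rw [← CS_sup] at hg
    have hQp := hP.isP.to_le hQ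
    have h6 := isPGroup_sup_of_CS hQp hRp (hR.trans (CS_le_NS Q))
    have h7 : NSub p Q (aE M _ f) (Q ⊔ R) g := ⟨h6, h1.bf, hg, le_sup_left,
      sup_le Subgroup.le_normalizer (hR.trans (CS_le_NS Q)),
      Fix_sup (mem_Fix_of_Sup_CS h1.bf.mem.2) (Fix_anti hR h1.bf.mem.1), by rwa [Br_sup_of_Sup h1.bf.mem.2]⟩
    obtain ⟨y, h8⟩ := hm.exists_conj hM h6 hg ((h7.sle.mul_iff_Z hz.mem_Z hz.idem).2 (hm.mul_of_sle hM h1.sle))
    have h9 : y * x * y⁻¹ ∈ Stab (NS (MulAut.conj y • (Q ⊔ R))) (cj y g) := by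
      rw [Stab_NS_conj]
      exact conj_mem_conj_smul ⟨le_normalizer_sup (A := Subgroup.zpowers x)
        (Subgroup.zpowers_le.2 (CS_le_NS Q hx)) (Subgroup.zpowers_le.2 h3) (Subgroup.mem_zpowers x), h4⟩
    obtain ⟨w, k1, k2⟩ := hm.abelian hM hab h8 h9
    obtain ⟨⟨u, hu⟩, hu1⟩ := (Subgroup.ne_bot_iff_exists_ne_one).1 hQ1
    have k3 : y * u * y⁻¹ ∈ MulAut.conj y • (Q ⊔ R) := conj_mem_conj_smul (Subgroup.mem_sup_left hu)
    have k4 := CS_anti h8.le (h _ k2 _ (h8.le k3) (by simpa using hu1) (by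
      rw [mul_inv_eq_iff_eq_mul, ← mul_assoc (y * u * y⁻¹), k1 _ k3, mul_assoc w, mul_assoc w]
      congr 1
      calc _ = y * (x * u) * y⁻¹ := by group
        _ = _ := by rw [← hx u hu]; group))
    rw [Subgroup.mul_mem_cancel_left _ k1, CS_conj, mem_conj_smul] at k4
    exact CS_anti le_sup_right (by simpa [mul_assoc] using k4)
  · intro h g hg x hx hx1 h1
    have hQ := Subgroup.zpowers_le.2 hx
    have h2 := hab.trans (CS_anti hQ)
    obtain ⟨f, h3⟩ := exists_nsub_below hM hP.isP he hQ (h2.trans (CS_le_NS _))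
    obtain ⟨b, hb, rfl⟩ := h3.bf.exists_block hM
    have h4 := ((isNilpotentBlock_iff hM).1 (h _ hQ (by simpa using hx1) b ((key _ hQ b hb).2 h3))).2
    have h5 : g ∈ CS (Subgroup.zpowers x) := by
      rw [CS, H4.centralizer_zpowers, mem_centralizer_singleton]
      exact (mul_inv_eq_iff_eq_mul.1 h1).symm
    have h6 := h4 P h2 hP.isP _ ((inf_eq_left.2 (CS_anti hQ)).symm ▸ he) h3.mul (pq p g) (pq_mem h5)
      (pq_mem hg).1 (pq_mem hg).2 (not_dvd_orderOf_pq hM.1 g)
    have h7 := hm.not_dvd hM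
    rw [sup_eq_right.2 hab] at h7
    have h8 := le_of_coprime_relIndex (Subgroup.zpowers_le.2 (pp_mem (p := p) hg))
      ((Stab_le _ _).trans (NS_le_NS_CS P)) (isPGroup_coprime' (isPGroup_zpowers hM.1 (isPElt_pp hM.1 g)) h7)
    rw [← pp_mul_pq (p := p) g]
    exact Subgroup.mul_mem _ (h8 (Subgroup.mem_zpowers _)) h6

end Cfsg.Agent.S4650
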