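import Cfsg.Statements.S4691
import Cfsg.Agent.H4.Pairs
import Cfsg.Agent.H2.Frobenius

set_option autoImplicit false
open Cfsg

namespace Cfsg.Agent.S4691

open H4 H1 MonoidAlgebra
open scoped Pointwise


/-- Fix a prime p and a maximal ideal M of the algebraic integers containing p. A finite group G has a normal p-complement if and only if its principal p-block is nilpotent. -/
theorem result {G : Type*} [Group G] [Fintype G] (p : ℕ) [Fact p.Prime] (M : Ideal Cfsg.AlgInt) (hM : Cfsg.IsPModular p M) : Cfsg.HasNormalPComplement p G ↔ Cfsg.IsNilpotentBlock p M (Cfsg.principalBlock M G) := by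
  rw [isNilpotentBlock_iff_top hM, and_iff_right isPBlock_principal, aNil_top_iff]
  constructor
  · rintro ⟨P, N, hN, h⟩ Q hQ f - - x hx h1
    obtain ⟨n, hn⟩ := P.2.exists_card_eq
    have h2 : x ∈ N := mem_of_coprime_index (by
      rw [h.symm.index_eq_card, hn]
      exact ((Nat.Prime.coprime_iff_not_dvd Fact.out).2 h1).symm.pow_right n)
    refine mem_centralizer_of_mem_normalizer (fun y _ => mem_NS_of_normal N y) ?_ h2 hx.1
    obtain ⟨m, hm⟩ := hQ.exists_card_eq
    refine inf_eq_bot_of_coprime (hm ▸ Nat.Coprime.pow_left m ((Nat.Prime.coprime_iff_not_dvd Fact.out).2 ?_))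
    rw [← h.index_eq_card]; exact P.not_dvd_index
  · intro h
    obtain ⟨P⟩ : Nonempty (Sylow p G) := inferInstance
    refine H2.frobenius P fun Q hQ g hg h1 => ?_
    have h2 : IsPGroup p Q := P.2.to_le hQ
    have h3 := isBI_aE (H := CS Q) hM isPBlock_principal
    refine h Q h2 _ h3 ((principal_pair_iff hM h2 h3).2 rfl) g ⟨hg, ?_⟩
      ((Nat.Prime.coprime_iff_not_dvd Fact.out).1 h1.symm)
    rw [← Br_principal hM h2, cj_Br', conj_smul_eq_self_iff.2 hg, cj_of_mem_Z (eB_mem_Z _)]

end Cfsg.Agent.S4691
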