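import Cfsg.Statements.S4646
import Cfsg.Agent.H4.Abel
import Cfsg.Agent.S4691

set_option autoImplicit false
open Cfsg

namespace Cfsg.Agent.S4646

open H4 H1 MonoidAlgebra
open scoped Pointwise


/-- For a finite group G, a prime p and a maximal ideal M of the algebraic integers containing p: the principal block of G is nilpotent if and only if its p-regular rank is 1 (the trivial Brauer character is its only irreducible Brauer character). -/
theorem result {G : Type*} [Group G] [Finite G] (p : ℕ) [Fact p.Prime] (M : Ideal Cfsg.AlgInt) (hM : Cfsg.IsPModular p M) : Cfsg.IsNilpotentBlock p M (Cfsg.principalBlock M G) ↔ Cfsg.blockRank p (Cfsg.principalBlock M G) = 1 := by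
  have := Fintype.ofFinite G
  refine ⟨fun h => ((isNilpotentBlock_iff_top hM).1 h).2.rank hM h.1, fun h => (Cfsg.Agent.S4691.result p M hM).1 ?_⟩
  have h1 : ∀ χ ∈ principalBlock M G, ∀ g, ¬ p ∣ orderOf g → χ.1 g = χ.1 1 := fun χ hχ g hg => by
    have h0 := not_dvd_orderOf_one (G := G) hM.1
    obtain ⟨c, hc⟩ := (finrank_eq_one_iff_of_nonzero' (⟨reg p (triv G).1, Submodule.subset_span ⟨_, triv_mem_principal hM, rfl⟩⟩ :
      RS p (principalBlock M G)) fun e => by simpa [reg_of_not_dvd _ h0] using congrFun (congrArg Subtype.val e) 1).1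
      ((blockRank_eq _).symm.trans h) ⟨reg p χ.1, Submodule.subset_span ⟨_, hχ, rfl⟩⟩
    have h2 := congrFun (congrArg Subtype.val hc) g
    have h3 := congrFun (congrArg Subtype.val hc) 1
    simp [reg_of_not_dvd _ h0, reg_of_not_dvd _ hg] at h2 h3
    rw [← h2, h3]
  have h2 : ∀ g, g ∈ (⨅ χ ∈ principalBlock M G, H3.charKer χ.1) ↔ ∀ χ ∈ principalBlock M G, χ.1 g = χ.1 1 := fun g => by
    simp only [Subgroup.mem_iInf, H3.mem_charKer (H3.irr_char (Subtype.prop _))]
  have : (⨅ χ ∈ principalBlock M G, H3.charKer χ.1).Normal :=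
    ⟨fun n hn g => (h2 _).2 fun χ hχ => by rw [H3.irr_class χ.2, (h2 _).1 hn χ hχ]⟩
  refine H2.hasNormalPComplement_iff_exists.2 ⟨⨅ χ ∈ principalBlock M G, H3.charKer χ.1, this,
    (hM.1.coprime_iff_not_dvd.2 fun h3 => ?_).symm, fun g => ?_⟩
  · obtain ⟨x, hx⟩ := exists_prime_orderOf_dvd_card' p h3
    exact not_dvd_of_ker hM isPBlock_principal ((h2 _).1 x.2) (by rw [Subgroup.orderOf_coe, hx])
  · obtain ⟨g, rfl⟩ := QuotientGroup.mk_surjective g
    obtain ⟨n, hn⟩ := isPElt_pp hM.1 g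
    refine ⟨n, ?_⟩
    rw [← pp_mul_pq (p := p) g, QuotientGroup.mk_mul, (QuotientGroup.eq_one_iff (pq p g)).2
      ((h2 _).2 fun χ hχ => h1 χ hχ _ (not_dvd_orderOf_pq hM.1 g)), mul_one, ← QuotientGroup.mk_pow, ← hn,
      pow_orderOf_eq_one, QuotientGroup.mk_one]

end Cfsg.Agent.S4646
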