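import Cfsg.Statements.S5032
import Cfsg.Agent.RS.R2

set_option autoImplicit false
open Cfsg

namespace Cfsg.Agent.S5032

open RS Cfsg Subgroup Relation

/-- Let S be a set of abstract root subgroups of G with more than one member. Then the graph of rank one pairs on S is connected if and only if S is a single conjugacy class of G and some member of S has a rank one partner in S. -/
theorem result {G : Type*} [Group G] {S : Set (Subgroup G)} (hS : Cfsg.IsRootSubgroupSet S) (h2 : ∃ A ∈ S, ∃ B ∈ S, A ≠ B) :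
    Cfsg.IsConnectedFamily (Cfsg.FAdj S) S ↔
      (Cfsg.IsConjClassOfSubgroups S ∧ ∃ A ∈ S, ¬ Cfsg.IsIsolatedIn (Cfsg.FAdj S) S A) := by
  obtain ⟨A, hA, B, hB, ne⟩ := h2
  refine ⟨fun h => ⟨⟨⟨A, hA⟩, fun C i D j => conj_of_path (h C i D j)⟩, A, hA, (ni_iff hA).2 ?_⟩,
    fun ⟨h, C, hC, i⟩ D hD E hE => ?_⟩
  · rcases (h A hA B hB).cases_head with e | ⟨c, e, -⟩
    · exact absurd e ne
    · exact ⟨hA, c, e.2.1, e.2.2⟩
  · obtain ⟨g, rfl⟩ := h.2 D hD E hE
    exact Rt.conn hS (Cl.ni ⟨hS, h⟩ ⟨C, (ni_iff hC).1 i⟩) hD g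

end Cfsg.Agent.S5032
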