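import Cfsg.Statements.S0076
import Cfsg.Agent.H2.Control

set_option autoImplicit false
open Cfsg

namespace Cfsg.Agent.S0076

theorem mem_norm {G : Type*} [Group G] {Y : Set G} {x : G} :
    x ∈ Subgroup.normalizer Y ↔ (fun y => x * y * x⁻¹) '' Y = Y := by
  rw [Subgroup.mem_set_normalizer_iff]
  constructor
  · intro h
    ext y
    constructor
    · rintro ⟨z, hz, rfl⟩; exact (h z).1 hz
    · intro hy; exact ⟨x⁻¹ * y * x, (h _).2 (by simpa [mul_assoc] using hy), by simp [mul_assoc]⟩
  · intro h y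
    constructor
    · intro hy; rw [← h]; exact ⟨y, hy, rfl⟩
    · intro hy; rw [← h] at hy
      obtain ⟨z, hz, e⟩ := hy
      have : z = y := by simpa using e
      exact this ▸ hz

/-- Two P-invariant subsets of a Sylow p-subgroup P that are conjugate in G are conjugate under the normalizer of P. -/
theorem result {G : Type*} [Group G] [Finite G] {p : ℕ} [Fact p.Prime] (P : Sylow p G) (X Y : Set G) (hXP : X ⊆ P) (hYP : Y ⊆ P) (hX : ∀ x ∈ P, (fun y => x * y * x⁻¹) '' X = X) (hY : ∀ x ∈ P, (fun y => x * y * x⁻¹) '' Y = Y) (g : G) (hg : (fun y => g * y * g⁻¹) '' X = Y) : ∃ n ∈ Subgroup.normalizer (P : Set G), (fun y => n * y * n⁻¹) '' X = Y := by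
  obtain ⟨c, hc, hn⟩ := H2.burnside_fusion (H2.isSylowIn_top P) (K := Subgroup.normalizer Y) le_top
    (g := g) trivial (fun x hx => mem_norm.2 (hY x hx)) (by
      rw [H2.cj_le_iff_forall]
      intro x hx
      rw [mem_norm, ← hg, Set.image_image]
      conv_rhs => rw [← hX x hx, Set.image_image]
      congr 1; ext y; group)
  refine ⟨c * g, hn, ?_⟩
  rw [← mem_norm.1 hc, ← hg, Set.image_image]
  congr 1; ext y; group

end Cfsg.Agent.S0076
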