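import Cfsg.Statements.S0065
-- import your own Cfsg.Agent.* helpers here

set_option autoImplicit false
open Cfsg

namespace Cfsg.Agent.S0065

/-- A nontrivial normal subgroup of a nilpotent group intersects the centre nontrivially. -/
theorem result {G : Type*} [Group G] [Finite G] [Group.IsNilpotent G]
    (N : Subgroup G) [N.Normal] (hN : N ≠ ⊥) : N ⊓ Subgroup.center G ≠ ⊥ := by
  intro h
  apply hN
  have key : ∀ n : ℕ, N ⊓ Subgroup.upperCentralSeries G n = ⊥ := by
    intro n
    induction n with
    | zero => simp
    | succ n ih =>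
      rw [eq_bot_iff]
      rintro x ⟨hx, hx'⟩
      have : x ∈ N ⊓ Subgroup.center G := by
        refine ⟨hx, Subgroup.mem_center_iff.2 fun y => ?_⟩
        have h1 := (Subgroup.mem_upperCentralSeries_succ_iff.1 hx') y
        have h2 : x * y * x⁻¹ * y⁻¹ ∈ N := by
          have := N.mul_mem hx (‹N.Normal›.conj_mem _ (N.inv_mem hx) y)
          simpa [mul_assoc] using this
        have h3 : x * y * x⁻¹ * y⁻¹ ∈ N ⊓ Subgroup.upperCentralSeries G n := ⟨h2, h1⟩
        rw [ih, Subgroup.mem_bot] at h3
        have : x * y = y * x := by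
          calc x * y = (x * y * x⁻¹ * y⁻¹) * (y * x) := by group
            _ = y * x := by rw [h3, one_mul]
        exact this.symm
      rwa [h] at this
  obtain ⟨n, hn⟩ := Group.IsNilpotent.nilpotent G
  simpa [hn] using key n

end Cfsg.Agent.S0065
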