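import Cfsg.Statements.S0115
import Cfsg.Agent.L.PG4
import Mathlib

set_option autoImplicit false
open Cfsg

namespace Cfsg.Agent.S0115

open Subgroup

/-- A 2-group of order 2^n, n ≥ 3, is of maximal class exactly when its commutator quotient is a Klein four-group. -/
theorem result {X : Type*} [Group X] [Finite X] (n : ℕ) (hn : 3 ≤ n) (hX : Nat.card X = 2 ^ n) : Group.nilpotencyClass X = n - 1 ↔ IsKleinFour (X ⧸ commutator X) := by
  obtain ⟨m, rfl⟩ : ∃ m, n = m + 3 := ⟨n - 3, by omega⟩
  have hP := IsPGroup.of_card hX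
  refine (L.nilpotencyClass_eq_iff hX).trans ⟨fun h => ?_, fun h => ?_⟩
  · have hna : ¬ IsMulCommutative X := fun hc => h (eq_bot_iff.2
      (L.commutator_eq_bot_iff_comm'.2 hc ▸
      (⊤ : Subgroup X).lowerCentralSeries_antitone (show 1 ≤ m + 1 by omega)))
    have h1 := L.index_commutator_le_of_lcs hX h
    have h2 := L.sq_le_relIndex_of_le_Phi (hP.to_subgroup ⊤) (L.commutator_le_Phi (hP.to_subgroup ⊤))
      fun hc => hna (L.isCyclic_top_iff.1 hc).isMulCommutative
    rw [relIndex_top_right] at h2
    have h3 : Nat.card (X ⧸ commutator X) = 2 ^ 2 := le_antisymm h1 h2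
    refine ⟨h3, (not_isCyclic_iff_exponent_eq_prime Nat.prime_two h3).1 fun hc => hna ?_⟩
    obtain ⟨g, hg⟩ := hc.exists_generator
    obtain ⟨g, rfl⟩ := QuotientGroup.mk'_surjective _ g
    have : zpowers g = ⊤ := H1.eq_of_sup_frattini le_top fun x _ => by
      have := hg (QuotientGroup.mk' _ x)
      rw [← MonoidHom.map_zpowers, ← mem_comap, QuotientGroup.comap_map_mk'] at this
      exact sup_le ((L.commutator_le_Phi (hP.to_subgroup ⊤)).trans le_sup_right) le_sup_left this
    exact L.isMulCommutative_top_iff.1 (this ▸ inferInstance)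
  · have h1 : (commutator X).index = 4 := h.card_four
    obtain ⟨k, a, b, h2, h3, h4, h5, h6⟩ := L.dqs_of_index_commutator hP (fun hc => by
      rw [L.commutator_eq_bot_iff_comm'.2 hc, index_bot, hX, pow_add] at h1
      omega) h1.le
    have e2 := (zpowers a).card_mul_index
    rw [Nat.card_zpowers, h3, h4, hX, ← pow_succ] at e2
    obtain rfl : k = m + 1 := by have := Nat.pow_right_injective le_rfl e2; omega
    exact h6.lcs_ne_bot h2 h3 trivial trivial

end Cfsg.Agent.S0115
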