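import Cfsg.Statements.S0200
import Cfsg.Agent.H1.Invol
import Cfsg.Agent.S0199

set_option autoImplicit false
open Cfsg

namespace Cfsg.Agent.S0200

open H1

/-- An involution lying in no normal 2-subgroup of a finite group inverts a nontrivial element of odd order (a consequence of the Baer–Suzuki Theorem). -/
theorem result {G : Type*} [Group G] [Finite G] (t : G) (ht : orderOf t = 2) (hO : ∀ N : Subgroup G, N.Normal → IsPGroup 2 N → t ∉ N) : ∃ h : G, h ≠ 1 ∧ Odd (orderOf h) ∧ t * h * t⁻¹ = h⁻¹ := by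
  by_contra h
  push Not at h
  obtain ⟨N, h1, h2, h3⟩ := Cfsg.Agent.S0199.result (p := 2) (Subgroup.zpowers t) (isPGroup_zpowers_iff.2 ⟨1, ht⟩) fun g => by
    have hs : orderOf (g * t * g⁻¹) = 2 := by rw [orderOf_conj, ht]
    have e : Subgroup.zpowers t ⊔ (Subgroup.zpowers t).map (MulAut.conj g).toMonoidHom = Subgroup.closure {t, g * t * g⁻¹} := by
      rw [MonoidHom.map_zpowers, Subgroup.zpowers_eq_closure, Subgroup.zpowers_eq_closure, ← Subgroup.closure_union]; rfl
    rw [e]
    obtain ⟨a, ha, b, hb, e1, ⟨k, hk⟩, h2⟩ := exists_p_part 2 (t * (g * t * g⁻¹))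
    have hb1 : b = 1 := by
      by_contra hb1
      exact h b hb1 (Nat.odd_iff.2 (by omega)) (pair_inverts (two_sq ht) (two_sq hs) hb)
    rw [hb1, mul_one] at e1
    refine isPGroup_of_forall_orderOf fun x hx => ?_
    by_cases hx' : x ∈ Subgroup.zpowers (t * (g * t * g⁻¹))
    · rw [e1] at hx'; exact exists_orderOf_eq_pow (isPGroup_zpowers_iff.2 ⟨k, hk⟩) hx'
    obtain ⟨u, hu, rfl | rfl⟩ := pair_mem (two_sq ht) (two_sq hs) hx
    · exact absurd hu hx'
    refine ⟨1, two_of ?_ fun h => hx' (h ▸ Subgroup.one_mem _)⟩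
    have := pair_inverts (two_sq ht) (two_sq hs) hu
    rw [two_inv ht] at this
    rw [mul_assoc, ← mul_assoc t, this, mul_inv_cancel]
  exact hO N h1 h2 (h3 (Subgroup.mem_zpowers t))

end Cfsg.Agent.S0200
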