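import Cfsg.Statements.S0214
import Cfsg.Agent.H1.Invol

set_option autoImplicit false
open Cfsg

namespace Cfsg.Agent.S0214

open scoped Pointwise
open H1

/-- Let H be a proper subgroup of the finite group G and P a nontrivial Sylow 2-subgroup of H. Then H is strongly embedded in G if and only if N_G(X) ≤ H for every nontrivial subgroup X of P. -/
theorem result {G : Type*} [Group G] [Finite G] (H : Subgroup G) (hH : H ≠ ⊤) (P : Sylow 2 ↥H) (hP : (P : Subgroup ↥H) ≠ ⊥) : Cfsg.IsStronglyEmbedded H ↔ (∀ X : Subgroup ↥H, X ≤ (P : Subgroup ↥H) → X ≠ ⊥ → Subgroup.normalizer ((X.map H.subtype : Subgroup G) : Set G) ≤ H) := by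
  have h1 := isSylowIn_map_subtype P
  have h2 : 2 ∣ Nat.card H := (P.isPGroup'.card_eq_or_dvd.resolve_left fun h => hP (Subgroup.card_eq_one.1 h)).trans
    (Subgroup.card_subgroup_dvd_card _)
  constructor
  · intro h X hX h0
    refine (emb_iff'.1 h).normalizer_le (Subgroup.map_subtype_le X) ?_
    rw [Subgroup.card_subtype]
    exact (P.isPGroup'.to_le hX).card_eq_or_dvd.resolve_left fun h => h0 (Subgroup.card_eq_one.1 h)
  intro h
  have key : ∀ X ≤ H, IsPGroup 2 X → X ≠ ⊥ → Subgroup.normalizer (X : Set G) ≤ H := by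
    intro X h3 h4 h5 g hg
    obtain ⟨k, hk, h6⟩ := h1.exists_conj_le h4 h3
    have h7 := h ((MulAut.conj k • X).subgroupOf H) (fun x hx => by
      obtain ⟨y, hy, e⟩ := h6 hx; exact (Subtype.ext e : y = x) ▸ hy) (fun e => h5 (by
        rw [Subgroup.subgroupOf_eq_bot, disjoint_iff, inf_eq_left.2 (h6.trans h1.1)] at e
        exact H9.cj_eq_bot_iff.1 e))
    rw [Subgroup.subgroupOf_map_subtype, inf_eq_left.2 (h6.trans h1.1), ← H9.cj_eq_smul, ← H9.cj_normalizer] at h7
    have := h7 (H9.conj_mem_cj (g := k) hg)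
    exact (H.mul_mem_cancel_left hk).1 ((H.mul_mem_cancel_right (H.inv_mem hk)).1 this)
  have key2 : ∀ Q : Subgroup G, IsPGroup 2 Q → Q ⊓ H ≠ ⊥ → Q ≤ H := by
    intro Q hQ h3
    by_contra h4
    have h5 := lt_normalizer_inf_of_isPGroup hQ (lt_of_le_of_ne (inf_le_left (b := H)) fun e => h4 (inf_eq_left.1 e))
    exact h5.not_ge (le_inf inf_le_right (inf_le_left.trans (key _ inf_le_right (hQ.to_le inf_le_left) h3)))
  refine (emb_iff_two hH (even_iff_two_dvd.2 h2)).2 fun s hs h3 g hg => ?_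
  obtain ⟨T, hT⟩ := exists_sylow_mem (p := 2) ⟨1, h3⟩
  have h4 := key2 _ T.isPGroup' fun e => two_ne h3 (Subgroup.mem_bot.1 (e ▸ ⟨hT, hs⟩))
  have h5 := key2 _ (g • T).isPGroup' fun e => two_ne (by rw [orderOf_conj, h3]) (Subgroup.mem_bot.1 (e.le ⟨by
    rw [sylow_coe_smul]; exact Subgroup.smul_mem_pointwise_smul _ _ _ hT, hg⟩))
  obtain ⟨k, hk, e⟩ := ((isSylowIn_top (g • T)).of_le h5 le_top).conj ((isSylowIn_top T).of_le h4 le_top)
  rw [sylow_coe_smul, ← mul_smul, ← map_mul] at e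
  exact (H.mul_mem_cancel_left hk).1 (key _ h4 T.isPGroup' (fun e => two_ne h3 (Subgroup.mem_bot.1 (e ▸ hT)))
    (conj_smul_eq_self_iff.1 e))

end Cfsg.Agent.S0214
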