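import Cfsg.Statements.S0223
import Cfsg.Agent.H1.Invol

set_option autoImplicit false
open Cfsg

namespace Cfsg.Agent.S0223

open H1

/-- Let H be a proper subgroup of even order of the finite group G. Then H is strongly embedded if and only if (i) C_G(t) ≤ H for every involution t of H and (ii) H controls fusion of its involutions: involutions of H conjugate in G are conjugate in H. -/
theorem result {G : Type*} [Group G] [Finite G] (H : Subgroup G) (hH : H ≠ ⊤) (heven : Even (Nat.card H)) : Cfsg.IsStronglyEmbedded H ↔ ((∀ t ∈ H, orderOf t = 2 → Subgroup.centralizer ({t} : Set G) ≤ H) ∧ (∀ t ∈ H, ∀ s ∈ H, orderOf t = 2 → orderOf s = 2 → IsConj t s → ∃ h ∈ H, h * t * h⁻¹ = s)) := by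
  rw [emb_iff_two hH heven]
  constructor
  · intro h
    refine ⟨fun t ht h2 g hg => h t ht h2 g ?_, fun t ht s hs h1 _ h3 => ?_⟩
    · rwa [Subgroup.mem_centralizer_singleton_iff.1 hg, mul_inv_cancel_right]
    · obtain ⟨g, hg⟩ := isConj_iff.1 h3
      exact ⟨g, h t ht h1 g (hg ▸ hs), hg⟩
  · rintro ⟨h1, h2⟩ s hs h3 g hg
    obtain ⟨k, hk, e⟩ := h2 s hs _ hg h3 (by rw [orderOf_conj, h3]) (isConj_iff.2 ⟨g, rfl⟩)
    refine (H.mul_mem_cancel_left (H.inv_mem hk)).1 (h1 s hs h3 (Subgroup.mem_centralizer_singleton_iff.2 ?_))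
    calc k⁻¹ * g * s = k⁻¹ * (g * s * g⁻¹) * g := by group
      _ = _ := by rw [← e]; group

end Cfsg.Agent.S0223
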