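import Cfsg.Statements.S0224
import Cfsg.Agent.H1.Invol

set_option autoImplicit false
open Cfsg

namespace Cfsg.Agent.S0224

open H1

open scoped Pointwise

/-- Let H be a proper subgroup of even order of the finite group G. Then H is strongly embedded if and only if each involution of H fixes exactly one point (namely the coset H) in the action of G on the cosets of H. -/
theorem result {G : Type*} [Group G] [Finite G] (H : Subgroup G) (hH : H ≠ ⊤) (heven : Even (Nat.card H)) : Cfsg.IsStronglyEmbedded H ↔ ∀ t ∈ H, orderOf t = 2 → Nat.card {c : G ⧸ H // t • c = c} = 1 := by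
  rw [emb_iff_two hH heven]
  refine forall_congr' fun t => forall_congr' fun ht => forall_congr' fun _ => ?_
  have e : ∀ a : G, t • (a : G ⧸ H) = a ↔ a⁻¹ * t * a ∈ H := fun a => by
    rw [MulAction.Quotient.smul_coe, smul_eq_mul, eq_comm, QuotientGroup.eq, mul_assoc]
  have h1 : t • ((1 : G) : G ⧸ H) = (1 : G) := (e 1).2 (by simpa using ht)
  constructor
  · intro h
    refine Nat.card_eq_one_iff_exists.2 ⟨⟨_, h1⟩, ?_⟩
    rintro ⟨c, hc⟩
    obtain ⟨a, rfl⟩ := QuotientGroup.mk_surjective c
    exact Subtype.ext (QuotientGroup.eq.2 (by simpa using h a⁻¹ (by simpa using (e a).1 hc)))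
  · intro h g hg
    haveI := (Nat.card_eq_one_iff_unique.1 h).1
    have := Subsingleton.elim (⟨_, h1⟩ : {c : G ⧸ H // t • c = c}) ⟨(g⁻¹ : G), (e _).2 (by simpa using hg)⟩
    simpa using QuotientGroup.eq.1 (congrArg Subtype.val this)

end Cfsg.Agent.S0224
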