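import Cfsg.Statements.S0493
import Cfsg.Agent.H3.Ord4

set_option autoImplicit false
open Cfsg

namespace Cfsg.Agent.S0493

/-- A finite simple group of order at most 100 that is not cyclic has order 60. -/
theorem result {G : Type*} [Group G] [Finite G] [IsSimpleGroup G]
    (hG : ¬ IsCyclic G) (h : Nat.card G ≤ 100) : Nat.card G = 60 := by
  have k : ((List.range 101).all fun n => H3.omaster [] n || n == 60 || n == 0) = true := by
    decide +kernel
  have := List.all_eq_true.1 k _ (List.mem_range.2 (Nat.lt_succ_of_le h))
  have hG' : ¬ IsMulCommutative G := fun e => H3.ord_not_cyclic (G := G) (fun a => hG (by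
    have := Fact.mk a
    exact isCyclic_of_prime_card rfl)) (by
      have := Fact.mk (H1.prime_card_of_comm e.1.1)
      exact isCyclic_of_prime_card (α := G) rfl)
  have := Nat.card_pos (α := G)
  simp only [H3.not_omaster hG', Bool.false_or, Bool.or_eq_true, beq_iff_eq] at *
  omega

end Cfsg.Agent.S0493
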