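import Cfsg.Statements.S0647
import Cfsg.Agent.H9.Thom

set_option autoImplicit false
open Cfsg

namespace Cfsg.Agent.S0647

/-- For a nonempty family of maximal abelian subgroups of a finite group, the intersection of the family is the centre of the subgroup it generates, which is also the full centralizer of that subgroup. -/
theorem result {S : Type*} [Group S] [Finite S] (𝒜 : Set (Subgroup S)) (hne : 𝒜.Nonempty) (hab : ∀ A ∈ 𝒜, IsMulCommutative A) (hmax : ∀ A ∈ 𝒜, ∀ B : Subgroup S, IsMulCommutative B → A ≤ B → B = A) : sInf 𝒜 = sSup 𝒜 ⊓ Subgroup.centralizer ((sSup 𝒜 : Subgroup S) : Set S) ∧ sInf 𝒜 = Subgroup.centralizer ((sSup 𝒜 : Subgroup S) : Set S) := by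
  open H9 Subgroup in open scoped commutatorElement in
  obtain ⟨A, hA⟩ := hne
  have h1 : centralizer ((sSup 𝒜 : Subgroup S) : Set S) ≤ sInf 𝒜 := le_sInf fun B hB x hx =>
    zpowers_le.1 (le_sup_right.trans (hmax B hB _ (L.isMulCommutative_sup_zpowers (hab B hB)
      (centralizer_anti (le_sSup hB) hx)) le_sup_left).le)
  have h2 := sInf_le_centralizer hab
  exact ⟨le_antisymm (le_inf ((sInf_le hA).trans (le_sSup hA)) h2) (inf_le_right.trans h1),
    le_antisymm h2 h1⟩

end Cfsg.Agent.S0647
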