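import Cfsg.Statements.S0650
import Cfsg.Agent.H9.ZJ

set_option autoImplicit false
open Cfsg

namespace Cfsg.Agent.S0650

/-- The Glauberman replacement Theorem: from an abelian A ⊇ [B, B] not normalized by the normal subgroup B and a suitable b ∈ B one gets the abelian subgroup A* = (A ∩ b⁻¹Ab)[A, b] of the same order, containing [B, B], meeting B strictly more than A does but not containing B, mutually normalizing with A, with strictly larger normalizer containing b, and (p odd) of no larger exponent. -/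
theorem result {S : Type*} [Group S] [Finite S] {p : ℕ} [Fact p.Prime] (hS : IsPGroup p S) (B : Subgroup S) [B.Normal] (hB2 : p = 2 → IsMulCommutative B) (A : Subgroup S) (hA : IsMulCommutative A) (hBA : ⁅B, B⁆ ≤ A) (hnot : ¬ B ≤ Subgroup.normalizer (A : Set S)) (b : S) (hb : b ∈ B) (hbN : b ∈ Subgroup.normalizer ((Subgroup.normalizer (A : Set S)) : Set S)) (hbA : b ∉ Subgroup.normalizer (A : Set S)) : Nat.card ↥((A ⊓ A.map (MulAut.conj (b⁻¹)).toMonoidHom) ⊔ Subgroup.closure {g : S | ∃ a ∈ A, g = a * b⁻¹ * a⁻¹ * b}) = Nat.card A ∧ IsMulCommutative ↥((A ⊓ A.map (MulAut.conj (b⁻¹)).toMonoidHom) ⊔ Subgroup.closure {g : S | ∃ a ∈ A, g = a * b⁻¹ * a⁻¹ * b}) ∧ ⁅B, B⁆ ≤ ((A ⊓ A.map (MulAut.conj (b⁻¹)).toMonoidHom) ⊔ Subgroup.closure {g : S | ∃ a ∈ A, g = a * b⁻¹ * a⁻¹ * b}) ∧ A ⊓ B < ((A ⊓ A.map (MulAut.conj (b⁻¹)).toMonoidHom) ⊔ Subgroup.closure {g : S | ∃ a ∈ A, g = a * b⁻¹ * a⁻¹ * b}) ⊓ B ∧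 ((A ⊓ A.map (MulAut.conj (b⁻¹)).toMonoidHom) ⊔ Subgroup.closure {g : S | ∃ a ∈ A, g = a * b⁻¹ * a⁻¹ * b}) ⊓ B < B ∧ A ≤ Subgroup.normalizer (((A ⊓ A.map (MulAut.conj (b⁻¹)).toMonoidHom) ⊔ Subgroup.closure {g : S | ∃ a ∈ A, g = a * b⁻¹ * a⁻¹ * b} : Subgroup S) : Set S) ∧ ((A ⊓ A.map (MulAut.conj (b⁻¹)).toMonoidHom) ⊔ Subgroup.closure {g : S | ∃ a ∈ A, g = a * b⁻¹ * a⁻¹ * b}) ≤ Subgroup.normalizer (A : Set S) ∧ b ∈ Subgroup.normalizer (((A ⊓ A.map (MulAut.conj (b⁻¹)).toMonoidHom) ⊔ Subgroup.closure {g : S | ∃ a ∈ A, g = a * b⁻¹ * a⁻¹ * b} : Subgroup S) : Set S) ∧ Subgroup.normalizer (A : Set S) < Subgroup.normalizer (((A ⊓ A.map (MulAut.conj (b⁻¹)).toMonoidHom) ⊔ Subgroup.closure {g : S | ∃ a ∈ A, g = a * b⁻¹ * a⁻¹ * b} : Subgroup S) : Set S) ∧ (p ≠ 2 → Monoid.exponent ↥((A ⊓ A.map (MulAut.conj (b⁻¹)).toMonoidHom) ⊔ Subgroup.closure {g : S | ∃ a ∈ A, g = a * b⁻¹ * a⁻¹ * b}) ∣ Monoid.exponent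 A) := by
  open H9 Subgroup in open scoped commutatorElement in
  rw [cA_eq]
  change Nat.card (star A b) = _ ∧ IsMulCommutative (star A b) ∧ _ ≤ star A b ∧ _ < star A b ⊓ B ∧
    star A b ⊓ B < B ∧ A ≤ normalizer (star A b : Set S) ∧ star A b ≤ _ ∧ b ∈ normalizer (star A b : Set S) ∧
    _ < normalizer (star A b : Set S) ∧ (_ → Monoid.exponent (star A b) ∣ _)
  have hNB : normalizer (A : Set S) ≤ normalizer (B : Set S) := le_top.trans (top_le_normalizer B)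
  obtain ⟨e1, e2, e3, e4, e5, e6, e7, e8⟩ := star_spec hA le_normalizer le_rfl hbN hBA hb hNB
    (cA_comm hA le_normalizer le_rfl hbN hBA hb hNB (hS.to_subgroup B) hB2)
  refine ⟨e1, e2, e3, lt_of_le_of_ne (le_inf e4 inf_le_right) fun e => hbA (e8 ((le_inf le_sup_right
    ((cA_le_commutator hb).trans (commutator_le_left' (le_normalizer.trans hNB)))).trans
      (e.ge.trans inf_le_left))), inf_lt_right.2 fun h => hnot (h.trans e5), le_normalizer.trans e7, e5, e6,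
    lt_of_le_of_ne e7 fun e => hbA (e ▸ e6), fun hp2 => Monoid.exponent_dvd_of_forall_pow_eq_one fun x =>
      Subtype.ext (star_pow hA le_normalizer le_rfl hbN ?_ (fun a ha => ?_) x x.2)⟩
  · obtain ⟨k, hk⟩ := L.exists_card_eq_pow (hS.to_subgroup A)
    exact Odd.of_dvd_nat (((Fact.out : p.Prime).odd_of_ne_two hp2).pow (n := k)) (hk ▸ Group.exponent_dvd_nat_card)
  · exact congrArg Subtype.val (Monoid.pow_exponent_eq_one (⟨a, ha⟩ : A))

end Cfsg.Agent.S0650
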