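import Cfsg.Statements.S0983
import Cfsg.Agent.H3.Ord4

set_option autoImplicit false
open Cfsg

namespace Cfsg.Agent.S0983

/-- A non-abelian finite simple group of order greater than 3640 and at most 6232 has order 4080, 5616, 6048 or 6072. -/
theorem result {G : Type*} [Group G] [Finite G] [IsSimpleGroup G] (hG : ¬ IsMulCommutative G) (h1 : 3640 < Nat.card G) (h2 : Nat.card G ≤ 6232) : Nat.card G = 4080 ∨ Nat.card G = 5616 ∨ Nat.card G = 6048 ∨ Nat.card G = 6072 := by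
  have k : ((List.range 2592).all fun n => H3.omaster [(3696, 11, 2, 0, 3), (3744, 13, 2, 0, 3), (3780, 5, 2, 0, 3), (3840, 5, 2, 0, 3), (3900, 13, 2, 0, 3), (3960, 11, 2, 0, 3), (4032, 7, 2, 6, 3), (4160, 13, 2, 0, 5), (4200, 7, 2, 0, 3), (4212, 13, 2, 0, 3), (4224, 3, 2, 0, 11), (4320, 5, 3, 3, 3), (4368, 7, 2, 0, 3), (4400, 11, 2, 0, 5), (4480, 5, 2, 0, 7), (4536, 7, 2, 0, 3), (4576, 11, 2, 0, 13), (4620, 7, 2, 0, 3), (4680, 13, 2, 0, 3), (4752, 11, 2, 0, 3), (4800, 3, 2, 0, 5), (4860, 5, 3, 5, 3), (4928, 7, 2, 0, 11), (4992, 13, 2, 0, 3), (5040, 5, 2, 0, 3), (5100, 17, 2, 0, 3), (5148, 11, 2, 0, 3), (5200, 13, 2, 0, 5), (5280, 11, 2, 0, 3), (5304, 13, 2, 0, 3), (5376, 3, 2, 0, 7), (5440, 5, 2, 0, 17), (5460, 13, 2, 0, 3), (5508, 17, 2, 0, 3), (5544, 11, 2, 0, 3), (5600, 7, 2, 0, 5), (5712, 17, 2, 0, 3), (5760, 5, 2, 7, 3), (5824, 7, 2, 0, 13), (5880, 5, 2, 0, 3), (5940, 11, 2, 0, 3), (5984,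 11, 2, 0, 17), (6120, 17, 2, 0, 3), (6160, 7, 2, 0, 5)] (3641 + n) || 3641 + n == 4080 || 3641 + n == 5616 || 3641 + n == 6048 || 3641 + n == 6072) = true := by
    decide +kernel
  have := List.all_eq_true.1 k (Nat.card G - 3641) (List.mem_range.2 (by omega))
  rw [show 3641 + (Nat.card G - 3641) = Nat.card G by omega] at this
  simp only [H3.not_omaster hG, Bool.false_or, Bool.or_eq_true, beq_iff_eq] at this
  omega

end Cfsg.Agent.S0983
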