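import Cfsg.Statements.S0994
import Cfsg.Agent.H1.Simp

set_option autoImplicit false
open Cfsg

namespace Cfsg.Agent.S0994

open H1

/-- No finite simple group has order 1188 = 2^2 * 3^3 * 11. -/
theorem result {G : Type*} [Group G] [Finite G] [IsSimpleGroup G] : Nat.card G ≠ 1188 := by
  intro h
  have : Fact (Nat.Prime 11) := ⟨by norm_num⟩
  have h0 : ¬ (Nat.card G).Prime := by rw [h]; norm_num
  obtain ⟨P⟩ : Nonempty (Sylow 11 G) := inferInstance
  have h1 : Nat.card P = 11 := by rw [P.card_eq_multiplicity, h]; decide +kernel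
  have h2 := card_sylow_ne_one' (p := 11) h0 (by rw [h]; norm_num)
  have h3 := card_sylow_modEq_one 11 G
  have h4 := P.card_dvd_index
  have h5 := P.1.card_mul_index
  rw [h1, h] at h5
  have h6 := card_sylow_mul P
  rw [h] at h6
  have h7 := relIndex_cent_dvd h1
  have h8 := mt Subgroup.relIndex_eq_one.1 (not_norm_le_cent h0 (by rw [h]; norm_num) P)
  have h9 := ((isSylowIn_top P).of_le Subgroup.le_normalizer le_top)
  have h10 := Subgroup.relIndex_dvd_card (Subgroup.centralizer (P.1 : Set G))
    (Subgroup.normalizer (P.1 : Set G))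
  rw [show P.1.index = 108 by omega] at h4
  have := Nat.le_of_dvd (by omega) h4
  unfold Nat.ModEq at h3
  generalize Nat.card (Sylow 11 G) = n at *
  obtain rfl : n = 12 := by interval_cases n <;> omega
  rw [show Nat.card (Subgroup.normalizer (P.1 : Set G)) = 99 by omega] at h10
  exact h8 (Nat.eq_one_of_dvd_coprimes (by norm_num) h7 h10)

end Cfsg.Agent.S0994
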