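import Cfsg.Statements.S4701
import Cfsg.Agent.H3.BR3
import Cfsg.Agent.H5.SL2Cl

set_option autoImplicit false
open Cfsg

namespace Cfsg.Agent.S4701

open H3 H4 Subgroup

/-- Let G be a finite perfect group and p a prime dividing the order of G with p^3 larger than the order of G. Suppose a Sylow p-subgroup of G is not normal and G has no normal subgroup of order 2. Then p > 3 and G is isomorphic to PSL(2, p), or to SL(2, 2^m) with p = 2^m + 1. -/
theorem result {G : Type*} [Group G] [Finite G] (hperf : commutator G = ⊤) (p : ℕ) [Fact p.Prime] (hdvd : p ∣ Nat.card G) (hbig : Nat.card G < p ^ 3) (P : Sylow p G) (hP : ¬ (P : Subgroup G).Normal) (h2 : ∀ N : Subgroup G, N.Normal → Nat.card N ≠ 2) : (∃ (F : Type) (_ : Field F) (_ : Fintype F), Fintype.card F = p ∧ 3 < p ∧ Nonempty (G ≃* Matrix.ProjectiveSpecialLinearGroup (Fin 2) F)) ∨ (∃ (m : ℕ) (F : Type) (_ : Field F) (_ : Fintype F), Fintype.card F = 2 ^ m ∧ p = 2 ^ m + 1 ∧ 3 < p ∧ Nonempty (G ≃* Matrix.SpecialLinearGroup (Fin 2) F))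 := by
  have hp : p.Prime := Fact.out
  have := Fintype.ofFinite G
  have p2 := hp.two_le
  obtain ⟨n, hn⟩ := exists_eq_one_add (card_sylow_mod (p := p) G)
  have n0 : n ≠ 0 := fun a => hP (normalizer_eq_top_iff.1 (index_eq_one.1 (by rw [← card_sylow_eq, hn, a]; simp)))
  have hP : Nat.card P = p := by
    obtain ⟨k, e⟩ := IsPGroup.iff_card.1 P.isPGroup'
    have a := (P : Subgroup G).card_mul_index
    have b := Nat.le_of_dvd (Nat.pos_of_ne_zero index_ne_zero_of_finite) P.card_dvd_index
    obtain _ | _ | k := k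
    · exact (P.not_dvd_index (by rwa [← a, e, pow_zero, one_mul] at hdvd)).elim
    · simpa using e
    · have := Nat.mul_le_mul (Nat.pow_le_pow_right hp.pos (show 2 ≤ k + 2 by omega)) b
      rw [← e, a, hn] at this
      nlinarith [Nat.mul_le_mul_right p (Nat.pos_of_ne_zero n0)]
  obtain ⟨-, b, c⟩ := brauer_reynolds hperf P hP fun a => by
    obtain ⟨e, t, B, V, r, σ, T, h⟩ := exists_bd P hP
    have c := (hn ▸ a).le hp.one_lt
    have d := (CS (P : Subgroup G)).card_mul_index
    rw [← relIndex_mul_index (CS_le_NS _), h.he, ← card_sylow_eq, hn] at d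
    have := Nat.mul_le_mul (h.card.ge.trans (card_le_of_le (le_CS_prime h.card))) (Nat.mul_le_mul_right (1 + n * p) (h.two_le_e hperf))
    nlinarith [Nat.mul_le_mul_right (p * p) c]
  have k := (pPrimeCore p G).card_mul_index
  have : pPrimeCore p G = ⊥ := card_eq_one.1 (by
    have := h2 (pPrimeCore p G) inferInstance
    have : 0 < Nat.card (pPrimeCore p G) := Nat.card_pos
    by_contra f
    have f := Nat.mul_le_mul_right (pPrimeCore p G).index (show 3 ≤ Nat.card (pPrimeCore p G) by omega)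
    obtain ⟨q, rfl⟩ := Nat.exists_eq_add_of_le' b
    rcases c with ⟨⟨E⟩⟩ | ⟨m, F, _, _, c, d, ⟨E⟩⟩
    · have := H5.card_PSL2_mul (F := ZMod (q + 4))
      rw [← Nat.card_congr E.toEquiv, ZMod.card, ← index, show q + 4 - 1 = q + 3 from rfl] at this
      have g := Nat.mul_le_mul_right (pPrimeCore (q + Nat.succ 3) G).index (Nat.gcd_le_left (q + 3) two_pos)
      rw [this] at g
      rw [k] at f
      simp only [Nat.succ_eq_add_one] at *
      nlinarith [Nat.zero_le (q * q * q), Nat.zero_le (q * q)]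
    · have := H5.card_SL2 (k := F)
      rw [← Nat.card_congr E.toEquiv, ← index, c, show 2 ^ m = q + 3 by omega, show q + 3 - 1 = q + 2 from rfl] at this
      nlinarith)
  have E := (QuotientGroup.quotientBot.symm.trans (QuotientGroup.quotientMulEquivOfEq this.symm) : G ≃* _)
  rcases c with ⟨⟨f⟩⟩ | ⟨m, F, _, _, c, d, ⟨f⟩⟩
  · exact Or.inl ⟨ZMod p, inferInstance, inferInstance, ZMod.card p, b, ⟨E.trans f⟩⟩
  · exact Or.inr ⟨m, F, inferInstance, inferInstance, c, d, b, ⟨E.trans f⟩⟩

end Cfsg.Agent.S4701
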