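import Cfsg.Statements.S0999
import Cfsg.Agent.S4701

set_option autoImplicit false
open Cfsg

namespace Cfsg.Agent.S0999

open H3

/-- Let G be a non-cyclic finite simple group and p a prime divisor of its order with p^3 > |G|. Then p > 3 and G is isomorphic to the projective special linear group of dimension 2 over the field with p elements, or p - 1 is a power of 2 and G is isomorphic to that group over the field with p - 1 elements. -/
theorem result {G : Type*} [Group G] [Finite G] [IsSimpleGroup G] (hG : ¬ IsCyclic G) (p : ℕ) (hp : p.Prime) (hdvd : p ∣ Nat.card G) (hbig : Nat.card G < p ^ 3) : (∃ (F : Type) (_ : Field F) (_ : Fintype F), Fintype.card F = p ∧ 3 < p ∧ Nonempty (G ≃* Matrix.ProjectiveSpecialLinearGroup (Fin 2) F)) ∨ (∃ (m : ℕ) (F : Type) (_ : Field F) (_ : Fintype F), Fintype.card F = 2 ^ m ∧ p = 2 ^ m + 1 ∧ 3 < p ∧ Nonempty (G ≃* Matrix.ProjectiveSpecialLinearGroup (Fin 2) F)) := by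
  have := Fact.mk hp
  obtain ⟨P⟩ : Nonempty (Sylow p G) := inferInstance
  have nc : ¬ IsMulCommutative G := fun a => hG (by
    letI : CommGroup G := { (inferInstance : Group G) with mul_comm := a.1.1 }
    exact IsSimpleGroup.isCyclic)
  rcases Cfsg.Agent.S4701.result ((Subgroup.Normal.eq_bot_or_eq_top inferInstance).resolve_left fun e => nc ⟨⟨fun _ _ =>
    commutatorElement_eq_one_iff_mul_comm.1 (Subgroup.mem_bot.1 (e ▸ Subgroup.commutator_mem_commutator (Subgroup.mem_top _)
      (Subgroup.mem_top _)))⟩⟩) p hdvd hbig P (fun a => (a.eq_bot_or_eq_top).elim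
    (P.ne_bot_of_dvd_card hdvd) fun b => nc ⟨⟨H1.comm_of_simple_of_isPGroup ((b ▸ P.isPGroup').of_equiv Subgroup.topEquiv)⟩⟩)
      (fun N a b => a.eq_bot_or_eq_top.elim (fun c => by simp [c] at b) fun c => hG (by
        have := Fact.mk Nat.prime_two
        exact isCyclic_of_prime_card (p := 2) (by simpa [c] using b))) with a | ⟨m, F, _, _, a, b, c, ⟨E⟩⟩
  · exact Or.inl a
  · exact Or.inr ⟨m, F, inferInstance, inferInstance, a, b, c, ⟨E.trans (slPsl F (two_eq_zero (by rintro rfl; omega) a))⟩⟩

end Cfsg.Agent.S0999
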