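import Cfsg.Statements.S1003
import Cfsg.Agent.H3.O168

set_option autoImplicit false
open Cfsg

namespace Cfsg.Agent.S1003

open H3 H3.O168 H4 Subgroup

/-- A simple group of order 168 has exactly 21 Sylow 2-subgroups, 28 Sylow 3-subgroups and 8 Sylow 7-subgroups. -/
theorem result {G : Type*} [Group G] [Finite G] [IsSimpleGroup G] (h : Nat.card G = 168) : Nat.card (Sylow 2 G) = 21 ∧ Nat.card (Sylow 3 G) = 28 ∧ Nat.card (Sylow 7 G) = 8 := by
  haveI : Fact (Nat.Prime 2) := ⟨Nat.prime_two⟩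
  haveI : Fact (Nat.Prime 3) := ⟨Nat.prime_three⟩
  obtain ⟨S⟩ : Nonempty (Sylow 2 G) := inferInstance
  obtain ⟨R⟩ : Nonempty (Sylow 3 G) := inferInstance
  have := H1.card_sylow_mul S
  rw [show normalizer _ = _ from N2 h S, card_S h, h] at this
  exact ⟨by omega, (N3 h (card_sylow_of R h (k := 1) (by norm_num) (by norm_num))).2, n7 h⟩

end Cfsg.Agent.S1003
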