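import Cfsg.Statements.S1006
import Cfsg.Agent.H3.O168

set_option autoImplicit false
open Cfsg

namespace Cfsg.Agent.S1006

open H3 H3.O168 H4 Subgroup

/-- In a simple group of order 168 there are 56 elements of order 3, all conjugate; 42 elements of order 4, all conjugate; and 48 elements of order 7 falling into two conjugacy classes of size 24, an element of order 7 not being conjugate to its inverse. -/
theorem result {G : Type*} [Group G] [Finite G] [IsSimpleGroup G] (h : Nat.card G = 168) : Nat.card {g : G // orderOf g = 3} = 56 ∧ (∀ s t : G, orderOf s = 3 → orderOf t = 3 → IsConj s t) ∧ Nat.card {g : G // orderOf g = 4} = 42 ∧ (∀ s t : G, orderOf s = 4 → orderOf t = 4 → IsConj s t) ∧ Nat.card {g : G // orderOf g = 7} = 48 ∧ ∀ x : G, orderOf x = 7 → Nat.card {g : G // IsConj x g} = 24 ∧ ¬ IsConj x x⁻¹ := by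
  haveI : Fact (Nat.Prime 2) := ⟨Nat.prime_two⟩
  haveI : Fact (Nat.Prime 3) := ⟨Nat.prime_three⟩
  haveI : Fact (Nat.Prime 7) := ⟨by norm_num⟩
  obtain ⟨S⟩ : Nonempty (Sylow 2 G) := inferInstance
  obtain ⟨R⟩ : Nonempty (Sylow 3 G) := inferInstance
  obtain ⟨P⟩ : Nonempty (Sylow 7 G) := inferInstance
  obtain ⟨a, b, d⟩ := di h S
  have hR : Nat.card R = 3 := card_sylow_of R h (k := 1) (by norm_num) (by norm_num)
  have k3 : Nat.card {g : G // orderOf g = 3} = 56 := by rw [H1.card_order_p R hR, (N3 h hR).2]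
  have k4 := card_of_conj d.ord fun y => cj4 h d
  rw [c4 h d, Nat.card_zpowers, d.ord, h] at k4
  refine ⟨k3, fun s t hs ht => conj_of_card hs ht ?_, by change Nat.card {g : G // orderOf g = 4} * 4 = _ at k4; omega,
    fun s t hs ht => (cj4 h d hs).symm.trans (cj4 h d ht),
    by rw [H1.card_order_p P (card_sylow_of P h (k := 1) (by norm_num) (by norm_num)), n7 h], fun x hx => ?_⟩
  · have cv := (Nat.card_zpowers s).trans hs
    have := card_mul_index (C1 s)
    rw [show C1 s = _ from (H4.centralizer_zpowers s).symm.trans (c3 h cv)] at this ⊢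
    rw [cv] at this
    omega
  have cv := (Nat.card_zpowers x).trans hx
  have c : C1 x = zpowers x := (H4.centralizer_zpowers x).symm.trans (c7 h cv)
  refine ⟨?_, fun e => ?_⟩
  · have := card_class_mul_card_centralizer x
    rw [show centralizer _ = _ from c, cv] at this
    omega
  obtain ⟨g, hg⟩ := isConj_iff.1 e
  have m : g ∈ NS (zpowers x) := H2.cj_eq_iff.1 (by rw [H2.cj_zpowers, hg, zpowers_inv])
  have k : g ^ 2 ∈ C1 x := mem_centralizer_singleton_iff.2 (mul_inv_eq_iff_eq_mul.1 (by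
    rw [show g ^ 2 * x * (g ^ 2)⁻¹ = g * (g * x * g⁻¹) * g⁻¹ by simp [sq, mul_assoc], hg, ← conj_inv, hg, inv_inv]))
  have l : g ^ 21 = 1 := orderOf_dvd_iff_pow_eq_one.1 (N7 h cv ▸ Subgroup.orderOf_dvd_natCard _ m)
  have n : g ∈ C1 x := by
    have := pow_mem k 11
    rwa [← pow_mul, show 2 * 11 = 21 + 1 from rfl, pow_succ, l, one_mul] at this
  rw [mem_centralizer_singleton_iff.1 n, mul_inv_cancel_right, eq_inv_iff_mul_eq_one, ← sq, ← orderOf_dvd_iff_pow_eq_one, hx] at hg
  omega

end Cfsg.Agent.S1006
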