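import Cfsg.Statements.S1008
import Cfsg.Agent.H3.O168

set_option autoImplicit false
open Cfsg

namespace Cfsg.Agent.S1008

open H3 H3.O168 H4 Subgroup

/-- In a simple group of order 168 every maximal subgroup is either isomorphic to the symmetric group of degree 4 or non-abelian of order 21; the maximal subgroups of order 21 form one conjugacy class and those isomorphic to the symmetric group of degree 4 form exactly two conjugacy classes. -/
theorem result {G : Type*} [Group G] [Finite G] [IsSimpleGroup G] (h : Nat.card G = 168) : (∀ M : Subgroup G, IsCoatom M → Nonempty (↥M ≃* Equiv.Perm (Fin 4)) ∨ (Nat.card ↥M = 21 ∧ ¬ IsMulCommutative ↥M)) ∧ (∀ M M' : Subgroup G, IsCoatom M → IsCoatom M' → Nat.card ↥M = 21 → Nat.card ↥M' = 21 → ∃ g : G, M' = M.map (MulAut.conj g).toMonoidHom) ∧ ∃ M₁ M₂ : Subgroup G, IsCoatom M₁ ∧ IsCoatom M₂ ∧ Nonempty (↥M₁ ≃* Equiv.Perm (Fin 4)) ∧ Nonempty (↥M₂ ≃* Equiv.Perm (Fin 4)) ∧ (∀ g : G, M₂ ≠ M₁.map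 (MulAut.conj g).toMonoidHom) ∧ ∀ M : Subgroup G, IsCoatom M → Nonempty (↥M ≃* Equiv.Perm (Fin 4)) → ∃ g : G, M = M₁.map (MulAut.conj g).toMonoidHom ∨ M = M₂.map (MulAut.conj g).toMonoidHom := by
  haveI : Fact (Nat.Prime 2) := ⟨Nat.prime_two⟩
  haveI : Fact (Nat.Prime 7) := ⟨by norm_num⟩
  obtain ⟨S⟩ : Nonempty (Sylow 2 G) := inferInstance
  obtain ⟨a, b, d⟩ := di h S
  have k : ∀ M : Subgroup G, IsCoatom M → Nat.card M = 21 → ∃ P : Sylow 7 G, M = NS (P : Subgroup G) := fun M a b => by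
    rcases O168.max h a with ⟨U, c, rfl⟩ | ⟨P, c, rfl⟩
    · rw [(CU h c).2] at b; omega
    · obtain ⟨R, hR⟩ := (IsPGroup.of_card (p := 7) (n := 1) c).exists_le_sylow
      exact ⟨R, by rw [eq_of_le_of_card_ge hR ((card_sylow_of R h (k := 1) (by norm_num) (by norm_num)).trans c.symm).le]⟩
  refine ⟨fun M hM => ?_, fun M M' a b c e => ?_, _, _, coatom h (CU h d.klein1).2, coatom h (CU h d.klein2).2, NU h d.klein1,
    NU h d.klein2, fun g e => klein_ne d (not_fuse d (d.sup_le' d.hb _) (d.sup_le' d.ab_mem _) d.klein1 g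
      (eq_of_norm h (H1.klein_cj d.klein1 g) d.klein2 (e.trans (H2.cj_normalizer g _)).symm)), fun M hM ⟨f⟩ => ?_⟩
  · rcases O168.max h hM with ⟨U, c, rfl⟩ | ⟨P, c, rfl⟩
    · exact Or.inl (NU h c)
    · refine Or.inr ⟨N7 h c, fun e => ?_⟩
      have l : NS P ≤ CS P := fun x hx y hy => congrArg Subtype.val (e.1.1 ⟨y, le_normalizer hy⟩ ⟨x, hx⟩)
      have := card_le_of_le l
      rw [N7 h c, c7 h c, c] at this
      omega
  · obtain ⟨P, rfl⟩ := k M a c
    obtain ⟨R, rfl⟩ := k M' b e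
    obtain ⟨g, rfl⟩ := MulAction.exists_smul_eq G P R
    exact ⟨g, (H2.cj_normalizer g _).symm⟩
  · rcases O168.max h hM with ⟨U, c, rfl⟩ | ⟨P, c, rfl⟩
    · obtain ⟨g, -, e⟩ := (H2.isSylowIn_top S).exists_cj_le (H1.klein_pg c) le_top
      refine ⟨g⁻¹, (klein_eq d e (H1.klein_cj c g)).imp (fun e => ?_) fun e => ?_⟩ <;>
        exact (congrArg NS (H2.cj_eq_iff_eq.1 e)).trans (H2.cj_normalizer _ _).symm
    · have := Nat.card_congr f.toEquiv
      rw [N7 h c, Nat.card_perm, Nat.card_fin] at this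
      exact absurd this (by decide)

end Cfsg.Agent.S1008
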