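import Cfsg.Statements.S1249
import Cfsg.Agent.H2.Control

set_option autoImplicit false
open Cfsg

namespace Cfsg.Agent.S1249

/-- Let P and Q be Sylow p-subgroups of the finite group G both containing the subgroup A. If A is strongly closed in P, then A is strongly closed in Q. -/
theorem result {G : Type*} [Group G] [Finite G] {p : ℕ} [Fact p.Prime] (P Q : Sylow p G) (A : Subgroup G) (hAQ : A ≤ Q) (hA : Cfsg.IsStronglyClosed A (P : Subgroup G)) : Cfsg.IsStronglyClosed A (Q : Subgroup G) := by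
  obtain ⟨g, hg⟩ := H2.sylow_exists_cj_eq P Q
  have h1 := H2.stronglyClosed_cj hA g
  have h2 : H2.cj g⁻¹ A = A :=
    (H2.stronglyClosed_weaklyClosed hA).2 g⁻¹ (H2.le_cj_iff.1 (hg ▸ hAQ))
  have h3 : H2.cj g A = A := by rw [H2.cj_eq_iff_eq, h2]
  rwa [hg, h3] at h1

end Cfsg.Agent.S1249
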