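import Cfsg.Statements.S1250
import Cfsg.Agent.H2.Control

set_option autoImplicit false
open Cfsg

namespace Cfsg.Agent.S1250

/-- Let S be a Sylow p-subgroup of the finite group G, A ≤ S strongly closed in S, and N a normal subgroup. Then the image of A in G ⧸ N is strongly closed in the image of S (which is a Sylow p-subgroup of G ⧸ N). -/
theorem result {G : Type*} [Group G] [Finite G] {p : ℕ} [Fact p.Prime] (S : Sylow p G) (A : Subgroup G) (hA : Cfsg.IsStronglyClosed A (S : Subgroup G)) (N : Subgroup G) [N.Normal] : Cfsg.IsStronglyClosed (A.map (QuotientGroup.mk' N)) ((S : Subgroup G).map (QuotientGroup.mk' N)) := by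
  refine ⟨Subgroup.map_mono hA.1, ?_⟩
  rintro _ ⟨x, hx, rfl⟩ g ⟨s, hs, e⟩
  obtain ⟨g, rfl⟩ := QuotientGroup.mk'_surjective N g
  have hS := H2.sylow_isSylowIn S (K := (S : Subgroup G) ⊔ N) le_sup_left
  have hm : g * x * g⁻¹ ∈ (S : Subgroup G) ⊔ N := by
    rw [← QuotientGroup.ker_mk' N, ← Subgroup.comap_map_eq]
    exact ⟨s, hs, by simpa using e⟩
  obtain ⟨h, hh, hle⟩ := hS.exists_cj_le (Q := Subgroup.zpowers (g * x * g⁻¹))
    (by rw [← H2.cj_zpowers]
        exact H2.isPGroup_cj (S.2.to_le (Subgroup.zpowers_le.2 (hA.1 hx))) g)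
    (Subgroup.zpowers_le.2 hm)
  obtain ⟨u, hu, n, hn, rfl⟩ := Subgroup.mem_sup_of_normal_right.1 hh
  have h1 : u * n * (g * x * g⁻¹) * (u * n)⁻¹ ∈ (S : Subgroup G) :=
    hle (H2.conj_mem_cj.2 (Subgroup.mem_zpowers _))
  have h2 : n * g * x * (n * g)⁻¹ ∈ (S : Subgroup G) := by
    have := mul_mem (mul_mem (inv_mem hu) h1) hu
    convert this using 1; group
  refine ⟨_, hA.2 x hx _ h2, ?_⟩
  have : QuotientGroup.mk' N n = 1 := (QuotientGroup.eq_one_iff n).2 hn
  simp only [map_mul, map_inv, this, one_mul]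

end Cfsg.Agent.S1250
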