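import Cfsg.Statements.S1251
import Cfsg.Agent.H9.LB3

set_option autoImplicit false
open Cfsg

namespace Cfsg.Agent.S1251

/-- Let S be a Sylow 2-subgroup of the finite group G and A ≤ S strongly closed in S. If H is a subgroup normalized by A with no nontrivial normal subgroup of odd order and A ∩ H = 1, then A ≤ C_G(H). -/
theorem result {G : Type*} [Group G] [Finite G] (S : Sylow 2 G) (A : Subgroup G) (hA : Cfsg.IsStronglyClosed A (S : Subgroup G)) (H : Subgroup G) (hAH : A ≤ Subgroup.normalizer (H : Set G)) (hO : Cfsg.oddCore ↥H = ⊥) (hdisj : A ⊓ H = ⊥) : A ≤ Subgroup.centralizer (H : Set G) := by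
  open H9 Subgroup in open scoped commutatorElement in
  intro a ha
  have pA := (syl_top_of_sylow S).isP.to_le hA.1
  obtain ⟨T, hT, AT⟩ := exists_syl_ge (H := H ⊔ A) pA le_sup_right
  obtain ⟨g, -, hg⟩ := (syl_top_of_sylow S).exists_cj_le hT.isP le_top
  have e : cj g A = A := eq_of_le_of_card_le (fun x hx => by
    obtain ⟨y, hy, rfl⟩ := hx
    exact hA.2 y hy g (hg (cj_mono g AT (conj_mem_cj hy)))) (card_cj g A).ge
  have sc : ∀ x ∈ A, ∀ k, k * x * k⁻¹ ∈ T → k * x * k⁻¹ ∈ A := fun x hx k h => by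
    rw [← conj_mem_cj_iff (g := g), e, show g * (k * x * k⁻¹) * g⁻¹ = g * k * x * (g * k)⁻¹ by group]
    exact hA.2 x hx _ (hg (by simpa [mul_assoc] using conj_mem_cj (g := g) h))
  have nH : H ⊔ A ≤ normalizer (H : Set G) := sup_le le_normalizer hAH
  have aH := zpowers_le.2 (hAH ha)
  have pa := isPGroup_zpowers_of_mem pA ha
  have hU := hT.inf_normal le_sup_left nH
  obtain ⟨hR, -⟩ := hU.sup_of_normalizer pa (normalizer_inf ((zpowers_le.2 (AT ha)).trans le_normalizer) aH) aH
  have aW : a ∈ H ⊔ zpowers a := mem_sup_right (mem_zpowers a)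
  have := (inZ_sub aW).1 (zstar_elt _ ⟨a, aW⟩ (iso_of_syl (S := (T ⊓ H ⊔ zpowers a).subgroupOf (H ⊔ zpowers a))
    (by simpa using hR.subgroupOf le_rfl) (mem_sup_right (mem_zpowers a) : a ∈ T ⊓ H ⊔ zpowers a) fun k hk =>
      Subtype.ext (by
        have b1 := sc a ha k (sup_le inf_le_left (zpowers_le.2 (AT ha)) (mem_subgroupOf.1 hk))
        have b2 : ⁅(k : G), a⁆ ∈ H := commutator_sup_le le_normalizer aH (commutator_le_left' aH)
          ((le_centralizer_iff'.1 (L.le_centralizer_of_comm inferInstance)).le.trans bot_le)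
          (commutator_mem_commutator k.2 (mem_zpowers a))
        exact mul_inv_eq_one.1 (mem_bot.1 (hdisj ▸ mem_inf.2 ⟨mul_mem b1 (inv_mem ha), b2⟩))))
    ((pa.comap_subtype (K := H ⊔ zpowers a)).to_le (zpowers_le.2 (mem_zpowers a))))
  rw [Op'_sup_p pa aH, Op'_eq_bot_iff.2 hO, le_bot_iff, ← le_centralizer_iff', le_centralizer_iff] at this
  exact centralizer_anti le_sup_left (this (mem_zpowers a))

end Cfsg.Agent.S1251
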