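import Cfsg.Statements.S1292
import Cfsg.Agent.H9.PCon

set_option autoImplicit false
open Cfsg

namespace Cfsg.Agent.S1292

/-- Let G be a finite group such that F*(C_G(t)) = O_2(C_G(t)) for every involution t. Then F*(N_G(T)) = O_2(N_G(T)) for every nontrivial 2-subgroup T of G. -/
theorem result {G : Type*} [Group G] [Finite G] (h : ∀ t : G, orderOf t = 2 → Cfsg.generalizedFittingSubgroup ↥(Subgroup.centralizer ({t} : Set G)) = Cfsg.pCore 2 ↥(Subgroup.centralizer ({t} : Set G))) (T : Subgroup G) (hT : IsPGroup 2 ↥T) (hT1 : T ≠ ⊥) : Cfsg.generalizedFittingSubgroup ↥(Subgroup.normalizer (T : Set G)) = Cfsg.pCore 2 ↥(Subgroup.normalizer (T : Set G)) := by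
  open H9 Subgroup in open scoped commutatorElement in
  obtain ⟨t, ht, ho⟩ := exists_orderOf_eq_of_isPGroup (hT.to_le (inf_le_left : T ⊓ centralizer (T : Set G) ≤ T))
    (inf_centralizer_ne_bot_of_p hT hT le_normalizer hT1)
  have h1 := Fst_eq_Op_iff.2 (h t ho)
  have hTt : T ≤ centralizer ({t} : Set G) := le_centralizer_singleton_iff.2 ht.2
  have h2 := Fst_centralizer_eq_Op h1 hT hTt
  have h3 : centralizer (T : Set G) ≤ centralizer ({t} : Set G) := by
    rw [← centralizer_zpowers]; exact centralizer_anti (zpowers_le.2 ht.1)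
  rw [inf_eq_right.2 h3, Fst_eq_Op_iff'] at h2
  rw [← Fst_eq_Op_iff, Fst_eq_Op_iff']
  have hsn : SN (centralizer (T : Set G)) (normalizer (T : Set G)) :=
    SN.of_normal (centralizer_le_normalizer' T) (normalizer_centralizer le_rfl)
  have hTO : T ≤ Op 2 (normalizer (T : Set G)) := le_Op le_normalizer le_rfl hT
  constructor
  · refine Lay_eq_bot_iff'.2 fun K hK => Lay_eq_bot_iff'.1 h2.1 K (hK.mono ?_ hsn.le)
    exact hK.le_Lay.trans ((Lay_le_centralizer_Op 2 _).trans (centralizer_anti hTO))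
  · rw [eq_bot_iff, ← h2.2, hsn.Op'_eq_inf]
    refine le_inf le_rfl ((le_centralizer_iff.1 (commutator_eq_bot_iff_le_centralizer.1
      (commutator_Op_Op' _))).trans (centralizer_anti hTO))

end Cfsg.Agent.S1292
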