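import Cfsg.Statements.S1295
import Cfsg.Agent.H1.Sig7

set_option autoImplicit false
open Cfsg

namespace Cfsg.Agent.S1295

open H1

/-- Let G be finite with O_{p'}(G) = 1 and p-rank at least 3, whose reduced rank-2 commuting graph for p is connected. Suppose that for every element a of order p with m_p(C_G(a)) ≥ 3 the p-layer of C_G(a) is trivial and O_{p'}(C_G(a)) is solvable. Then F*(C_G(a)) = O_p(C_G(a)) for every such a. -/
theorem result {G : Type*} [Group G] [Finite G] (p : ℕ) [Fact p.Prime] (hO : Cfsg.pPrimeCore p G = ⊥) (hrk : ¬ Cfsg.PRankLE p 2 G) (hconn : Cfsg.IsRankGraphConnected p 2 G) (hL : ∀ a : G, (orderOf a = p ∧ ¬ Cfsg.PRankLE p 2 ↥(Subgroup.centralizer ({a} : Set G))) → Cfsg.pLayer p ↥(Subgroup.centralizer ({a} : Set G)) = ⊥ ∧ Group.IsSolvable ↥(Cfsg.centralizerPPrimeCore p a)) (a : G) (ha : (orderOf a = p ∧ ¬ Cfsg.PRankLE p 2 ↥(Subgroup.centralizer ({a} : Set G)))) : Cfsg.generalizedFittingSubgroup ↥(Subgroup.centralizer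 ({a} : Set G)) = Cfsg.pCore p ↥(Subgroup.centralizer ({a} : Set G)) := by
  refine H9.Fst_eq_Op_iff.1 (H9.Fst_eq_Op_iff''.2 ⟨H9.PLay_eq_bot_iff.2 (hL a ha).1, equivariant_trivial
    (θ := fun a => H9.Op' p (Subgroup.centralizer {a})) hO hconn (fun A e c => sf_core e fun b h1 h2 => ?_)
    (fun a g _ => by rw [H9.cj_Op', H9.cj_centralizer_singleton]) ha⟩)
  have := hL b (good_of_mem e c h1 h2)
  exact ⟨H9.PLay_eq_bot_iff.2 this.1, H9.Op'_eq p (Subgroup.centralizer ({b} : Set G)) ▸ this.2⟩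

end Cfsg.Agent.S1295
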