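import Cfsg.Statements.S1322
import Cfsg.Agent.H9.LB2

set_option autoImplicit false
open Cfsg

namespace Cfsg.Agent.S1322

/-- Let G be finite with L_{2'}(G) = E(G), t an involution and L ≤ C_G(t) a component of C_G(t). Then there is a component D of G with: L = D; or L < D and D = ⁅D, ⟨t⟩⁆; or tDt⁻¹ ≠ D and L is the layer of C_{D ⊔ tDt⁻¹}(t). -/
theorem result {G : Type*} [Group G] [Finite G] (hL2 : Cfsg.pLayer 2 G = Cfsg.layer G) (t : G) (ht : orderOf t = 2) (L : Subgroup G) (hLt : L ≤ Subgroup.centralizer ({t} : Set G)) (hL : Cfsg.IsComponent (L.subgroupOf (Subgroup.centralizer ({t} : Set G)))) : ∃ D : Subgroup G, Cfsg.IsComponent D ∧ (L = D ∨ (L < D ∧ D = ⁅D, Subgroup.zpowers t⁆) ∨ (D.map (MulAut.conj t).toMonoidHom ≠ D ∧ L = (Cfsg.layer ↥((D ⊔ D.map (MulAut.conj t).toMonoidHom) ⊓ Subgroup.centralizer ({t} : Set G))).map ((D ⊔ D.map (MulAut.conj t).toMonoidHom) ⊓ Subgroup.centralizer ({t} : Set G)).subtype)) := by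
  open H9 Subgroup in open scoped commutatorElement in
  have h1 : Comp L (⊤ ⊓ centralizer (zpowers t : Set G)) := by
    rw [top_inf_eq, centralizer_zpowers]; exact comp_iff.2 ⟨hLt, hL⟩
  have pt := isPGroup_zpowers_of_orderOf ht
  have h2 : L ≤ Lay ⊤ := (h1.pcomp_two.le_PLay.trans (lbal_act pt le_normalizer_of_normal)).trans
    (by rw [PLay_top, hL2, Lay_top])
  obtain ⟨D, hD, h3⟩ := exists_comp_not_le h2 h1.qs.perfect h1.qs.ne_bot
  have h4 := h1.pump hD le_normalizer_of_normal h2 h3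
  refine ⟨D, comp_top_iff.1 hD, ?_⟩
  have t2 : t ^ 2 = 1 := ht ▸ pow_orderOf_eq_one t
  by_cases h5 : t ∈ normalizer (D : Set G)
  · have h6 := h4.trans (ncl_le le_rfl (zpowers_le.2 h5))
    rcases hD.le_commutator_or (le_top : zpowers t ≤ ⊤) with a | a
    · exact h6.eq_or_lt.imp id fun b => Or.inl ⟨b, le_antisymm a (commutator_le_left' (zpowers_le.2 h5))⟩
    · exact Or.inl (h1.eq_of_le (hD.mono (le_inf le_top (le_centralizer_iff'.2 a)) le_top) h6)
  refine Or.inr (Or.inr ⟨fun e => h5 (mem_normalizer_iff_cj.2 e), ?_⟩)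
  have e : ncl D (zpowers t) = D ⊔ cj t D := le_antisymm (ncl_le le_sup_left (zpowers_le.2 (mem_normalizer_iff_cj.2 (by
    rw [cj_sup, ← cj_mul, ← pow_two, t2, cj_one, sup_comm])))) (sup_le (le_ncl _ _) (cj_le_ncl D (mem_zpowers t)))
  obtain ⟨J, a1, a2, -, -, a3⟩ := hD.diag (le_normalizer_of_normal (mem_top t)) h5 pt (t2 ▸ one_mem _)
  rw [centralizer_zpowers] at h1
  have s := (hD.sn_ncl (T := zpowers t) le_normalizer_of_normal).inf_right (centralizer {t})
  have key := fun K (hK : Comp K (ncl D (zpowers t) ⊓ centralizer {t})) =>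
    (hK.trans s).eq_of_le a1 (a3 K hK.le hK.qs.perfect)
  have h6 := h1.mono (le_inf h4 hLt) s.le
  rw [Lay_eq, cj_def', ← e]
  exact le_antisymm h6.le_Lay (Lay_le_iff.2 fun K hK => ((key K hK).trans (key L h6).symm).le)

end Cfsg.Agent.S1322
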