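import Cfsg.Statements.S1323


set_option autoImplicit false
open Cfsg

namespace Cfsg.Agent.S1323

open Subgroup Equiv Equiv.Perm alternatingGroup
open scoped Pointwise

variable {α : Type*} [Fintype α] [DecidableEq α]

def T (s : Finset α) : Subgroup (alternatingGroup α) := (alternatingGroup.ofSubtype s).range

theorem mem_T {s : Finset α} {k : alternatingGroup α} : k ∈ T s ↔ ∀ x, x ∉ s → k.1 x = x := by
  rw [T, alternatingGroup.mem_range_ofSubtype_iff]
  exact ⟨fun h x hx => by_contra fun e => hx (h (mem_support.2 e)), fun h x hx => by_contra fun e => mem_support.1 hx (h x e)⟩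

theorem card_T (s : Finset α) : Nat.card (T s) = Nat.card (alternatingGroup s) :=
  (Nat.card_congr (MonoidHom.ofInjective (ofSubtype_injective (s := s))).toEquiv).symm

theorem cent_T {s : Finset α} (h : 4 ≤ s.card) : centralizer (T s : Set (alternatingGroup α)) = T sᶜ := by
  refine le_antisymm (fun g hg => mem_T.2 fun x hx => ?_) fun g hg k hk => Subtype.ext (Disjoint.commute fun x => ?_)
  · rw [Finset.notMem_compl] at hx
    by_contra hn
    obtain ⟨y, y1, z, z1, yz⟩ := Finset.one_lt_card.1 (show 1 < ((s.erase x).erase (g.1 x)).card by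
      have := Finset.pred_card_le_card_erase (s := s.erase x) (a := g.1 x)
      rw [Finset.card_erase_of_mem hx] at this; omega)
    simp only [Finset.mem_erase] at y1 z1
    have h3 := isThreeCycle_swap_mul_swap_same y1.2.1.symm z1.2.1.symm yz
    have := hg ⟨_, h3.mem_alternatingGroup⟩ (mem_T.2 fun w hw => by
      have : ∀ {a}, a ∈ s → w ≠ a := fun ha e => hw (e ▸ ha)
      simp [swap_apply_of_ne_of_ne, this hx, this y1.2.2, this z1.2.2])
    have h4 := congr(($this : Perm α) x)
    simp only [Subgroup.coe_mul, Perm.mul_apply, swap_apply_left, swap_apply_of_ne_of_ne hn z1.1.symm,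
      swap_apply_of_ne_of_ne hn y1.1.symm, swap_apply_of_ne_of_ne z1.2.1 yz.symm] at h4
    exact z1.2.1 (g.1.injective h4).symm
  · by_cases hx : x ∈ s
    · exact Or.inr (mem_T.1 hg x (by simpa using hx))
    · exact Or.inl (mem_T.1 hk x hx)

theorem norm_cent {G : Type*} [Group G] (L : Subgroup G) :
    normalizer (L : Set G) ≤ normalizer ((centralizer (L : Set G) : Subgroup G) : Set G) := fun g hg => by
  have key : ∀ g ∈ normalizer (L : Set G), ∀ c ∈ centralizer (L : Set G), g * c * g⁻¹ ∈ centralizer (L : Set G) := fun g hg c hc x hx => by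
    have := hc _ ((mem_normalizer_iff''.1 hg x).1 hx)
    calc _ = g * (g⁻¹ * x * g * c) * g⁻¹ := by group
      _ = _ := by rw [this]; group
  exact mem_normalizer_iff.2 fun c => ⟨key g hg c, fun h => by simpa [mul_assoc] using key g⁻¹ (inv_mem hg) _ h⟩

/-- For n ≥ 9, the subgroup of the alternating group on Fin n fixing each of the points 0, 1, 2, 3 is a standard subgroup. -/
theorem result (n : ℕ) (h4 : 4 ≤ n) (hn : 9 ≤ n) : Cfsg.IsStandardSubgroup (⨅ i : Fin 4, MulAction.stabilizer ↥(alternatingGroup (Fin n)) (Fin.castLE h4 i : Fin n)) := by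
  set s : Finset (Fin n) := Finset.univ.map (Fin.castLEEmb h4)
  have cs : s.card = 4 := by simp [s]
  have cs' : sᶜ.card = n - 4 := by rw [Finset.card_compl, cs, Fintype.card_fin]
  have e : (⨅ i : Fin 4, MulAction.stabilizer ↥(alternatingGroup (Fin n)) (Fin.castLE h4 i : Fin n)) = T sᶜ := by
    ext k; simp [mem_T, s, mem_iInf, Subgroup.smul_def]
  have c1 : centralizer (T sᶜ : Set (alternatingGroup (Fin n))) = T s := by rw [cent_T (by omega), compl_compl]
  have c12 : Nat.card (T s) = 12 := by
    haveI : Nontrivial s := Fintype.one_lt_card_iff_nontrivial.1 (by simp [cs])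
    have := two_mul_nat_card_alternatingGroup (α := s)
    rw [Nat.card_perm, Nat.card_eq_fintype_card (α := s), Fintype.card_coe, cs, ← card_T] at this
    simp [Nat.factorial] at this; omega
  have big : 12 < Nat.card (T sᶜ) := by
    haveI : Nontrivial (sᶜ : Finset (Fin n)) := Fintype.one_lt_card_iff_nontrivial.1 (by rw [Fintype.card_coe]; omega)
    have := two_mul_nat_card_alternatingGroup (α := (sᶜ : Finset (Fin n)))
    rw [Nat.card_perm, Nat.card_eq_fintype_card (α := (sᶜ : Finset (Fin n))), Fintype.card_coe, cs', ← card_T] at this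
    have h2 := Nat.factorial_le (show 5 ≤ n - 4 by omega)
    simp only [Nat.factorial] at h2
    omega
  rw [e]
  unfold IsStandardSubgroup
  rw [c1]
  refine ⟨?_, ⟨by rw [c12]; decide, fun g hg => ?_⟩, fun g _ h => ?_, le_antisymm (c1 ▸ norm_cent _) (cent_T cs.ge ▸ norm_cent _)⟩
  · have h5 : 5 ≤ Nat.card (sᶜ : Finset (Fin n)) := by rw [Nat.card_eq_fintype_card, Fintype.card_coe]; omega
    haveI := alternatingGroup.isSimpleGroup h5
    haveI : IsSimpleGroup (T sᶜ) := (MonoidHom.ofInjective (ofSubtype_injective (s := sᶜ))).symm.isSimpleGroup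
    have hz : center (T sᶜ) = ⊥ := (IsSimpleGroup.eq_bot_or_eq_top_of_normal _ inferInstance).resolve_right fun h =>
      (card_le_of_le (show T sᶜ ≤ T s from c1 ▸ fun a ha b hb =>
        congrArg Subtype.val (mem_center_iff.1 (h.ge (mem_top ⟨a, ha⟩)) ⟨b, hb⟩))).not_gt (c12 ▸ big)
    refine ⟨⟨(IsSimpleGroup.eq_bot_or_eq_top_of_normal _ inferInstance).resolve_left fun h => ?_⟩,
      ((QuotientGroup.quotientMulEquivOfEq hz).trans QuotientGroup.quotientBot).isSimpleGroup⟩
    rw [commutator_def, commutator_eq_bot_iff_le_centralizer, coe_top, centralizer_univ, hz] at h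
    exact absurd (top_le_iff.1 h) bot_ne_top
  · have e1 : (T s).map (MulAut.conj g).toMonoidHom = T (g • s) := (conj_smul_range_ofSubtype s g)
    have e2 : T s ⊓ T (g • s) = T (s ∩ g • s) := by
      ext k; simp only [mem_inf, mem_T, Finset.mem_inter, not_and_or]
      exact ⟨fun h x hx => hx.elim (h.1 x) (h.2 x), fun h => ⟨fun x hx => h x (Or.inl hx), fun x hx => h x (Or.inr hx)⟩⟩
    have h3 : (s ∩ g • s).card ≤ 3 := by
      by_contra h
      refine hg (mem_normalizer_iff_map_conj_eq.2 (e1.trans (congrArg T ?_)))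
      exact (Finset.eq_of_subset_of_card_le Finset.inter_subset_right (by rw [Finset.card_smul_finset]; omega)).symm.trans
        (Finset.eq_of_subset_of_card_le Finset.inter_subset_left (by omega))
    rw [e1, e2, card_T]
    rcases subsingleton_or_nontrivial (s ∩ g • s : Finset (Fin n)) with h | h
    · rw [Nat.card_unique]; exact odd_one
    have := two_mul_nat_card_alternatingGroup (α := (s ∩ g • s : Finset (Fin n)))
    have h2 := Fintype.one_lt_card_iff_nontrivial.2 h
    rw [Nat.card_perm, Nat.card_eq_fintype_card (α := (s ∩ g • s : Finset (Fin n)))] at this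
    rw [Fintype.card_coe] at this h2
    generalize (s ∩ g • s).card = k at *
    interval_cases k <;> simp only [Nat.factorial] at this <;> exact Nat.odd_iff.2 (by omega)
  · rw [Subgroup.commutator_comm, commutator_eq_bot_iff_le_centralizer, c1] at h
    have h1 := card_le_of_le h
    rw [card_map_of_injective (MulAut.conj g).injective, c12] at h1
    omega

end Cfsg.Agent.S1323
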