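import Cfsg.Statements.S1339
import Cfsg.Agent.H5.Root2
import Cfsg.Agent.H9.Comp

set_option autoImplicit false
open Cfsg

namespace Cfsg.Agent.S1339

open H5 Matrix

/-- Let F be a field with 2 elements, n ≥ 3, and t ∈ SL(n, F) a transvection (t = 1 + E_{ij}, i ≠ j). Then the generalized Fitting subgroup of C(t) is O_2(C(t)). -/
theorem result {F : Type*} [Field F] [Fintype F] [DecidableEq F] (hF : Fintype.card F = 2) (n : ℕ) (hn : 3 ≤ n) (i j : Fin n) (hij : i ≠ j) (t : Matrix.SpecialLinearGroup (Fin n) F) (ht : (t : Matrix (Fin n) (Fin n) F) = Matrix.transvection i j 1) : Cfsg.generalizedFittingSubgroup ↥(Subgroup.centralizer ({t} : Set (Matrix.SpecialLinearGroup (Fin n) F))) = Cfsg.pCore 2 ↥(Subgroup.centralizer ({t} : Set (Matrix.SpecialLinearGroup (Fin n) F))) := by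
  have h2 : ∀ a : F, a ≠ 0 → a = 1 := fun a h => by simpa [hF] using FiniteField.pow_card_sub_one_eq_one a h
  have hc : (1 : F) + 1 = 0 := by simpa [hF, one_add_one_eq_two] using FiniteField.cast_card_eq_zero F
  let N : Subgroup (SpecialLinearGroup (Fin n) F) :=
    { carrier := {g | ∃ φ : Fin n → F, φ i = 0 ∧ g.1 = 1 + vecMulVec (Pi.single i 1) φ}
      mul_mem' := by
        rintro a b ⟨φ, h, e⟩ ⟨ψ, k, e'⟩
        exact ⟨φ + ψ, by simp [h, k], by
          change a.1 * b.1 = _
          simp [e, e', add_mul, mul_add, vecMulVec_mul_vecMulVec, h, vecMulVec_add, add_assoc]⟩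
      one_mem' := ⟨0, rfl, by simp⟩
      inv_mem' := by
        rintro a ⟨φ, h, e⟩
        refine ⟨-φ, by simp [h], ((Matrix.SpecialLinearGroup.coe_inv a).trans (by simp [inv_def])).trans (inv_eq_right_inv (A := a.1) ?_)⟩
        simp [e, add_mul, mul_add, vecMulVec_mul_vecMulVec, h, vecMulVec_neg] }
  have ex : ∀ φ : Fin n → F, φ i = 0 → ∃ g ∈ N, g.1 = 1 + vecMulVec (Pi.single i 1) φ := fun φ h =>
    ⟨⟨_, by simp [det_one_add_vec, h]⟩, ⟨φ, h, rfl⟩, rfl⟩
  have cm : ∀ (g a : SpecialLinearGroup (Fin n) F) φ, a.1 = 1 + vecMulVec (Pi.single i 1) φ → g * a = a * g →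
      vecMulVec (g.1 *ᵥ Pi.single i 1) φ = vecMulVec (Pi.single i 1) (φ ᵥ* g.1) := fun g a φ e h => by
    have : g.1 * a.1 = a.1 * g.1 := congrArg Subtype.val h
    simpa [e, add_mul, mul_add, mul_vecMulVec, vecMulVec_mul] using this
  have et : t.1 = 1 + vecMulVec (Pi.single i 1) (Pi.single j 1) := by rw [ht, transvection, single_eq_single_vecMulVec_single]
  have fx : ∀ g ∈ Subgroup.centralizer {t}, g.1 *ᵥ Pi.single i 1 = Pi.single i 1 := fun g hg => by
    have := cm g t _ et (Subgroup.mem_centralizer_singleton_iff.1 hg)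
    have k : ∀ l, g.1 l i = (Pi.single i 1 : Fin n → F) l * g.1 j j := fun l => by
      simpa [vecMulVec_apply] using congrFun (congrFun this l) j
    have : g.1 j j = 1 := h2 _ fun c => one_ne_zero (g.2.symm.trans (det_eq_zero_of_column_eq_zero i (by simp [k, c])))
    ext l; simp [k, this]
  have h1 : N ≤ H9.Op 2 (Subgroup.centralizer {t}) := by
    refine H9.le_Op ?_ (fun g hg => Subgroup.mem_normalizer_fintype ?_) fun ⟨a, φ, h, e⟩ => ⟨1, Subtype.ext (Subtype.ext ?_)⟩
    · rintro a ⟨φ, h, e⟩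
      refine Subgroup.mem_centralizer_singleton_iff.2 (Subtype.ext ?_)
      change a.1 * t.1 = t.1 * a.1
      simp [e, et, add_mul, mul_add, vecMulVec_mul_vecMulVec, h, hij, add_right_comm]
    · rintro a ⟨φ, h, e⟩
      refine ⟨φ ᵥ* (g⁻¹).1, ?_, ?_⟩
      · have := congrArg (φ ⬝ᵥ ·) (fx _ (inv_mem hg))
        simpa only [dotProduct_mulVec, dotProduct_single, h, mul_one] using this
      · change g.1 * a.1 * (g⁻¹).1 = _
        rw [e, mul_add, add_mul, mul_one, show g.1 * (g⁻¹).1 = 1 from congrArg Subtype.val (mul_inv_cancel g), mul_vecMulVec, fx g hg,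
          vecMulVec_mul]
    · change a.1 ^ 2 ^ 1 = 1
      simp [e, sq, add_mul, mul_add, vecMulVec_mul_vecMulVec, h, add_assoc, ← two_smul F, one_add_one_eq_two.symm.trans hc]
  refine H9.Fst_eq_Op_iff.1 (H9.Fst_eq_Op_iff_centralizer_le.2 fun g hg => h1 ⟨fun l => (g.1 - 1) i l, ?_, ?_⟩)
  · simpa [sub_eq_zero] using congrFun (fx g hg.1) i
  · ext k l
    by_cases c : k = i
    · simp [vecMulVec_apply, c]
    · obtain ⟨a, ha, e⟩ := ex (Pi.single k 1) (by simp [c, Ne.symm c])
      have := congrFun (congrFun (cm g a _ e (hg.2 a (h1 ha)).symm) i) l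
      rw [fx g hg.1] at this
      simpa [vecMulVec_apply, c, one_apply, Pi.single_apply, eq_comm] using this


end Cfsg.Agent.S1339
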