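import Cfsg.Statements.S1340
import Cfsg.Agent.H5.SL
import Cfsg.Agent.H5.Simple
import Cfsg.Agent.H9.Comp

set_option autoImplicit false
open Cfsg

namespace Cfsg.Agent.S1340

open H5 Matrix

section
variable {F : Type*} [Field F] {m : ℕ}

def blk (a : F) (B : Matrix (Fin m) (Fin m) F) : Matrix (Fin (m + 1)) (Fin (m + 1)) F :=
  Matrix.of (Fin.cons (Fin.cons a 0) (fun i => Fin.cons 0 (B i)))

@[simp] theorem blk00 (a : F) (B : Matrix (Fin m) (Fin m) F) : blk a B 0 0 = a := rfl
@[simp] theorem blk0s (a : F) (B : Matrix (Fin m) (Fin m) F) (j : Fin m) : blk a B 0 j.succ = 0 := rfl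
@[simp] theorem blks0 (a : F) (B : Matrix (Fin m) (Fin m) F) (j : Fin m) : blk a B j.succ 0 = 0 := rfl
@[simp] theorem blkss (a : F) (B : Matrix (Fin m) (Fin m) F) (i j : Fin m) : blk a B i.succ j.succ = B i j := rfl

theorem blk_mul (a a' : F) (B B' : Matrix (Fin m) (Fin m) F) : blk a B * blk a' B' = blk (a * a') (B * B') := by
  ext i j
  refine Fin.cases ?_ (fun i => ?_) i <;> refine Fin.cases ?_ (fun j => ?_) j <;>
    simp [mul_apply, Fin.sum_univ_succ]

theorem blk_one : blk (1 : F) (1 : Matrix (Fin m) (Fin m) F) = 1 := by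
  ext i j
  refine Fin.cases ?_ (fun i => ?_) i <;> refine Fin.cases ?_ (fun j => ?_) j <;>
    simp [one_apply, Fin.succ_ne_zero, (Fin.succ_ne_zero _).symm]

theorem blk_inj {a a' : F} {B B' : Matrix (Fin m) (Fin m) F} (h : blk a B = blk a' B') : a = a' ∧ B = B' :=
  ⟨by simpa using congrFun (congrFun h 0) 0, by
    ext i j; simpa using congrFun (congrFun h i.succ) j.succ⟩

theorem eq_blk (h2 : (-1 : F) ≠ 1) {g : Matrix (Fin (m + 1)) (Fin (m + 1)) F}
    (h : blk (-1) 1 * g = g * blk (-1) 1) : g = blk (g 0 0) (g.submatrix Fin.succ Fin.succ) := by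
  have key : ∀ x : F, -x = x → x = 0 := fun x hx => by
    by_contra c
    exact h2 (mul_right_cancel₀ c (by simpa using hx))
  ext i j
  have e := congrFun (congrFun h i) j
  revert e
  refine Fin.cases ?_ (fun i => ?_) i <;> refine Fin.cases ?_ (fun j => ?_) j <;> intro e
  · simp
  · simp [mul_apply, Fin.sum_univ_succ, one_apply] at e
    simpa using key _ e
  · simp [mul_apply, Fin.sum_univ_succ, one_apply] at e
    simpa using key _ e.symm
  · simp

def blkHom : Matrix (Fin m) (Fin m) F →* Matrix (Fin (m + 1)) (Fin (m + 1)) F where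
  toFun := blk 1
  map_one' := blk_one
  map_mul' := fun B B' => by rw [blk_mul, one_mul]

def tt (m : ℕ) : GeneralLinearGroup (Fin (m + 1)) F :=
  ⟨blk (-1) 1, blk (-1) 1, by rw [blk_mul]; simpa using blk_one, by rw [blk_mul]; simpa using blk_one⟩

def psi0 : SpecialLinearGroup (Fin m) F →* GeneralLinearGroup (Fin (m + 1)) F :=
  (Units.map blkHom).comp SpecialLinearGroup.toGL

theorem psi0_val (s : SpecialLinearGroup (Fin m) F) : (psi0 s).1 = blk 1 s.1 := rfl

theorem psi0_mem (s : SpecialLinearGroup (Fin m) F) :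
    psi0 s ∈ Subgroup.centralizer ({tt m} : Set (GeneralLinearGroup (Fin (m + 1)) F)) := by
  rw [Subgroup.mem_centralizer_singleton_iff]
  apply Units.ext
  show blk 1 s.1 * blk (-1) 1 = blk (-1) 1 * blk 1 s.1
  simp [blk_mul]

def psi : SpecialLinearGroup (Fin m) F →* Subgroup.centralizer ({tt m} : Set (GeneralLinearGroup (Fin (m + 1)) F)) :=
  psi0.codRestrict _ psi0_mem

theorem psi_normal (h2 : (-1 : F) ≠ 1) : ((⊤ : Subgroup (SpecialLinearGroup (Fin m) F)).map psi).Normal := by
  have hb : ∀ g : Subgroup.centralizer ({tt m} : Set (GeneralLinearGroup (Fin (m + 1)) F)),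
      ∃ a B, g.1.1 = blk a B := fun g => ⟨_, _, eq_blk h2 (by
        have := Subgroup.mem_centralizer_singleton_iff.1 g.2
        exact (congrArg Units.val this).symm)⟩
  refine ⟨?_⟩
  rintro _ ⟨s, -, rfl⟩ g
  obtain ⟨a, B, e⟩ := hb g
  obtain ⟨a', B', e'⟩ := hb g⁻¹
  have e1 : blk (a * a') (B * B') = blk 1 1 := by
    rw [← blk_mul, ← e, ← e', blk_one]
    exact congrArg (fun x => x.1.1) (mul_inv_cancel g)
  obtain ⟨e2, e3⟩ := blk_inj e1
  refine ⟨⟨B * s.1 * B', ?_⟩, trivial, ?_⟩
  · have := congrArg det e3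
    rw [det_mul, det_one] at this
    rw [det_mul, det_mul, s.2, mul_one, this]
  · apply Subtype.ext
    apply Units.ext
    show blk 1 (B * s.1 * B') = g.1.1 * blk 1 s.1 * (g⁻¹).1.1
    rw [e, e', blk_mul, blk_mul, mul_one, e2]
end

/-- Let F be a finite field of odd order and n ≥ 3 with (n, |F|) ≠ (3, 3). Then GL(n, F) has a non-central involution t such that C(t) / O(C(t)) has a component. -/
theorem result {F : Type*} [Field F] [Fintype F] [DecidableEq F] (hF : Odd (Fintype.card F)) (n : ℕ) (hn : 3 ≤ n) (h33 : ¬ (n = 3 ∧ Fintype.card F = 3)) : ∃ t : Matrix.GeneralLinearGroup (Fin n) F, orderOf t = 2 ∧ t ∉ Subgroup.center (Matrix.GeneralLinearGroup (Fin n) F) ∧ Cfsg.HasComponent (↥(Subgroup.centralizer ({t} : Set (Matrix.GeneralLinearGroup (Fin n) F))) ⧸ Cfsg.oddCore ↥(Subgroup.centralizer ({t} : Set (Matrix.GeneralLinearGroup (Fin n) F)))) := by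
  obtain ⟨k, rfl⟩ : ∃ k, n = k + 2 + 1 := ⟨n - 3, by omega⟩
  have h2 : (-1 : F) ≠ 1 := by
    intro c
    have c2 : (2 : F) = 0 := by linear_combination -c
    have : ringChar F = 2 := CharP.ringChar_of_prime_eq_zero Nat.prime_two (by exact_mod_cast c2)
    have := FiniteField.even_card_of_char_two this
    obtain ⟨r, hr⟩ := hF
    omega
  obtain ⟨pf, sm⟩ : commutator (SpecialLinearGroup (Fin (k + 2)) F) = ⊤ ∧ IsSimpleGroup (ProjectiveSpecialLinearGroup (Fin (k + 2)) F) := by
    rcases Nat.eq_zero_or_pos k with rfl | c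
    · have h4 : 4 ≤ Fintype.card F := by
        have := Fintype.one_lt_card (α := F)
        obtain ⟨r, hr⟩ := hF
        omega
      obtain ⟨a, h1, h2⟩ := exists_sq_ne_one h4
      exact ⟨SL2.commutator_eq_top h1 (by rwa [sq]), ProjectiveSpecialLinearGroup.rank_two_simple (by simpa using h4)⟩
    · exact ⟨commutator_SL_eq_top (by simp; omega), PSL_simple (by simp; omega)⟩
  have q : H9.QS (⊤ : Subgroup (SpecialLinearGroup (Fin (k + 2)) F)) := H9.qs_top_iff.2 ⟨⟨pf⟩, sm⟩
  refine ⟨tt (k + 2), ?_, ?_, ?_⟩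
  · refine orderOf_eq_prime ?_ ?_
    · apply Units.ext
      show blk (-1) 1 ^ 2 = 1
      rw [sq, blk_mul]; simpa using blk_one
    · intro c
      have : blk (-1 : F) (1 : Matrix (Fin (k + 2)) (Fin (k + 2)) F) = blk 1 1 := by
        rw [blk_one]; exact congrArg Units.val c
      exact h2 (blk_inj this).1
  · intro c
    have e := congrArg Units.val (Subgroup.mem_center_iff.1 c
      (SpecialLinearGroup.toGL ⟨transvection 0 (Fin.succ 0) (1 : F), det_transvection_of_ne _ _ (Fin.succ_ne_zero _).symm _⟩))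
    have e' : transvection 0 (Fin.succ 0) (1 : F) * blk (-1) 1 = blk (-1) (1 : Matrix (Fin (k + 2)) (Fin (k + 2)) F) * transvection 0 (Fin.succ 0) (1 : F) := e
    have e2 := congrFun (congrFun (eq_blk h2 e'.symm) 0) (Fin.succ 0)
    rw [blk0s] at e2
    simp [transvection, one_apply, (Fin.succ_ne_zero _).symm] at e2
  · haveI := psi_normal (m := k + 2) h2
    refine ⟨((⊤ : Subgroup (SpecialLinearGroup (Fin (k + 2)) F)).map psi).map (QuotientGroup.mk' _),
      (this.map _ (QuotientGroup.mk'_surjective _)).isSubnormal, ?_⟩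
    rw [← H9.qs_iff, Subgroup.map_map]
    refine q.map _ ?_
    rw [← Subgroup.map_map, Ne, Subgroup.map_eq_bot_iff, QuotientGroup.ker_mk']
    intro c
    let s : SpecialLinearGroup (Fin (k + 2)) F :=
      ⟨diagonal (Fin.cons (-1) (Fin.cons (-1) 1)), by simp [det_diagonal, Fin.prod_univ_succ]⟩
    have s2 : s ^ 2 = 1 := by
      apply Subtype.ext
      show diagonal (Fin.cons (-1) (Fin.cons (-1) 1) : Fin (k + 2) → F) ^ 2 = 1
      rw [sq, diagonal_mul_diagonal, ← diagonal_one]
      congr 1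
      funext i
      refine Fin.cases ?_ (fun i => Fin.cases ?_ (fun i => ?_) i) i <;> simp
    have m1 := Subgroup.orderOf_dvd_natCard _ (c ⟨s, trivial, rfl⟩)
    have m2 : orderOf (psi s) ∣ 2 := orderOf_dvd_of_pow_eq_one (by rw [← map_pow, s2, map_one])
    have m3 : psi s = 1 := orderOf_eq_one_iff.1 (Nat.eq_one_of_dvd_coprimes (H9.pPrimeCore_cop 2) m1 m2)
    have m4 : blk (1 : F) s.1 = blk 1 1 := by
      rw [blk_one]; exact congrArg (fun x => x.1.1) m3
    have := congrFun (congrFun (blk_inj m4).2 0) 0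
    exact h2 (by simpa [s] using this)


end Cfsg.Agent.S1340
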