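import Cfsg.Statements.S1552
import Cfsg.Agent.H7.M24Orb

set_option autoImplicit false
open scoped Pointwise
open Cfsg

namespace Cfsg.Agent.S1552

open scoped Pointwise
theorem max0 : IsCoatom (MulAction.stabilizer M24 (H7.SSext.dec 0)) :=
  H7.Sys.isCoatom_stabilizer (S := H7.SSext) (hs := [[0, 4, 0, 4, 4, 3], [3, 4, 1, 3, 3, 1]]) (c := [(432, 7, [0]), (1076, 10, [1]), (384, 6, [1, 2])])
    (by decide +kernel) (fun g => H7.SSext.exists_dec H7.closure_S0 g (by decide)) (by
      by_contra hc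
      push Not at hc
      have h := H7.SSext_card
      rw [show MulAction.stabilizer M24 (H7.SSext.dec 0) = ⊤ from eq_top_iff.2 fun g _ => hc g,
        Subgroup.card_top, H7.card_M24] at h
      omega)

def chA : List H7.Level := [(0, 5, [[1, 0, 0, 1, 2, 0], [0, 2, 2, 3, 2, 3]]),
  (2, 1, [[3, 4, 3, 3, 2, 4, 0, 4, 3, 4], [2, 1, 3, 4, 3, 4, 0, 0, 1, 4]]),
  (4, 5, [[2, 2, 3, 4, 3, 4, 3, 2, 2], [1, 0, 4, 3, 4, 0, 0, 0, 0, 0, 1]]),
  (5, 3, [[4, 4, 0, 2, 0, 2, 0, 4, 4], [3, 2, 0, 4, 1, 3, 3, 3, 2, 0, 2, 3], [2, 0, 0, 2, 1, 0, 0, 0, 4, 0, 0, 1, 0]]),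
  (1, 1, [[1, 0, 2, 2, 0, 4, 0, 0, 4, 4, 0, 0, 1], [2, 2, 3, 3, 2, 0, 0, 2, 3, 4, 3, 1, 0, 4]]),
  (6, 2, [[2, 3, 1, 0, 2, 0, 4, 3, 3, 4, 0, 0, 4, 4]])]

theorem genA : MulAction.stabilizer M24 (H7.SSext.dec 0) =
    Subgroup.closure {g | ∃ w ∈ H7.chainWords chA, H7.S0.ev w = g} :=
  H7.Sys.eq_closure_of_chain (S := H7.S0) H7.gC.inj (kp := 2) (by decide) chA _
    (H7.Sys.mem_stabilizer_of_fixAll (S := H7.SSext) (by decide) (by decide +kernel))
    (by rw [H7.SSext_card]; decide +kernel)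

theorem o1 : MulAction.orbit (MulAction.stabilizer M24 (H7.SSext.dec 0)) (H7.SSext.dec 39) =
    H7.dset H7.SSext.n H7.SSext.dec (nat_lit 0x402000000000080000020000a82000c00000000000000081000000002000800078000000000000000000000000004001000000000002000100000201c000000000000000000000000100020000004000100000000040000000000000200003c0000000000000000000000000000000000000000000000000000000090120010100000400000000404000000000000000000002400202000000080000fc00000010000000fc0000002020000000000000007e000000fc000000010000000fc0000000000000000000000001f8000000000) ∧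
    (MulAction.orbit (MulAction.stabilizer M24 (H7.SSext.dec 0)) (H7.SSext.dec 39)).ncard = 90 :=
  H7.orbit_pack (S := H7.SSext) H7.SSext_inj (kp := 8) (by decide) genA (r := 1) (by decide +kernel)

theorem o2 : MulAction.orbit (MulAction.stabilizer M24 (H7.SSext.dec 0)) (H7.SSext.dec 1) =
    H7.dset H7.SSext.n H7.SSext.dec (nat_lit 0x300000449004010000010004138210120101000000006001000bf804100802411005004000010100008000000040018408088010210441100140080404208400002010000880200004001018088041404108100024800100000802208001010030000020008c040000000001e110010a284000420020408a4810400881000900209009000820207240801040010009090d0812100080010048002104000001000880040010207e000020111000400000004003c04800200080880010878010000003c40042000080000020003e2100028004003c40000007a000781fe) ∧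
    (MulAction.orbit (MulAction.stabilizer M24 (H7.SSext.dec 0)) (H7.SSext.dec 1)).ncard = 240 :=
  H7.orbit_pack (S := H7.SSext) H7.SSext_inj (kp := 8) (by decide) genA (r := 2) (by decide +kernel)

theorem o3 : MulAction.orbit (MulAction.stabilizer M24 (H7.SSext.dec 0)) (H7.SSext.dec 9) =
    H7.dset H7.SSext.n H7.SSext.dec (nat_lit 0x7fcfffffbb6ffbfefffffefffbac5defedfefef7fffffd9ffe57d4073beff7fdbeeffaff3efffefeffdf7f7fff87bffe7bf7f77fefdefbbeeffebfb7fafbdf7bffffddeffef77fddfe3bffefe7f77fbebfbef7efffda7ffcfffff7bddf6ffefeffcfbfffdfff73fbffdffffc3e1eeffef5d7bfffbdffdfbf75b7efbff77efff6ffdf6ff6fff7dfdf84be5feebefefff2f6f2f7edafbf7ffeffb7ffdefbfffffcbff57dfbffefd781ff03dfeeefefbfffff03bffc3f97dfdfff7f77ffef7801efffff003bffbdfeff7ffff01fffc1defffd7ffbffc3bffffe005fff87e00) ∧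
    (MulAction.orbit (MulAction.stabilizer M24 (H7.SSext.dec 0)) (H7.SSext.dec 9)).ncard = 1440 :=
  H7.orbit_pack (S := H7.SSext) H7.SSext_inj (kp := 8) (by decide) genA (r := 2) (by decide +kernel)

theorem memSext (g : M24) {j : ℕ} (hj : j < H7.SSext.n) : g • H7.SSext.dec j ∈ sextets := by
  rw [H7.smul_mem_sextets_iff, H7.sextets_eq]; exact H7.dec_mem_ones _ hj

/-- A sextet stabiliser has four orbits on the 1771 sextets, of sizes 1, 90, 240, 1440; and the stabiliser is a maximal proper subgroup. -/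
theorem result (S : Finset (Finset Cfsg.GolayPt)) (hS : S ∈ Cfsg.sextets) : ∃ X₁ ∈ Cfsg.sextets, ∃ X₂ ∈ Cfsg.sextets, ∃ X₃ ∈ Cfsg.sextets, (MulAction.orbit ↥(MulAction.stabilizer Cfsg.M24 S) X₁).ncard = 90 ∧ (MulAction.orbit ↥(MulAction.stabilizer Cfsg.M24 S) X₂).ncard = 240 ∧ (MulAction.orbit ↥(MulAction.stabilizer Cfsg.M24 S) X₃).ncard = 1440 ∧ Cfsg.sextets = {S} ∪ MulAction.orbit ↥(MulAction.stabilizer Cfsg.M24 S) X₁ ∪ MulAction.orbit ↥(MulAction.stabilizer Cfsg.M24 S) X₂ ∪ MulAction.orbit ↥(MulAction.stabilizer Cfsg.M24 S) X₃ ∧ IsCoatom (MulAction.stabilizer Cfsg.M24 S) := by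
  obtain ⟨g, rfl⟩ := H7.exists_smul_sext' hS
  exact ⟨g • H7.SSext.dec 39, memSext g (by decide), g • H7.SSext.dec 1, memSext g (by decide), g • H7.SSext.dec 9, memSext g (by decide),
    by rw [H7.orbit_smul_stabilizer, Set.ncard_smul_set, o1.2], by rw [H7.orbit_smul_stabilizer, Set.ncard_smul_set, o2.2], by rw [H7.orbit_smul_stabilizer, Set.ncard_smul_set, o3.2],
    by
      rw [H7.orbit_smul_stabilizer, H7.orbit_smul_stabilizer, H7.orbit_smul_stabilizer, o1.1, o2.1, o3.1,
        ← Set.smul_set_singleton, ← H7.dset_bit (n := H7.SSext.n) _ (by decide), ← Set.smul_set_union, ← Set.smul_set_union, ← Set.smul_set_union,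
        ← H7.dset_or, ← H7.dset_or, ← H7.dset_or]
      rw [← H7.smul_sextets g, H7.sextets_eq]
      exact congrArg (fun x => g • H7.dset _ _ x) (by decide +kernel),
    H7.isCoatom_stabilizer_smul max0 g⟩

end Cfsg.Agent.S1552
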