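import Cfsg.Statements.S1559
import Cfsg.Agent.H7.M24Orb

set_option autoImplicit false
open scoped Pointwise
open Cfsg

namespace Cfsg.Agent.S1559

open scoped Pointwise
theorem max0 : IsCoatom (MulAction.stabilizer M24 (H7.STrio.dec 0)) :=
  H7.Sys.isCoatom_stabilizer (S := H7.STrio) (hs := [[4, 1, 3, 2], [3, 4, 1, 3, 2, 0, 4, 3]]) (c := [(270, 6, [1, 0, 2]), (1147, 11, [0]), (671, 10, [0, 0]), (1653, 7, [1])])
    (by decide +kernel) (fun g => H7.STrio.exists_dec H7.closure_S0 g (by decide)) (by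
      by_contra hc
      push Not at hc
      have h := H7.STrio_card
      rw [show MulAction.stabilizer M24 (H7.STrio.dec 0) = ⊤ from eq_top_iff.2 fun g _ => hc g,
        Subgroup.card_top, H7.card_M24] at h
      omega)

def chA : List H7.Level := [(0, 4, [[3, 4, 1, 3, 2, 0, 4, 3], [2, 1, 4, 4, 3, 2]]),
  (1, 2, [[0, 2, 3, 4, 1, 0, 1, 4, 0, 0, 0], [2, 1, 0, 0, 0, 2, 2, 3, 1, 2]]),
  (2, 2, [[2, 3, 3, 1, 0, 2, 3, 2, 3, 4, 0, 4], [4, 0, 0, 4, 3, 3, 3, 1, 2, 3, 3, 1]]),
  (5, 2, [[0, 2, 3, 2, 2, 3, 2, 0, 4, 3, 4, 3, 4], [2, 2, 0, 4, 3, 2, 3, 1, 4, 4, 3, 4, 0, 2], [3, 2, 3, 3, 4, 4, 3, 2, 3, 1, 0, 0, 1, 4], [4, 4, 1, 0, 0, 4, 4, 3, 4, 0, 0, 1, 4, 4]]),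
  (3, 1, [[1, 0, 0, 4, 0, 2, 0, 0, 0, 2, 2, 0, 0, 1, 4], [2, 0, 2, 3, 3, 1, 0, 4, 0, 4, 3, 2, 0, 4, 0, 4]])]

theorem genA : MulAction.stabilizer M24 (H7.STrio.dec 0) =
    Subgroup.closure {g | ∃ w ∈ H7.chainWords chA, H7.S0.ev w = g} :=
  H7.Sys.eq_closure_of_chain (S := H7.S0) H7.gC.inj (kp := 2) (by decide) chA _
    (H7.Sys.mem_stabilizer_of_fixAll (S := H7.STrio) (by decide) (by decide +kernel))
    (by rw [H7.STrio_card]; decide +kernel)

theorem o1 : MulAction.orbit (MulAction.stabilizer M24 (H7.STrio.dec 0)) (H7.STrio.dec 1) =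
    H7.dset H7.STrio.n H7.STrio.dec (nat_lit 0x7ffe000000000000000000000000000000000000000000000000000000000000000000000000000000000000000000000000000000000000000000000000000000000000000000000000000000000000000000000000000000000000000000000040008000000000000020004000000000000000000000000000040020000000000000000000000000000000000000000800100000000000000000000000001000200000000000000000000000000000000100008000000000000000000000000000000000000200040000000000000000000000000000000000000000000000000000000000000007ffe) ∧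
    (MulAction.orbit (MulAction.stabilizer M24 (H7.STrio.dec 0)) (H7.STrio.dec 1)).ncard = 42 :=
  H7.orbit_pack (S := H7.STrio) H7.STrio_inj (kp := 9) (by decide) genA (r := 1) (by decide +kernel)

theorem o2 : MulAction.orbit (MulAction.stabilizer M24 (H7.STrio.dec 0)) (H7.STrio.dec 273) =
    H7.dset H7.STrio.n H7.STrio.dec (nat_lit 0x18006000000000600140000000000000000180060000000000000180060000000000000000000000000000500600000000000000000000000000018006000000000000000000180120000000000000000000000000000005000c000000000000003000600000000000000000000000000018002400000000000000000000000000000000000003000600000000000000000000000000006000c00000000000000000000000000000001200300000000000000000000000000000000000003000600000000000000000000000000000000000000000000000000000000000000000000) ∧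
    (MulAction.orbit (MulAction.stabilizer M24 (H7.STrio.dec 0)) (H7.STrio.dec 273)).ncard = 56 :=
  H7.orbit_pack (S := H7.STrio) H7.STrio_inj (kp := 9) (by decide) genA (r := 1) (by decide +kernel)

theorem o3 : MulAction.orbit (MulAction.stabilizer M24 (H7.STrio.dec 0)) (H7.STrio.dec 16) =
    H7.dset H7.STrio.n H7.STrio.dec (nat_lit 0x127fa140804244000040800012004080000010908000217f8018180000408000007fff80000006067f92034800003004920003210004d050000c48000000004820a08484803000480c05028004c1410000000c04804848000c04c800000048000491117f80000060600c01818000007fff818622221860000600c42802800c47ff8480018018c40050000048484800c400005000548040c4120005005000048280500050c400028000485020a4122800480050c40000000048280282802800c40487ffe00600000220a20c800600180018018000c40004800060060180180001109108000000480048049806007fffff8000140a140c017fe7ff989109047f9ffeaa00a4108500911ffe7ff80c1005200a89107ff9ffe00d091085042108820052140faff9fea00a41103040c00c10034c017e7ff9fa140904000109042467fedfea00c80400d028212124104280029affb3ff24102221090fcfdf9f980200680c1214024400036009e7fbdbd060800d091103020604211084001a05021210fff1ffe90094008910428090401827ff8fff1400940124104141048048800076009fecffcf0282050401480292140881088208840888ffcdff99802002a00540a0828108881110001e204440841410480182004c0099400a8010000)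 ∧
    (MulAction.orbit (MulAction.stabilizer M24 (H7.STrio.dec 0)) (H7.STrio.dec 16)).ncard = 1008 :=
  H7.orbit_pack (S := H7.STrio) H7.STrio_inj (kp := 9) (by decide) genA (r := 2) (by decide +kernel)

theorem o4 : MulAction.orbit (MulAction.stabilizer M24 (H7.STrio.dec 0)) (H7.STrio.dec 15) =
    H7.dset H7.STrio.n H7.STrio.dec (nat_lit 0x6d805ebf7fbdbbffffbf7fffedffbf7fffffef6f7fffde807fe7e7ffffbf7fffff80007ffffff9f9806dfcb7ffffcffb6dfffcdefffb2faffff3b7ffffffffb7df5f7b7b7fcfffb7f3fafd7ffb3ebefffffff3fb7fb7b7fff3fb37ffffffb7fffb6eee807fffff9f9ff3fe7e7fffff80007e79dddde79ffff9ff3bd7fd7ff3b8007b7ffe7fe73bffafffffb7b7b7ff3bffffafffab7fbf3bedfffaffaffffb7d7fafffaf3bfffd7fffb7afdf5bedd7ffb7ffaf3bffffffffb7d7fd7d7fd7ff3bfb78001ff9fffffddf5df37ff9ffe7ffe7fe7fff3bfffb7fff9ff9fe7fe7fffeef6ef7ffffffb7ffb7fb67f9ff8000000001ebf5ebf3fe800000076ef6fb80000015ff5bef7aff6ee0000001f3effadff576ee0000001ff2f6ef7afbdef77dffadebf00000015ff5beefcfbf3ff3effcb3fe80000005ebf6fbfffef6fbdb80000015ff37fbff2fd7dededbefbd7ffd600000005befdddef6f000000027fdff97f3edebfdbbfffc9ff60000000f9f7ff2f6eefcfdf9fbdeef7bffe5fafdedec00000006ff6bff76efbd7f6fbfe7d80000000bff6bfedbefbebefb7fb77fff89ff600000007d7dfafbfeb7fd6debf77ef77df77bf777000000027fdffd5ffabf5f7d7ef777eeefffe1dfbbbf7bebefb7fe7dffb3ff66bff57fe8000)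 ∧
    (MulAction.orbit (MulAction.stabilizer M24 (H7.STrio.dec 0)) (H7.STrio.dec 15)).ncard = 2688 :=
  H7.orbit_pack (S := H7.STrio) H7.STrio_inj (kp := 9) (by decide) genA (r := 2) (by decide +kernel)

theorem memTrio (g : M24) {j : ℕ} (hj : j < H7.STrio.n) : g • H7.STrio.dec j ∈ trios := by
  rw [H7.smul_mem_trios_iff, H7.trios_eq]; exact H7.dec_mem_ones _ hj

/-- A trio stabiliser has five orbits on the 3795 trios, of sizes 1, 42, 56, 1008, 2688; and the stabiliser is a maximal proper subgroup. -/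
theorem result (T : Finset (Finset Cfsg.GolayPt)) (hT : T ∈ Cfsg.trios) : ∃ X₁ ∈ Cfsg.trios, ∃ X₂ ∈ Cfsg.trios, ∃ X₃ ∈ Cfsg.trios, ∃ X₄ ∈ Cfsg.trios, (MulAction.orbit ↥(MulAction.stabilizer Cfsg.M24 T) X₁).ncard = 42 ∧ (MulAction.orbit ↥(MulAction.stabilizer Cfsg.M24 T) X₂).ncard = 56 ∧ (MulAction.orbit ↥(MulAction.stabilizer Cfsg.M24 T) X₃).ncard = 1008 ∧ (MulAction.orbit ↥(MulAction.stabilizer Cfsg.M24 T) X₄).ncard = 2688 ∧ Cfsg.trios = {T} ∪ MulAction.orbit ↥(MulAction.stabilizer Cfsg.M24 T) X₁ ∪ MulAction.orbit ↥(MulAction.stabilizer Cfsg.M24 T) X₂ ∪ MulAction.orbit ↥(MulAction.stabilizer Cfsg.M24 T) X₃ ∪ MulAction.orbit ↥(MulAction.stabilizer Cfsg.M24 T) X₄ ∧ IsCoatom (MulAction.stabilizer Cfsg.M24 T) := by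
  obtain ⟨g, rfl⟩ := H7.exists_smul_trio' hT
  exact ⟨g • H7.STrio.dec 1, memTrio g (by decide), g • H7.STrio.dec 273, memTrio g (by decide), g • H7.STrio.dec 16, memTrio g (by decide), g • H7.STrio.dec 15, memTrio g (by decide),
    by rw [H7.orbit_smul_stabilizer, Set.ncard_smul_set, o1.2], by rw [H7.orbit_smul_stabilizer, Set.ncard_smul_set, o2.2], by rw [H7.orbit_smul_stabilizer, Set.ncard_smul_set, o3.2], by rw [H7.orbit_smul_stabilizer, Set.ncard_smul_set, o4.2],
    by
      rw [H7.orbit_smul_stabilizer, H7.orbit_smul_stabilizer, H7.orbit_smul_stabilizer, H7.orbit_smul_stabilizer, o1.1, o2.1, o3.1, o4.1,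
        ← Set.smul_set_singleton, ← H7.dset_bit (n := H7.STrio.n) _ (by decide), ← Set.smul_set_union, ← Set.smul_set_union, ← Set.smul_set_union, ← Set.smul_set_union,
        ← H7.dset_or, ← H7.dset_or, ← H7.dset_or, ← H7.dset_or]
      rw [← H7.smul_trios g, H7.trios_eq]
      exact congrArg (fun x => g • H7.dset _ _ x) (by decide +kernel),
    H7.isCoatom_stabilizer_smul max0 g⟩

end Cfsg.Agent.S1559
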