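import Cfsg.Statements.S1682
import Cfsg.Agent.H8.KHe
-- import your own Cfsg.Agent.* helpers here

set_option autoImplicit false
open Cfsg

namespace Cfsg.Agent.S1682

/-- In the presented Held group, the subgroup H generated by the images of a, c, d, e, f, (ab)^2 and (bcde)^7 has a normal subgroup of index 2 isomorphic to the 4-dimensional symplectic group over a field with four elements. -/
theorem result : ∃ (N : Subgroup (((Subgroup.closure ({Cfsg.Spor.He.a, Cfsg.Spor.He.c, Cfsg.Spor.He.d, Cfsg.Spor.He.e, Cfsg.Spor.He.f, (Cfsg.Spor.He.a * Cfsg.Spor.He.b) ^ 2, (Cfsg.Spor.He.b * Cfsg.Spor.He.c * Cfsg.Spor.He.d * Cfsg.Spor.He.e) ^ 7} : Set (FreeGroup Cfsg.Spor.He.Gen))).map (PresentedGroup.mk (Cfsg.Spor.coxRelators Cfsg.Spor.He.edges ∪ {r | r ∈ Cfsg.Spor.He.extra}))))) (K : Type) (_ : Field K) (_ : Fintype K), N.Normal ∧ N.index = 2 ∧ Fintype.card K = 4 ∧ Nonempty (N ≃* Matrix.symplecticGroup (Fin 2) K) := by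
  
  open H7 H7.T Cfsg.Spor.He in
  rw [map_closure_eq hall_He let_He [a, c, d, e, f, (a * b) ^ 2, (b * c * d * e) ^ 7] (by simp),
    show [a, c, d, e, f, (a * b) ^ 2, (b * c * d * e) ^ 7].map (trW idx_He iv_HE0) = [[0],[2],[3],[4],[5],[0,1,0,1],
      [1,2,3,4,1,2,3,4,1,2,3,4,1,2,3,4,1,2,3,4,1,2,3,4,1,2,3,4]] by decide +kernel]
  haveI := H7.T.top_He.1
  letI : Fintype (GaloisField 2 2) := Fintype.ofFinite _
  have hF : Fintype.card (GaloisField 2 2) = 4 := by rw [← Nat.card_eq_fintype_card, GaloisField.card 2 2 (by norm_num)]; norm_num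
  erw [H7.T.stab_He.1]
  obtain ⟨N, h1, h2⟩ := H8.He.stabS44 H8.He.stdS hF
  exact ⟨N, _, _, _, N.normal_of_index_eq_two h1, h1, hF, h2⟩

end Cfsg.Agent.S1682
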