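import Cfsg.Statements.S1910
import Cfsg.Agent.H2.T1
import Cfsg.Agent.H9.Fus

set_option autoImplicit false
open Cfsg

namespace Cfsg.Agent.S1910

open Subgroup H9 in

/-- Let Q be a tightly embedded subgroup of a finite group G, g an element outside N_G(Q), T a nontrivial Sylow 2-subgroup of Q^g ∩ N_G(Q), and S a Sylow 2-subgroup of QT containing T. Then T ∩ Q = 1, and N_S(T) is the direct product of T and N_S(T) ∩ Q, with N_S(T) ∩ Q isomorphic to T. -/
theorem result {G : Type*} [Group G] [Finite G] (Q : Subgroup G) (hQ : Cfsg.IsTightlyEmbedded Q)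
    (g : G) (hg : g ∉ Subgroup.normalizer (Q : Set G))
    (T : Subgroup G) (hT1 : T ≠ ⊥) (hT : T ≤ Q.map (MulAut.conj g).toMonoidHom ⊓ Subgroup.normalizer (Q : Set G))
    (hTsyl : IsPGroup 2 T ∧ ¬ 2 ∣ T.relIndex (Q.map (MulAut.conj g).toMonoidHom ⊓ Subgroup.normalizer (Q : Set G)))
    (S : Subgroup G) (hTS : T ≤ S) (hS : S ≤ Q ⊔ T) (hSsyl : IsPGroup 2 S ∧ ¬ 2 ∣ S.relIndex (Q ⊔ T)) :
    T ⊓ Q = ⊥ ∧
      T ⊓ (S ⊓ Subgroup.normalizer (T : Set G) ⊓ Q) = ⊥ ∧
      ⁅T, S ⊓ Subgroup.normalizer (T : Set G) ⊓ Q⁆ = ⊥ ∧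
      T ⊔ (S ⊓ Subgroup.normalizer (T : Set G) ⊓ Q) = S ⊓ Subgroup.normalizer (T : Set G) ∧
      Nonempty (↥(S ⊓ Subgroup.normalizer (T : Set G) ⊓ Q) ≃* T) := by
  haveI : Fact (Nat.Prime 2) := ⟨Nat.prime_two⟩
  change T ≤ cj g Q ⊓ _ at hT
  have hTs : Syl 2 T (cj g Q ⊓ normalizer (Q : Set G)) := ⟨hT, hTsyl.1, hTsyl.2⟩
  have hSs : Syl 2 S (Q ⊔ T) := ⟨hS, hSsyl.1, hSsyl.2⟩
  have ti : ∀ (k x : G) (U : Subgroup G), IsPGroup 2 U → U ≤ cj k Q → U ≤ cj x (cj k Q) → U ≠ ⊥ →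
      x ∈ normalizer (cj k Q : Set G) := fun k x U a1 a2 a3 a4 => by
    by_contra h
    have := hQ.2 (k⁻¹ * x * k) fun e => h (by rw [← cj_normalizer]; exact mem_cj.2 e)
    refine Nat.not_even_iff_odd.2 this (even_iff_two_dvd.2 ((dvd_card_of_isPGroup (isPGroup_cj k⁻¹ a1)
      (mt cj_eq_bot_iff.1 a4)).trans (card_dvd_of_le (le_inf (le_cj_iff.1 a2) ?_))))
    change _ ≤ cj _ Q
    rw [cj_mul, cj_mul]
    exact cj_mono _ a3
  have c1 : cj (1 : G) Q = Q := cj_eq_of_mem (one_mem Q)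
  have t1 := hT.trans inf_le_left
  have t2 := hT.trans inf_le_right
  have d0 : T ⊓ Q = ⊥ := by
    by_contra h
    exact hg (c1 ▸ ti 1 g (T ⊓ Q) (hTs.isP.to_le inf_le_left) (c1.symm ▸ inf_le_right)
      (c1.symm ▸ inf_le_left.trans t1) h)
  have s1 : S ≤ normalizer (Q : Set G) := hS.trans (sup_le le_normalizer t2)
  set R := S ⊓ normalizer (T : Set G) ⊓ Q with hR
  have r1 : R ≤ normalizer (T : Set G) := inf_le_left.trans inf_le_right
  have r2 : R ≤ S := inf_le_left.trans inf_le_left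
  have d1 : T ⊓ R = ⊥ := eq_bot_iff.2 ((inf_le_inf le_rfl inf_le_right).trans d0.le)
  have d2 : ⁅T, R⁆ = ⊥ := eq_bot_iff.2 ((le_inf (commutator_le_left' r1) ((commutator_mono le_rfl inf_le_right).trans
    (commutator_le_right' t2))).trans d0.le)
  have d3 : T ⊔ R = S ⊓ normalizer (T : Set G) := by
    have := dedekind (A := T) (B := Q) (C := S ⊓ normalizer (T : Set G)) (le_inf hTS le_normalizer) (Or.inl t2)
    rw [inf_eq_right.2 (inf_le_left.trans (hS.trans (sup_comm _ _).le)), inf_comm Q] at this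
    exact this.symm
  refine ⟨d0, d1, d2, d3, ?_⟩
  have tr : T ≤ normalizer (R : Set G) := (commutator_eq_bot_iff_le_centralizer.1 d2).trans (centralizer_le_normalizer' R)
  have pD : IsPGroup 2 (T ⊔ R : Subgroup G) := hSs.isP.to_le (sup_le hTS r2)
  have cD := H1.card_sup_of_disjoint tr d1
  have q0 : Syl 2 (S ⊓ Q) Q := hSs.inf_normal le_sup_left (sup_le le_normalizer t2)
  have rn : R ≤ normalizer (cj g Q : Set G) := fun x hx => ti g x T hTs.isP t1
    ((mem_normalizer_iff_cj.1 (r1 hx)).ge.trans (cj_mono x t1)) hT1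
  obtain ⟨P, p1, p2⟩ := exists_syl_ge pD (sup_le_sup_right t1 R)
  have p3 : Syl 2 (P ⊓ cj g Q) (cj g Q) := p1.inf_normal le_sup_left (sup_le le_normalizer rn)
  have ce : Nat.card (P ⊓ cj g Q : Subgroup G) = Nat.card (S ⊓ Q : Subgroup G) := by
    rw [p3.card_eq_card (q0.cj g), card_cj]
  have rq : R ≤ S ⊓ Q := le_inf r2 inf_le_right
  have tp : T ≤ P ⊓ cj g Q := le_inf (le_sup_left.trans p2) t1
  have big : ∀ {A B X : Subgroup G}, IsPGroup 2 X → A ⊔ B ≤ X → ∀ C ≤ X, B < C → X ≤ A ⊔ C → X ≤ normalizer (C : Set G) →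
      A ⊓ C = ⊥ → ∃ x ∈ C, x ∉ B ∧ x ∈ normalizer ((A ⊔ B : Subgroup G) : Set G) := fun {A B X} a1 a2 C a3 a4 a5 a6 a7 => by
    by_contra! h
    have b0 : A ≤ X := le_sup_left.trans a2
    have b1 : ∀ Y, A ≤ Y → (A ⊔ C) ⊓ Y = A ⊔ (C ⊓ Y) := fun Y hY => dedekind hY (Or.inl (b0.trans a6))
    have b2 : (A ⊔ B) ⊓ C = B := by
      refine le_antisymm (fun y hy => by_contra fun e => h y hy.2 e (le_normalizer hy.1)) (le_inf le_sup_right a4.le)
    have b3 : A ⊔ B < X := lt_of_le_of_ne a2 fun e => a4.not_ge ((le_inf (a3.trans e.ge) le_rfl).trans b2.le)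
    refine (lt_inf_normalizer_of_p a1 b3).not_ge ((inf_le_inf a5 le_rfl).trans ((b1 _ (le_sup_left.trans le_normalizer)).le.trans
      (sup_le_sup_left (fun y hy => by_contra fun e => h y hy.1 e hy.2) A)))
  have le1 : Nat.card R ≤ Nat.card T := by
    rcases tp.lt_or_eq with h | h
    swap
    · rw [h, ce]; exact card_le_of_le rq
    obtain ⟨u, u1, u2, u3⟩ := big (A := R) (B := T) (X := R ⊔ (P ⊓ cj g Q)) (p1.isP.to_le (sup_le (le_sup_right.trans p2)
      inf_le_left)) (sup_le_sup_left tp R) _ le_sup_right h le_rfl (sup_le (normalizer_inf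
        ((le_sup_right.trans p2).trans le_normalizer) rn) le_normalizer) (by
          by_contra h0
          exact hg (c1 ▸ ti 1 g _ (pD.to_le (inf_le_left.trans le_sup_right)) (c1.symm ▸ inf_le_left.trans inf_le_right)
            (c1.symm ▸ inf_le_right.trans inf_le_right) h0))
    have u4 : u ∉ normalizer (Q : Set G) := fun e => u2 ((hTs.maximal (p3.isP.to_le inf_le_left) (inf_le_inf inf_le_right le_rfl)
      (le_inf tp t2)).le ⟨u1, e⟩)
    have u5 : cj u R ⊓ R = ⊥ := by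
      by_contra h0
      exact u4 (c1 ▸ ti 1 u _ (pD.to_le (inf_le_right.trans le_sup_right)) (c1.symm ▸ inf_le_right.trans inf_le_right)
        (c1.symm ▸ inf_le_left.trans (cj_mono u inf_le_right)) h0)
    have u6 : cj u R ≤ T ⊔ R := (cj_mono u le_sup_left).trans ((mem_normalizer_iff_cj.1 u3).le.trans (sup_comm _ _).le)
    have := card_le_of_le (sup_le u6 le_sup_right)
    rw [H1.card_sup_of_disjoint (u6.trans (sup_le tr le_normalizer)) u5, card_cj, cD] at this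
    exact Nat.le_of_mul_le_mul_right this Nat.card_pos
  rcases rq.lt_or_eq with h | h
  swap
  · obtain ⟨x, -, h1⟩ := q0.exists_cj_le (isPGroup_cj g⁻¹ hTs.isP) (le_cj_iff.1 t1)
    rw [← cj_mul, ← h] at h1
    rw [← eq_of_le_of_card_le h1 (by rwa [card_cj])]
    exact ⟨(cjEquiv _ _).symm⟩
  obtain ⟨x, x1, x2, x3⟩ := big (A := T) (B := R) (X := S) hSs.isP (sup_le hTS r2) _ inf_le_left h (by
      have := dedekind (A := T) (B := Q) (C := S) hTS (Or.inl t2)
      rw [inf_eq_right.2 (hS.trans (sup_comm _ _).le), inf_comm Q] at this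
      exact this.le) (normalizer_inf le_normalizer s1) (eq_bot_iff.2 ((inf_le_inf le_rfl inf_le_right).trans d0.le))
  have x4 : cj x T ≤ T ⊔ R := (cj_mono x le_sup_left).trans (mem_normalizer_iff_cj.1 x3).le
  have x5 : cj x T ⊓ T = ⊥ := by
    by_contra h0
    have e1 := mem_normalizer_iff_cj.1 (ti g x _ (hTs.isP.to_le inf_le_right) (inf_le_right.trans t1)
      (inf_le_left.trans (cj_mono x t1)) h0)
    have e2 : S ⊓ cj g Q = T := hTs.maximal (hSs.isP.to_le inf_le_left) (by rw [inf_comm]; exact inf_le_inf le_rfl s1)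
      (le_inf hTS t1)
    exact x2 ⟨⟨x1.1, mem_normalizer_iff_cj.2 (by rw [← e2, cj_inf, e1, cj_eq_of_mem x1.1])⟩, x1.2⟩
  have nT : T ⊔ R ≤ normalizer (T : Set G) := sup_le le_normalizer r1
  obtain ⟨e⟩ := H2T.equiv_of_compl r1 (x4.trans nT) ((inf_comm _ _).trans d1) x5 (by
    refine (eq_of_le_of_card_le (sup_le (x4.trans (sup_comm _ _).le) le_sup_right) ?_).symm
    rw [H1.card_sup_of_disjoint (x4.trans nT) x5, H1.card_sup_of_disjoint r1 ((inf_comm _ _).trans d1), card_cj]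
    exact Nat.mul_le_mul_right _ le1)
  exact ⟨e.trans (cjEquiv _ _).symm⟩

end Cfsg.Agent.S1910
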