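import Cfsg.Statements.S1921
import Cfsg.Agent.H9.Comp
import Cfsg.Agent.H1.Invol

set_option autoImplicit false
open Cfsg

namespace Cfsg.Agent.S1921

open Subgroup H9 in

/-- Let a be an involution of a finite group H and L a component of H with a L a⁻¹ ≠ L; put M = ⟨L, aLa⁻¹⟩ and let J be the subgroup generated by the elements x · a x a⁻¹ with x ∈ L (the diagonal). Then every element of M outside J·Z(M) generates M together with J. -/
theorem result {H : Type*} [Group H] [Finite H] (a : H) (ha : orderOf a = 2) (L : Subgroup H) (hL : Cfsg.IsComponent L)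
    (hLa : L.map (MulAut.conj a).toMonoidHom ≠ L) (x : H) (hxM : x ∈ L ⊔ L.map (MulAut.conj a).toMonoidHom)
    (hxJ : x ∉ Subgroup.closure {y : H | ∃ l ∈ L, y = l * (a * l * a⁻¹)} ⊔
      ((L ⊔ L.map (MulAut.conj a).toMonoidHom) ⊓ Subgroup.centralizer ((L ⊔ L.map (MulAut.conj a).toMonoidHom : Subgroup H) : Set H))) :
    Subgroup.closure {y : H | ∃ l ∈ L, y = l * (a * l * a⁻¹)} ⊔ Subgroup.zpowers x = L ⊔ L.map (MulAut.conj a).toMonoidHom := by
  have hK := comp_top_iff.2 hL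
  change cj a L ≠ L at hLa
  change x ∈ L ⊔ cj a L at hxM
  change x ∉ _ ⊔ ((L ⊔ cj a L) ⊓ centralizer ((L ⊔ cj a L : Subgroup H) : Set H)) at hxJ
  change _ = L ⊔ cj a L
  have c : cj a L ≤ centralizer (L : Set H) := commutator_eq_bot_iff_le_centralizer.1
    (((hK.cj_of_mem (g := a) (le_normalizer (mem_top a))).eq_or_comm hK).resolve_left hLa)
  set J := closure {y : H | ∃ l ∈ L, y = l * (a * l * a⁻¹)} with hJ
  have j1 : ∀ l ∈ L, l * (a * l * a⁻¹) ∈ J := fun l hl => subset_closure ⟨l, hl, rfl⟩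
  refine le_antisymm (sup_le ((closure_le _).2 ?_) (zpowers_le.2 hxM)) ?_
  · rintro _ ⟨l, hl, rfl⟩
    exact mul_mem (mem_sup_left hl) (mem_sup_right (conj_mem_cj hl))
  obtain ⟨u, hu, v, hv, rfl⟩ := (mem_sup_of_le_normalizer' (c.trans (centralizer_le_normalizer' L))).1 hxM
  obtain ⟨w, hw, rfl⟩ := hv
  change u * (a * w * a⁻¹) ∉ _ at hxJ
  change _ ≤ J ⊔ zpowers (u * (a * w * a⁻¹))
  have e : u * (a * w * a⁻¹) = u * w⁻¹ * (w * (a * w * a⁻¹)) := by group
  have h1 : L ≤ J ⊔ zpowers (u * (a * w * a⁻¹)) := by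
    refine ((hK.qs.normal (L ⊓ (J ⊔ zpowers (u * (a * w * a⁻¹)))) inf_le_left (le_normalizer_of_cj_le fun l hl => ?_)).resolve_right
      fun h => hxJ ?_).ge.trans inf_le_right
    · rintro _ ⟨y, hy, rfl⟩
      refine mem_inf.2 ⟨mul_mem (mul_mem hl hy.1) (inv_mem hl), ?_⟩
      have := mul_mem (mul_mem (mem_sup_left (j1 l hl)) hy.2) (inv_mem (mem_sup_left (j1 l hl)))
      rw [mul_assoc l, ← c (conj_mem_cj hl) y hy.1] at this
      change l * y * l⁻¹ ∈ _
      rwa [show l * (y * (a * l * a⁻¹)) * (l * (a * l * a⁻¹))⁻¹ = l * y * l⁻¹ by group] at this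
    · have m : u * w⁻¹ ∈ L := mul_mem hu (inv_mem hw)
      rw [e]
      refine mul_mem (mem_sup_right ⟨mem_sup_left m, ?_⟩) (mem_sup_left (j1 w hw))
      rw [H9.centralizer_sup]
      refine ⟨h ⟨m, ?_⟩, le_centralizer_iff.1 c m⟩
      rw [eq_mul_inv_of_mul_eq e.symm]
      exact (J ⊔ zpowers (u * (a * w * a⁻¹))).mul_mem (mem_sup_right (mem_zpowers _)) (inv_mem (mem_sup_left (j1 w hw)))
  refine sup_le h1 ?_
  rintro _ ⟨l, hl, rfl⟩
  exact (mul_mem_cancel_left (h1 hl)).1 (mem_sup_left (j1 l hl))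

end Cfsg.Agent.S1921
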