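import Cfsg.Statements.S1922
import Cfsg.Agent.H2.UFix
import Cfsg.Agent.H5.SmallGp

set_option autoImplicit false
open Cfsg

namespace Cfsg.Agent.S1922

open Subgroup Cfsg.Agent.H2
open scoped Pointwise

/-- Let z be an involution of a finite group G and H a proper subgroup such that z lies in gHg⁻¹ exactly when g ∈ H. Then the following are equivalent: (1) for every conjugate t ≠ z of z commuting with z, the product zt lies in gHg⁻¹ exactly when g ∈ H; (2) z lies in the centre of some Sylow 2-subgroup of G, and for every conjugate t ≠ z of z commuting with z, the centralizer of zt is contained in H. -/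
theorem result {G : Type*} [Group G] [Finite G] (z : G) (hz : orderOf z = 2) (H : Subgroup G) (hH : H ≠ ⊤)
    (h0 : ∀ g : G, z ∈ H.map (MulAut.conj g).toMonoidHom ↔ g ∈ H) :
    (∀ t : G, IsConj z t → t ≠ z → t * z = z * t → ∀ g : G, z * t ∈ H.map (MulAut.conj g).toMonoidHom ↔ g ∈ H) ↔
      ((∃ P : Sylow 2 G, z ∈ (Subgroup.center ↥(P : Subgroup G)).map (P : Subgroup G).subtype) ∧
        ∀ t : G, IsConj z t → t ≠ z → t * z = z * t → Subgroup.centralizer ({z * t} : Set G) ≤ H) := by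
  simp only [mem_map_conj] at h0 ⊢
  have zz := sq_of_two hz
  have zH : z ∈ H := by simpa using (h0 1).2 H.one_mem
  have cH : centralizer {z} ≤ H := fun c hc => (h0 c).1 (by
    rwa [mul_assoc, ← mem_centralizer_singleton_iff.1 hc, inv_mul_cancel_left])
  have sq : ∀ {s}, IsConj z s → s * s = 1 := fun h => conj_sq h zz
  refine ⟨fun h1 => ?_, fun ⟨⟨P, hP⟩, h2⟩ t t1 t2 t3 w => ⟨fun hw => ?_, fun hw => H.mul_mem (H.mul_mem (H.inv_mem hw)
    (H.mul_mem zH (cH (mem_centralizer_singleton_iff.2 t3)))) hw⟩⟩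
  · have p2 : ∀ t, IsConj z t → t ≠ z → t * z = z * t → centralizer {z * t} ≤ H := fun t t1 t2 t3 c hc =>
      (h1 t t1 t2 t3 c).1 (by
        rw [mul_assoc, ← mem_centralizer_singleton_iff.1 hc, inv_mul_cancel_left]
        exact H.mul_mem zH (cH (mem_centralizer_singleton_iff.2 t3)))
    refine ⟨?_, p2⟩
    obtain ⟨g, hg⟩ : ∃ g, g ∉ H := by by_contra! h; exact hH (eq_top_iff.2 fun x _ => h x)
    obtain ⟨S, hS⟩ : ∃ S : Set G, ∀ s, s ∈ S ↔ IsConj z s ∧ g⁻¹ * s ∈ H := ⟨{s | _}, fun _ => Iff.rfl⟩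
    have iv : ∀ {s}, IsConj z s → s⁻¹ = s := fun h => inv_eq_of_mul_eq_one_right (sq h)
    have i1 : ∀ s ∈ S, s * g ∈ H := fun s hs => by
      simpa [iv ((hS s).1 hs).1] using H.inv_mem ((hS s).1 hs).2
    have K1 : ∀ s ∈ S, ∀ s' ∈ S, s * s' = s' * s → s = s' := fun s hs s' hs' h => by
      by_contra hn
      obtain ⟨k, hk⟩ := isConj_iff.1 ((hS s).1 hs).1
      have e : z = k⁻¹ * s * k := by rw [← hk]; group
      have := h1 (k⁻¹ * s' * k) (((hS s').1 hs').1.trans (isConj_iff.2 ⟨k⁻¹, by rw [inv_inv]⟩))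
        (fun h => hn (by rw [e] at h; simpa using h.symm)) (by
          rw [e]; simp only [mul_assoc, mul_inv_cancel_left]; rw [← mul_assoc s', ← h, mul_assoc])
      have h2 := (this k⁻¹).1 (by
        have := H.mul_mem (i1 s hs) ((hS s').1 hs').2
        rw [e]; simpa [mul_assoc] using this)
      have h3 := (this (k⁻¹ * g)).1 (by
        have := H.mul_mem ((hS s).1 hs).2 (i1 s' hs')
        rw [e]; simpa [mul_assoc] using this)
      exact hg ((H.mul_mem_cancel_left h2).1 h3)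
    have K3 : ∀ b, IsConj z b → g⁻¹ * b * g ∈ H → ∃ s ∈ S, s * z * s = b ∧
        ∀ d, Commute d z → Commute d b → Commute d s := fun b b1 b2 => by
      have od : Odd (orderOf (z * b)) := by
        by_contra hn
        obtain ⟨v, v1, v2, v3, v4⟩ := H1.pair_even zz (sq b1) hn
        have h3 := p2 (z * v) ((dih_conj zz (sq b1) v1).elim id b1.trans) (fun e => H1.two_ne v2 (by simpa using e))
          (by rw [mul_assoc, v3.eq])
        rw [← mul_assoc, zz, one_mul] at h3
        obtain ⟨k, rfl⟩ := isConj_iff.1 b1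
        have h4 := (h0 k⁻¹).1 (by rw [inv_inv]; exact h3 (mem_centralizer_singleton_iff.2 v4.symm))
        exact hg ((H.mul_mem_cancel_left h4).1 ((h0 (k⁻¹ * g)).1 (by simpa [mul_assoc] using b2)))
      obtain ⟨t, t1, t2⟩ := H1.pair_odd zz (sq b1) od
      have s1 : IsConj z (z * t⁻¹) := (dih_conj zz (sq b1) (inv_mem t1)).elim id b1.trans
      have s2 : z * t⁻¹ * z * (z * t⁻¹) = b := by
        nth_rw 1 [← iv s1]
        rw [← t2, mul_inv_rev, inv_inv, inv_mul_cancel_right, mul_assoc]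
      refine ⟨_, (hS _).2 ⟨s1, ?_⟩, s2, fun d d1 d2 => d1.mul_right (Commute.inv_right ?_)⟩
      · have := (h0 (z * t⁻¹ * g)).1 (by
          rw [mul_inv_rev, iv s1]; rw [← s2] at b2; simpa only [mul_assoc] using b2)
        have := H.inv_mem this
        rwa [mul_inv_rev, iv s1] at this
      · obtain ⟨n, rfl⟩ := t1
        exact (d1.mul_right d2).zpow_right n
    have K4 : ∀ s ∈ S, IsConj z (s * z * s) ∧ g⁻¹ * (s * z * s) * g ∈ H := fun s hs =>
      ⟨isConj_iff.2 ⟨s, by rw [iv ((hS s).1 hs).1]⟩, by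
        simpa only [mul_assoc] using H.mul_mem (H.mul_mem ((hS s).1 hs).2 zH) (i1 s hs)⟩
    have K5 : ∀ s ∈ S, ∀ s' ∈ S, s * z * s = s' * z * s' → s = s' := by
      suffices h : ∀ s ∈ S, ∀ s₀ ∈ S, s₀ * z * s₀ = s * z * s → (∀ d, Commute d z → Commute d (s * z * s) → Commute d s₀) →
          s = s₀ by
        intro s hs s' hs' e
        obtain ⟨s₀, h0, h1, h2⟩ := K3 _ (K4 s hs).1 (K4 s hs).2
        exact (h s hs s₀ h0 h1 h2).trans (h s' hs' s₀ h0 (h1.trans e) (e ▸ h2)).symm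
      intro s hs s₀ hs₀ e h
      have q := sq ((hS s).1 hs).1
      have q0 := sq ((hS s₀).1 hs₀).1
      have q' : ∀ x, s * (s * x) = x := fun x => by rw [← mul_assoc, q, one_mul]
      have q0' : ∀ x, s₀ * (s₀ * x) = x := fun x => by rw [← mul_assoc, q0, one_mul]
      have c1 : Commute (s * s₀) z := by
        have : s * (s₀ * z * s₀) * s₀ = s * (s * z * s) * s₀ := by rw [e]
        simpa only [Commute, SemiconjBy, mul_assoc, q0, mul_one, q'] using this
      have c2 : Commute (s₀ * s) (s * z * s) := by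
        show s₀ * s * (s * z * s) = s * z * s * (s₀ * s)
        conv_rhs => rw [← e]
        simp only [mul_assoc, q', q0']
      have := (h _ c1 (by
        have := c2.inv_left
        rwa [mul_inv_rev, iv ((hS s).1 hs).1, iv ((hS s₀).1 hs₀).1] at this)).eq
      refine K1 _ hs _ hs₀ ?_
      rw [mul_assoc, q0, mul_one] at this
      conv_lhs => rw [this]
      simp only [mul_assoc, q0, mul_one]
    obtain ⟨s₀, s0, -⟩ := K3 (g * z * g⁻¹) (isConj_iff.2 ⟨g, rfl⟩) (by simpa [mul_assoc] using zH)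
    have q0 := sq ((hS s₀).1 s0).1
    have oS : Odd (Nat.card S) := odd_card_of_invol (fun s => ⟨s₀ * s.1 * s₀, (hS _).2 ⟨((hS _).1 s.2).1.trans
      (isConj_iff.2 ⟨s₀, by rw [iv ((hS s₀).1 s0).1]⟩), by
        simpa [mul_assoc] using H.mul_mem (H.mul_mem ((hS _).1 s0).2 (i1 _ s.2)) ((hS _).1 s0).2⟩⟩)
      (fun s => Subtype.ext (by simp only [mul_assoc, q0, mul_one]; rw [← mul_assoc, q0, one_mul])) ⟨s₀, s0⟩
      fun s => ⟨fun h => Subtype.ext (K1 _ s.2 _ s0 (by
        have : s₀ * s.1 * s₀ = s.1 := congr(($h : G))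
        conv_lhs => rw [← this]
        rw [mul_assoc, q0, mul_one])), fun h => Subtype.ext (by rw [h]; simp [q0])⟩
    have e1 : Nat.card S = (centralizer {z}).relIndex H := by
      have : (centralizer {z}).subgroupOf H = centralizer {(⟨z, zH⟩ : H)} := by
        ext x; simp [mem_subgroupOf, mem_centralizer_singleton_iff, Subtype.ext_iff]
      rw [relIndex, this, H5.index_centralizer_eq, ← Nat.card_coe_set_eq]
      refine Nat.card_congr (Equiv.ofBijective (fun s => ⟨⟨_, (K4 _ s.2).2⟩, isConj_iff.2 ⟨⟨_, ((hS _).1 s.2).2⟩,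
        Subtype.ext (by simp [mul_assoc, iv ((hS _).1 s.2).1])⟩⟩) ⟨fun s s' h => Subtype.ext (K5 _ s.2 _ s'.2 ?_), ?_⟩)
      · simpa using congr((($h).1 : G))
      · rintro ⟨⟨y, yH⟩, hy⟩
        obtain ⟨s, s1, s2, -⟩ := K3 (g * y * g⁻¹) ((H.subtype.map_isConj hy).trans (isConj_iff.2 ⟨g, rfl⟩))
          (by simpa [mul_assoc] using yH)
        exact ⟨⟨s, s1⟩, Subtype.ext (Subtype.ext (by simp [s2, mul_assoc]))⟩
    have oH : Odd H.index := odd_card_of_invol (fun c : G ⧸ H => z • c) (fun c => by rw [smul_smul, zz, one_smul]) (1 : G)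
      fun c => by
        obtain ⟨k, rfl⟩ := QuotientGroup.mk_surjective c
        rw [smul_mk_eq, h0, eq_comm, QuotientGroup.eq, inv_one, one_mul]
    obtain ⟨Q, hQ, zQ⟩ := H1.exists_isSylowIn_ge (p := 2) (U := zpowers z) (L := centralizer {z}) (IsPGroup.of_card (n := 1)
      (by rw [Nat.card_zpowers, hz, pow_one])) (zpowers_le.2 (mem_centralizer_singleton_iff.2 rfl))
    obtain ⟨P, rfl⟩ := (hQ.trans le_top (by
      rw [relIndex_top_right, ← relIndex_mul_index cH, ← e1]
      exact (oS.mul oH).not_two_dvd_nat)).exists_sylow_top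
    exact ⟨P, ⟨z, zQ (mem_zpowers z)⟩, mem_center_iff.2 fun x => Subtype.ext (mem_centralizer_singleton_iff.1 (hQ.le x.2)), rfl⟩
  · obtain ⟨⟨z', zP⟩, hc, rfl⟩ := hP
    have PH : (P : Subgroup G) ≤ H := fun x hx => cH (mem_centralizer_singleton_iff.2
      congr(($(mem_center_iff.1 hc ⟨x, hx⟩) : G)))
    have pu : IsPGroup 2 (zpowers (w⁻¹ * (z' * t) * w)) := fun ⟨_, n, rfl⟩ => ⟨1, Subtype.ext (by
      have : (w⁻¹ * (z' * t) * w) ^ 2 = 1 := by
        rw [pow_two]; refine conj_sq (x := z' * t) (isConj_iff.2 ⟨w⁻¹, by rw [inv_inv]⟩) ?_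
        change t * z' = z' * t at t3
        change z' * z' = 1 at zz
        rw [mul_assoc, ← mul_assoc t, t3, mul_assoc, sq t1, mul_one, zz]
      show ((w⁻¹ * (z' * t) * w) ^ n) ^ 2 ^ 1 = 1
      rw [pow_one, ← zpow_natCast, ← zpow_mul, mul_comm n, zpow_mul, zpow_natCast, this, one_zpow])⟩
    obtain ⟨h, hh, h3⟩ := ((H1.isSylowIn_top P).of_le PH le_top).exists_conj_le pu (zpowers_le.2 hw)
    have h4 : _ := congr(($(mem_center_iff.1 hc ⟨_, h3 (smul_mem_pointwise_smul _ _ _ (mem_zpowers _))⟩) : G))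
    have h5 := (h0 (h * w⁻¹)).1 (h2 t t1 t2 t3 (mem_centralizer_singleton_iff.2 (by
      have h6 : h * (w⁻¹ * (z' * t) * w) * h⁻¹ * z' = z' * (h * (w⁻¹ * (z' * t) * w) * h⁻¹) := h4
      have := congr(w * h⁻¹ * $h6 * h * w⁻¹)
      simpa [mul_assoc] using this.symm)))
    exact H.inv_mem_iff.1 ((H.mul_mem_cancel_left hh).1 h5)

end Cfsg.Agent.S1922
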