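import Cfsg.Statements.S2055
import Cfsg.Agent.H7.Ms24d

set_option autoImplicit false
open Cfsg

namespace Cfsg.Agent.S2055

open H7 H7.T Subgroup

/-- The Schur multiplier of the Fischer group Fi₂₄′ (the commutator subgroup of the presented group Fi₂₄) is cyclic of order 3; here the Schur multiplier is described through stem extensions, as in the definitions: surjective homomorphisms onto the group from a finite group, whose kernel is central in that finite group and contained in that finite group's commutator subgroup. -/
theorem result : Cfsg.HasCyclicSchurMultiplier Cfsg.Spor.Fi24' 3 := by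
  refine ⟨ex3, fun X _ _ σ h => ?_⟩
  obtain ⟨y, t, k⟩ := up3 X σ h
  have c := (card_dvd_of_le k).trans (Nat.card_zpowers y ▸ orderOf_dvd_of_pow_eq_one t)
  rcases (Nat.dvd_prime Nat.prime_three).1 c with e | e
  · exact ⟨1, fun x => ⟨1, Subtype.ext ((eq_bot_of_card_eq _ e).le x.2).symm⟩⟩
  · let f : Multiplicative (ZMod 3) ≃* σ.ker := mulEquivOfPrimeCardEq (p := 3) (by simp) e
    exact ⟨f, f.surjective⟩

end Cfsg.Agent.S2055
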