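import Cfsg.Statements.S2064
import Cfsg.Agent.H8.Mathieu
import Cfsg.Agent.H8.OM24
-- import your own Cfsg.Agent.* helpers here

set_option autoImplicit false
open Cfsg

namespace Cfsg.Agent.S2064

/-- The outer automorphism group of the Mathieu group M₂₄ (the automorphism group of the length-24 binary code) is trivial: every automorphism is inner. -/
theorem result : Nat.card (Cfsg.Out ↥Cfsg.M24) = 1 := by
  exact (H8.out_congr H8.isoM24.some).trans H8.M24.out

end Cfsg.Agent.S2064
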