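import Cfsg.Statements.S2071
import Cfsg.Agent.H8.XCo3
import Cfsg.Agent.H8.OCo3
-- import your own Cfsg.Agent.* helpers here

set_option autoImplicit false
open Cfsg

namespace Cfsg.Agent.S2071

/-- The outer automorphism group of the Conway group Co₃ (the stabiliser of a vector of the second shortest length in the rank-24 lattice) is trivial: every automorphism is inner. -/
theorem result : Nat.card (Cfsg.Out ↥Cfsg.Spor.Co3) = 1 := by
  exact (H8.out_congr H8.Co3.iso.some).trans H8.Co3.out

end Cfsg.Agent.S2071
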