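import Cfsg.Statements.S2080
import Cfsg.Agent.H7.T.O23_0

set_option autoImplicit false
open Cfsg

namespace Cfsg.Agent.S2080

open H7 H7.T Subgroup

/-- The outer automorphism group of the Fischer group Fi₂₃ (the finitely presented group of the definitions) is trivial: every automorphism is inner. -/
theorem result : Nat.card (Cfsg.Out Cfsg.Spor.Fi23) = 1 := by
  have := F23.fin
  have a := aut23 F23
  have i : Function.Injective (MulAut.conj : Cfsg.Spor.Fi23 →* _) := (injective_iff_map_eq_one _).2 fun g h => mem_bot.1 (F23.center_eq ▸ mem_center_iff.2 fun x =>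
    (mul_inv_eq_iff_eq_mul.1 (DFunLike.congr_fun h x)).symm)
  rw [card_eq_card_quotient_mul_card_subgroup (Cfsg.Inn _), ← Nat.card_congr (MonoidHom.ofInjective i).toEquiv, F23.card] at a
  exact le_antisymm (Nat.le_of_mul_le_mul_right (a.trans_eq (one_mul _).symm) (by decide)) Nat.card_pos

end Cfsg.Agent.S2080
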