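import Cfsg.Statements.S2081
import Cfsg.Agent.H7.Out24

set_option autoImplicit false
open Cfsg

namespace Cfsg.Agent.S2081

open H7 H7.T Subgroup

/-- The outer automorphism group of the Fischer group Fi₂₄′ (the commutator subgroup of the presented group Fi₂₄) has order 2. -/
theorem result : Nat.card (Cfsg.Out Cfsg.Spor.Fi24') = 2 := by
  have := F24.fin
  have i := (comm24 F24).2
  have j : Function.Injective (MulAut.conjNormal (H := commutator Cfsg.Spor.Fi24)) := (injective_iff_map_eq_one _).2 fun g h => by
    have c : g ∈ centralizer (commutator Cfsg.Spor.Fi24 : Set Cfsg.Spor.Fi24) := fun x hx =>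
      (mul_inv_eq_iff_eq_mul.1 ((MulAut.conjNormal_apply g ⟨x, hx⟩).symm.trans (by rw [h]; rfl))).symm
    have := simple_Fi24'
    have m := cent_le_of_index_two i F24.center_eq c
    refine congrArg Subtype.val (mem_bot.1 (((center _).normal_of_characteristic.eq_bot_or_eq_top.resolve_right fun e => ?_).le
      (mem_center_iff.2 fun x => Subtype.ext (c x x.2) : (⟨g, m⟩ : Cfsg.Spor.Fi24') ∈ center _)))
    exact absurd (qs_of_simple this (by rw [card_Fi24']; norm_num)).2 (by rw [e]; simp)
  have a := Nat.card_congr (MulEquiv.ofBijective _ ⟨j, fun α => aut24 F24 i α⟩).toEquiv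
  have k : Function.Injective (MulAut.conj : Cfsg.Spor.Fi24' →* _) := fun x y h => Subtype.ext (j (MulEquiv.ext fun z => DFunLike.congr_fun h z))
  rw [card_eq_card_quotient_mul_card_subgroup (Cfsg.Inn _), ← Nat.card_congr (MonoidHom.ofInjective k).toEquiv, ← (commutator _).index_mul_card, i] at a
  exact (Nat.eq_of_mul_eq_mul_right Nat.card_pos a).symm

end Cfsg.Agent.S2081
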