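import Cfsg.Statements.S2119
import Cfsg.Agent.H5.Sym

set_option autoImplicit false
open Cfsg

namespace Cfsg.Agent.S2119

open H5 Equiv Equiv.Perm

/-- Automorphisms of the alternating groups: for n ≥ 4 with n ≠ 6, every automorphism of the alternating group of degree n is conjugation by a unique permutation, i.e. conjugation induces an isomorphism from the symmetric group of degree n onto the automorphism group of the alternating group (so the outer automorphism group has order 2). -/
theorem result (n : ℕ) (hn : 4 ≤ n) (h6 : n ≠ 6) : Function.Bijective (MulAut.conjNormal : Equiv.Perm (Fin n) →* MulAut ↥(alternatingGroup (Fin n))) := by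
  refine ⟨(injective_iff_map_eq_one _).2 fun g hg => ?_, fun φ => ?_⟩
  · by_contra c
    obtain ⟨a, ha⟩ : ∃ a, g a ≠ a := by
      by_contra c'; push Not at c'; exact c (Equiv.ext c')
    obtain ⟨u, hu⟩ : ∃ u, u ∉ ({a, g a} : Finset (Fin n)) := by
      by_contra H; push Not at H
      have := (Finset.card_le_card (fun i _ => H i : Finset.univ ⊆ _)).trans Finset.card_le_two
      simp at this; omega
    obtain ⟨v, hv⟩ : ∃ v, v ∉ ({a, g a, u} : Finset (Fin n)) := by
      by_contra H; push Not at H
      have := (Finset.card_le_card (fun i _ => H i : Finset.univ ⊆ _)).trans Finset.card_le_three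
      simp at this; omega
    simp only [Finset.mem_insert, Finset.mem_singleton, not_or] at hu hv
    have T := isThreeCycle_swap_mul_swap_same (Ne.symm hu.2) (Ne.symm hv.2.1) (Ne.symm hv.2.2)
    have := congrArg (fun φ : MulAut (alternatingGroup (Fin n)) => (φ ⟨_, T.mem_alternatingGroup⟩).1 (g a)) hg
    simp [swap_apply_of_ne_of_ne ha.symm (Ne.symm hv.1), swap_apply_of_ne_of_ne ha.symm (Ne.symm hu.1),
      swap_apply_of_ne_of_ne hv.2.1 hv.2.2] at this
    exact hv.2.1 this.symm
  · obtain ⟨σ, h⟩ := aut_alt (by simpa) (by simpa) φ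
    exact ⟨σ, MulEquiv.ext fun x => Subtype.ext (h x).symm⟩


end Cfsg.Agent.S2119
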