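import Cfsg.Statements.S2178
import Cfsg.Agent.H6.Cent

set_option autoImplicit false
open Cfsg

namespace Cfsg.Agent.S2178

open H6 H6.Chev Cfsg.Lie in
theorem aux {F : Type*} [Field F] [CharP F 2] {D : ChevalleyDatum} (C : Cert D)
    (a b c d : Fin D.nroots) (i₀ : Fin D.rank)
    (h2 : C.R.Pos a ∧ (∀ r, C.R.Pos r → C.R.Cm 2 a r) ∧
      (∀ j, j ≠ i₀ → C.R.Cm 2 a (C.R.neg (C.R.simple j))) ∧
      (∀ j, C.R.A j a = if j = i₀ then 1 else 0) ∧ 0 ≤ C.R.pair a (C.R.simple i₀) ∧
      ∀ r : Fin D.nroots, ((r = b ∨ r = c) ∨ r = d) ↔ ∃ j, j ≠ i₀ ∧ r = C.R.neg (C.R.simple j))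
    (t : GL D.Idx F) (ht : (t : Matrix D.Idx D.Idx F) = D.x F a 1) :
    D.group F ⊓ Subgroup.centralizer {t} = D.posUnipotent F ⊔ D.rootSubgroup F b ⊔
      D.rootSubgroup F c ⊔ D.rootSubgroup F d := by
  rw [C.eq_x_iff a.2] at ht
  rw [ht, C.group_eq, C.posUnipotent_eq, ChevSys.cent_root C.r3 h2.1 i₀ (fun r hr =>
    (h2.2.1 r hr).commute _) (fun j hj => (h2.2.2.1 j hj).commute _)
    h2.2.2.2.1 h2.2.2.2.2.1 (T := {b} ∪ {c} ∪ {d}) h2.2.2.2.2.2, C.rootSubgroup_eq,
    C.rootSubgroup_eq, C.rootSubgroup_eq, StSys.U_union, StSys.U_union, sup_assoc, sup_assoc,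
    sup_assoc]

/-- Centralizers of the long and the short root involutions in the Chevalley group G of type F₄ over a finite field F of characteristic two (this problem's root numbering for type F₄, from the Chevalley data module: fundamental roots p₁, p₂ short, p₃, p₄ long, with indices 33, 27, 25, 24, their negatives 14, 20, 22, 23; highest root 47, highest short root 44; U the subgroup generated by the positive root subgroups). For an element t of G with matrix x_47(1): the centralizer of t in G is the subgroup generated by U and the root subgroups X_{−p₁}, X_{−p₂}, X_{−p₃} (the unipotent radical of the maximal parabolic subgroup whose Levi factor has fundamental roots p₁, p₂, p₃, together with that Levi factor's root subgroups; the Levi factor is of type C₃). For an element u of G with matrix x_44(1): the centralizer of u in G is generated by U and X_{−p₂}, X_{−p₃}, X_{−p₄} (the same construction for the Levi factor with fundamental roots p₂, p₃,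 p₄, of type B₃). -/
theorem result {F : Type*} [Field F] [Fintype F] [CharP F 2] (t u : GL Cfsg.Lie.chevF4.Idx F) (ht : (t : Matrix Cfsg.Lie.chevF4.Idx Cfsg.Lie.chevF4.Idx F) = Cfsg.Lie.chevF4.x F 47 1) (hu : (u : Matrix Cfsg.Lie.chevF4.Idx Cfsg.Lie.chevF4.Idx F) = Cfsg.Lie.chevF4.x F 44 1) :
    Cfsg.Lie.chevF4.group F ⊓ Subgroup.centralizer {t} = Cfsg.Lie.chevF4.posUnipotent F ⊔ Cfsg.Lie.chevF4.rootSubgroup F 14 ⊔ Cfsg.Lie.chevF4.rootSubgroup F 20 ⊔ Cfsg.Lie.chevF4.rootSubgroup F 22 ∧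
    Cfsg.Lie.chevF4.group F ⊓ Subgroup.centralizer {u} = Cfsg.Lie.chevF4.posUnipotent F ⊔ Cfsg.Lie.chevF4.rootSubgroup F 20 ⊔ Cfsg.Lie.chevF4.rootSubgroup F 22 ⊔ Cfsg.Lie.chevF4.rootSubgroup F 23 := by
  open H6 H6.Chev Cfsg.Lie in
  exact ⟨aux certF4 ⟨47, by decide⟩ ⟨14, by decide⟩ ⟨20, by decide⟩ ⟨22, by decide⟩ ⟨3, by decide⟩
    (by decide +kernel) t ht, aux certF4 ⟨44, by decide⟩ ⟨20, by decide⟩ ⟨22, by decide⟩
    ⟨23, by decide⟩ ⟨0, by decide⟩ (by decide +kernel) u hu⟩

end Cfsg.Agent.S2178
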