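import Cfsg.Statements.S2209
import Cfsg.Agent.H6.Cent

set_option autoImplicit false
open Cfsg

namespace Cfsg.Agent.S2209

open H6 H6.Chev Cfsg.Lie in
theorem aux {F : Type*} [Field F] [CharP F 2] {D : ChevalleyDatum} (C : Cert D) (L : List ℕ)
    (a : Fin D.nroots) (i₀ : Fin D.rank) (h1 : chkMax C.Z = true) (h0 : a.1 = D.nroots - 1)
    (h2 : C.R.Pos a ∧ (∀ j, j ≠ i₀ → C.R.Cm 2 a (C.R.neg (C.R.simple j))) ∧
      (∀ j, C.R.A j a = if j = i₀ then 1 else 0) ∧ 0 ≤ C.R.pair a (C.R.simple i₀) ∧
      (∀ s ∈ L, s < D.nroots) ∧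
      ∀ r : Fin D.nroots, r.1 ∈ L ↔ ∃ j, j ≠ i₀ ∧ r = C.R.neg (C.R.simple j))
    (t : GL D.Idx F) (ht : (t : Matrix D.Idx D.Idx F) = D.x F (D.nroots - 1) 1) :
    D.group F ⊓ Subgroup.centralizer {t} = D.posUnipotent F ⊔ Subgroup.closure
      {g : GL D.Idx F | ∃ s ∈ L, ∃ c : F, (g : Matrix D.Idx D.Idx F) = D.x F s c} := by
  rw [← h0, C.eq_x_iff a.2] at ht
  rw [ht, C.group_eq, C.posUnipotent_eq, ChevSys.cent_root C.r3 h2.1 i₀ (fun r hr =>
    ChevSys.commute_of_max (C.le_of_chkMax h1 h0) h2.1 hr) (fun j hj => (h2.2.1 j hj).commute _)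
    h2.2.2.1 h2.2.2.2.1 (T := {r | r.1 ∈ L}) h2.2.2.2.2.2,
    ← C.closure_eq_U (p := fun r => r ∈ L) (T := {r | r.1 ∈ L}) h2.2.2.2.2.1 fun _ => Iff.rfl]
  simp only [exists_and_left]

/-- Centralizer of a long root involution in the Chevalley groups of type E₆, E₇, E₈ over a finite field F of characteristic two. Let G be the group generated by the root elements, U the subgroup generated by the positive root subgroups, r the highest root (the last root index: 71, 125, 239 respectively), and t the element of G with matrix x_r(1). Then the centralizer of t in G is the subgroup generated by U together with the root subgroups X_{−p} for the fundamental roots p orthogonal to r — all fundamental roots except p₂ for E₆, except p₁ for E₇, except p₈ for E₈ (numbering with p₁–p₃–p₄–…–p_l the long chain and p₂ joined to p₄); the indices of these negative fundamental roots are 15, 29, 32, 34, 35 (E₆), 47, 52, 56, 59, 61, 62 (E₇), 77, 98, 104, 109, 113, 116, 118 (E₈). (This is the unipotent radical of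 the corresponding maximal parabolic subgroup extended by the root subgroups of its Levi factor, of type A₅, D₆, E₇ respectively.) -/
theorem result {F : Type*} [Field F] [Fintype F] [CharP F 2] (d : Cfsg.Lie.ChevalleyDatum × List ℕ)
    (hd : d ∈ [(Cfsg.Lie.chevE6, [15, 29, 32, 34, 35]), (Cfsg.Lie.chevE7, [47, 52, 56, 59, 61, 62]), (Cfsg.Lie.chevE8, [77, 98, 104, 109, 113, 116, 118])])
    (t : GL d.1.Idx F) (ht : (t : Matrix d.1.Idx d.1.Idx F) = d.1.x F (d.1.nroots - 1) 1) :
    d.1.group F ⊓ Subgroup.centralizer {t} = d.1.posUnipotent F ⊔ Subgroup.closure {g : GL d.1.Idx F | ∃ s ∈ d.2, ∃ c : F, (g : Matrix d.1.Idx d.1.Idx F) = d.1.x F s c} := by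
  open H6 H6.Chev Cfsg.Lie in
  simp only [List.mem_cons, List.not_mem_nil, or_false] at hd
  rcases hd with rfl | rfl | rfl
  · exact aux certE6 _ ⟨71, by decide⟩ ⟨1, by decide⟩ (by decide +kernel) rfl (by decide +kernel) t ht
  · exact aux certE7 _ ⟨125, by decide⟩ ⟨0, by decide⟩ (by decide +kernel) rfl (by decide +kernel) t ht
  · exact aux certE8 _ ⟨239, by decide⟩ ⟨7, by decide⟩ (by decide +kernel) rfl (by decide +kernel) t ht

end Cfsg.Agent.S2209
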