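import Cfsg.Statements.S2271
import Mathlib


set_option autoImplicit false
open Cfsg

namespace Cfsg.Agent.S2271

open Finset Equiv

variable {n : ℕ}

theorem cfg {ι : Type} [Fintype ι] (h : Fintype.card ι + 2 ≤ n) {f g : ι → Fin n} (hf : Function.Injective f)
    (hg : Function.Injective g) : ∃ σ : alternatingGroup (Fin n), ∀ i, σ.1 (f i) = g i := by
  classical
  obtain ⟨σ, hσ⟩ := Perm.exists_extending_pair f g hf hg
  rcases Int.units_eq_one_or (Perm.sign σ) with e | e
  · exact ⟨⟨σ, e⟩, hσ⟩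
  have h1 : 1 < (univ.image f)ᶜ.card := by
    rw [card_compl, card_image_of_injective _ hf, card_univ, Fintype.card_fin]; omega
  obtain ⟨u, hu, v, hv, huv⟩ := one_lt_card.1 h1
  refine ⟨⟨σ * swap u v, by simp [e, huv]⟩, fun i => ?_⟩
  have hi : f i ∈ univ.image f := mem_image_of_mem f (mem_univ i)
  change σ (swap u v (f i)) = g i
  rw [swap_apply_of_ne_of_ne (fun e : f i = u => mem_compl.1 hu (e ▸ hi))
    (fun e : f i = v => mem_compl.1 hv (e ▸ hi)), hσ]

theorem cfg2 (h : 5 ≤ n) {x y u v : Fin n} (h1 : x ≠ y) (h2 : u ≠ v) :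
    ∃ σ : alternatingGroup (Fin n), σ.1 x = u ∧ σ.1 y = v := by
  obtain ⟨σ, hσ⟩ := cfg (ι := Fin 2) (by simp; omega) (f := ![x, y]) (g := ![u, v])
    (by intro i j; fin_cases i <;> fin_cases j <;> simp [h1, h1.symm])
    (by intro i j; fin_cases i <;> fin_cases j <;> simp [h2, h2.symm])
  exact ⟨σ, hσ 0, hσ 1⟩

theorem count (h : 5 ≤ n) : ∃ K : ℕ, ∀ x y : Fin n, x ≠ y → ∀ (R : Fin n → Fin n → Prop) [DecidableRel R],
    #{g : alternatingGroup (Fin n) | R (g.1 x) (g.1 y)} = K * #{w ∈ (univ : Finset (Fin n)).offDiag | R w.1 w.2} := by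
  let a : Fin n := ⟨0, by omega⟩
  let b : Fin n := ⟨1, by omega⟩
  have hab : a ≠ b := by simp [a, b]
  refine ⟨#{g : alternatingGroup (Fin n) | g.1 a = a ∧ g.1 b = b}, fun x y hxy R _ => ?_⟩
  rw [card_eq_sum_card_fiberwise (f := fun g : alternatingGroup (Fin n) => (g.1 x, g.1 y))
    (t := {w ∈ (univ : Finset (Fin n)).offDiag | R w.1 w.2}) (fun g hg => by
      simpa [hxy] using hg), mul_comm, ← smul_eq_mul, ← sum_const]
  refine sum_congr rfl fun w hw => ?_
  simp only [mem_filter, mem_offDiag, mem_univ, true_and] at hw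
  obtain ⟨p, p1, p2⟩ := cfg2 h hab hxy
  obtain ⟨q, q1, q2⟩ := cfg2 h hw.1 hab
  refine card_bijective (fun g => q * g * p) ((Group.mulRight_bijective p).comp (Group.mulLeft_bijective q)) fun g => ?_
  simp only [mem_filter, mem_univ, true_and, Subgroup.coe_mul, Perm.mul_apply, p1, p2, Prod.ext_iff]
  rw [← q1, ← q2]
  simp only [EmbeddingLike.apply_eq_iff_eq]
  exact ⟨fun h => h.2, fun h => ⟨by rw [h.1, h.2]; exact hw.2, h⟩⟩

def A (a b g : Perm (Fin n)) : ℕ := #{x | a (g (b x)) = g x}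
def fx (a : Perm (Fin n)) : ℕ := #{x | a x = x}

theorem fix_eq (a b g : Perm (Fin n)) : Nat.card (Function.fixedPoints ⇑(1 * a * 1⁻¹ * (g * b * g⁻¹))) = A a b g := by
  rw [A, ← Fintype.card_subtype, ← Nat.card_eq_fintype_card]
  exact Nat.card_congr (g.symm.subtypeEquiv fun x => by simp [Function.IsFixedPt])

theorem fx_le {a : Perm (Fin n)} : fx a + #{x | a x ≠ x} = n := by
  rw [fx, card_filter_add_card_filter_not, card_univ, Fintype.card_fin]

theorem avg (h : 5 ≤ n) (a b : Perm (Fin n)) (c : ℕ) (hc : ∀ g : alternatingGroup (Fin n), A a b g = c) :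
    c * (n * (n - 1)) = fx b * (fx a * (n - 1)) + (n - fx b) * (n - fx a) := by
  obtain ⟨K, hK⟩ := count h
  haveI : Nontrivial (Fin n) := Fin.nontrivial_iff_two_le.2 (by omega)
  obtain ⟨x0, y0, h0⟩ := exists_pair_ne (Fin n)
  have h1 := hK x0 y0 h0 fun _ _ => True
  rw [filter_true, filter_true, offDiag_card, card_univ (α := Fin n), Fintype.card_fin, ← Nat.mul_sub_one] at h1
  have hK0 : 0 < K := Nat.pos_of_ne_zero fun e => by
    rw [e, zero_mul, card_eq_zero] at h1; exact univ_nonempty.ne_empty h1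
  have h2 : ∑ g : alternatingGroup (Fin n), A a b g = ∑ x, #{g : alternatingGroup (Fin n) | a (g.1 (b x)) = g.1 x} := by
    simp only [A, card_filter]; exact sum_comm
  have h3 : ∀ x, b x = x → #{g : alternatingGroup (Fin n) | a (g.1 (b x)) = g.1 x} = K * (fx a * (n - 1)) := by
    intro x hx
    obtain ⟨y, hy⟩ := exists_ne x
    rw [hx, hK x y hy.symm fun u _ => a u = u, card_eq_sum_card_fiberwise (f := Prod.fst) (t := {x | a x = x})
      (fun w hw => by simpa using (mem_filter.1 hw).2), fx, ← smul_eq_mul (#_), ← sum_const]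
    congr 1
    refine sum_congr rfl fun u hu => ?_
    rw [show n - 1 = #(univ.erase u) by simp]
    refine card_bij (fun w _ => w.2) (fun w hw => ?_) (fun w hw w' hw' e => ?_) fun v hv => ⟨(u, v), ?_, rfl⟩
    · simp only [mem_filter, mem_offDiag, mem_univ, true_and] at hw
      simpa [← hw.2] using hw.1.1.symm
    · exact Prod.ext ((mem_filter.1 hw).2.trans (mem_filter.1 hw').2.symm) e
    · simpa [(ne_of_mem_erase hv).symm] using hu
  have h4 : ∀ x, b x ≠ x → #{g : alternatingGroup (Fin n) | a (g.1 (b x)) = g.1 x} = K * (n - fx a) := by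
    intro x hx
    rw [hK x (b x) hx.symm fun u v => a v = u, show n - fx a = #{x | a x ≠ x} by have := fx_le (a := a); omega]
    congr 1
    refine card_bij (fun w _ => w.2) (fun w hw => ?_) (fun w hw w' hw' e => ?_) fun v hv => ⟨(a v, v), ?_, rfl⟩
    · simp only [mem_filter, mem_offDiag, mem_univ, true_and] at hw
      simpa [hw.2] using hw.1
    · exact Prod.ext ((mem_filter.1 hw).2.symm.trans ((congrArg a e).trans (mem_filter.1 hw').2)) e
    · simpa using hv
  rw [sum_congr rfl fun g _ => hc g, sum_const, h1, smul_eq_mul, ← sum_filter_add_sum_filter_not univ fun x => b x = x,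
    sum_congr rfl fun x hx => h3 x (mem_filter.1 hx).2, sum_congr rfl fun x hx => h4 x (mem_filter.1 hx).2, sum_const,
    sum_const, smul_eq_mul, smul_eq_mul, show #{x | ¬ b x = x} = n - fx b from Nat.eq_sub_of_add_eq' fx_le] at h2
  apply Nat.eq_of_mul_eq_mul_left hK0
  rw [mul_add, mul_left_comm K (fx b), mul_left_comm K (n - fx b)]
  exact Eq.trans (by ring) h2

theorem moved {a : Perm (Fin n)} (ha : a ≠ 1) : fx a + 2 ≤ n := by
  have h1 := fx_le (a := a)
  have h2 := Perm.two_le_card_support_of_ne_one ha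
  rw [Perm.support] at h2
  omega

theorem arrows {a : Perm (Fin n)} (h : fx a + 4 ≤ n) : ∃ x y, Function.Injective ![x, a x, y, a y] := by
  have h1 := fx_le (a := a)
  obtain ⟨x, hx⟩ := card_pos.1 (show 0 < #{x | a x ≠ x} by omega)
  obtain ⟨y, hy, hy'⟩ := exists_mem_notMem_of_card_lt_card (s := {x, a x, a⁻¹ x}) (t := {x | a x ≠ x})
    (card_le_three.trans_lt (by omega))
  simp only [mem_filter, mem_univ, true_and, mem_insert, mem_singleton, not_or] at hx hy hy'
  have h2 : a y ≠ x := fun e => hy'.2.2 (by rw [← e]; simp)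
  refine ⟨x, y, fun i j => ?_⟩
  fin_cases i <;> fin_cases j <;> simp [hx, hy, hx.symm, hy.symm, h2, h2.symm, hy'.1, hy'.2.1, Ne.symm hy'.1, Ne.symm hy'.2.1]

set_option synthInstance.maxSize 2048 in
theorem five : ∀ a : Perm (Fin 5), fx a = 0 → ∀ b : Perm (Fin 5), fx b = 1 → ∃ i j k l : Fin 5, i ≠ j ∧ k ≠ l ∧
    A a b (swap i j * swap k l) ≠ 1 := by
  unfold A fx
  decide +kernel

theorem main (h : 5 ≤ n) {a b : Perm (Fin n)} (ha : a ≠ 1) (hb : b ≠ 1) (hst : fx a ≤ fx b) (c : ℕ)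
    (hc : ∀ g : alternatingGroup (Fin n), A a b g = c) : False := by
  have h1 := avg h a b c hc
  have m1 := moved ha
  have m2 := moved hb
  obtain ⟨m, rfl⟩ : ∃ m, n = m + 1 := ⟨n - 1, by omega⟩
  rw [Nat.add_sub_cancel] at h1
  obtain ⟨e⟩ : Nonempty ({x // a x = x} ↪ {x // b x = x}) := Function.Embedding.nonempty_of_card_le (by
    rwa [Fintype.card_subtype, Fintype.card_subtype])
  by_cases h2 : 2 ≤ fx a
  · obtain ⟨σ, hσ⟩ := cfg (ι := {x // a x = x}) (by rwa [Fintype.card_subtype]) (f := fun x => (e x).1) (g := Subtype.val)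
      (Subtype.val_injective.comp e.injective) Subtype.val_injective
    have h3 : fx a ≤ c := by
      rw [← hc σ, fx, ← Fintype.card_subtype, A, ← Fintype.card_subtype]
      exact Fintype.card_le_of_injective (fun x => ⟨(e x).1, by rw [(e x).2, hσ, x.2]⟩)
        fun x y hxy => e.injective (Subtype.ext (Subtype.mk.inj hxy))
    obtain ⟨u, hu⟩ : ∃ u, m + 1 = fx b + u := ⟨m + 1 - fx b, by omega⟩
    obtain ⟨v, hv⟩ : ∃ v, m + 1 = fx a + v := ⟨m + 1 - fx a, by omega⟩
    rw [show m + 1 - fx b = u by omega, show m + 1 - fx a = v by omega] at h1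
    have h4 : fx a * ((fx b + u) * m) ≤ c * ((m + 1) * m) := hu ▸ Nat.mul_le_mul_right _ h3
    have h5 : u * (fx a * m) ≤ u * v := by nlinarith
    have h6 := Nat.le_of_mul_le_mul_left h5 (by omega)
    nlinarith
  have two : ∀ (σ : alternatingGroup (Fin (m + 1))) (x y : Fin (m + 1)), x ≠ y → a (σ.1 (b x)) = σ.1 x →
      a (σ.1 (b y)) = σ.1 y → c ≠ 1 := fun σ x y hxy h1 h2 e => by
    have := one_lt_card.2 (show ∃ u ∈ ({x | a (σ.1 (b x)) = σ.1 x} : Finset _), ∃ v ∈ ({x | a (σ.1 (b x)) = σ.1 x} : Finset _),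
      u ≠ v from ⟨x, by simpa using h1, y, by simpa using h2, hxy⟩)
    have h3 := hc σ
    rw [A] at h3
    omega
  by_cases h3 : fx a = 1
  · rw [h3] at h1
    have hc1 : c = 1 := by
      obtain ⟨u, hu⟩ : ∃ u, m + 1 = fx b + u := ⟨m + 1 - fx b, by omega⟩
      rw [show m + 1 - fx b = u by omega, Nat.add_sub_cancel, one_mul, ← add_mul, ← hu] at h1
      exact Nat.eq_of_mul_eq_mul_right (Nat.mul_pos (by omega) (by omega)) (h1.trans (one_mul _).symm)
    obtain ⟨u, hu⟩ := card_pos.1 (show 0 < fx a by omega)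
    obtain ⟨x, hx⟩ := card_pos.1 (show 0 < fx b by omega)
    obtain ⟨v, hv⟩ : ∃ v, a v ≠ v := by by_contra! h; exact ha (Equiv.ext h)
    obtain ⟨y, hy⟩ : ∃ v, b v ≠ v := by by_contra! h; exact hb (Equiv.ext h)
    simp only [mem_filter, mem_univ, true_and] at hu hx
    have k1 : y ≠ x := by rintro rfl; exact hy hx
    have k2 : b y ≠ x := fun e => k1 (b.injective (e.trans hx.symm))
    have k3 : v ≠ u := by rintro rfl; exact hv hu
    have k4 : a v ≠ u := fun e => k3 (a.injective (e.trans hu.symm))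
    obtain ⟨σ, hσ⟩ := cfg (ι := Fin 3) (by simp; omega) (f := ![x, y, b y]) (g := ![u, a v, v])
      (by intro i j; fin_cases i <;> fin_cases j <;> simp [k1, k2, hy, k1.symm, k2.symm, hy.symm])
      (by intro i j; fin_cases i <;> fin_cases j <;> simp [k3, k4, hv, k3.symm, k4.symm, hv.symm])
    have s0 : σ.1 x = u := hσ 0
    have s1 : σ.1 y = a v := hσ 1
    have s2 : σ.1 (b y) = v := hσ 2
    exact two σ x y k1.symm (by rw [hx, s0, hu]) (by rw [s1, s2]) hc1
  have h4 : fx a = 0 := by omega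
  rw [h4, zero_mul, mul_zero, zero_add, Nat.sub_zero, mul_left_comm, mul_comm (_ - _)] at h1
  have h5 := Nat.eq_of_mul_eq_mul_left (by omega) h1
  have h6 : c = 1 ∧ fx b = 1 := by
    rcases c with _ | _ | c
    · omega
    · omega
    · have : (c + 1 + 1) * m ≥ 2 * m := Nat.mul_le_mul_right _ (by omega)
      omega
  by_cases h7 : m = 4
  · subst h7
    obtain ⟨i, j, k, l, h8, h9, h10⟩ := five a h4 b h6.2
    exact h10 ((hc ⟨_, by simp [h8, h9]⟩).trans h6.1)
  obtain ⟨x, y, hxy⟩ := arrows (a := b) (by omega)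
  obtain ⟨u, v, huv⟩ := arrows (a := a) (by omega)
  obtain ⟨σ, hσ⟩ := cfg (ι := Fin 4) (by simp; omega) hxy (huv.comp (show Function.Injective ![1, 0, 3, 2] by decide))
  have s0 : σ.1 x = a u := hσ 0
  have s1 : σ.1 (b x) = u := hσ 1
  have s2 : σ.1 y = a v := hσ 2
  have s3 : σ.1 (b y) = v := hσ 3
  exact two σ x y (fun e => absurd (hxy (a₁ := 0) (a₂ := 2) e) (by decide)) (by rw [s0, s1]) (by rw [s2, s3]) h6.1

theorem fix_comm (x y : Perm (Fin n)) : Nat.card (Function.fixedPoints ⇑(x * y)) = Nat.card (Function.fixedPoints ⇑(y * x)) :=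
  Nat.card_congr (y.subtypeEquiv fun z => by simp [Function.IsFixedPt])

/-- Let n ≥ 5 and let a, b be non-identity permutations in the symmetric group S_n. Then the number of fixed points is not constant on the set of products a′b′ with a′ conjugate to a and b′ conjugate to b under the alternating group: there are even permutations g₁, h₁, g₂, h₂ such that (g₁ a g₁⁻¹)(h₁ b h₁⁻¹) and (g₂ a g₂⁻¹)(h₂ b h₂⁻¹) have different numbers of fixed points. -/
theorem result (n : ℕ) (hn : 5 ≤ n) (a b : Equiv.Perm (Fin n)) (ha : a ≠ 1) (hb : b ≠ 1) :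
    ∃ g₁ h₁ g₂ h₂ : Equiv.Perm (Fin n), g₁ ∈ alternatingGroup (Fin n) ∧ h₁ ∈ alternatingGroup (Fin n) ∧ g₂ ∈ alternatingGroup (Fin n) ∧ h₂ ∈ alternatingGroup (Fin n) ∧
      Nat.card (Function.fixedPoints ⇑(g₁ * a * g₁⁻¹ * (h₁ * b * h₁⁻¹))) ≠
        Nat.card (Function.fixedPoints ⇑(g₂ * a * g₂⁻¹ * (h₂ * b * h₂⁻¹))) := by
  by_contra! h
  rcases le_total (fx a) (fx b) with h1 | h1
  · exact main hn ha hb h1 _ fun g => by
      rw [← fix_eq, h 1 g 1 1 (one_mem _) g.2 (one_mem _) (one_mem _)]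
  · exact main hn hb ha h1 _ fun g => by
      rw [← fix_eq, fix_comm, h g 1 1 1 g.2 (one_mem _) (one_mem _) (one_mem _)]

end Cfsg.Agent.S2271
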