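import Cfsg.Statements.S2277
import Cfsg.Agent.H1.Generation
import Cfsg.Agent.H1.Frattini
import Cfsg.Agent.H1.Misc3

set_option autoImplicit false
open Cfsg

namespace Cfsg.Agent.S2277

open Subgroup H1
open scoped commutatorElement Pointwise

def fx {W : Type*} [Group W] (a : MulAut W) : Subgroup W := a.toMonoidHom.eqLocus (MonoidHom.id W)

theorem mem_fx {W : Type*} [Group W] {a : MulAut W} {w : W} : w ∈ fx a ↔ a w = w := Iff.rfl

theorem cube_le {W : Type*} [CommGroup W] [Finite W] {p : ℕ} [hp : Fact p.Prime] (hp3 : 3 ≤ p) {A : Subgroup (MulAut W)}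
    (hA : IsPGroup p A) (h0 : A ≠ ⊥) (irr : ∀ U : Subgroup W, (∀ a ∈ A, ∀ u ∈ U, a u ∈ U) → U = ⊥ ∨ U = ⊤)
    {C : Set (MulAut W)} (hC : closure C = A) : ∃ c ∈ C, Nat.card (fx c) ^ 3 ≤ Nat.card W := by
  have f1 : ∀ z ∈ A ⊓ centralizer (A : Set (MulAut W)), z ≠ 1 → fx z = ⊥ := fun z hz h1 =>
    (irr _ fun a ha u hu => mem_fx.2 (by rw [← MulAut.mul_apply, ← hz.2 a ha, MulAut.mul_apply, mem_fx.1 hu])).resolve_right
      fun e => h1 (MulEquiv.ext fun w => e.ge (mem_top w))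
  have CA : ∀ c ∈ C, c ∈ A := fun c hc => hC.le (subset_closure hc)
  by_cases hab : A ≤ centralizer (A : Set (MulAut W))
  · obtain ⟨c, hc, h1⟩ : ∃ c ∈ C, c ≠ 1 := by
      by_contra! h
      exact h0 (hC ▸ closure_eq_bot_iff.2 h)
    exact ⟨c, hc, by rw [f1 c ⟨CA c hc, hab (CA c hc)⟩ h1, card_bot, one_pow]; exact Nat.card_pos⟩
  obtain ⟨b, bA, b1, b2⟩ := exists_central_mod (N := A ⊓ centralizer (A : Set (MulAut W))) hA.isNilpotent
    (lt_of_le_of_ne inf_le_left fun e => hab (e.ge.trans inf_le_right)) le_rfl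
    (le_normalizer_inf le_normalizer (le_normalizer_centralizer le_normalizer)) le_normalizer
  obtain ⟨c, hc, h1⟩ : ∃ c ∈ C, ⁅b, c⁆ ≠ 1 := by
    by_contra! h
    refine b1 ⟨bA, fun a ha => mem_centralizer_singleton_iff.1 ((hC ▸ (closure_le _).2 fun c hc => ?_ : A ≤ centralizer {b}) ha)⟩
    exact mem_centralizer_singleton_iff.2 (commutatorElement_eq_one_iff_mul_comm.1 (h c hc)).symm
  refine ⟨c, hc, ?_⟩
  obtain ⟨z, hz⟩ : ∃ z, z = ⁅b, c⁆ := ⟨_, rfl⟩
  have zZ := hz ▸ b2 c (CA c hc)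
  rw [← hz] at h1
  have g1 := f1 z zZ h1
  have g2 := f1 (z * z) (mul_mem zZ zZ) fun e => by
    obtain ⟨k, hk⟩ := exists_orderOf_eq_pow hA zZ.1
    have := orderOf_eq_prime (p := 2) (by rw [pow_two, e]) h1
    have := (Nat.prime_dvd_prime_iff_eq Nat.prime_two hp.out).1 (Nat.prime_two.dvd_of_dvd_pow (hk ▸ this.symm.dvd))
    omega
  have zc : ∀ a ∈ A, ∀ w, z (a w) = a (z w) := fun a ha w => by rw [← MulAut.mul_apply, ← zZ.2 a ha, MulAut.mul_apply]
  have e1 : ∀ w, z (c (b w)) = b (c w) := fun w => by simp [hz, commutatorElement_def]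
  let φ : fx c × fx c × fx c →* W := (fx c).subtype.coprod ((b.toMonoidHom.comp (fx c).subtype).coprod
    ((b * b).toMonoidHom.comp (fx c).subtype))
  refine le_trans (by simp [pow_succ, mul_assoc]) (Nat.card_le_card_of_injective φ ((injective_iff_map_eq_one φ).2 ?_))
  rintro ⟨⟨u, hu⟩, ⟨v, hv⟩, ⟨w, hw⟩⟩ h
  change u * (b v * b (b w)) = 1 at h
  rw [mem_fx] at hu hv hw
  have a1 : z (c (b v)) = b v := by rw [e1, hv]
  have a2 : z (z (c (b (b w)))) = b (b w) := by rw [e1, zc b bA, e1, hw]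
  have a3 : z (z u) * (z (b v) * b (b w)) = 1 := by
    have := congrArg (fun t => z (z (c t))) h
    simpa only [map_mul, map_one, hu, a1, a2] using this
  have a4 : z (z u) * u⁻¹ = b v * (z (b v))⁻¹ := by
    rw [mul_inv_eq_iff_eq_mul, mul_right_comm, eq_mul_inv_iff_mul_eq, ← mul_left_inj (b (b w)), mul_assoc, a3, mul_comm (b v),
      mul_assoc, h]
  have a5 : z (z u) * u⁻¹ = 1 := mem_bot.1 (g1.le (mem_fx.2 (by
    have t1 : c (z (z u) * u⁻¹) = z (z u) * u⁻¹ := by rw [map_mul, map_inv, ← zc c (CA c hc), ← zc c (CA c hc), hu]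
    conv_lhs => rw [← t1, a4, map_mul, map_mul, map_inv, map_inv, ← zc c (CA c hc), a1]
    rw [a4])))
  obtain rfl : u = 1 := mem_bot.1 (g2.le (mem_fx.2 (mul_inv_eq_one.1 a5)))
  have a6 : b v = 1 := mem_bot.1 (g1.le (mem_fx.2 (mul_inv_eq_one.1 (a4 ▸ a5)).symm))
  rw [a6, one_mul, one_mul] at h
  simpa [Subtype.ext_iff] using And.intro a6 h

/-- Let p ≥ 3 be prime and G a finite group with a Sylow p-subgroup P and a normal p-complement N (N normal, of order prime to p, with NP = G). Suppose P is generated by a subset C and also by a subset D, and that ⟨x c x⁻¹, d⟩ is a p-group for all x ∈ N, c ∈ C, d ∈ D. Then P centralizes N, so that G = N × P. -/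
theorem result {G : Type*} [Group G] [Finite G] (p : ℕ) [Fact p.Prime] (hp3 : 3 ≤ p) (P : Sylow p G)
    (N : Subgroup G) [N.Normal] (hN : (Nat.card N).Coprime p) (hNP : N ⊔ (P : Subgroup G) = ⊤)
    (C D : Set G) (hC : Subgroup.closure C = (P : Subgroup G)) (hD : Subgroup.closure D = (P : Subgroup G))
    (h : ∀ x ∈ N, ∀ c ∈ C, ∀ d ∈ D, IsPGroup p ↥(Subgroup.closure ({x * c * x⁻¹, d} : Set G))) :
    ⁅(P : Subgroup G), N⁆ = ⊥ := by
  rw [commutator_eq_bot_iff_le_centralizer]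
  obtain ⟨k, hk⟩ := P.isPGroup'.exists_card_eq
  have cop : (Nat.card P).Coprime (Nat.card N) := hk ▸ hN.symm.pow_left k
  have sP := isSolvable_of_isPGroup P.isPGroup'
  refine le_centralizer_iff.2 (le_of_forall_isSylowIn_le fun r _ _ => ?_)
  obtain ⟨R, r1, r2⟩ := exists_invariant_sylow r (A := P) (K := N) le_normalizer_of_normal cop (Or.inl sP)
  refine ⟨R, r1, ?_⟩
  by_contra hn
  have cR := coprime_of_le_right cop r1.le
  obtain ⟨U, ⟨u1, u2, u3⟩, hU⟩ := Set.Finite.exists_maximal (s := {U : Subgroup G | (R ⊓ centralizer (P : Set G)) ⊔ ⁅R, R⁆ ≤ U ∧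
    U < R ∧ (P : Subgroup G) ≤ normalizer (U : Set G)}) (Set.toFinite _) ⟨_, le_rfl, lt_of_le_of_ne
      (sup_le inf_le_left (commutator_le_self R)) fun e => hn ((eq_of_sup_frattini inf_le_left (e.ge.trans
        (sup_le_sup_left (commutator_le_map_frattini r1.isPGroup.isNilpotent) _))).ge.trans inf_le_right),
      le_normalizer_sup (le_normalizer_inf r2 (le_normalizer_centralizer le_normalizer)) (le_normalizer_commutator r2 r2)⟩
  have cU : ∀ x ∈ R, ∀ y ∈ R, ⁅x, y⁆ ∈ U := fun x hx y hy => u1 (mem_sup_right (commutator_mem_commutator hx hy))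
  haveI : (U.subgroupOf R).Normal := ⟨fun n hn g => by
    have := mul_mem (cU g g.2 n n.2) hn
    simpa [commutatorElement_def, mem_subgroupOf] using this⟩
  let σ : P →* MulAut R := R.normalizerMonoidHom.comp (inclusion r2)
  have hσ : ∀ a : P, (U.subgroupOf R).map (σ a : R →* R) = U.subgroupOf R := fun a =>
    eq_of_le_of_card_ge (by rintro _ ⟨x, hx, rfl⟩; exact conj_mem_of_mem_normalizer (u3 a.2) hx)
      (card_map_of_injective (σ a).injective).ge
  let ρ : P →* MulAut (R ⧸ U.subgroupOf R) :=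
    { toFun := fun a => QuotientGroup.congr _ _ (σ a) (hσ a)
      map_one' := MulEquiv.ext fun x => QuotientGroup.induction_on x fun x => by
        show ((σ 1 x : R) : R ⧸ U.subgroupOf R) = x; rw [map_one]; rfl
      map_mul' := fun a b => MulEquiv.ext fun x => QuotientGroup.induction_on x fun x => by
        show ((σ (a * b) x : R) : R ⧸ U.subgroupOf R) = (σ a (σ b x) : R); rw [map_mul]; rfl }
  have hρ : ∀ a (x : R), ρ a x = (σ a x : R) := fun _ _ => rfl
  letI : CommGroup (R ⧸ U.subgroupOf R) := { (inferInstance : Group (R ⧸ U.subgroupOf R)) with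
    mul_comm := fun x y => QuotientGroup.induction_on x fun x => QuotientGroup.induction_on y fun y => by
      rw [← QuotientGroup.mk_mul, ← QuotientGroup.mk_mul, QuotientGroup.eq]
      simpa [commutatorElement_def, mem_subgroupOf, mul_assoc] using cU _ (inv_mem y.2) _ (inv_mem x.2) }
  have h0 : ρ.range ≠ ⊥ := fun e => u2.not_ge ((commutator_sup_centralizer r2 cR (Or.inl sP)).ge.trans
    (sup_le (commutator_le.2 fun x hx a ha => by
      have : ρ ⟨a, ha⟩ = 1 := mem_bot.1 (e.le ⟨_, rfl⟩)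
      have h1 := hρ ⟨a, ha⟩ ⟨x⁻¹, inv_mem hx⟩
      rw [this, MulAut.one_apply, QuotientGroup.eq] at h1
      simpa [commutatorElement_def, mem_subgroupOf, mul_assoc, σ] using h1) (le_sup_left.trans u1)))
  have irr : ∀ X : Subgroup (R ⧸ U.subgroupOf R), (∀ a ∈ ρ.range, ∀ u ∈ X, a u ∈ X) → X = ⊥ ∨ X = ⊤ := fun X hX => by
    have hU1 : U ≤ (X.comap (QuotientGroup.mk' _)).map R.subtype := fun x hx =>
      ⟨⟨x, u2.le hx⟩, by
        show QuotientGroup.mk' _ _ ∈ X
        rw [QuotientGroup.mk'_apply, (QuotientGroup.eq_one_iff _).2 (by exact hx)]; exact one_mem _, rfl⟩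
    rcases (map_subtype_le (X.comap (QuotientGroup.mk' _))).lt_or_eq with e | e
    · refine Or.inl (le_bot_iff.1 fun x hx => ?_)
      obtain ⟨x, rfl⟩ := QuotientGroup.mk_surjective x
      refine (QuotientGroup.eq_one_iff x).2 (hU (y := (X.comap (QuotientGroup.mk' _)).map R.subtype) ⟨u1.trans hU1, e,
        fun a ha => mem_normalizer_iff_conj_mem.2 ?_⟩ hU1 ⟨x, hx, rfl⟩)
      rintro _ ⟨y, hy, rfl⟩
      exact ⟨σ ⟨a, ha⟩ y, hX _ ⟨⟨a, ha⟩, rfl⟩ _ hy, rfl⟩
    · refine Or.inr (eq_top_iff.2 fun x _ => ?_)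
      obtain ⟨x, rfl⟩ := QuotientGroup.mk_surjective x
      obtain ⟨y, hy, e⟩ := e.ge x.2
      exact Subtype.ext e ▸ hy
  have gen : ∀ C : Set G, closure C = P → ∃ c : P, (c : G) ∈ C ∧ Nat.card (fx (ρ c)) ^ 3 ≤ Nat.card (R ⧸ U.subgroupOf R) := fun C hC => by
    obtain ⟨_, ⟨c, hc, rfl⟩, h⟩ := cube_le hp3 (P.isPGroup'.of_surjective _ ρ.rangeRestrict_surjective) h0 irr
      (C := ρ '' ((P : Subgroup G).subtype ⁻¹' C)) (by
        rw [← MonoidHom.map_closure, MonoidHom.range_eq_map]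
        congr 1
        rw [← hC]; exact closure_preimage_eq_top C)
    exact ⟨c, hc, h⟩
  obtain ⟨c, c1, c2⟩ := gen C hC
  obtain ⟨d, d1, d2⟩ := gen D hD
  have cm : ∀ (u : R) (a : P), (u : G) * a * (u : G)⁻¹ ∈ (P : Subgroup G) → (u : R ⧸ U.subgroupOf R) ∈ fx (ρ a) := fun u a h => by
    have : (u : G) * a * (u : G)⁻¹ * (a : G)⁻¹ ∈ (P : Subgroup G) ⊓ R := ⟨Subgroup.mul_mem _ h (Subgroup.inv_mem _ a.2), by
      simpa [mul_assoc] using mul_mem u.2 (conj_mem_of_mem_normalizer (r2 a.2) (inv_mem u.2))⟩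
    rw [disjoint_iff.1 (disjoint_of_coprime_natCard cR), mem_bot, mul_inv_eq_one, mul_inv_eq_iff_eq_mul] at this
    refine mem_fx.2 ((hρ a u).trans (congrArg _ (Subtype.ext ?_)))
    show (a : G) * u * (a : G)⁻¹ = u
    rw [← this, mul_inv_cancel_right]
  have h1 : Nat.card (R ⧸ U.subgroupOf R) ≤ Nat.card (fx (ρ d)) * Nat.card (fx (ρ c)) := by
    rw [← Nat.card_prod]
    refine Nat.card_le_card_of_surjective (fun t => (t.1 : R ⧸ U.subgroupOf R)⁻¹ * t.2) fun x => ?_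
    obtain ⟨x, rfl⟩ := QuotientGroup.mk_surjective x
    obtain ⟨g, g1, g2⟩ := ((isSylowIn_top P).of_le (le_sup_left (b := R)) le_top).exists_conj_le (h x (r1.le x.2) c c1 d d1)
      ((closure_le _).2 (Set.pair_subset (mul_mem (mul_mem (mem_sup_right x.2) (mem_sup_left c.2)) (inv_mem (mem_sup_right x.2)))
        (mem_sup_left d.2)))
    obtain ⟨s, hs, y, hy, rfl⟩ := (mem_sup_of_le_normalizer_right r2).1 g1
    have g3 : ∀ t ∈ closure {(x : G) * c * (x : G)⁻¹, (d : G)}, y * t * y⁻¹ ∈ (P : Subgroup G) := fun t ht => by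
      simpa [mul_assoc] using mul_mem (mul_mem (inv_mem hs) (conj_smul_le_iff.1 g2 t ht)) hs
    exact ⟨(⟨_, cm ⟨y, hy⟩ d (g3 _ (subset_closure (by simp)))⟩, ⟨_, cm (⟨y, hy⟩ * x) c (by
      simpa [mul_assoc] using g3 ((x : G) * c * (x : G)⁻¹) (subset_closure (by simp)))⟩), by simp⟩
  have h2 : 1 < Nat.card (R ⧸ U.subgroupOf R) := one_lt_index_of_ne_top fun e => u2.not_ge (subgroupOf_eq_top.1 e)
  have h3 := (Nat.pow_le_pow_left h1 3).trans ((mul_pow _ _ _).le.trans (Nat.mul_le_mul d2 c2))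
  rw [← pow_two] at h3
  exact absurd h3 (not_le.2 (Nat.pow_lt_pow_right h2 (by norm_num)))

end Cfsg.Agent.S2277
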