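import Cfsg.Statements.S2468
import Cfsg.Agent.H5.Spec

set_option autoImplicit false
open Cfsg

namespace Cfsg.Agent.S2468

open H5 Matrix Polynomial

/-- Adjacency of two odd primes in the prime graph of PSL(n,q): let F be a finite field of characteristic p with q elements, n ≥ 2 with PSL(n,F) simple, and let r ≠ s be odd primes different from p dividing the order of PSL(n,F). Let k and l be the multiplicative orders of q modulo r and modulo s, and suppose 2 ≤ k ≤ l. Then PSL(n,F) has NO element of order r·s if and only if k + l > n and k does not divide l. -/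
theorem result {F : Type*} [Field F] [Fintype F] (p : ℕ) [Fact p.Prime] [CharP F p] (n : ℕ) (hn : 2 ≤ n) (hsmall : n = 2 → 4 ≤ Fintype.card F)
    (r s : ℕ) (hr : r.Prime) (hs : s.Prime) (hr2 : r ≠ 2) (hs2 : s ≠ 2) (hrp : r ≠ p) (hsp : s ≠ p) (hrs : r ≠ s)
    (hrG : r ∣ Nat.card (Matrix.ProjectiveSpecialLinearGroup (Fin n) F)) (hsG : s ∣ Nat.card (Matrix.ProjectiveSpecialLinearGroup (Fin n) F))
    (k l : ℕ) (hk : k = orderOf ((Fintype.card F : ℕ) : ZMod r)) (hl : l = orderOf ((Fintype.card F : ℕ) : ZMod s))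
    (h2k : 2 ≤ k) (hkl : k ≤ l) :
    (r * s ∉ Set.range (orderOf : Matrix.ProjectiveSpecialLinearGroup (Fin n) F → ℕ)) ↔ (n < k + l ∧ ¬ k ∣ l) := by
  have q0 : 0 < Fintype.card F := Fintype.card_pos
  have r0 := cast_ne (F := F) p hr hrp
  have s0 := cast_ne (F := F) p hs hsp
  have cr := cop_of_ord q0 hr (by omega)
  have cs := cop_of_ord q0 hs (by omega)
  have rs := (Nat.coprime_primes hr hs).2 hrs
  have dr := (dvd_pow_iff q0 k).2 hk.symm.dvd
  have ds := (dvd_pow_iff q0 l).2 hl.symm.dvd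
  have ln : l ≤ n := by
    have := Fact.mk hs
    obtain ⟨x, hx⟩ := exists_prime_orderOf_dvd_card' s hsG
    obtain ⟨g, rfl, hg⟩ := psl_lift x (hx ▸ cs)
    simpa [hl] using ord_le (A := g.1) hs s0 (congrArg Subtype.val (hx ▸ hg))
      (by simpa using lift_ne (g := g) (t := 1) (by rw [hx]; simpa using hs.ne_one))
  have key : ∀ {ι : Type} [Fintype ι] [DecidableEq ι] (A : Matrix ι ι F), Fintype.card ι = n → A.det = 1 → (∀ t, A ^ t = 1 ↔ r * s ∣ t) →
      r * s ∈ Set.range (orderOf : ProjectiveSpecialLinearGroup (Fin n) F → ℕ) := fun A h1 h2 h3 => psl_order h1 h2 fun t => ⟨fun ⟨z, hz⟩ => by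
    let g : Matrix.SpecialLinearGroup _ F := ⟨A, h2⟩
    have := center_pow ((mk_eq_one (g ^ t)).2 ⟨z, hz⟩)
    rw [← pow_mul] at this
    exact (Nat.Coprime.mul_left cr cs).dvd_of_dvd_mul_right ((h3 _).1 (congrArg Subtype.val this)), fun d => ⟨1, by simpa using (h3 t).2 d⟩⟩
  rw [← not_iff_not, not_not, not_and_or, not_lt, not_not]
  refine ⟨fun ⟨x, hx⟩ => ?_, ?_⟩
  · obtain ⟨g, rfl, hg⟩ := psl_lift x (hx ▸ Nat.Coprime.mul_left cr cs)
    rw [hx] at hg
    have hg' : g.1 ^ (r * s) = 1 := congrArg Subtype.val hg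
    have sq := sqf (m := r * s) (by simp [r0, s0]) one_ne_zero (hg'.trans (one_smul _ _).symm)
    have d : minpoly F g.1 ∣ X ^ (r * s) - 1 := minpoly.dvd _ _ (by simp [hg'])
    obtain ⟨P, hP, d1, n1⟩ := exists_irr sq (f := X ^ s - 1) (by
      simpa [sub_eq_zero] using lift_ne (g := g) (t := s) (by rw [hx]; exact fun e => hrs ((Nat.prime_dvd_prime_iff_eq hr hs).1 ((Dvd.intro _ rfl).trans e))))
    obtain ⟨Q, hQ, d2, n2⟩ := exists_irr sq (f := X ^ r - 1) (by
      simpa [sub_eq_zero] using lift_ne (g := g) (t := r) (by rw [hx]; exact fun e => hrs ((Nat.prime_dvd_prime_iff_eq hs hr).1 ((Dvd.intro_left _ rfl).trans e)).symm))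
    have k1 := hk ▸ ord_dvd_deg hr hs.ne_zero hP (d1.trans d) n1
    have k2 := hl ▸ ord_dvd_deg hs hr.ne_zero hQ (mul_comm r s ▸ d2.trans d) n2
    by_cases c : P ∣ X ^ r - 1
    · have := deg_le ((mul_dvd_of_irr hP hQ c n2 d1 d2).trans (minpoly_dvd_charpoly _))
      rw [natDegree_mul hP.ne_zero hQ.ne_zero, Fintype.card_fin] at this
      have := Nat.le_of_dvd hP.natDegree_pos k1
      have := Nat.le_of_dvd hQ.natDegree_pos k2
      omega
    · obtain ⟨t, ht⟩ := hl ▸ ord_dvd_deg hs hr.ne_zero hP (mul_comm r s ▸ d1.trans d) c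
      have := deg_le (d1.trans (minpoly_dvd_charpoly _))
      have := hP.natDegree_pos
      rename_i h1
      rw [Fintype.card_fin] at h1
      rw [ht] at h1 this k1
      rcases t with _ | _ | t
      · omega
      · exact .inr (by simpa using k1)
      · left; nlinarith
  · rintro (h | h)
    · obtain ⟨A, a1, a2⟩ := exists_ord (F := F) (by omega) dr
      obtain ⟨B, b1, b2⟩ := exists_ord (F := F) (by omega) ds
      refine key (fromBlocks (fromBlocks A 0 0 B) 0 0 (1 : Matrix (Fin (n - (k + l))) _ F)) (by simp; omega)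
        (by simp [a1 cr, b1 cs]) fun t => ?_
      rw [← one_smul F (1 : Matrix (_ ⊕ _) _ F), blk_pow, blk_pow]
      simp only [one_smul, one_pow, and_true, a2, b2]
      exact ⟨fun h => rs.mul_dvd_of_dvd_of_dvd h.1 h.2, fun h => ⟨(Dvd.intro _ rfl).trans h, (Dvd.intro_left _ rfl).trans h⟩⟩
    · obtain ⟨A, a1, a2⟩ := exists_ord (F := F) (d := l) (by omega) (rs.mul_dvd_of_dvd_of_dvd ((dvd_pow_iff q0 l).2 (hk ▸ h)) ds)
      refine key (fromBlocks A 0 0 (1 : Matrix (Fin (n - l)) _ F)) (by simp; omega) (by simp [a1 (Nat.Coprime.mul_left cr cs)]) fun t => ?_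
      rw [← one_smul F (1 : Matrix (_ ⊕ _) _ F), blk_pow]
      simp [a2]


end Cfsg.Agent.S2468
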