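import Cfsg.Statements.S2470
import Cfsg.Agent.H5.Spec

set_option autoImplicit false
open Cfsg

namespace Cfsg.Agent.S2470

open H5 Matrix Polynomial Module

/-- Adjacency of an odd prime and the characteristic in the prime graph of PSL(n,q): let F be a finite field of characteristic p with q elements, n ≥ 2 with PSL(n,F) simple, and let r ≠ p be an odd prime dividing the order of PSL(n,F), with k the multiplicative order of q modulo r. Then PSL(n,F) has NO element of order r·p if and only if either k > n − 2, or n = 3, r = 3 and 3 divides q − 1 exactly once. -/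
theorem result {F : Type*} [Field F] [Fintype F] (p : ℕ) [Fact p.Prime] [CharP F p] (n : ℕ) (hn : 2 ≤ n) (hsmall : n = 2 → 4 ≤ Fintype.card F)
    (r : ℕ) (hr : r.Prime) (hr2 : r ≠ 2) (hrp : r ≠ p) (hrG : r ∣ Nat.card (Matrix.ProjectiveSpecialLinearGroup (Fin n) F))
    (k : ℕ) (hk : k = orderOf ((Fintype.card F : ℕ) : ZMod r)) :
    (r * p ∉ Set.range (orderOf : Matrix.ProjectiveSpecialLinearGroup (Fin n) F → ℕ)) ↔
      (n - 2 < k ∨ (n = 3 ∧ r = 3 ∧ 3 ∣ Fintype.card F - 1 ∧ ¬ 9 ∣ Fintype.card F - 1)) := by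
  have q1 : 1 < Fintype.card F := Fintype.one_lt_card
  have pp : p.Prime := Fact.out
  have r0 := cast_ne (F := F) p hr hrp
  have k0 : 0 < k := hk ▸ ord_pos hr r0
  have rp := (Nat.coprime_primes hr pp).2 hrp
  have dk := (dvd_pow_iff (by omega) k).2 hk.symm.dvd
  have md : ∀ t, r ∣ t ∧ p ∣ t ↔ r * p ∣ t := fun t =>
    ⟨fun h => rp.mul_dvd_of_dvd_of_dvd h.1 h.2, fun h => ⟨(Dvd.intro _ rfl).trans h, (Dvd.intro_left _ rfl).trans h⟩⟩
  have el : ∀ e, e ∣ Fintype.card F - 1 → ∃ l : F, l ≠ 0 ∧ ∀ t, l ^ t = 1 ↔ e ∣ t := fun e he => by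
    obtain ⟨l, hl⟩ := IsCyclic.exists_ofOrder_eq_natCard (α := Fˣ)
    rw [Nat.card_units, Nat.card_eq_fintype_card] at hl
    obtain ⟨l, rfl⟩ := exists_of_dvd ⟨l, hl⟩ he
    exact ⟨l, l.ne_zero, fun t => by rw [orderOf_dvd_iff_pow_eq_one, Units.ext_iff]; simp⟩
  refine ⟨fun H => ?_, fun h ⟨x, hx⟩ => ?_⟩
  · by_contra! c
    have key : ∀ d (A : Matrix (Fin d) (Fin d) F), d + 2 ≤ n → A.det = 1 → (∀ t, A ^ t = 1 ↔ r ∣ t) → False := fun d A h1 h2 h3 =>
      H (psl_order (A := fromBlocks (fromBlocks A 0 0 (1 : Matrix (Fin (n - (d + 2))) _ F)) 0 0 !![1, 1; 0, 1]) (by simp; omega)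
        (by simp [h2]) fun t => by
          simp only [blk_pow, jb_eq p one_ne_zero, one_pow, ← md]
          exact ⟨by rintro ⟨z, ⟨h, -⟩, h', rfl⟩; exact ⟨(h3 t).1 (by simpa using h), h'⟩, fun h => ⟨1, by simp [h3, h]⟩⟩)
    by_cases k1 : k = 1
    · rw [k1, pow_one] at dk
      by_cases n3 : n = 3
      · obtain ⟨l, l0, hl⟩ : ∃ l : F, l ≠ 0 ∧ ∀ t, l ^ (3 * t) = 1 ↔ r ∣ t := by
          by_cases r3 : r = 3
          · obtain ⟨l, l0, hl⟩ := el 9 (c.2 n3 r3 (r3 ▸ dk))
            exact ⟨l, l0, fun t => by rw [hl, r3]; omega⟩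
          · obtain ⟨l, l0, hl⟩ := el r dk
            exact ⟨l, l0, fun t => by rw [hl, ((Nat.coprime_primes hr Nat.prime_three).2 r3).dvd_mul_left]⟩
        refine H (psl_order (A := fromBlocks !![l, l; 0, l] 0 0 ((l * l)⁻¹ • (1 : Matrix (Fin 1) (Fin 1) F))) n3.symm
          (by simp; field_simp) fun t => ?_)
        have e : ∀ z : F, ((l * l)⁻¹ • (1 : Matrix (Fin 1) (Fin 1) F)) ^ t = z • 1 ↔ z = (l * l)⁻¹ ^ t := fun z => by
          rw [_root_.smul_pow, one_pow, (smul_left_injective F one_ne_zero).eq_iff, eq_comm]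
        simp only [blk_pow, e, exists_eq_right, jb_eq p l0]
        rw [inv_pow, ← mul_eq_one_iff_eq_inv₀ (by simp [l0]), ← mul_pow, ← pow_three, ← pow_mul, hl, and_comm, md]
      · obtain ⟨l, l0, hl⟩ := el r dk
        refine key 2 (diagonal ![l, l⁻¹]) (by omega) (by simp [l0]) fun t => ?_
        simp [diagonal_pow, ← diagonal_one, diagonal_eq_diagonal_iff, Fin.forall_fin_succ, hl]
    · obtain ⟨A, a1, a2⟩ := exists_ord k0 dk
      exact key k A (by omega) (a1 (cop_of_ord (by omega) hr (hk ▸ k1))) a2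
  have o1 : orderOf (x ^ r) = p := by rw [orderOf_pow_of_dvd hr.ne_zero (hx ▸ Dvd.intro _ rfl), hx, Nat.mul_div_cancel_left _ hr.pos]
  have o2 : orderOf (x ^ p) = r := by rw [orderOf_pow_of_dvd pp.ne_zero (hx ▸ Dvd.intro_left _ rfl), hx, Nat.mul_div_cancel _ pp.pos]
  obtain ⟨u, e1, hu⟩ := psl_lift _ (o1.symm ▸ cop_char (F := F) p)
  rw [o1] at hu
  have N1 := nil_of_pow (A := u.1) (z := 1) p (k := 1) (by simpa using congrArg Subtype.val hu)
  have N2 : u.1 - (1 : F) • 1 ≠ 0 := by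
    simpa [sub_eq_zero] using lift_ne (g := u) (t := 1) (by rw [e1, o1]; simpa using pp.ne_one)
  have N3 : ∀ y : Matrix.SpecialLinearGroup (Fin n) F, y = x ^ p → (u.1 - (1 : F) • 1) * y.1 = y.1 * (u.1 - (1 : F) • 1) := fun y e => by
    simpa [sub_mul, mul_sub] using congrArg Subtype.val (comm_lift (cop_char p) hu (e1 ▸ e ▸ Commute.pow_pow_self x r p)).eq
  by_cases k1 : k = 1
  · obtain ⟨y, e⟩ := QuotientGroup.mk_surjective (x ^ p)
    obtain ⟨z, hz⟩ := (psl_pow y r).1 (by rw [e, o2])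
    have : NeZero n := ⟨by omega⟩
    have z0 : z ≠ 0 := by
      rintro rfl
      have := (det_pow y.1 r).trans (show _ = 1 by rw [y.2, one_pow])
      simp [hz] at this
    have sq := sqf r0 z0 hz
    obtain ⟨P, hP, d1, d2⟩ := not_cyc sq N1 N2 (N3 y e)
    have n1 := deg_le d2
    have n2 := hP.natDegree_pos
    have n3 : (minpoly F y.1).natDegree ≠ 1 := fun c => by
      obtain ⟨w, hw⟩ := minpoly.natDegree_eq_one_iff.1 c
      have := (psl_pow y 1).2 ⟨w, by rw [pow_one, ← hw, Algebra.algebraMap_eq_smul_one]⟩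
      rw [e, o2] at this; exact hr.ne_one (Nat.dvd_one.1 this)
    have n4 := minpoly.natDegree_pos (Algebra.IsIntegral.isIntegral (R := F) y.1)
    rw [natDegree_mul sq.ne_zero hP.ne_zero, Fintype.card_fin] at n1
    obtain ⟨rfl, rfl, -, h9⟩ := h.resolve_left (by omega)
    obtain ⟨a, ha⟩ := exists_root_of_degree_eq_one ((degree_eq_iff_natDegree_eq hP.ne_zero).2 (show P.natDegree = 1 by omega))
    have d3 := dvd_iff_isRoot.2 ha
    obtain ⟨R, hR⟩ := d3.trans d1
    have m1 := minpoly.monic (Algebra.IsIntegral.isIntegral (R := F) y.1)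
    have m2 : R.Monic := (monic_X_sub_C a).of_mul_monic_left (hR ▸ m1)
    obtain ⟨b, rfl⟩ : ∃ b, R = X - C b := ⟨-R.coeff 0, by
      rw [hR, (monic_X_sub_C a).natDegree_mul m2, natDegree_X_sub_C] at n1 n3 n4
      simpa using m2.eq_X_add_C (by omega)⟩
    have e2 := eq_of_monic_of_dvd_of_natDegree_le (m1.mul (monic_X_sub_C a)) y.1.charpoly_monic ((mul_dvd_mul_left _ d3).trans d2)
      (by rw [m1.natDegree_mul (monic_X_sub_C a)]; simp; omega)
    have e3 := y.1.det_eq_sign_charpoly_coeff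
    rw [y.2, e2, hR] at e3
    simp [Odd.neg_one_pow (n := 3) (by decide)] at e3
    have d4 : minpoly F y.1 ∣ X ^ 3 - C z := minpoly.dvd _ _ (by simp [hz, Algebra.algebraMap_eq_smul_one])
    have a3 : a ^ 3 = z := by simpa [sub_eq_zero] using dvd_iff_isRoot.1 ((Dvd.intro _ hR.symm).trans d4)
    have b3 : b ^ 3 = z := by simpa [sub_eq_zero] using dvd_iff_isRoot.1 ((Dvd.intro_left _ hR.symm).trans d4)
    have a0 : a ≠ 0 := by rintro rfl; simp at e3
    have a9 := pow_gcd_eq_one.2 ⟨show a ^ 3 ^ 2 = 1 by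
      linear_combination (a ^ 6) * (a3 - b3) - (1 + a * b * a + (a * b * a) ^ 2) * e3, FiniteField.pow_card_sub_one_eq_one a a0⟩
    obtain ⟨i, hi, e4⟩ := (Nat.dvd_prime_pow Nat.prime_three).1 (Nat.gcd_dvd_left (3 ^ 2) (Fintype.card F - 1))
    have : a ^ 3 = 1 := by
      rw [e4] at a9
      interval_cases i
      · rw [show a = 1 by simpa using a9, one_pow]
      · simpa using a9
      · exact (h9 (e4 ▸ Nat.gcd_dvd_right _ _ : 3 ^ 2 ∣ _)).elim
    obtain rfl : a = b := mul_left_cancel₀ (mul_ne_zero a0 a0) (by linear_combination this + e3)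
    exact (irreducible_X_sub_C a).not_isUnit (sq _ hR.symm.dvd)
  · obtain ⟨y, e, hy⟩ := psl_lift _ (o2.symm ▸ cop_of_ord (by omega) hr (hk ▸ k1))
    rw [o2] at hy
    have := ord_add_two_le hr r0 (congrArg Subtype.val hy)
      (by simpa using lift_ne (g := y) (t := 1) (by rw [e, o2]; simpa using hr.ne_one)) N1 N2 (N3 y e) (by omega)
    rw [Fintype.card_fin] at this
    rcases h with h | ⟨-, rfl, h, -⟩
    · omega
    · exact k1 (hk ▸ Nat.dvd_one.1 ((dvd_pow_iff (by omega) 1).1 (by simpa using h)))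


end Cfsg.Agent.S2470
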