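import Cfsg.Statements.S2477
import Cfsg.Agent.H8.Spec
-- import your own Cfsg.Agent.* helpers here

set_option autoImplicit false
open Cfsg

namespace Cfsg.Agent.S2477

/-- The set of element orders of the alternating group of degree 10 is {1, 2, 3, 4, 5, 6, 7, 8, 9, 10, 12, 15, 21}. -/
theorem result : Set.range (orderOf : alternatingGroup (Fin 10) → ℕ) = {1, 2, 3, 4, 5, 6, 7, 8, 9, 10, 12, 15, 21} := by
  have := (H8.specL_alt 10).perm (L' := [1, 2, 3, 4, 5, 6, 7, 8, 9, 10, 12, 15, 21]) (by decide +kernel)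
  ext m; rw [this m]; simp

end Cfsg.Agent.S2477
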