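import Cfsg.Statements.S2490
import Cfsg.Agent.H3.M5

set_option autoImplicit false
open Cfsg

namespace Cfsg.Agent.S2490

open H3

/-- Let G be a finite group of order 7920 = 2⁴·3²·5·11 (the order of the smallest Mathieu group) and suppose its prime graph (vertices the prime divisors of the order, distinct p, q joined when there is an element of order pq) is disconnected: the prime divisors split into two non-empty parts with no element of order pq for p in one part and q in the other. Then G is simple. -/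
theorem result {G : Type*} [Group G] [Finite G] (hord : Nat.card G = 7920)
    (hdisc : (∃ A : Set ℕ, (∃ a ∈ A, a.Prime ∧ a ∣ Nat.card G) ∧ (∃ b ∉ A, b.Prime ∧ b ∣ Nat.card G) ∧
      ∀ a ∈ A, ∀ b ∉ A, a.Prime → b.Prime → a ∣ Nat.card G → b ∣ Nat.card G → ¬ ∃ g : G, orderOf g = a * b)) :
    IsSimpleGroup G := by
  obtain ⟨A, ⟨a, a1, a2, a3⟩, ⟨b, b1, b2, b3⟩, h⟩ := hdisc
  refine (M11.simple_or hord).resolve_right fun k => ?_
  have s : ∀ p q : ℕ, p.Prime → q.Prime → p ∣ 7920 → q ∣ 7920 → (∃ g : G, orderOf g = p * q) → (p ∈ A ↔ q ∈ A) :=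
    fun p q c d e f g => ⟨fun i => by_contra fun j => h p i q j c d (hord ▸ e) (hord ▸ f) g,
      fun i => by_contra fun j => h q i p j d c (hord ▸ f) (hord ▸ e) (mul_comm p q ▸ g)⟩
  have t : ∀ p : ℕ, p.Prime → p ∣ Nat.card G → p = 2 ∨ p = 3 ∨ p = 5 ∨ p = 11 := fun p c d => by
    have := Nat.mem_primeFactors.2 ⟨c, hord ▸ d, by norm_num⟩
    rw [show Nat.primeFactors 7920 = {2, 3, 5, 11} by decide +kernel] at this
    simpa using this
  have u : (2 ∈ A ↔ 11 ∈ A) ∧ (3 ∈ A ↔ 11 ∈ A) ∧ (5 ∈ A ↔ 11 ∈ A) := by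
    have k1 := s 2 11 (by norm_num) (by norm_num) (by norm_num) (by norm_num) k.1
    rcases k.2 with ⟨k2, k3 | k3⟩ | ⟨k2, k3⟩ <;> have k2 := s _ _ (by norm_num) (by norm_num) (by norm_num) (by norm_num) k2 <;>
      have k3 := s _ _ (by norm_num) (by norm_num) (by norm_num) (by norm_num) k3 <;> tauto
  rcases t a a2 a3 with rfl | rfl | rfl | rfl <;> rcases t b b2 b3 with rfl | rfl | rfl | rfl <;> tauto

end Cfsg.Agent.S2490
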