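import Cfsg.Statements.S2503
import Cfsg.Agent.H5.SL2Cl

set_option autoImplicit false
open Cfsg

namespace Cfsg.Agent.S2503

open H5

/-- Let F be a finite field with q = 2^t ≥ 4 elements and L = PSL(2,F). Then L has a cyclic subgroup A of order q + 1 and an elementary abelian 2-subgroup B of order q such that L = ABA: every element of L is a product a·b·a' with a, a' ∈ A and b ∈ B. -/
theorem result {F : Type*} [Field F] [Fintype F]
    (h2 : 2 ∣ Fintype.card F) (h4 : 4 ≤ Fintype.card F) :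
    ∃ A B : Subgroup (Matrix.ProjectiveSpecialLinearGroup (Fin 2) F),
      IsCyclic A ∧ Nat.card A = Fintype.card F + 1 ∧ IsMulCommutative B ∧ (∀ b ∈ B, b * b = 1) ∧
        Nat.card B = Fintype.card F ∧
        ∀ g : Matrix.ProjectiveSpecialLinearGroup (Fin 2) F, ∃ a ∈ A, ∃ b ∈ B, ∃ c ∈ A, g = a * b * c := by
  have he : Even (Fintype.card F) := even_iff_two_dvd.2 h2
  have h20 := even_iff_two_eq_zero.1 he
  have : CharP F 2 := CharTwo.of_one_ne_zero_of_two_eq_zero one_ne_zero h20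
  have hs : ∀ a : F, IsSquare a := FiniteField.isSquare_of_char_two (ringChar.eq F 2)
  have hsurj : ∀ g : PG F, ∃ x : SL2 F, mkS x = g := fun g => (PS_eq_top he ▸ Subgroup.mem_top g : g ∈ PS F)
  obtain ⟨T0, D0, hT0, hf, -⟩ := exists_nonsplit F
  obtain ⟨r, hr, ho⟩ := hT0.exists_gen
  obtain ⟨a0, rfl⟩ := hsurj r
  have h3 : mkS a0 * mkS a0 ≠ 1 := sq_ne_one_of_three_le (by omega)
  have h1 : mkS a0 ≠ 1 := fun e => h3 (by simp [e])
  have hroot : ∀ c : F, c ^ 2 - a0.1.trace * c + 1 ≠ 0 := fun c e => by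
    obtain ⟨v, hv, e⟩ := eigen_of_root (g := a0.1) (c := c) (by rwa [a0.2])
    obtain ⟨x, hx⟩ := (exists_fix_iff (g := toG a0)).2 ⟨c, v, hv, e⟩
    exact hf _ (hr ▸ Subgroup.mem_zpowers _) h1 x hx
  generalize ht : a0.1.trace = τ at hroot
  have ha1 : mkS (sl2 0 (-1) 1 τ (by simp)) ≠ 1 := by rw [mkS_sl2, ne_eq, pg_eq_one_iff]; simp
  obtain ⟨c, hc⟩ := isConj_iff.1 (isConj_of_trace_sq hs h1 ha1 (by simp [ht]))
  have hT := hT0.cj (mkS c)
  have haT : mkS (sl2 0 (-1) 1 τ (by simp)) ∈ cj (mkS c) T0 := by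
    rw [← hc, map_mul, map_mul, map_inv]; exact conj_mem_cj.2 (hr ▸ Subgroup.mem_zpowers _)
  generalize cj (mkS c) T0 = T at hT haT
  generalize cj (mkS c) D0 = D at hT
  have hC := hT.centralizer_SL haT ha1
  set a : SL2 F := sl2 0 (-1) 1 τ (by simp) with ha
  have key : ∀ g : SL2 F, ∃ x, mkS x ∈ T ∧ ∃ b y, mkS y ∈ T ∧ g = x * up b * y := fun g => by
    by_cases hc : (a.1 * (g * a * g⁻¹).1 - (g * a * g⁻¹).1 * a.1).det = 0
    · have h5 : g * a * g⁻¹ ∈ T.comap mkS := by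
        rw [← hC, Subgroup.mem_centralizer_singleton_iff]
        obtain ⟨x, y, z, w, h, e⟩ := exists_sl2 (g * a * g⁻¹)
        rw [e] at hc ⊢
        simp [ha, Matrix.det_fin_two] at hc
        have h6 : y + z = 0 ∧ w - x - τ * z = 0 := by
          by_cases h7 : y + z = 0
          · exact ⟨h7, by grind⟩
          · exact (hroot ((w - x - τ * z) / (y + z)) (by field_simp; grind)).elim
        rw [ha, sl2_mul, sl2_mul, sl2_eq_iff]
        grind
      have h6 : mkS g ∈ D := hT.norm _ haT ha1 _ (by simpa using h5)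
      by_cases h7 : mkS g ∈ T
      · exact ⟨g, h7, 0, 1, by simp, by simp [up_eq_one.2]⟩
      · have h8 : up τ * a * (up τ)⁻¹ = a⁻¹ := by rw [ha, sl2_inv, sl2_inv, sl2_mul, sl2_mul, sl2_eq_iff]; grind
        have h9 : mkS (up τ) ∈ D := hT.norm _ haT ha1 _ (by rw [← map_inv, ← map_mul, ← map_mul, h8, map_inv]; exact inv_mem haT)
        have h10 : mkS (up τ) ∉ T := fun h => by
          rw [hT.comm_SL h haT, mul_inv_cancel_right, ha, sl2_inv, sl2_eq_iff] at h8
          exact hroot 1 (by grind)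
        exact ⟨g * (up τ)⁻¹, by rw [map_mul, map_inv, hT.mul_mem_iff h6 (inv_mem h9), inv_mem_iff]; tauto, τ, 1, by simp, by simp⟩
    · obtain ⟨β, hβ⟩ := hs (τ ^ 2 - 2 - (a.1 * (g * a * g⁻¹).1).trace)
      obtain ⟨d, h5, h6⟩ := conj_of_trace (x' := a.1) (y' := (up β * a * (up β)⁻¹).1) hc rfl (by rw [trace_conj, trace_conj])
        (by rw [ha, sl2_inv, sl2_mul, sl2_mul] at *; simp at *; grind) rfl (by rw [(g * a * g⁻¹).2, (up β * a * (up β)⁻¹).2])
      obtain ⟨e, he⟩ := hsurj (mkG d)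
      have h7 : conjSL d a = a := toG_inj (by rw [toG_conjSL, mul_inv_eq_iff_eq_mul]; exact Units.ext h5)
      have h8 : conjSL d (g * a * g⁻¹) = up β * a * (up β)⁻¹ := toG_inj (by
        rw [toG_conjSL, mul_inv_eq_iff_eq_mul]; exact Units.ext h6)
      have h9 : ∀ x, conjSL d x = e * x * e⁻¹ := fun x => mkS_inj h20 (by rw [mkS_conjSL, ← he]; simp)
      rw [h9] at h7 h8
      refine ⟨e⁻¹, ?_, β, (up β)⁻¹ * e * g, ?_, by group⟩
      · exact (T.comap mkS).inv_mem (hC ▸ Subgroup.mem_centralizer_singleton_iff.2 (mul_inv_eq_iff_eq_mul.1 h7))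
      · change _ ∈ T.comap mkS
        rw [← hC, Subgroup.mem_centralizer_singleton_iff]
        calc _ = (up β)⁻¹ * (e * (g * a * g⁻¹) * e⁻¹) * e * g := by group
          _ = _ := by rw [h8]; group
  have hA : (T.comap psl).map psl = T := Subgroup.map_comap_eq_self (by rw [range_psl_toPGL, PS_eq_top he]; exact le_top)
  refine ⟨T.comap psl, (UP OnePoint.infty).comap psl, ?_, ?_, ⟨⟨fun x y => Subtype.ext (psl_inj ?_)⟩⟩,
    fun b hb => psl_inj ?_, ?_, fun g => ?_⟩
  · have := hT.cyc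
    rw [← hA] at this
    exact isCyclic_of_surjective _ (pslSub _).symm.surjective
  · rw [card_equiv (pslSub _), hA, hT.card]
  · simpa using UP_comm x.2 y.2
  · rw [map_mul, map_one, ← sq]; exact pow_char_UP 2 hb
  · rw [card_comap_psl, inf_eq_left.2 (UP_le_PS _), card_UP, Nat.card_eq_fintype_card]
  · obtain ⟨g, rfl⟩ := QuotientGroup.mk_surjective g
    obtain ⟨x, hx, b, y, hy, rfl⟩ := key g
    exact ⟨x, hx, up b, mem_UP_infty.2 ⟨b, mkS_up b⟩, y, hy, rfl⟩


end Cfsg.Agent.S2503
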