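import Cfsg.Statements.S2530
import Cfsg.Agent.H5.Sym

set_option autoImplicit false
open Cfsg

namespace Cfsg.Agent.S2530

open H5 Equiv Equiv.Perm Subgroup

/-- The Coxeter presentation of the symmetric group: for every n, the symmetric group on n+1 letters is the Coxeter group of type A_n with the adjacent transpositions (i, i+1) as simple reflections; that is, it is presented by generators r_1, …, r_n subject to r_i² = 1, (r_i r_j)² = 1 for |i − j| > 1 and (r_i r_{i+1})³ = 1, with r_i mapping to (i, i+1). -/
theorem result (n : ℕ) :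
    ∃ cs : CoxeterSystem (CoxeterMatrix.A n) (Equiv.Perm (Fin (n + 1))), ∀ i : Fin n, cs.simple i = Equiv.swap i.castSucc i.succ := by
  let cs := (CoxeterMatrix.A n).toCoxeterSystem
  have L : (CoxeterMatrix.A n).IsLiftable fun i : Fin n => (swap i.castSucc i.succ : Perm (Fin (n + 1))) := by
    intro i j
    have n1 : ∀ i : Fin n, i.castSucc ≠ i.succ := fun i => i.castSucc_lt_succ.ne
    simp only [CoxeterMatrix.A, Matrix.of_apply]
    split_ifs with h1 h2
    · subst h1; simp
    · rcases h2 with h | h
      · have e : i.castSucc = j.succ := Fin.ext (by simp [h])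
        have := isThreeCycle_swap_mul_swap_same (n1 i) (e ▸ (n1 j).symm) (by simp [Fin.ext_iff]; omega)
        rw [swap_comm j.castSucc, ← e, ← this.orderOf, pow_orderOf_eq_one]
      · have e : j.castSucc = i.succ := Fin.ext (by simp [h])
        have := isThreeCycle_swap_mul_swap_same (n1 i).symm (e ▸ (n1 j)) (by simp [Fin.ext_iff]; omega)
        rw [swap_comm i.castSucc, e, ← this.orderOf, pow_orderOf_eq_one]
    · have : Commute (swap i.castSucc i.succ) (swap j.castSucc j.succ) := by
        rw [commute_iff_eq, swap_mul_eq_mul_swap, swap_inv, swap_apply_of_ne_of_ne, swap_apply_of_ne_of_ne] <;>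
          simp [Fin.ext_iff] at * <;> omega
      rw [this.mul_pow]; simp [sq]
  let φ := cs.lift ⟨_, L⟩
  have S : Function.Surjective φ := fun g => by
    have : Submonoid.closure _ ≤ MonoidHom.mrange φ := Submonoid.closure_le.2 (by
      rintro _ ⟨i, rfl⟩; exact ⟨cs.simple i, cs.lift_apply_simple L i⟩ : (Set.range fun i : Fin n => swap i.castSucc i.succ) ⊆ _)
    exact this (mclosure_swap_castSucc_succ n ▸ Submonoid.mem_top g)
  let s : ℕ → (CoxeterMatrix.A n).Group := fun i => if h : i < n then cs.simple ⟨i, h⟩ else 1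
  obtain ⟨f, c⟩ := coxA_card s n (fun i h => by simp [s, h]) (fun i j a b => by
      have := cs.simple_mul_simple_pow ⟨i, by omega⟩ ⟨j, b⟩
      rw [show (CoxeterMatrix.A n).M ⟨i, by omega⟩ ⟨j, b⟩ = 2 by
        simp [CoxeterMatrix.A, show i ≠ j by omega, show j + 1 ≠ i by omega, show i + 1 ≠ j by omega], sq] at this
      simp only [s, dif_pos b, dif_pos (show i < n by omega)]
      rw [eq_inv_of_mul_eq_one_left this]; simp) (fun i a => by
      have := cs.simple_mul_simple_pow ⟨i, by omega⟩ ⟨i + 1, a⟩
      rw [show (CoxeterMatrix.A n).M ⟨i, by omega⟩ ⟨i + 1, a⟩ = 3 by simp [CoxeterMatrix.A]] at this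
      simp only [s, dif_pos a, dif_pos (show i < n by omega)]
      rw [← mul_inv_eq_one, ← this]; simp [pow_succ, mul_assoc])
  have T : closure (s '' Set.Iio n) = ⊤ := by
    rw [eq_top_iff, ← cs.subgroup_closure_range_simple]
    exact closure_mono (by rintro _ ⟨i, rfl⟩; exact ⟨i, i.2, by simp [s]⟩)
  rw [T] at f c
  have : Finite (CoxeterMatrix.A n).Group := Finite.of_equiv _ topEquiv.toEquiv
  have B : Function.Bijective φ := (Nat.bijective_iff_surjective_and_card φ).2 ⟨S, le_antisymm (by
    rw [Nat.card_perm]; simpa using c) (Nat.card_le_card_of_surjective _ S)⟩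
  exact ⟨cs.map (MulEquiv.ofBijective φ B), fun i => cs.lift_apply_simple L i⟩


end Cfsg.Agent.S2530
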