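import Cfsg.Statements.S2652
import Cfsg.Agent.H7.T.Q23_13
import Cfsg.Agent.H7.TL5
import Cfsg.Agent.H7.Inv23

set_option autoImplicit false
open Cfsg

namespace Cfsg.Agent.S2652

open H7 H7.T Subgroup

theorem ex {G : Type*} [Group G] (F : FM P23q G) : (∀ A : Subgroup G, A ≤ NN (F.zW W_s23) 18 0 → (A.subgroupOf (NN (F.zW W_s23) 18 0)).Normal →
    Cfsg.IsElementaryAbelian 2 A → Nat.card A ≤ 2 ^ 11) ∧ ∃! A : Subgroup G, A ≤ NN (F.zW W_s23) 18 0 ∧ (A.subgroupOf (NN (F.zW W_s23) 18 0)).Normal ∧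
      Cfsg.IsElementaryAbelian 2 A ∧ Nat.card A = 2 ^ 11 := by
  have := F.fin
  have c : Nat.card (NN (F.zW W_s23) 18 7) = 2 ^ 11 := (pcs_s23 F).card (by decide) (by decide)
  have l : NN (F.zW W_s23) 18 7 ≤ NN (F.zW W_s23) 18 0 := NN_mono (by decide)
  refine ⟨fun A a _ e => c ▸ (le_total _ _).elim id fun n => card_le_of_le (jm_s23 F A a e n), _, ⟨l, ?_, ea_s23 F, c⟩,
    fun A h => eq_of_le_of_card_ge (jm_s23 F A h.1 h.2.2.1 (c.trans h.2.2.2.symm).le) (c.trans h.2.2.2.symm).le⟩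
  exact (normal_subgroupOf_iff_le_normalizer l).2 fun g hg => mem_normalizer_fintype fun b hb => jm_s23 F ((NN (F.zW W_s23) 18 7).map (MulAut.conj g).toMonoidHom)
    (by rintro _ ⟨b, hb, rfl⟩; exact mul_mem (mul_mem hg (l hb)) (inv_mem hg)) (elab_map _ (ea_s23 F)) (card_map_of_injective (MulAut.conj _).injective).ge ⟨b, hb, rfl⟩

/-- Let T be a Sylow 2-subgroup of the Fischer group Fi₂₃ (the finitely presented group `Spor.Fi23`; T has order 2¹⁸). Then every elementary abelian subgroup of Fi₂₃ contained in T and normal in T has order at most 2¹¹, and there is exactly one such subgroup of order 2¹¹. -/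
theorem result
    (T : Sylow 2 Cfsg.Spor.Fi23) :
    (∀ A : Subgroup Cfsg.Spor.Fi23, A ≤ T → (A.subgroupOf T).Normal → Cfsg.IsElementaryAbelian 2 A →
        Nat.card A ≤ 2 ^ 11) ∧
    ∃! A : Subgroup Cfsg.Spor.Fi23, A ≤ T ∧ (A.subgroupOf T).Normal ∧ Cfsg.IsElementaryAbelian 2 A ∧
        Nat.card A = 2 ^ 11 := by
  obtain ⟨g, e⟩ := (F23q F23).syl Nat.prime_two (pcs_s23 _) (by decide +kernel) T
  rw [e]
  exact ex _

end Cfsg.Agent.S2652
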