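import Cfsg.Statements.S2787
import Cfsg.Agent.H9.Qd
import Cfsg.Agent.S1157

set_option autoImplicit false
open Cfsg

namespace Cfsg.Agent.S2787

open H9 Subgroup Matrix
open scoped MatrixGroups commutatorElement

theorem sq_cent {F : Type*} [Field F] (h2 : (2 : F) ≠ 0) (g h : SL(2, F)) (e : g * g = 1) : g * h = h * g := by
  have d := g.2
  rw [det_fin_two] at d
  have e' : g.1 * g.1 = 1 := congrArg Subtype.val e
  have e00 := congrFun (congrFun e' 0) 0
  have e01 := congrFun (congrFun e' 0) 1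
  have e10 := congrFun (congrFun e' 1) 0
  have e11 := congrFun (congrFun e' 1) 1
  simp [mul_apply, Fin.sum_univ_two, -mul_eq_zero] at e00 e01 e10 e11
  have b : g.1 0 1 = 0 := by grind
  have c : g.1 1 0 = 0 := by grind
  have a : g.1 0 0 = g.1 1 1 := by grind
  apply Subtype.ext
  show g.1 * h.1 = h.1 * g.1
  ext i j
  fin_cases i <;> fin_cases j <;> simp [mul_apply, Fin.sum_univ_two, a, b, c, mul_comm]

theorem lift_comm {F : Type*} [Field F] (h2 : (2 : F) ≠ 0) (x z : SL(2, F))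
    (e : (x : ProjectiveSpecialLinearGroup (Fin 2) F) * z = z * x)
    (hx : (x : ProjectiveSpecialLinearGroup (Fin 2) F) * x ≠ 1) : x.1 * z.1 = z.1 * x.1 := by
  rw [← QuotientGroup.mk_mul, ← QuotientGroup.mk_mul, QuotientGroup.eq, Matrix.SpecialLinearGroup.mem_center_iff] at e
  obtain ⟨r, r1, r2⟩ := e
  have e1 : (x * z).1 * scalar (Fin 2) r = (z * x).1 := by
    rw [r2]; exact congrArg Subtype.val (mul_inv_cancel_left (x * z) (z * x))
  have e2 : r • (x.1 * z.1) = z.1 * x.1 := by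
    rw [scalar_apply, ← smul_eq_mul_diagonal] at e1; exact e1
  have r3 : r * r = 1 := by simpa [sq] using r1
  rcases mul_self_eq_one_iff.1 r3 with rfl | rfl
  · simpa using e2
  · exfalso
    apply hx
    rw [← QuotientGroup.mk_mul, QuotientGroup.eq_one_iff, Matrix.SpecialLinearGroup.mem_center_iff]
    have d := x.2
    have d' := z.2
    rw [det_fin_two] at d d'
    have e00 := congrFun (congrFun e2 0) 0
    have e01 := congrFun (congrFun e2 0) 1
    have e10 := congrFun (congrFun e2 1) 0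
    have e11 := congrFun (congrFun e2 1) 1
    simp [mul_apply, Fin.sum_univ_two, -mul_eq_zero] at e00 e01 e10 e11
    have t : x.1 0 0 + x.1 1 1 = 0 := by grind
    refine ⟨-1, by simp, ?_⟩
    show _ = x.1 * x.1
    ext i j
    fin_cases i <;> fin_cases j <;> simp [mul_apply, Fin.sum_univ_two] <;> grind

theorem psl_q {F : Type*} [Field F] (h2 : (2 : F) ≠ 0) (x y z : ProjectiveSpecialLinearGroup (Fin 2) F) (hz : z ≠ 1)
    (h1 : x * z = z * x) (h3 : y * z = z * y) (hx : x * x ≠ 1) (hy : y * y ≠ 1) : x * y = y * x := by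
  obtain ⟨x, rfl⟩ := QuotientGroup.mk_surjective x
  obtain ⟨y, rfl⟩ := QuotientGroup.mk_surjective y
  obtain ⟨z, rfl⟩ := QuotientGroup.mk_surjective z
  have a := lift_comm h2 x z h1 hx
  have b := lift_comm h2 y z h3 hy
  have n : ¬ (z.1 0 1 = 0 ∧ z.1 1 0 = 0 ∧ z.1 0 0 = z.1 1 1) := fun ⟨c1, c2, c3⟩ => hz (by
    rw [QuotientGroup.eq_one_iff, Subgroup.mem_center_iff]
    intro h
    apply Subtype.ext
    show h.1 * z.1 = z.1 * h.1
    ext i j
    fin_cases i <;> fin_cases j <;> simp [mul_apply, Fin.sum_univ_two, c1, c2, c3, mul_comm])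
  have a00 := congrFun (congrFun a 0) 0
  have a01 := congrFun (congrFun a 0) 1
  have a10 := congrFun (congrFun a 1) 0
  have b00 := congrFun (congrFun b 0) 0
  have b01 := congrFun (congrFun b 0) 1
  have b10 := congrFun (congrFun b 1) 0
  simp only [mul_apply, Fin.sum_univ_two] at a00 a01 a10 b00 b01 b10
  rw [← QuotientGroup.mk_mul, ← QuotientGroup.mk_mul]
  congr 1
  apply Subtype.ext
  show x.1 * y.1 = y.1 * x.1
  ext i j
  fin_cases i <;> fin_cases j <;> simp only [mul_apply, Fin.sum_univ_two, Fin.zero_eta, Fin.mk_one] <;> grind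

theorem core {K X : Type*} [Group K] [Finite K] [Group X] [Finite X] {p : ℕ} [Fact p.Prime] (hp : p ≠ 2)
    (θ : K →* SL(2, ZMod p)) (hθ : Function.Surjective θ) (π : K →* X) (hk : ∀ g, π g = 1 → θ g = 1)
    (hX : ∀ T : Subgroup X, IsPGroup 2 T → ∀ x ∈ T, ∀ y ∈ T, x * x ≠ 1 → y * y ≠ 1 → x * y = y * x) : False := by
  haveI : Fact (Nat.Prime 2) := ⟨Nat.prime_two⟩
  have h2 : (2 : ZMod p) ≠ 0 := fun e => hp ((Nat.prime_dvd_prime_iff_eq Fact.out Nat.prime_two).1
    ((ZMod.natCast_eq_zero_iff 2 p).1 (by exact_mod_cast e)))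
  obtain ⟨T⟩ : Nonempty (Sylow 2 K) := inferInstance
  refine Sect.not_comm hp (K := (⊤ : Subgroup SL(2, ZMod p))) ⟨⊤, le_rfl, Subgroup.subtype _, fun y => ⟨⟨y, trivial⟩, rfl⟩⟩
    (syl_top_of_sylow (T.mapSurjective hθ)) ⟨⟨?_⟩⟩
  rintro ⟨_, x, hx, rfl⟩ ⟨_, y, hy, rfl⟩
  apply Subtype.ext
  show θ x * θ y = θ y * θ x
  by_contra c
  have := hX ((T : Subgroup K).map π) (T.isPGroup'.map π) _ ⟨x, hx, rfl⟩ _ ⟨y, hy, rfl⟩
    (fun e => c (sq_cent h2 _ _ (by rw [← map_mul]; exact hk _ (by rw [map_mul, e]))))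
    (fun e => c (sq_cent h2 _ _ (by rw [← map_mul]; exact hk _ (by rw [map_mul, e]))).symm)
  apply c
  rw [← commutatorElement_eq_one_iff_mul_comm, ← map_commutatorElement] at this ⊢
  exact hk _ this

/-- Let p be a prime and let H act by conjugation on the elementary abelian p-subgroup V of a finite group, irreducibly (no H-invariant subgroups of V other than 1 and V) and nontrivially, and suppose H/C_H(V) is isomorphic to PSL₂(F) for a field F with p^n elements, p^n odd, or p = 3 and H/C_H(V) is isomorphic to a Ree group ²G₂(3^(2m+1)), m ≥ 1. Then no subgroup A of H acting nontrivially on V acts quadratically: [V, A, A] = 1 forces [V, A] = 1. -/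
theorem result {G : Type*} [Group G] [Finite G] {p : ℕ} [Fact p.Prime] (V H : Subgroup G) (hV : Cfsg.IsElementaryAbelian p V) (hHV : H ≤ Subgroup.normalizer (V : Set G)) (hirr : ∀ U : Subgroup G, U ≤ V → H ≤ Subgroup.normalizer (U : Set G) → U = ⊥ ∨ U = V) (hnt : ¬ H ≤ Subgroup.centralizer (V : Set G)) [hn : ((Subgroup.centralizer (V : Set G)).subgroupOf H).Normal] (hq : (∃ (F : Type) (_ : Field F) (_ : Fintype F) (n : ℕ), Fintype.card F = p ^ n ∧ Odd (Fintype.card F) ∧ Nonempty (↥H ⧸ (Subgroup.centralizer (V : Set G)).subgroupOf H ≃* Matrix.ProjectiveSpecialLinearGroup (Fin 2) F)) ∨ (p = 3 ∧ Cfsg.Lie.IsoRee (↥H ⧸ (Subgroup.centralizer (V : Set G)).subgroupOf H))) (A : Subgroup G) (hA : A ≤ H) (hquad : ⁅⁅V, A⁆, A⁆ = ⊥) : ⁅V, A⁆ = ⊥ := by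
  haveI : Fact (Nat.Prime 2) := ⟨Nat.prime_two⟩
  obtain ⟨hp, hX⟩ : p ≠ 2 ∧ ∀ T : Subgroup (↥H ⧸ (Subgroup.centralizer (V : Set G)).subgroupOf H), IsPGroup 2 T →
      ∀ x ∈ T, ∀ y ∈ T, x * x ≠ 1 → y * y ≠ 1 → x * y = y * x := by
    rcases hq with ⟨F, _, _, n, h1, h2, ⟨e⟩⟩ | ⟨rfl, F, _, _, m, h1, h2, ⟨e⟩⟩
    · have f2 : (2 : F) ≠ 0 := fun c2 => by
        have : ringChar F = 2 := CharP.ringChar_of_prime_eq_zero Nat.prime_two (by exact_mod_cast c2)
        have := FiniteField.even_card_of_char_two this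
        obtain ⟨r, hr⟩ := h2
        omega
      refine ⟨?_, fun T hT x hx y hy a b => ?_⟩
      · rintro rfl
        have := Fintype.one_lt_card (α := F)
        rw [h1] at h2 this
        rcases n with _ | n
        · simp at this
        · exact absurd h2 (by simp [Nat.odd_pow_iff])
      · haveI : Nontrivial T := ⟨⟨⟨x, hx⟩, 1, fun c => a (by rw [show x = 1 from congrArg Subtype.val c, one_mul])⟩⟩
        haveI := hT.center_nontrivial
        obtain ⟨⟨⟨z, z1⟩, z2⟩, z3⟩ := exists_ne (1 : center T)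
        apply e.injective
        rw [map_mul, map_mul]
        refine psl_q f2 _ _ (e z) (fun c => z3 (Subtype.ext (Subtype.ext (e.map_eq_one_iff.1 c)))) ?_ ?_
          (by rw [← map_mul]; exact fun c => a (e.map_eq_one_iff.1 c))
          (by rw [← map_mul]; exact fun c => b (e.map_eq_one_iff.1 c))
        · rw [← map_mul, ← map_mul]; exact congrArg e (congrArg Subtype.val (Subgroup.mem_center_iff.1 z2 ⟨x, hx⟩))
        · rw [← map_mul, ← map_mul]; exact congrArg e (congrArg Subtype.val (Subgroup.mem_center_iff.1 z2 ⟨y, hy⟩))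
    · refine ⟨by norm_num, fun T hT x hx y hy _ _ => ?_⟩
      haveI : Finite ↥(Cfsg.Lie.twistedG2 F (3 ^ m)) := Finite.of_equiv _ e.toEquiv
      obtain ⟨S, hS⟩ := (hT.map e.toMonoidHom).exists_le_sylow
      have c := (Cfsg.Agent.S1157.result h1 h2 S).1
      apply e.injective
      rw [map_mul, map_mul]
      exact (c.ge (hS ⟨y, hy, rfl⟩)) _ (hS ⟨x, hx, rfl⟩)
  rw [commutator_comm, commutator_eq_bot_iff_le_centralizer]
  intro a ha
  by_contra na
  have hq' : ⁅⁅V, zpowers a⁆, zpowers a⁆ = ⊥ :=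
    le_bot_iff.1 (hquad ▸ commutator_mono (commutator_mono le_rfl (zpowers_le.2 ha)) (zpowers_le.2 ha))
  obtain ⟨K, hK, θ, j, k1, k2, k3, k4⟩ := nat2_of_not_mem_Opm hp hV hHV (hA ha) hq' fun h => by
    obtain ⟨S⟩ : Nonempty (Sylow p H) := inferInstance
    have hS := syl_of_sylow S
    have pV : IsPGroup p V := fun x => ⟨1, Subtype.ext (by simpa using hV.2 x x.2)⟩
    have nS : (S : Subgroup H).map H.subtype ≤ normalizer (V : Set G) := (map_subtype_le _).trans hHV
    have pP : IsPGroup p (V ⊔ (S : Subgroup H).map H.subtype : Subgroup G) :=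
      IsPGroup.to_sup_of_normal_left' pV hS.isP nS
    have nV : V ≠ ⊥ := fun e => hnt (by rw [e]; intro g _ x hx; rw [mem_bot.1 hx, one_mul, mul_one])
    have h4 := inf_centralizer_ne_bot_of_nilpotent pP.isNilpotent le_sup_left (sup_le le_normalizer nS) nV
    rcases hirr (V ⊓ centralizer (Opm p H (centralizer (V : Set G)) : Set G)) inf_le_left
      (normalizer_inf hHV (normalizer_centralizer (le_normalizer_Opm _ _))) with e | e
    · refine h4 (le_bot_iff.1 (e ▸ le_inf inf_le_left ?_))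
      exact (inf_le_inf_left V (centralizer_anti le_sup_right)).trans (le_centralizer_iff.1 (Opm_le_centralizer hS))
    · exact na (le_centralizer_iff.1 (e.ge.trans inf_le_right) h)
  refine core hp θ k1 ((QuotientGroup.mk' _).comp (inclusion hK)) (fun g hg => ?_) hX
  have gc : (g : G) ∈ centralizer (V : Set G) := mem_subgroupOf.1 ((QuotientGroup.eq_one_iff (inclusion hK g)).1 hg)
  apply Subtype.ext
  apply toLin'.injective
  refine LinearMap.ext fun x => ?_
  have := k4 g x
  rw [← gc _ (k3 ⟨_, rfl⟩), mul_inv_cancel_right] at this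
  have := congrArg Multiplicative.toAdd (k2 this)
  rw [toLin'_apply, toLin'_apply]
  exact this.symm.trans (one_mulVec x).symm


end Cfsg.Agent.S2787
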