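import Cfsg.Statements.S2810
import Cfsg.Agent.H9.MS2

set_option autoImplicit false
open Cfsg

namespace Cfsg.Agent.S2810

/-- Let H be a finite group of characteristic p and L a subgroup of H centralizing every factor of some H-invariant chain 1 = A₀ ≤ A₁ ≤ … ≤ Aₙ = O_p(H) of normal subgroups (that is, [A_{i+1}, L] ≤ Aᵢ for each i). Then L ≤ O_p(H). -/
theorem result {H : Type*} [Group H] [Finite H] {p : ℕ} [Fact p.Prime] (hchar : Subgroup.centralizer (Cfsg.pCore p H : Set H) ≤ Cfsg.pCore p H) (L : Subgroup H) (n : ℕ) (A : Fin (n + 1) → Subgroup H) (h0 : A 0 = ⊥) (hn : A (Fin.last n) = Cfsg.pCore p H) (hmono : Monotone A) (hnorm : ∀ i, (A i).Normal) (hcent : ∀ i : Fin n, ⁅A i.succ, L⁆ ≤ A i.castSucc) : L ≤ Cfsg.pCore p H := by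
  open H9 Subgroup in open scoped commutatorElement in
  have h1 : ∀ i : Fin n, ⁅A i.succ, ncl L ⊤⁆ ≤ A i.castSucc := fun i => by
    haveI := hnorm i.succ
    haveI := hnorm i.castSucc
    exact commutator_ncl_le (hcent i) (top_le_normalizer _) (top_le_normalizer _) (le_top.trans (top_le_normalizer _))
  have h2 : ∀ k (hk : k ≤ n), iterCommutator (pCore p H) (ncl L ⊤) k ≤ A ⟨n - k, by omega⟩ := by
    intro k
    induction k with
    | zero => intro _; exact hn.ge
    | succ k ih =>
      intro hk
      rw [iter_succ]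
      have := h1 ⟨n - (k + 1), by omega⟩
      refine (commutator_mono ((ih (by omega)).trans (le_of_eq ?_)) le_rfl).trans this
      congr 1
      ext; simp only [Fin.succ_mk]; omega
  have h3 : iterCommutator (pCore p H) (ncl L ⊤) n = ⊥ := by
    rw [eq_bot_iff, ← h0]
    refine (h2 n le_rfl).trans (le_of_eq ?_)
    congr 1
    ext; simp
  haveI := normal_of_top_le (le_normalizer_ncl L ⊤)
  exact (le_ncl L ⊤).trans (le_pCore (isP_of_iter (pCore_p p) (le_top.trans (top_le_normalizer _))
    (inf_le_right.trans hchar) h3))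

end Cfsg.Agent.S2810
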