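import Cfsg.Statements.S2814
import Cfsg.Agent.H9.MS2

set_option autoImplicit false
open Cfsg

namespace Cfsg.Agent.S2814

/-- Let A be a subgroup of the finite group H and K the subnormal closure of A (intersection of the subnormal subgroups containing A). Then K is the normal closure of A inside K and N_H(A) ≤ N_H(K); K = A·O^p(K), O^p(K) being generated by the elements of K of order prime to p; and if A is a p-group, O^p(K) = [O^p(K), A]. -/
theorem result {H : Type*} [Group H] [Finite H] {p : ℕ} [Fact p.Prime] (A : Subgroup H) (K : Subgroup H) (hK : K = Cfsg.subnormalClosure A) : (Subgroup.normalClosure ((A.subgroupOf K : Subgroup ↥K) : Set ↥K)).map K.subtype = K ∧ Subgroup.normalizer (A : Set H) ≤ Subgroup.normalizer (K : Set H) ∧ A ⊔ (Cfsg.pResidual p ↥K).map K.subtype = K ∧ (IsPGroup p ↥A → ⁅(Cfsg.pResidual p ↥K).map K.subtype, A⁆ = (Cfsg.pResidual p ↥K).map K.subtype) := by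
  open H9 Subgroup in open scoped commutatorElement in
  rw [Ores_eq]
  have hle : ∀ X, A ≤ X → SN X ⊤ → K ≤ X := fun X h1 h2 => hK ▸ sInf_le ⟨h1, sn_top_iff.1 h2⟩
  have hA : A ≤ K := hK ▸ le_sInf fun X h => h.1
  have hsn : SN K ⊤ := by
    obtain ⟨U, ⟨h1, h2⟩, hmin⟩ := exists_minimal_of_wellFoundedLT (fun U : Subgroup H => A ≤ U ∧ SN U ⊤)
      ⟨⊤, le_top, SN.refl _⟩
    have : K = U := le_antisymm (hle U h1 h2) (hK ▸ le_sInf fun X h =>
      (hmin ⟨le_inf h1 h.1, h2.inf (sn_top_iff.2 h.2)⟩ inf_le_left).trans inf_le_right)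
    exact this ▸ h2
  have h3 : A ⊔ Ores p K = K := le_antisymm (sup_le hA (Ores_le p K))
    (hle _ le_sup_left ((sn_of_Ores_le le_sup_right (sup_le hA (Ores_le p K))).trans hsn))
  refine ⟨?_, le_normalizer_of_cj_le fun g hg => cj_le_iff.2 (hle _ ?_ ?_), h3, fun hp => ?_⟩
  · rw [ncl_eq hA]
    exact le_antisymm (ncl_le_self hA) (hle _ (le_ncl A K)
      ((SN.of_normal (ncl_le_self hA) (le_normalizer_ncl A K)).trans hsn))
  · exact cj_le_iff.1 ((mem_normalizer_iff_cj.1 hg).le.trans hA)
  · simpa using hsn.cj g⁻¹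
  · have h4 : ⁅Ores p K, A⁆ ≤ Ores p K := commutator_le_left' (hA.trans (le_normalizer_Ores p K))
    refine le_antisymm h4 (Ores_le_of_sup hp (le_normalizer_commutator_right _ _) (hle _ le_sup_right
      ((SN.of_normal (sup_le (h4.trans (Ores_le p K)) hA) ?_).trans hsn)))
    conv_lhs => rw [← h3]
    exact sup_le (le_sup_right.trans le_normalizer) (le_normalizer_commutator_sup _ _)

end Cfsg.Agent.S2814
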