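import Cfsg.Statements.S2815
import Cfsg.Agent.H9.MS2

set_option autoImplicit false
open Cfsg

namespace Cfsg.Agent.S2815

/-- Let H be a finite group and p a prime dividing its order with O_p(H) = 1, and suppose K = O^p(H) (generated by the elements of order prime to p) is quasisimple. Then K = F*(H); for every nontrivial p-subgroup Y of H, K = [K, Y] and K lies in the subgroup generated by the K-conjugates of Y; every normal subgroup of H not containing K has order prime to p; and H is p-irreducible. -/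
theorem result {H : Type*} [Group H] [Finite H] {p : ℕ} [Fact p.Prime] (hp : p ∣ Nat.card H) (hO : Cfsg.pCore p H = ⊥) (hq : Cfsg.IsQuasisimple ↥(Cfsg.pResidual p H)) : Cfsg.pResidual p H = Cfsg.generalizedFittingSubgroup H ∧ (∀ Y : Subgroup H, IsPGroup p ↥Y → Y ≠ ⊥ → ⁅Cfsg.pResidual p H, Y⁆ = Cfsg.pResidual p H ∧ Cfsg.pResidual p H ≤ ⨆ k : ↥(Cfsg.pResidual p H), Y.map (MulAut.conj (k : H)).toMonoidHom) ∧ (∀ C : Subgroup H, C.Normal → ¬ Cfsg.pResidual p H ≤ C → (Nat.card ↥C).Coprime p) ∧ Cfsg.IsPIrreducible p H := by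
  open H9 Subgroup in open scoped commutatorElement in
  rw [← Op_top] at hO
  rw [← qs_iff] at hq
  rw [← Fst_top]
  have e := Ores_top (G := H) p
  have hK : Comp (pResidual p H) ⊤ := ⟨e ▸ sn_Ores p ⊤, hq⟩
  have h1 : pResidual p H = Fst ⊤ := le_antisymm (hK.le_Lay.trans (Lay_le_Fst _)) (e ▸ Fst_le_Ores hO)
  have h3 : ∀ C : Subgroup H, C.Normal → ¬ pResidual p H ≤ C → (Nat.card ↥C).Coprime p := fun C hC hn => by
    have h2 : C ≤ centralizer (Fst (⊤ : Subgroup H) : Set H) :=
      h1 ▸ le_centralizer_iff''.2 ((hK.le_or_comm (SN.of_normal_top C)).resolve_left hn)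
    exact (SN.of_normal_top C).cop_of_nilpotent hO (isNilpotent_of_le_centralizer
      (h2.trans (centralizer_anti ((le_inf le_top h2).trans (centralizer_Fst_le ⊤)))))
  refine ⟨h1, fun Y hY hne => ?_, h3, fun h => ?_, fun N hN hn => by_contra fun h => hn ?_⟩
  · have h2 : pResidual p H ≤ ⁅pResidual p H, Y⁆ := (hK.le_commutator_or le_top).resolve_right fun h =>
      hne (eq_bot_of_centralizer_Fst hO hY le_top (h1 ▸ le_centralizer_iff''.2 h))
    exact ⟨le_antisymm (commutator_le_left' (le_top.trans (e ▸ le_normalizer_Ores p ⊤))) h2,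
      h2.trans (commutator_le_ncl' Y _)⟩
  · obtain ⟨T, hT⟩ := exists_syl (p := p) (⊤ : Subgroup H)
    have := hT.eq_bot_iff.1 (le_bot_iff.1 (hO ▸ hT.pcl_iff'.1 (pcl_top_iff.1 h)))
    rw [card_top] at this
    exact cop_iff.1 this hp
  · exact pcl_iff.2 (pcl_of_cop (h3 N hN h))

end Cfsg.Agent.S2815
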