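import Cfsg.Statements.S2816
import Cfsg.Agent.H9.MS2

set_option autoImplicit false
open Cfsg

namespace Cfsg.Agent.S2816

/-- Let H be a finite group and p a prime with O_p(H) = 1, and Y a p-subgroup of H. Then for every subnormal subgroup K of H containing Y, [F*(H), Y] = [F*(K), Y] = [F*(K), Y, Y]; and if Y₀ ≤ Y with [F*(H), Y, Y₀] = 1 then Y₀ = 1 (in particular [F*(H), Y] = 1 forces Y = 1). -/
theorem result {H : Type*} [Group H] [Finite H] {p : ℕ} [Fact p.Prime] (hO : Cfsg.pCore p H = ⊥) (Y : Subgroup H) (hY : IsPGroup p ↥Y) : (∀ K : Subgroup H, K.IsSubnormal → Y ≤ K → ⁅Cfsg.generalizedFittingSubgroup H, Y⁆ = ⁅(Cfsg.generalizedFittingSubgroup ↥K).map K.subtype, Y⁆ ∧ ⁅(Cfsg.generalizedFittingSubgroup ↥K).map K.subtype, Y⁆ = ⁅⁅(Cfsg.generalizedFittingSubgroup ↥K).map K.subtype, Y⁆, Y⁆) ∧ (∀ Y₀ : Subgroup H, Y₀ ≤ Y → ⁅⁅Cfsg.generalizedFittingSubgroup H, Y⁆, Y₀⁆ = ⊥ → Y₀ = ⊥) := by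
  open H9 Subgroup in open scoped commutatorElement in
  rw [← Op_top] at hO
  rw [← Fst_top]
  have hb : ∀ A : Subgroup H, A ≤ normalizer ((⊤ : Subgroup H) : Set H) := fun A => le_top.trans le_normalizer
  refine ⟨fun K hK h => ?_, fun Y₀ h h1 => ?_⟩
  · rw [Fst_eq]
    rw [← sn_top_iff] at hK
    refine ⟨le_antisymm ?_ (commutator_mono hK.Fst_le_Fst le_rfl),
      (Fst_ccomm (hK.Op_eq_bot hO) hY (h.trans le_normalizer)).symm⟩
    have e := Fst_ccomm hO hY (hb Y)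
    rw [← e, hK.Fst_eq_inf]
    exact commutator_mono (le_inf (commutator_le_left' (normalizer_Fst (hb Y)))
      (hK.le_of_eq_commutator h le_top e)) le_rfl
  · refine eq_bot_of_centralizer_Fst hO (hY.to_le h) le_top (le_centralizer_iff''.2 ?_)
    rw [← Fst_ccomm hO (hY.to_le h) (hb _), eq_bot_iff, ← h1]
    exact commutator_mono (commutator_mono le_rfl h) le_rfl

end Cfsg.Agent.S2816
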