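import Cfsg.Statements.S2817
import Cfsg.Agent.H9.MS2

set_option autoImplicit false
open Cfsg

namespace Cfsg.Agent.S2817

/-- Let H be a finite group and p a prime with O_p(H) = 1, Q a p-subgroup of H, L = [F*(H), Q], and F the largest normal subgroup of F*(H) centralized by Q (a normal subgroup of F*(H) centralized by Q and containing every such). Then F = C_{F*(H)}(LQ); L = [L, Q]; L ∩ F ≤ Φ(L); every p-subgroup B of N_H(Q) with [L, B] ≤ F satisfies [L, B] = 1; and C_H(FL) has order prime to p. -/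
theorem result {H : Type*} [Group H] [Finite H] {p : ℕ} [Fact p.Prime] (hO : Cfsg.pCore p H = ⊥) (Q : Subgroup H) (hQ : IsPGroup p ↥Q) (L : Subgroup H) (hL : L = ⁅Cfsg.generalizedFittingSubgroup H, Q⁆) (F : Subgroup H) (hF : F ≤ Cfsg.generalizedFittingSubgroup H ∧ Cfsg.generalizedFittingSubgroup H ≤ Subgroup.normalizer (F : Set H) ∧ Q ≤ Subgroup.centralizer (F : Set H) ∧ ∀ N : Subgroup H, N ≤ Cfsg.generalizedFittingSubgroup H → Cfsg.generalizedFittingSubgroup H ≤ Subgroup.normalizer (N : Set H) → Q ≤ Subgroup.centralizer (N : Set H) → N ≤ F) : F = Cfsg.generalizedFittingSubgroup H ⊓ Subgroup.centralizer ((L ⊔ Q : Subgroup H) : Set H) ∧ ⁅L, Q⁆ = L ∧ L ⊓ F ≤ (frattini ↥L).map L.subtype ∧ (∀ B : Subgroup H, IsPGroup p ↥B → B ≤ Subgroup.normalizer (Q : Set H) → ⁅L, B⁆ ≤ F → ⁅L, B⁆ = ⊥) ∧ (Nat.card ↥(Subgroup.centralizer ((F ⊔ L : Subgroup H) : Set H))).Coprime p := by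
  open H9 Subgroup in open scoped commutatorElement in
  rw [← Op_top] at hO
  rw [← Fst_top] at hL hF ⊢
  have hb : ∀ A : Subgroup H, A ≤ normalizer ((⊤ : Subgroup H) : Set H) := fun A => le_top.trans le_normalizer
  set E := Fst (⊤ : Subgroup H)
  have hE : ∀ A : Subgroup H, A ≤ normalizer (E : Set H) := fun A => normalizer_Fst (hb A)
  obtain ⟨f1, f2, f3, f4⟩ := hF
  have hn : ncl Q E = L ⊔ Q := by rw [ncl_eq_sup, hL]
  have h1 : F = E ⊓ centralizer ((L ⊔ Q : Subgroup H) : Set H) := le_antisymm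
    (le_inf f1 (le_centralizer_iff.1 (hn ▸ ncl_le_centralizer f3 f2)))
    (f4 _ inf_le_left (normalizer_inf le_normalizer (normalizer_centralizer (hn ▸ le_normalizer_ncl Q E)))
      (le_centralizer_iff.1 (inf_le_right.trans (centralizer_anti le_sup_right))))
  have h2 : ⁅L, Q⁆ = L := hL ▸ Fst_ccomm hO hQ (hb Q)
  have hLE : L ≤ E := hL ▸ commutator_le_left' (hE Q)
  have hEL : E ≤ normalizer (L : Set H) := hL ▸ le_normalizer_commutator_left E Q
  have hQL : Q ≤ normalizer (L : Set H) := hL ▸ le_normalizer_commutator_right E Q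
  have hsn : SN L ⊤ := (SN.of_normal hLE hEL).trans (sn_Fst ⊤)
  have hLF := hsn.Fst_eq_self hLE
  have hLO := hsn.Op_eq_bot hO
  have h3 : L ⊓ F ≤ _root_.L.Phi L := by
    have hX : Op p (L ⊔ Q) = ⊥ := by
      have : Op p (E ⊔ Q) = ⊥ := eq_bot_of_centralizer_Fst hO (Op_p _ _) le_top (le_centralizer_iff''.2 (by
        rw [eq_bot_iff, ← (sn_Fst ⊤).Op_eq_bot hO]
        exact (le_inf (commutator_le_right' (le_sup_left.trans (le_normalizer_Op p _)))
          (commutator_le_left' (hE _))).trans (Op_inf_le le_sup_left)))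
      exact (SN.of_normal (sup_le_sup_right hLE Q) (sup_le (hn ▸ le_normalizer_ncl Q E)
        (le_sup_right.trans le_normalizer))).Op_eq_bot this
    have h4 : Ores p (L ⊔ Q) = L := le_antisymm (Ores_le_of_sup hQ hQL le_rfl)
      (hLF.ge.trans ((Fst_le_Ores hLO).trans (Ores_mono le_sup_left)))
    rw [← h4, ← Phi_eq_Phi_Ores hX, h4]
    refine le_trans ?_ (Zc_le_Phi hX (le_antisymm (Pe_le _) (sup_le ?_ (le_Pe le_sup_right hQ))))
    · exact le_inf (inf_le_left.trans le_sup_left) (inf_le_right.trans (h1.le.trans inf_le_right))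
    · conv_lhs => rw [← h2]
      exact (commutator_mono le_rfl (le_Pe le_sup_right hQ)).trans
        (commutator_le_right' (normalizer_Pe (le_sup_left.trans le_normalizer)))
  refine ⟨h1, h2, h3, fun B hB hBQ h => ?_, ?_⟩
  · have hBL : B ≤ normalizer (L : Set H) := hL ▸ normalizer_commutator (hE B) hBQ
    refine le_centralizer_iff'.1 ((le_of_Phi_sup (K := L ⊓ centralizer (B : Set H)) inf_le_left ?_).trans inf_le_right)
    conv_lhs => rw [← fst_commutator_sup hLF hLO hB hBL]
    exact sup_le_sup_right ((le_inf (commutator_le_left' hBL) h).trans h3) _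
  · obtain ⟨P, hP⟩ := exists_syl (p := p) (centralizer ((F ⊔ L : Subgroup H) : Set H))
    refine hP.eq_bot_iff.1 (eq_bot_of_centralizer_Fst hO hP.isP le_top (le_centralizer_iff''.2 ?_))
    set C := E ⊓ centralizer (L : Set H)
    have hC : SN C ⊤ := (SN.of_normal inf_le_left (normalizer_inf le_normalizer (normalizer_centralizer hEL))).trans
      (sn_Fst ⊤)
    have h4 : C ≤ F ⊔ L := by
      conv_lhs => rw [← fst_commutator_sup (hC.Fst_eq_self inf_le_left) (hC.Op_eq_bot hO) hQ
        (normalizer_inf (hE Q) (normalizer_centralizer hQL))]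
      refine sup_le ((commutator_mono inf_le_left le_rfl).trans (hL.ge.trans le_sup_right)) (le_trans ?_ le_sup_left)
      rw [h1, centralizer_sup, inf_assoc]
    have h5 : ⁅E, P⁆ ≤ C := le_inf (commutator_le_left' (hE P))
      ((commutator_mono le_rfl (hP.le.trans (centralizer_anti le_sup_right))).trans
        (commutator_le_right' (normalizer_centralizer hEL)))
    rw [← Fst_ccomm hO hP.isP (hb P)]
    exact le_centralizer_iff''.1 (hP.le.trans (centralizer_anti (h5.trans h4)))

end Cfsg.Agent.S2817
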