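import Cfsg.Statements.S2819
import Cfsg.Agent.H9.MS2

set_option autoImplicit false
open Cfsg

namespace Cfsg.Agent.S2819

/-- Let P be a finite p-subgroup of a group G, H a subgroup of N_G(P), and Y a subgroup of H centralizing the derived subgroup P' such that [P, Y] is elementary abelian. Then O^p(⟨Y^H⟩), the subgroup of the normal closure of Y in H generated by its elements of order prime to p, centralizes the Frattini subgroup of P. -/
theorem result {G : Type*} [Group G] [Finite G] {p : ℕ} [Fact p.Prime] (P : Subgroup G) (hP : IsPGroup p ↥P) (H : Subgroup G) (hH : H ≤ Subgroup.normalizer (P : Set G)) (Y : Subgroup G) (hYH : Y ≤ H) (hYc : Y ≤ Subgroup.centralizer ((⁅P, P⁆ : Subgroup G) : Set G)) (hel : Cfsg.IsElementaryAbelian p ⁅P, Y⁆) (NY : Subgroup G) (hNY : NY = (Subgroup.normalClosure ((Y.subgroupOf H : Subgroup ↥H) : Set ↥H)).map H.subtype) : (Cfsg.pResidual p ↥NY).map NY.subtype ≤ Subgroup.centralizer (((frattini ↥P).map P.subtype : Subgroup G) : Set G) := by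
  open H9 Subgroup in open scoped commutatorElement in
  rw [ncl_eq hYH] at hNY
  rw [Ores_eq]
  subst hNY
  have h1 : H ≤ normalizer ((⁅P, P⁆ : Subgroup G) : Set G) := normalizer_commutator hH hH
  refine Ores_le_centralizer_of_quad (hP.to_le (L.Phi_le P)) ((ncl_le_self hYH).trans (L.normalizer_Phi hH)) ?_
  exact le_bot_iff.1 ((commutator_mono (commutator_ncl_le (commutator_Phi_le (hYH.trans hH) hel.2)
    (L.normalizer_Phi hH) h1 (hYH.trans h1)) le_rfl).trans (le_centralizer_iff''.1 (ncl_le_centralizer hYc h1)).le)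

end Cfsg.Agent.S2819
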