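import Cfsg.Statements.S2823
import Cfsg.Agent.H9.MS2

set_option autoImplicit false
open Cfsg

namespace Cfsg.Agent.S2823

/-- Let H be a finite group, p a prime, T a Sylow p-subgroup and L a subgroup of characteristic p containing T; let Z_L be the subgroup generated by the Ω₁(Z(S)) over the Sylow p-subgroups S of L and O^p(L) the subgroup generated by the elements of L of order prime to p. Then Z_L = Ω₁(Z(L))·[Z_L, O^p(L)] and [Z_L, L] = [Z_L, O^p(L)]. -/
theorem result {H : Type*} [Group H] [Finite H] {p : ℕ} [Fact p.Prime] (T : Sylow p H) (L : Subgroup H) (hTL : (T : Subgroup H) ≤ L) (hL : Subgroup.centralizer (Cfsg.pCore p ↥L : Set ↥L) ≤ Cfsg.pCore p ↥L) : Cfsg.sylowCenterClosure p L = (Cfsg.omegaOne p (L ⊓ Subgroup.centralizer ((L : Subgroup H) : Set H))) ⊔ ⁅Cfsg.sylowCenterClosure p L, (Cfsg.pResidual p ↥L).map L.subtype⁆ ∧ ⁅Cfsg.sylowCenterClosure p L, L⁆ = ⁅Cfsg.sylowCenterClosure p L, (Cfsg.pResidual p ↥L).map L.subtype⁆ := by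
  open H9 Subgroup in open scoped commutatorElement in
  rw [chp_iff] at hL
  rw [VZ_eq, Ores_eq]
  have hS := (syl_top_of_sylow T).mono hTL le_top
  have hV := hL.red_VZ
  have h1 : L ≤ normalizer ((⁅VZ p L, Ores p L⁆ : Subgroup H) : Set H) :=
    normalizer_commutator hV.norm (le_normalizer_Ores p L)
  have h2 : ⁅VZ p L, Ores p L⁆ ≤ VZ p L := commutator_le_left' ((Ores_le p L).trans hV.norm)
  have h3 : VZ p L = OZ p L ⊔ ⁅VZ p L, Ores p L⁆ := by
    refine le_antisymm (hS.VZ_le ?_ (normalizer_sup (normalizer_of_cj (K := OZ p) cj_OZ le_normalizer) h1))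
      (sup_le (le_trans ?_ hS.OZ_le_VZ) h2)
    · exact (le_inf hS.OZ_le_VZ (OZ_le_centralizer _ _)).trans ((hS.centralizer_le_sup_Ores hV.elem.1 hV.isP
        hV.norm).trans (sup_le_sup_right (le_OZ (elem_of_le hV.elem inf_le_left) (inf_le_left.trans hV.le)
        inf_le_right) _))
    · exact le_OZ (OZ_elem _ _) ((hL.OZ_le (Op_le p L) le_rfl).trans ((OZ_le _ _).trans hS.Op_le))
        ((OZ_le_centralizer _ _).trans (centralizer_anti hTL))
  refine ⟨h3, le_antisymm ?_ (commutator_mono le_rfl (Ores_le p L))⟩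
  conv_lhs => rw [h3]
  exact commutator_sup_le ((OZ_le _ _).trans h1) ((h2.trans hV.le).trans h1)
    ((le_centralizer_iff'.1 (OZ_le_centralizer _ _)).le.trans bot_le) (commutator_le_left' h1)

end Cfsg.Agent.S2823
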