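import Cfsg.Statements.S2824
import Cfsg.Agent.H9.MS2

set_option autoImplicit false
open Cfsg

namespace Cfsg.Agent.S2824

/-- Let H be a finite group, p a prime, T a Sylow p-subgroup, L and M subgroups of characteristic p containing T, Y_L the largest p-reduced normal subgroup of L and T₀ = C_T(Y_L). If M·C_H(Y_L) = L·C_H(Y_L), then L* := N_M(T₀) has Y_{L*} = Y_L and L·C_H(Y_L) = L*·C_H(Y_L). -/
theorem result {H : Type*} [Group H] [Finite H] {p : ℕ} [Fact p.Prime] (T : Sylow p H) (L M : Subgroup H) (hTL : (T : Subgroup H) ≤ L) (hTM : (T : Subgroup H) ≤ M) (hL : Subgroup.centralizer (Cfsg.pCore p ↥L : Set ↥L) ≤ Cfsg.pCore p ↥L) (hM : Subgroup.centralizer (Cfsg.pCore p ↥M : Set ↥M) ≤ Cfsg.pCore p ↥M) (T₀ : Subgroup H) (hT₀ : T₀ = (T : Subgroup H) ⊓ Subgroup.centralizer (((Cfsg.largestPReducedOf p L) : Subgroup H) : Set H)) (hfac : M ⊔ Subgroup.centralizer (((Cfsg.largestPReducedOf p L) : Subgroup H) : Set H) = L ⊔ Subgroup.centralizer (((Cfsg.largestPReducedOf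 p L) : Subgroup H) : Set H)) (Ls : Subgroup H) (hLs : Ls = M ⊓ Subgroup.normalizer ((T₀ : Subgroup H) : Set H)) : (Cfsg.largestPReducedOf p Ls) = (Cfsg.largestPReducedOf p L) ∧ L ⊔ Subgroup.centralizer (((Cfsg.largestPReducedOf p L) : Subgroup H) : Set H) = Ls ⊔ Subgroup.centralizer (((Cfsg.largestPReducedOf p L) : Subgroup H) : Set H) := by
  open H9 Subgroup in open scoped commutatorElement in
  rw [chp_iff] at hL hM
  rw [YR_eq] at hT₀ hfac
  rw [YR_eq, YR_eq]
  subst hT₀ hLs
  have hT := syl_top_of_sylow T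
  have hS := hT.mono hTL le_top
  have hS' := hT.mono hTM le_top
  have hR : Red p (YR p L) M := (YR_red p L).of_sup ((YR_le_Op p L).trans (hS.Op_le.trans hTM))
    (le_sup_left.trans hfac.le) (le_sup_left.trans hfac.ge)
  refine ⟨le_antisymm ?_ (hR.red_normalizer hS').le_YR, ?_⟩
  · refine (YR_le_OZ p _).trans ?_
    rw [hR.Op_normalizer hS', ← YR_eq_OZ hL hS]
  · rw [← hfac]
    refine le_antisymm (sup_le ?_ le_sup_right) (sup_le_sup_right inf_le_left _)
    conv_lhs => rw [← hS'.frattini_centralizer hR.norm]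
    exact sup_le (inf_le_right.trans le_sup_right) le_sup_left

end Cfsg.Agent.S2824
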