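import Cfsg.Statements.S2825
import Cfsg.Agent.H9.MS2

set_option autoImplicit false
open Cfsg

namespace Cfsg.Agent.S2825

/-- Let L be a subnormal subgroup of the finite group H, p a prime, Y_H and Y_L the largest p-reduced normal subgroups. Then Y_H ∩ L = Y_H ∩ Y_L and this subgroup is a p-reduced normal subgroup of L; C_L(Y_L) = C_L(Y_H) = C_L(Y_H ∩ L); and if O^p(H) ≤ L, then [Y_L, L] = 1 if and only if [Y_H, H] = 1. -/
theorem result {H : Type*} [Group H] [Finite H] {p : ℕ} [Fact p.Prime] (L : Subgroup H) (hL : L.IsSubnormal) : Cfsg.largestPReduced p H ⊓ L = Cfsg.largestPReduced p H ⊓ (Cfsg.largestPReducedOf p L) ∧ Cfsg.IsPReducedNormal p ((Cfsg.largestPReduced p H ⊓ L).subgroupOf L) ∧ L ⊓ Subgroup.centralizer ((Cfsg.largestPReducedOf p L : Subgroup H) : Set H) = L ⊓ Subgroup.centralizer (Cfsg.largestPReduced p H : Set H) ∧ L ⊓ Subgroup.centralizer (Cfsg.largestPReduced p H : Set H) = L ⊓ Subgroup.centralizer ((Cfsg.largestPReduced p H ⊓ L : Subgroup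 H) : Set H) ∧ (Cfsg.pResidual p H ≤ L → (⁅(Cfsg.largestPReducedOf p L), L⁆ = ⊥ ↔ ⁅Cfsg.largestPReduced p H, (⊤ : Subgroup H)⁆ = ⊥)) := by
  open H9 Subgroup in open scoped commutatorElement in
  rw [YR_eq, YR_top, ← Ores_top]
  rw [← sn_top_iff] at hL
  have hY := YR_red p (⊤ : Subgroup H)
  have h1 := hY.inf_sn hL
  have h2 := hL.centralizer_YR (p := p)
  refine ⟨le_antisymm (le_inf inf_le_left h1.le_YR) (inf_le_inf_left _ (YR_le p L)), (red_iff h1.le).2 h1, h2,
    le_antisymm (inf_le_inf_left _ (centralizer_anti inf_le_left)) (le_inf inf_le_left (hY.centralizer_inf hL)),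
    fun h => ?_⟩
  rw [← le_centralizer_iff'', ← le_centralizer_iff'']
  exact ⟨fun h3 => hY.of_sn (SN.refl _) (h.trans ((le_inf le_rfl h3).trans (h2.le.trans inf_le_right))),
    fun h3 => (le_inf le_rfl (le_top.trans h3)).trans (h2.ge.trans inf_le_right)⟩

end Cfsg.Agent.S2825
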