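import Cfsg.Statements.S2826
import Cfsg.Agent.H9.MS2

set_option autoImplicit false
open Cfsg

namespace Cfsg.Agent.S2826

/-- Let H be a finite group of characteristic p, T a Sylow p-subgroup, and V a normal elementary abelian p-subgroup of H containing Ω₁(Z(T)). Then C_H(Ω₁(Z(T))) = C_H([V, O^p(H)] ∩ Ω₁(Z(T))), O^p(H) being generated by the elements of order prime to p. -/
theorem result {H : Type*} [Group H] [Finite H] {p : ℕ} [Fact p.Prime] (hH : Subgroup.centralizer (Cfsg.pCore p H : Set H) ≤ Cfsg.pCore p H) (T : Sylow p H) (V : Subgroup H) [V.Normal] (hV : Cfsg.IsElementaryAbelian p V) (hZV : (Cfsg.omegaOne p ((T : Subgroup H) ⊓ Subgroup.centralizer (((T : Subgroup H) : Subgroup H) : Set H))) ≤ V) : Subgroup.centralizer ((Cfsg.omegaOne p ((T : Subgroup H) ⊓ Subgroup.centralizer (((T : Subgroup H) : Subgroup H) : Set H))) : Set H) = Subgroup.centralizer (((⁅V, Cfsg.pResidual p H⁆ ⊓ (Cfsg.omegaOne p ((T : Subgroup H) ⊓ Subgroup.centralizer (((T : Subgroup H) : Subgroup H) : Set H)))) : Subgroup H) : Set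 H) := by
  open H9 Subgroup in open scoped commutatorElement in
  rw [← Ores_top]
  have hT := syl_top_of_sylow T
  change centralizer (OZ p (T : Subgroup H) : Set H) = centralizer ((⁅V, Ores p ⊤⁆ ⊓ OZ p (T : Subgroup H) : Subgroup H) : Set H)
  refine le_antisymm (centralizer_anti inf_le_right) (le_centralizer_iff.1 ?_)
  have h1 := hT.centralizer_le_sup_Ores hV.1 (elem_isP hV) (top_le_normalizer V)
  have h2 : V ⊓ centralizer ((⊤ : Subgroup H) : Set H) ≤ OZ p T := le_OZ (elem_of_le hV inf_le_left)
    (inf_le_left.trans ((le_Op le_top (top_le_normalizer V) (elem_isP hV)).trans hT.Op_le))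
    (inf_le_right.trans (centralizer_anti le_top))
  have := dedekind (B := ⁅V, Ores p ⊤⁆) h2 (Or.inl (le_top.trans
    (normalizer_commutator (top_le_normalizer V) (le_normalizer_Ores p ⊤))))
  refine (le_inf ((le_inf hZV (OZ_le_centralizer p _)).trans h1) le_rfl).trans (this.le.trans (sup_le ?_ ?_))
  · exact inf_le_right.trans (centralizer_anti le_top)
  · exact le_centralizer_iff.1 le_rfl

end Cfsg.Agent.S2826
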