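import Cfsg.Statements.S2832
import Cfsg.Agent.H9.MS3

set_option autoImplicit false
open Cfsg

namespace Cfsg.Agent.S2832

/-- Let H be a finite group with Sylow p-subgroup T such that H is T-minimal (generated by the conjugates of T, with T in exactly one maximal subgroup), and let N be a normal subgroup of H. Then either H/N is a p-group or H/N is minimal over the image of T in the same sense. -/
theorem result {H : Type*} [Group H] [Finite H] {p : ℕ} [Fact p.Prime] (T : Sylow p H) (hmin : Cfsg.IsMinimalOver (T : Subgroup H)) (N : Subgroup H) [N.Normal] : IsPGroup p (H ⧸ N) ∨ Cfsg.IsMinimalOver ((T : Subgroup H).map (QuotientGroup.mk' N)) := by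
  open H9 Subgroup in open scoped commutatorElement in
  rw [mn_top_iff] at hmin ⊢
  have hT := syl_top_of_sylow T
  have e : (⊤ : Subgroup H).map (QuotientGroup.mk' N) = ⊤ := map_top_of_surjective _ (QuotientGroup.mk'_surjective N)
  by_cases h : Ores p ⊤ ≤ N
  · left
    refine (isPGroup_of_Ores_eq_bot (K := (⊤ : Subgroup (H ⧸ N))) ?_).of_equiv topEquiv
    rwa [← e, ← map_Ores, Subgroup.map_eq_bot_iff, QuotientGroup.ker_mk']
  · right
    obtain ⟨M, hM⟩ := hmin.um
    rw [← e]
    exact ⟨by rw [← map_ncl, hmin.gen], _, hM.map _ (by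
      rw [QuotientGroup.ker_mk', inf_top_eq]; exact hM.le_of_not_Ores_le hT le_top (top_le_normalizer N) h)⟩

end Cfsg.Agent.S2832
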