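import Cfsg.Statements.S2833
import Cfsg.Agent.H9.MS3

set_option autoImplicit false
open Cfsg

namespace Cfsg.Agent.S2833

/-- Let V be a subgroup of a finite group G normalized by the subgroup L, let X ≤ L and g ∈ L with [V, X, X] = 1 and L generated by X and gXg⁻¹. Put W = [V, L]. Then W = [V, X]·[V, gXg⁻¹], C_W(X) = [V, X], and C_W(L) = [V, X] ∩ [V, gXg⁻¹]. -/
theorem result {G : Type*} [Group G] [Finite G] (V L : Subgroup G) (hLV : L ≤ Subgroup.normalizer (V : Set G)) (X : Subgroup G) (hX : X ≤ L) (g : G) (hg : g ∈ L) (hq : ⁅⁅V, X⁆, X⁆ = ⊥) (hgen : X ⊔ X.map (MulAut.conj g).toMonoidHom = L) (W : Subgroup G) (hW : W = ⁅V, L⁆) : ⁅V, X⁆ ⊔ ⁅V, X.map (MulAut.conj g).toMonoidHom⁆ = W ∧ W ⊓ Subgroup.centralizer (X : Set G) = ⁅V, X⁆ ∧ W ⊓ Subgroup.centralizer (L : Set G) = ⁅V, X⁆ ⊓ ⁅V, X.map (MulAut.conj g).toMonoidHom⁆ := by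
  open H9 Subgroup in open scoped commutatorElement in
  rw [cj_def'] at hgen ⊢
  have hX' : cj g X ≤ L := le_sup_right.trans hgen.le
  have hc : ⁅V, cj g X⁆ = cj g ⁅V, X⁆ := by rw [cj_commutator, mem_normalizer_iff_cj.1 (hLV hg)]
  have h1 : ⁅V, X⁆ ≤ V := commutator_le_left' (hX.trans hLV)
  have h2 : ⁅V, cj g X⁆ ≤ V := commutator_le_left' (hX'.trans hLV)
  have h3 : ⁅V, X⁆ ≤ centralizer (X : Set G) := le_centralizer_iff'.2 hq
  have h4 : ⁅V, cj g X⁆ ≤ centralizer (cj g X : Set G) := by rw [hc, ← cj_centralizer]; exact cj_mono g h3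
  have e : ⁅V, X⁆ ⊔ ⁅V, cj g X⁆ = W := by
    rw [hW]
    refine le_antisymm (sup_le (commutator_mono le_rfl hX) (commutator_mono le_rfl hX')) ?_
    rw [← hgen]
    exact commutator_sup_le' (le_normalizer_of_commutator_le le_sup_left (sup_le h1 h2))
      (le_normalizer_of_commutator_le le_sup_right (sup_le h1 h2)) le_sup_left le_sup_right
  have h5 : centralizer (L : Set G) = centralizer (X : Set G) ⊓ centralizer (cj g X : Set G) := by
    rw [← centralizer_sup, hgen]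
  have e2 : W ⊓ centralizer (X : Set G) = ⁅V, X⁆ := by
    rw [← e, dedekind h3 (Or.inl (h1.trans (le_normalizer_commutator_left _ _))), sup_eq_left]
    have h6 : ⁅V, cj g X⁆ ⊓ centralizer (X : Set G) ≤ centralizer (L : Set G) :=
      h5 ▸ le_inf inf_le_right (inf_le_left.trans h4)
    rw [← cj_eq_of_centralizer (le_centralizer_iff.1 h6 (inv_mem hg)), cj_le_iff, inv_inv, ← hc]
    exact inf_le_left
  refine ⟨e, e2, le_antisymm (le_inf (e2 ▸ inf_le_inf_left W (centralizer_anti hX)) ?_)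
    (le_inf (inf_le_left.trans (le_sup_left.trans e.le)) (h5 ▸ inf_le_inf h3 h4))⟩
  rw [hc, ← cj_eq_of_centralizer (le_centralizer_iff.1 (inf_le_right (a := W)) hg), ← e2]
  exact cj_mono g (inf_le_inf_left W (centralizer_anti hX))

end Cfsg.Agent.S2833
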