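import Cfsg.Statements.S2836
import Cfsg.Agent.H9.MS3

set_option autoImplicit false
open Cfsg

namespace Cfsg.Agent.S2836

/-- Let L be a finite group, L₀ a maximal subgroup, T a Sylow p-subgroup of L₀, Y ≤ T, and suppose L is Y-minimal. Let D be the intersection of the conjugates of L₀ (the core of L₀). Then D contains O_p(L) and D/O_p(L) is the Frattini subgroup of L/O_p(L), so D is p-closed; and every normal subgroup N of L contained in L₀ is p-closed with N/O_p(N) a nilpotent group of order prime to p. -/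
theorem result {L : Type*} [Group L] [Finite L] {p : ℕ} [Fact p.Prime] (L₀ : Subgroup L) (hL₀ : IsCoatom L₀) (T : Sylow p ↥L₀) (Y : Subgroup L) (hYT : Y ≤ (T : Subgroup ↥L₀).map L₀.subtype) (hmin : Cfsg.IsMinimalOver Y) : (Cfsg.pCore p L ≤ L₀.normalCore ∧ (L₀.normalCore).map (QuotientGroup.mk' (Cfsg.pCore p L)) = frattini (L ⧸ Cfsg.pCore p L) ∧ Cfsg.IsPClosed p ↥(L₀.normalCore)) ∧ ∀ (N : Subgroup L) [N.Normal], N ≤ L₀ → Cfsg.IsPClosed p ↥N ∧ Group.IsNilpotent (↥N ⧸ Cfsg.pCore p ↥N) ∧ (Nat.card (↥N ⧸ Cfsg.pCore p ↥N)).Coprime p := by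
  open H9 Subgroup in open scoped commutatorElement in
  rw [mn_top_iff] at hmin
  obtain ⟨M, hM⟩ := hmin.um
  have hT := syl_of_sylow T
  obtain rfl := hM.eq_of_coatom hL₀ (hYT.trans hT.le)
  obtain ⟨-, h2⟩ := hM.syl hmin.gen hT hYT
  set S := (T : Subgroup M).map M.subtype
  have hQ : pCore p L ≤ M := Op_top (G := L) p ▸ h2.Op_le.trans hT.le
  let f := QuotientGroup.mk' (pCore p L)
  have hf : Function.Surjective f := QuotientGroup.mk'_surjective _
  have hk : f.ker = pCore p L := QuotientGroup.ker_mk' _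
  have h3 : ∀ (N : Subgroup L) [N.Normal], N ≤ M → PCl p N ∧ (Nat.card (N.map f)).Coprime p := fun N _ hN => by
    have h4 := hM.pcl h2 hYT hN (top_le_normalizer N)
    refine ⟨h4, ((h2.inf_normal le_top (top_le_normalizer N)).map f).eq_bot_iff.1 ?_⟩
    rw [Subgroup.map_eq_bot_iff, hk, ← Op_top]
    exact h4.le_Op_of_sn (SN.of_normal_top N) inf_le_right (h2.isP.to_le inf_le_left)
  have h4 : ∀ (N : Subgroup L) [N.Normal], N ≤ M → N.map f ≤ frattini (L ⧸ pCore p L) := fun N _ hN => by
    refine H1.le_frattini_iff.2 fun X hX => by_contra fun hn => ?_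
    haveI : (N.map f).Normal := Normal.map inferInstance f hf
    have h5 := H1.index_dvd_card_of_sup_eq_top (H1.sup_eq_top_of_coatom hX hn)
    obtain ⟨P, hP⟩ := exists_syl (p := p) X
    have h6 : Syl p P ⊤ := hP.trans_index le_top fun h =>
      cop_iff.1 (h3 N hN).2 ((relIndex_top_right X ▸ h).trans h5)
    obtain ⟨g, -, e⟩ := h6.conj (syl_map_quot hf h2)
    have h7 : (cj g X).comap f ≤ M := hM.max _ (hYT.trans (map_le_iff_le_comap.1 (e ▸ cj_mono g hP.le)))
      (lt_top_iff_ne_top.2 fun e => hX.1 (by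
        rw [← cj_inj (g := g), cj_top, ← map_comap_eq_self_of_surjective hf (cj g X), e, map_top_of_surjective f hf]))
    have h8 : IsCoatom ((cj g X).comap f) := isCoatom_comap_of_surjective hf
      (H1.isCoatom_map (f := (MulAut.conj g).toMonoidHom) (MulAut.conj g).surjective hX (by rw [ker_conj]; exact bot_le))
    apply hn
    rw [← cj_le_cj_iff (g := g), cj_eq_of_normal, map_le_iff_le_comap, ← (h8.le_iff_eq hL₀.1).1 h7]
    exact hN
  refine ⟨⟨normal_le_normalCore.2 hQ, le_antisymm (h4 _ (normalCore_le M)) ?_,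
    pcl_iff.2 (h3 _ (normalCore_le M)).1⟩, fun N _ hN => ?_⟩
  · rw [← map_comap_eq_self_of_surjective hf (frattini _)]
    refine map_mono (normal_le_normalCore.2 ?_)
    have := comap_mono (f := f) (frattini_le_coatom (H1.isCoatom_map hf hL₀ (hk.le.trans hQ)))
    rwa [comap_map_eq, hk, sup_eq_left.2 hQ] at this
  · have e : pCore p N = (pCore p L).subgroupOf N := by
      rw [← subgroupOf_Op, (SN.of_normal_top N).Op_eq_inf, inf_subgroupOf_right, Op_top]
    have e' := (QuotientGroup.quotientMulEquivOfEq e).trans (H1.quotientEquivMap N (pCore p L))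
    refine ⟨pcl_iff.2 (h3 N hN).1, ?_, Nat.card_congr e'.toEquiv ▸ (h3 N hN).2⟩
    haveI := isNilpotent_of_le frattini_nilpotent (h4 N hN)
    exact Group.nilpotent_of_mulEquiv e'.symm

end Cfsg.Agent.S2836
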