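import Cfsg.Statements.S2837
import Cfsg.Agent.H9.MS3

set_option autoImplicit false
open Cfsg

namespace Cfsg.Agent.S2837

/-- Let L be a finite group of characteristic p, L₀ a maximal subgroup, Y an elementary abelian p-subgroup of L₀ with L Y-minimal and O_p(L) ≤ N_L(Y). Put A = the normal closure of O_p(L) ∩ Y in L. Then for every g ∈ L outside L₀: Φ(A) = A' = [A ∩ Y, A] = [A ∩ Y, A ∩ gYg⁻¹] ≤ C_Y(L), and Y ∩ gYg⁻¹ = (A ∩ Y) ∩ (A ∩ gYg⁻¹) = C_Y(L) = C_A(L). -/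
theorem result {L : Type*} [Group L] [Finite L] {p : ℕ} [Fact p.Prime] (hchar : Subgroup.centralizer (Cfsg.pCore p L : Set L) ≤ Cfsg.pCore p L) (L₀ : Subgroup L) (hL₀ : IsCoatom L₀) (Y : Subgroup L) (hYL₀ : Y ≤ L₀) (hYel : Cfsg.IsElementaryAbelian p Y) (hmin : Cfsg.IsMinimalOver Y) (hOY : Cfsg.pCore p L ≤ Subgroup.normalizer (Y : Set L)) (A : Subgroup L) (hA : A = Subgroup.normalClosure (((Cfsg.pCore p L ⊓ Y : Subgroup L)) : Set L)) (g : L) (hg : g ∉ L₀) : (frattini ↥A).map A.subtype = ⁅A, A⁆ ∧ ⁅A, A⁆ = ⁅A ⊓ Y, A⁆ ∧ ⁅A ⊓ Y, A⁆ = ⁅A ⊓ Y, A ⊓ Y.map (MulAut.conj g).toMonoidHom⁆ ∧ ⁅A ⊓ Y, A⁆ ≤ Y ⊓ Subgroup.center L ∧ Y ⊓ Y.map (MulAut.conj g).toMonoidHom = Y ⊓ Subgroup.center L ∧ (A ⊓ Y) ⊓ (A ⊓ Y.map (MulAut.conj g).toMonoidHom) = Y ⊓ Subgroup.center L ∧ A ⊓ Subgroup.center L = Y ⊓ Subgroup.center L := by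
  open H9 Subgroup in open scoped commutatorElement in
  rw [mn_top_iff] at hmin
  obtain ⟨M, hM⟩ := hmin.um
  obtain rfl := hM.eq_of_coatom hL₀ hYL₀
  have hgen := hM.sup_cj hmin.gen (mem_top g) hg
  rw [cj_def']
  have hZ : Y ⊓ cj g Y = Y ⊓ center L := by rw [inf_cj_eq hYel.1 (mem_top g) hgen, coe_top, centralizer_univ]
  rw [← ncl_top] at hA
  set Q := pCore p L
  have hQ : ∀ X : Subgroup L, X ≤ normalizer (Q : Set L) := fun X => le_top.trans (top_le_normalizer Q)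
  have hQc : cj g Q = Q := cj_eq_of_normal g Q
  have hOY' : Q ≤ normalizer (cj g Y : Set L) := by
    rw [← cj_normalizer]; exact hQc.ge.trans (cj_mono g hOY)
  have hAQ : A ≤ Q := hA.le.trans (ncl_le inf_le_left (hQ _))
  have hB : Q ⊓ Y ≤ A := (le_ncl _ _).trans hA.ge
  have hB' : Q ⊓ cj g Y ≤ A := by
    refine le_trans ?_ ((cj_le_ncl _ (mem_top g)).trans hA.ge)
    rw [cj_inf, hQc]
  have e1 : A ⊓ Y = Q ⊓ Y := le_antisymm (inf_le_inf_right Y hAQ) (le_inf hB inf_le_right)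
  have e2 : A ⊓ cj g Y = Q ⊓ cj g Y := le_antisymm (inf_le_inf_right _ hAQ) (le_inf hB' inf_le_right)
  rw [e1, e2]
  set B := Q ⊓ Y
  set B' := Q ⊓ cj g Y
  have n1 : Q ≤ normalizer (B : Set L) := normalizer_inf le_normalizer hOY
  have n2 : Q ≤ normalizer (B' : Set L) := normalizer_inf le_normalizer hOY'
  have e3 : A = B ⊔ B' := by
    refine le_antisymm (hA.le.trans (ncl_le le_sup_left (hgen.ge.trans (sup_le ?_ ?_)))) (sup_le hB hB')
    · exact le_normalizer_of_commutator_le ((commutator_le_inf' hOY (hQ _)).trans le_sup_left)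
        (sup_le inf_le_left inf_le_left)
    · exact le_normalizer_of_commutator_le ((commutator_le_inf' hOY' (hQ _)).trans le_sup_right)
        (sup_le inf_le_left inf_le_left)
  have c1 : ⁅B, B⁆ = ⊥ := comm_iff_commutator.1 (comm_of_le hYel.1 inf_le_right)
  have hY' : IsElementaryAbelian p (cj g Y) := elem_map _ hYel
  have c2 : ⁅B', B'⁆ = ⊥ := comm_iff_commutator.1 (comm_of_le hY'.1 inf_le_right)
  have n3 : Q ≤ normalizer ((⁅B, B'⁆ : Subgroup L) : Set L) := normalizer_commutator n1 n2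
  have e4 : ⁅B, A⁆ = ⁅B, B'⁆ := le_antisymm (e3 ▸ commutator_sup_le' (inf_le_left.trans n3) (inf_le_left.trans n3)
    (c1.le.trans bot_le) le_rfl) (commutator_mono le_rfl hB')
  have e5 : ⁅A, A⁆ = ⁅B, A⁆ := by
    refine le_antisymm ?_ (commutator_mono hB le_rfl)
    rw [e4]
    nth_rewrite 1 [e3]
    refine commutator_sup_le (inf_le_left.trans n3) (inf_le_left.trans n3) e4.le (e3 ▸ commutator_sup_le'
      (inf_le_left.trans n3) (inf_le_left.trans n3) (commutator_comm _ _).le (c2.le.trans bot_le))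
  have h6 : ⁅B, B'⁆ ≤ Y ⊓ center L := hZ ▸ (commutator_le_inf' (inf_le_left.trans n2) (inf_le_left.trans n1)).trans
    (inf_le_inf inf_le_right inf_le_right)
  have h7 : Y ⊓ center L ≤ Q := by
    haveI : (Y ⊓ center L).Normal := normal_of_top_le ((le_centralizer_iff.1 (inf_le_right.trans
      (center_le_centralizer _))).trans (centralizer_le_normalizer' _))
    exact le_pCore ((elem_isP hYel).to_le inf_le_left)
  have e6 : B ⊓ B' = Y ⊓ center L := le_antisymm (hZ ▸ inf_le_inf inf_le_right inf_le_right)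
    (le_inf (le_inf h7 inf_le_left) (le_inf h7 (hZ ▸ inf_le_right)))
  refine ⟨le_antisymm (_root_.L.Phi_le_of (p := p) le_rfl fun x hx => ?_)
    (_root_.L.commutator_le_Phi ((pCore_p p).to_le hAQ)), e5, e4, e4 ▸ h6, hZ, e6,
    le_antisymm (le_inf ?_ inf_le_right) (le_inf ((e6.ge.trans inf_le_left).trans hB) inf_le_right)⟩
  · obtain ⟨a, ha, b, hb, rfl⟩ := (mem_sup_of_le_normalizer (inf_le_left.trans n2)).1 (e3 ▸ hx)
    have h8 : ⁅b⁻¹, a⁻¹⁆ ∈ ⁅A, A⁆ := commutator_mem_commutator (inv_mem (hB' hb)) (inv_mem (hB ha))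
    have h9 := (h6 (e4 ▸ e5 ▸ h8)).2
    rw [_root_.L.mul_pow_class2 (_root_.L.rel_comm a b) (mem_center_iff.1 h9 a) (mem_center_iff.1 h9 b),
      hYel.2 a ha.2, hY'.2 b hb.2, one_mul, one_mul]
    exact pow_mem h8 _
  · have h8 := dedekind (A := B) (B := B') (C := centralizer (Y : Set L))
      (inf_le_right.trans (_root_.L.le_centralizer_of_comm hYel.1)) (Or.inl (inf_le_left.trans n2))
    refine (inf_le_inf e3.le (center_le_centralizer _)).trans (h8.le.trans (sup_le inf_le_right ?_))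
    have h9 : B' ⊓ centralizer (Y : Set L) ≤ centralizer ((⊤ : Subgroup L) : Set L) := by
      rw [← hgen, centralizer_sup]
      exact le_inf inf_le_right (inf_le_left.trans (inf_le_right.trans (_root_.L.le_centralizer_of_comm hY'.1)))
    rw [← cj_eq_of_centralizer (le_centralizer_iff.1 h9 (mem_top g⁻¹)), cj_le_iff, inv_inv]
    exact inf_le_left.trans inf_le_right

end Cfsg.Agent.S2837
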