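import Cfsg.Statements.S2839
import Cfsg.Agent.H9.MS4

set_option autoImplicit false
open Cfsg

namespace Cfsg.Agent.S2839

/-- Let Q be a nontrivial p-subgroup of the finite group H that is a weakly closed subgroup, K a subgroup containing Q and N a normal subgroup of H. Then Q is a weakly closed subgroup of K; every H-conjugate of Q contained in K is a K-conjugate of Q; N_K(Q) contains a Sylow p-subgroup of K; N = N_N(Q)·O^p(N); and QN/N is a weakly closed subgroup of H/N. -/
theorem result {H : Type*} [Group H] [Finite H] {p : ℕ} [Fact p.Prime] (Q : Subgroup H) (hQp : IsPGroup p ↥Q) (hQ1 : Q ≠ ⊥) (hwc : Cfsg.IsWeaklyClosedSubgroup p Q) (K : Subgroup H) (hQK : Q ≤ K) (N' : Subgroup H) [N'.Normal] : Cfsg.IsWeaklyClosedSubgroup p (Q.subgroupOf K) ∧ (∀ g : H, ((Q : Subgroup H).map (MulAut.conj (g : H)).toMonoidHom) ≤ K → ∃ k ∈ K, ((Q : Subgroup H).map (MulAut.conj (g : H)).toMonoidHom) = ((Q : Subgroup H).map (MulAut.conj (k : H)).toMonoidHom)) ∧ Cfsg.IsParabolic p ((Subgroup.normalizer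 ((Q : Subgroup H) : Set H)).subgroupOf K) ∧ (N' ⊓ Subgroup.normalizer ((Q : Subgroup H) : Set H)) ⊔ (Cfsg.pResidual p ↥N').map N'.subtype = N' ∧ Cfsg.IsWeaklyClosedSubgroup p (Q.map (QuotientGroup.mk' N')) := by
  open H9 Subgroup in open scoped commutatorElement in
  rw [wc_top_iff] at hwc
  refine ⟨(wc_iff hQK).2 (hwc.mono hQK le_top), fun g hg => hwc.conj hQK le_top (mem_top g) hg, ?_, ?_, ?_⟩
  · obtain ⟨T, hT, h1⟩ := exists_syl_ge hQp hQK
    obtain ⟨P, hP⟩ := hT.exists_sylow'
    exact ⟨P, hP ▸ comap_mono (hwc.le_normalizer hT.isP h1 le_top)⟩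
  · obtain ⟨T, hT, h1⟩ := exists_syl_ge hQp le_top
    rw [Ores_eq]
    refine le_antisymm (sup_le inf_le_left (Ores_le p _)) ?_
    conv_lhs => rw [← hT.eq_Ores_sup le_top (top_le_normalizer N'), sup_comm]
    exact sup_le_sup_right (le_inf inf_le_right (inf_le_left.trans (hwc.le_normalizer hT.isP h1 le_top))) _
  · have := hwc.map (QuotientGroup.mk' N')
    rw [map_top_of_surjective _ (QuotientGroup.mk'_surjective N')] at this
    exact wc_top_iff.2 this

end Cfsg.Agent.S2839
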