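import Cfsg.Statements.S2841
import Cfsg.Agent.H9.MS4

set_option autoImplicit false
open Cfsg

namespace Cfsg.Agent.S2841

/-- Let Q be a nontrivial p-subgroup of the finite group H that is a weakly closed subgroup and N a normal subgroup of H. Then N = N_N(Q)·[N, Q] and [N, Q] = (Q ∩ [N, Q])·[N, Q, Q]. -/
theorem result {H : Type*} [Group H] [Finite H] {p : ℕ} [Fact p.Prime] (Q : Subgroup H) (hQp : IsPGroup p ↥Q) (hQ1 : Q ≠ ⊥) (hwc : Cfsg.IsWeaklyClosedSubgroup p Q) (N' : Subgroup H) [N'.Normal] : (∀ n : H, n ∈ N' → ∃ a ∈ N' ⊓ Subgroup.normalizer ((Q : Subgroup H) : Set H), ∃ b ∈ ⁅N', Q⁆, n = a * b) ∧ (∀ c : H, c ∈ ⁅N', Q⁆ → ∃ a ∈ Q ⊓ ⁅N', Q⁆, ∃ b ∈ ⁅⁅N', Q⁆, Q⁆, c = a * b) := by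
  open H9 Subgroup in open scoped commutatorElement in
  rw [wc_top_iff] at hwc
  have hN : ∀ X : Subgroup H, X ≤ normalizer (N' : Set H) := fun X => le_top.trans (top_le_normalizer N')
  have e := hwc.eq_sup_commutator (N := N') le_top (hN Q)
  constructor
  · intro n hn
    obtain ⟨a, ha, b, hb, h⟩ := (mem_sup_of_le_normalizer
      (inf_le_left.trans (le_normalizer_commutator_left N' Q))).1 (e.ge hn)
    exact ⟨a, ha, b, hb, h.symm⟩
  · intro c hc
    have h1 : N' ⊓ normalizer (Q : Set H) ≤ normalizer ((⁅N', Q⁆ : Subgroup H) : Set H) :=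
      inf_le_left.trans (le_normalizer_commutator_left N' Q)
    have h2 : ⁅⁅N', Q⁆, Q⁆ ≤ ⁅N', Q⁆ := commutator_le_left' (le_normalizer_commutator_right N' Q)
    have h3 : ⁅N', Q⁆ ≤ (Q ⊓ ⁅N', Q⁆) ⊔ ⁅⁅N', Q⁆, Q⁆ := by
      conv_lhs => rw [← e]
      refine commutator_sup_le (normalizer_sup (normalizer_inf inf_le_right h1) (normalizer_commutator h1 inf_le_right))
        (le_normalizer_of_commutator_le (K := (Q ⊓ ⁅N', Q⁆) ⊔ ⁅⁅N', Q⁆, Q⁆) (le_trans (commutator_sup_le
          (inf_le_right.trans (le_normalizer_commutator_left _ _)) le_normalizer ?_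
          (commutator_le_left' (le_normalizer_commutator_left _ _))) le_sup_right) le_rfl)
        (le_trans (le_inf (commutator_le_right' inf_le_right) (commutator_mono inf_le_left le_rfl)) le_sup_left)
        le_sup_right
      rw [commutator_comm]; exact commutator_mono le_rfl inf_le_left
    obtain ⟨a, ha, b, hb, h⟩ := (mem_sup_of_le_normalizer
      (inf_le_right.trans (le_normalizer_commutator_left _ Q))).1 (h3 hc)
    exact ⟨a, ha, b, hb, h.symm⟩

end Cfsg.Agent.S2841
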