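import Cfsg.Statements.S2844
import Cfsg.Agent.H9.MS4

set_option autoImplicit false
open Cfsg

namespace Cfsg.Agent.S2844

/-- Let Q be a nontrivial large p-subgroup of the finite group H and Q• = O_p(N_H(Q)). Then for every g ∈ H outside N_H(Q): C_H(Q) ∩ C_H(gQg⁻¹) = 1, C_H(Q•) ∩ C_H(gQ•g⁻¹) = 1, Z(Q) ∩ Z(gQg⁻¹) = 1 and Z(Q•) ∩ Z(gQ•g⁻¹) = 1; moreover N_H(Q) = N_H(Q•) and Q• is large in H. -/
theorem result {H : Type*} [Group H] [Finite H] {p : ℕ} [Fact p.Prime] (Q : Subgroup H) (hQp : IsPGroup p ↥Q) (hQ1 : Q ≠ ⊥) (hL : Cfsg.IsLarge Q) (Qb : Subgroup H) (hQb : Qb = Cfsg.largeBullet p Q) : (∀ g : H, g ∉ Subgroup.normalizer ((Q : Subgroup H) : Set H) → Subgroup.centralizer ((Q : Subgroup H) : Set H) ⊓ Subgroup.centralizer ((((Q : Subgroup H).map (MulAut.conj (g : H)).toMonoidHom) : Subgroup H) : Set H) = ⊥ ∧ Subgroup.centralizer ((Qb : Subgroup H) : Set H) ⊓ Subgroup.centralizer ((((Qb : Subgroup H).map (MulAut.conj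 (g : H)).toMonoidHom) : Subgroup H) : Set H) = ⊥ ∧ (Q ⊓ Subgroup.centralizer ((Q : Subgroup H) : Set H)) ⊓ (((Q : Subgroup H).map (MulAut.conj (g : H)).toMonoidHom) ⊓ Subgroup.centralizer ((((Q : Subgroup H).map (MulAut.conj (g : H)).toMonoidHom) : Subgroup H) : Set H)) = ⊥ ∧ (Qb ⊓ Subgroup.centralizer ((Qb : Subgroup H) : Set H)) ⊓ (((Qb : Subgroup H).map (MulAut.conj (g : H)).toMonoidHom) ⊓ Subgroup.centralizer ((((Qb : Subgroup H).map (MulAut.conj (g : H)).toMonoidHom) : Subgroup H) : Set H)) = ⊥) ∧ Subgroup.normalizer ((Q : Subgroup H) : Set H) = Subgroup.normalizer ((Qb : Subgroup H) : Set H) ∧ Cfsg.IsLarge Qb := by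
  open H9 Subgroup in open scoped commutatorElement in
  have hwc := large_wc hL hQp hQ1
  rw [largeBullet, pCoreOf_eq] at hQb
  have h1 : Q ≤ Qb := hQb ▸ le_Op le_normalizer le_rfl hQp
  have h2 : normalizer (Q : Set H) = normalizer (Qb : Set H) :=
    le_antisymm (hQb ▸ le_normalizer_Op p _) (hwc.normalizer_le' (hQb ▸ Op_p p _) h1)
  refine ⟨fun g hg => ?_, h2, ((centralizer_anti h1).trans hL.1).trans h1, fun U h3 h4 =>
    h2 ▸ hL.2 U (h3.trans (centralizer_anti h1)) h4⟩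
  rw [cj_def', cj_def']
  have h3 : centralizer (Q : Set H) ⊓ centralizer (cj g Q : Set H) = ⊥ := by_contra fun hn =>
    hg (mem_normalizer_iff_cj.2 (hwc.eq g (mem_top g) (isP_sup hQp (isPGroup_cj g hQp)
      (((le_centralizer_iff.1 inf_le_left).trans (centralizer_le_normalizer' _)).trans
        ((large_cj hL g).2 _ inf_le_right hn)))))
  have h4 : centralizer (Qb : Set H) ⊓ centralizer (cj g Qb : Set H) = ⊥ :=
    le_bot_iff.1 (h3 ▸ inf_le_inf (centralizer_anti h1) (centralizer_anti (cj_mono g h1)))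
  exact ⟨h3, h4, le_bot_iff.1 (h3 ▸ inf_le_inf inf_le_right inf_le_right),
    le_bot_iff.1 (h4 ▸ inf_le_inf inf_le_right inf_le_right)⟩

end Cfsg.Agent.S2844
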