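import Cfsg.Statements.S2850
import Cfsg.Agent.H9.MS4

set_option autoImplicit false
open Cfsg

namespace Cfsg.Agent.S2850

/-- Standing hypotheses: G a finite group, S a Sylow p-subgroup, Q a nontrivial large p-subgroup of G contained in S (C_G(Q) ≤ Q and N_G(U) ≤ N_G(Q) for all nontrivial U ≤ C_G(Q)), and M a subgroup containing S with the basic property (M ∈ 𝔐_G(S)); Y_M denotes the largest p-reduced normal subgroup of M and M† = M·C_G(Y_M). Suppose Y_M is asymmetric in G. Then N_G(L) ≤ N_G(O_p(M)) ≤ M† for every p-subgroup L containing O_p(M); O_p(M) is a weakly closed subgroup of G; for every subgroup L containing O_p(M), L ∩ M† contains a Sylow p-subgroup of L; and two elements of Y_M conjugate in G are conjugate in M. -/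
theorem result {G : Type*} [Group G] [Finite G] {p : ℕ} [Fact p.Prime] (S : Sylow p G) (Q : Subgroup G) (hQp : IsPGroup p ↥Q) (hQ1 : Q ≠ ⊥) (hQS : Q ≤ (S : Subgroup G)) (hQ : Cfsg.IsLarge Q) (M : Subgroup G) (hSM : (S : Subgroup G) ≤ M) (hM : Cfsg.IsInFrakM p M) (hasym : ¬ Cfsg.IsSymmetricIn (Cfsg.largestPReducedOf p M)) : (∀ L : Subgroup G, IsPGroup p ↥L → (Cfsg.pCoreOf p M) ≤ L → Subgroup.normalizer ((L : Subgroup G) : Set G) ≤ Subgroup.normalizer (((Cfsg.pCoreOf p M) : Subgroup G) : Set G) ∧ Subgroup.normalizer (((Cfsg.pCoreOf p M) : Subgroup G) : Set G) ≤ (M ⊔ Subgroup.centralizer (((Cfsg.largestPReducedOf p M) : Subgroup G) : Set G))) ∧ Cfsg.IsWeaklyClosedSubgroup p (Cfsg.pCoreOf p M) ∧ (∀ L : Subgroup G, (Cfsg.pCoreOf p M) ≤ L → Cfsg.IsParabolic p ((L ⊓ (M ⊔ Subgroup.centralizer (((Cfsg.largestPReducedOf p M) : Subgroup G) : Set G))).subgroupOf L)) ∧ (∀ x ∈ (Cfsg.largestPReducedOf p M), ∀ g : G, g * x * g⁻¹ ∈ (Cfsg.largestPReducedOf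 p M) → ∃ m ∈ M, m * x * m⁻¹ = g * x * g⁻¹) := by
  open H9 Subgroup in open scoped commutatorElement in
  have h := fm_of (par_of_large hQ hQp hQ1 S) hSM hM
  rw [YR_eq] at hasym ⊢
  have hwc := h.wc hasym
  rw [pCoreOf_eq, ← h.normalizer_Y]
  refine ⟨fun L h1 h2 => ⟨hwc.normalizer_le' h1 h2, h.normalizer_Op_le⟩, wc_top_iff.2 hwc, fun L h1 => ?_,
    fun x hx g hg => ?_⟩
  · obtain ⟨T, hT, h2⟩ := exists_syl_ge (Op_p p M) h1
    obtain ⟨P, hP⟩ := hT.exists_sylow'
    exact ⟨P, hP ▸ comap_mono (le_inf hT.le ((hwc.le_normalizer hT.isP h2 le_top).trans h.normalizer_Op_le))⟩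
  · have h1 := Op_le_centralizer_YR p M
    obtain ⟨c, hc, e⟩ := hwc.conj (K := centralizer {g * x * g⁻¹})
      (h1.trans (centralizer_le (Set.singleton_subset_iff.2 hg))) le_top (mem_top g)
      (by rw [← cj_centralizer_singleton]; exact cj_mono g (h1.trans (centralizer_le (Set.singleton_subset_iff.2 hx))))
    rw [eq_comm, cj_eq_iff, ← cj_mul, eq_comm, ← mem_normalizer_iff_cj] at e
    obtain ⟨m, hm, d, hd, e2⟩ := (mem_sup_of_le_normalizer (normalizer_centralizer (le_normalizer_YR p M))).1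
      (h.normalizer_Y.le (h.normalizer_Op_le e))
    refine ⟨m, hm, ?_⟩
    have e3 := mem_centralizer_singleton_iff.1 hc
    have e4 := comm_of_mem_centralizer hd hx
    calc m * x * m⁻¹ = m * (x * d) * d⁻¹ * m⁻¹ := by group
      _ = (m * d) * x * (m * d)⁻¹ := by rw [e4]; group
      _ = c⁻¹ * (g * x * g⁻¹ * c) := by rw [e2]; group
      _ = _ := by rw [← e3]; group

end Cfsg.Agent.S2850
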