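import Cfsg.Statements.S2851
import Cfsg.Agent.H9.MS4

set_option autoImplicit false
open Cfsg

namespace Cfsg.Agent.S2851

/-- Standing hypotheses: G a finite group, S a Sylow p-subgroup, Q a nontrivial large p-subgroup of G contained in S, M a subgroup containing S with the basic property (M ∈ 𝔐_G(S)); Y_M the largest p-reduced normal subgroup of M and M† = M·C_G(Y_M). Let F be the preimage in M† of the generalized Fitting subgroup of M†/C_{M†}(Y_M). If Y_M is asymmetric in G and H is a subgroup of characteristic p containing F, then Y_M ≤ Y_H. -/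
theorem result {G : Type*} [Group G] [Finite G] {p : ℕ} [Fact p.Prime] (S : Sylow p G) (Q : Subgroup G) (hQp : IsPGroup p ↥Q) (hQ1 : Q ≠ ⊥) (hQS : Q ≤ (S : Subgroup G)) (hQ : Cfsg.IsLarge Q) (M : Subgroup G) (hSM : (S : Subgroup G) ≤ M) (hM : Cfsg.IsInFrakM p M) (hasym : ¬ Cfsg.IsSymmetricIn (Cfsg.largestPReducedOf p M)) [hn : ((Subgroup.centralizer (((Cfsg.largestPReducedOf p M) : Subgroup G) : Set G)).subgroupOf (M ⊔ Subgroup.centralizer (((Cfsg.largestPReducedOf p M) : Subgroup G) : Set G))).Normal] (F : Subgroup G) (hF : F = ((Cfsg.generalizedFittingSubgroup (↥(M ⊔ Subgroup.centralizer (((Cfsg.largestPReducedOf p M) : Subgroup G) : Set G)) ⧸ (Subgroup.centralizer (((Cfsg.largestPReducedOf p M) : Subgroup G) : Set G)).subgroupOf (M ⊔ Subgroup.centralizer (((Cfsg.largestPReducedOf p M) : Subgroup G) : Set G)))).comap (QuotientGroup.mk' ((Subgroup.centralizer (((Cfsg.largestPReducedOf p M) : Subgroup G) : Set G)).subgroupOf (M ⊔ Subgroup.centralizer (((Cfsg.largestPReducedOf p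 M) : Subgroup G) : Set G))))).map ((M ⊔ Subgroup.centralizer (((Cfsg.largestPReducedOf p M) : Subgroup G) : Set G))).subtype) (H : Subgroup G) (hFH : F ≤ H) (hH : Subgroup.centralizer (Cfsg.pCore p ↥H : Set ↥H) ≤ Cfsg.pCore p ↥H) : (Cfsg.largestPReducedOf p M) ≤ Cfsg.largestPReducedOf p H := by
  open H9 Subgroup in open scoped commutatorElement in
  have h := fm_of (par_of_large hQ hQp hQ1 S) hSM hM
  have hred := YR_red p (M ⊔ centralizer (YR p M : Set G))
  rw [h.yr] at hred
  have hwc := h.wc (YR_eq (p := p) M ▸ hasym)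
  have hN := h.normalizer_Y
  have hO := h.normalizer_Op_le
  have hC := Op_le_centralizer_YR p M
  rw [YR_eq H, ← YR_eq] at *
  generalize largestPReducedOf p M = Y at *
  set X := M ⊔ centralizer (Y : Set G)
  let f := QuotientGroup.mk' ((centralizer (Y : Set G)).subgroupOf X)
  have hf : Function.Surjective f := QuotientGroup.mk'_surjective _
  have hk : kr f = centralizer (Y : Set G) := by rw [kr_mk', map_subgroupOf_eq_of_le le_sup_right]
  have hF' : F = pre f (Fst ⊤) := by rw [hF, Fst_top]; rfl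
  have h1 : Op p (⊤ : Subgroup (X ⧸ (centralizer (Y : Set G)).subgroupOf X)) = ⊥ := by
    rw [Op_top]; exact pCore_quot_subgroupOf.2 hred.red
  have h2 : centralizer (Y : Set G) ≤ H := (hk.ge.trans (hF' ▸ kr_le_pre f _)).trans hFH
  obtain ⟨T, hT, h3⟩ := exists_syl_ge (Op_p p M) (hC.trans h2)
  have h4 : T ≤ H ⊓ X := le_inf hT.le (hN ▸ (hwc.le_normalizer hT.isP h3 le_top).trans hO)
  rw [YR_eq]
  refine Red.le_YR_of_le (red_of (le_inf (hred.comm.trans h2) hred.le) (inf_le_right.trans hred.norm) hred.elem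
    fun D h5 h6 h7 => ?_) (chp_iff.1 hH) hT h4 inf_le_left
  have h8 : D ≤ X := h5.trans inf_le_right
  have h9 : IsPGroup p (im f D) := isPGroup_of_Ores_eq_bot (by
    rwa [← im_Ores f h8, im_eq_bot_iff f ((Ores_le p D).trans h8), hk])
  rw [← hk, ← im_eq_bot_iff f h8]
  refine eq_bot_of_centralizer_Fst h1 h9 le_top (le_centralizer_iff'.2 ?_)
  have h10 : Fst ⊤ ≤ normalizer (im f D : Set (X ⧸ (centralizer (Y : Set G)).subgroupOf X)) := by
    rw [← im_pre_surj f hf (Fst ⊤), ← hF']
    exact im_le_normalizer f ((le_inf hFH (hF' ▸ pre_le f _)).trans h6)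
  rw [eq_bot_iff, ← (sn_Fst ⊤).Op_eq_bot h1]
  exact (commutator_le_inf' (le_top.trans (le_normalizer_Fst ⊤)) h10).trans
    (le_Op inf_le_right (normalizer_inf h10 le_normalizer) (h9.to_le inf_le_left))

end Cfsg.Agent.S2851
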