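import Cfsg.Statements.S2852
import Cfsg.Agent.H9.MS4

set_option autoImplicit false
open Cfsg

namespace Cfsg.Agent.S2852

/-- Standing hypotheses: G a finite group, S a Sylow p-subgroup, Q a nontrivial large p-subgroup of G contained in S, M a subgroup containing S with the basic property (M ∈ 𝔐_G(S)); Y_M the largest p-reduced normal subgroup of M. If Y_M is char-p-tall and asymmetric in G, then some subgroup H of G lies in ℌ_G(O_p(M)): H has characteristic p, O_p(M) ≤ H, Y_M ≰ O_p(H), and Y_M ≤ O_p(P) for every proper subgroup P of H containing O_p(M). -/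
theorem result {G : Type*} [Group G] [Finite G] {p : ℕ} [Fact p.Prime] (S : Sylow p G) (Q : Subgroup G) (hQp : IsPGroup p ↥Q) (hQ1 : Q ≠ ⊥) (hQS : Q ≤ (S : Subgroup G)) (hQ : Cfsg.IsLarge Q) (M : Subgroup G) (hSM : (S : Subgroup G) ≤ M) (hM : Cfsg.IsInFrakM p M) (htall : Cfsg.IsCharPTall p (Cfsg.largestPReducedOf p M)) (hasym : ¬ Cfsg.IsSymmetricIn (Cfsg.largestPReducedOf p M)) : ∃ H : Subgroup G, Cfsg.IsInFrakH p M H := by
  open H9 Subgroup in open scoped commutatorElement in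
  have h := fm_of (par_of_large hQ hQp hQ1 S) hSM hM
  rw [YR_eq] at hasym htall
  have hwc := h.wc hasym
  obtain ⟨T, L, h1, h2, h3⟩ := htall
  rw [Op_eq] at h3
  obtain ⟨c, hc, e⟩ := (syl_of_sylow T).conj h.syl_Op
  have h4 : Op p M ≤ cj c L := e ▸ cj_mono c h1
  have h5 : ¬ YR p M ≤ Op p (cj c L) := by
    rwa [← cj_Op, ← cj_eq_of_centralizer hc, cj_le_cj_iff]
  obtain ⟨H, ⟨a1, a2, a3⟩, hmin⟩ := exists_minimal_of_wellFoundedLT
    (fun H : Subgroup G => Op p M ≤ H ∧ H ≤ cj c L ∧ ¬ YR p M ≤ Op p H) ⟨_, h4, le_rfl, h5⟩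
  exact ⟨H, frakH_iff.2 ⟨(hwc.mono h4 le_top).chp ((chp_iff.1 h2).cj c) h.cent a1 (inf_le_left.trans a2), a1, a3,
    fun P b1 b2 => by_contra fun b3 => b2.not_ge (hmin ⟨b1, b2.le.trans a2, b3⟩ b2.le)⟩⟩

end Cfsg.Agent.S2852
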