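import Cfsg.Statements.S2853
import Cfsg.Agent.H9.MS4

set_option autoImplicit false
open Cfsg

namespace Cfsg.Agent.S2853

/-- Standing hypotheses: G a finite group, S a Sylow p-subgroup, Q a nontrivial large p-subgroup of G contained in S, M a subgroup containing S with the basic property (M ∈ 𝔐_G(S)); Y_M the largest p-reduced normal subgroup of M and M† = M·C_G(Y_M). Suppose Y_M is char-p-tall and asymmetric in G and H ∈ ℌ_G(O_p(M)). Then every Sylow p-subgroup of H ∩ M† is a Sylow p-subgroup of H; O_p(H) normalizes O_p(M) and Y_M; O^p(H) = [O^p(H), Y_M] and H = O^p(H)·O_p(M); O^p(H)·Y_M is the normal closure of Y_M in H; and H is the normal closure of O_p(M) in H. Here O^p(H) is the subgroup generated by the elements of H of order prime to p. -/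
theorem result {G : Type*} [Group G] [Finite G] {p : ℕ} [Fact p.Prime] (S : Sylow p G) (Q : Subgroup G) (hQp : IsPGroup p ↥Q) (hQ1 : Q ≠ ⊥) (hQS : Q ≤ (S : Subgroup G)) (hQ : Cfsg.IsLarge Q) (M : Subgroup G) (hSM : (S : Subgroup G) ≤ M) (hM : Cfsg.IsInFrakM p M) (htall : Cfsg.IsCharPTall p (Cfsg.largestPReducedOf p M)) (hasym : ¬ Cfsg.IsSymmetricIn (Cfsg.largestPReducedOf p M)) (H : Subgroup G) (hH : Cfsg.IsInFrakH p M H) (R : Subgroup G) (hR : R = (Cfsg.pResidual p ↥H).map H.subtype) : (∀ T : Sylow p ↥(H ⊓ (M ⊔ Subgroup.centralizer (((Cfsg.largestPReducedOf p M) : Subgroup G) : Set G))), ∃ P : Sylow p ↥H, ((P : Subgroup ↥H).map H.subtype) = (T : Subgroup ↥(H ⊓ (M ⊔ Subgroup.centralizer (((Cfsg.largestPReducedOf p M) : Subgroup G) : Set G)))).map (H ⊓ (M ⊔ Subgroup.centralizer (((Cfsg.largestPReducedOf p M) : Subgroup G) : Set G))).subtype) ∧ Cfsg.pCoreOf p H ≤ Subgroup.normalizer (((Cfsg.pCoreOf p M) : Subgroup G) : Set G) ⊓ Subgroup.normalizer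 (((Cfsg.largestPReducedOf p M) : Subgroup G) : Set G) ∧ ⁅R, (Cfsg.largestPReducedOf p M)⁆ = R ∧ R ⊔ (Cfsg.pCoreOf p M) = H ∧ R ⊔ (Cfsg.largestPReducedOf p M) = (Subgroup.normalClosure ((((Cfsg.largestPReducedOf p M)).subgroupOf H : Subgroup ↥H) : Set ↥H)).map H.subtype ∧ (Subgroup.normalClosure ((((Cfsg.pCoreOf p M)).subgroupOf H : Subgroup ↥H) : Set ↥H)).map H.subtype = H := by
  open H9 Subgroup in open scoped commutatorElement in
  have h := fm_of (par_of_large hQ hQp hQ1 S) hSM hM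
  rw [YR_eq] at hasym ⊢
  have hwc := h.wc hasym
  obtain ⟨a0, a1, a2, a3⟩ := frakH_iff.1 hH
  rw [Ores_eq] at hR
  subst hR
  have a4 := YR_le_Op p M
  have a5 := (Op_le p M).trans (le_normalizer_YR p M)
  rw [pCoreOf_eq, pCoreOf_eq, ncl_eq a1, ncl_eq (a4.trans a1)]
  have h1 := hwc.le_normalizer_of_normalizes (Op_p p H) le_top (a1.trans (le_normalizer_Op p H))
  refine ⟨fun T => ?_, le_inf h1 (h1.trans h.normalizer_Op_le), fh_commutator (Op_p p M) a1 a2 a3 a4 a5,
    fh_Ores_sup a1 a2 a3, fh_ncl_Y (Op_p p M) a1 a2 a3 a4 a5, fh_ncl a1 a2 a3⟩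
  obtain ⟨P, hP, h2⟩ := exists_syl_ge (Op_p p M) a1
  have hT := syl_of_sylow T
  exact (syl_of_card_le hT.isP (hT.le.trans inf_le_left) hP (hT.card_le hP.isP (le_inf hP.le
    (h.normalizer_Y ▸ (hwc.le_normalizer hP.isP h2 le_top).trans h.normalizer_Op_le)))).exists_sylow

end Cfsg.Agent.S2853
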