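import Cfsg.Statements.S2854
import Cfsg.Agent.H9.MS4

set_option autoImplicit false
open Cfsg

namespace Cfsg.Agent.S2854

/-- Standing hypotheses: G a finite group, S a Sylow p-subgroup, Q a nontrivial large p-subgroup of G contained in S, M a subgroup containing S with the basic property (M ∈ 𝔐_G(S)); Y_M the largest p-reduced normal subgroup of M and M† = M·C_G(Y_M). Suppose Y_M is asymmetric in G, H ∈ ℌ_G(O_p(M)), and H ≤ N_G(gQg⁻¹) for some g ∈ G. Then gQg⁻¹ ≤ O_p(H·gQg⁻¹) ≤ N_G(O_p(M)) ≤ N_G(Y_M) = M†; H is normal in H·gQg⁻¹ with O^p(H) = O^p(H·gQg⁻¹); and H·gQg⁻¹ is p-irreducible. -/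
theorem result {G : Type*} [Group G] [Finite G] {p : ℕ} [Fact p.Prime] (S : Sylow p G) (Q : Subgroup G) (hQp : IsPGroup p ↥Q) (hQ1 : Q ≠ ⊥) (hQS : Q ≤ (S : Subgroup G)) (hQ : Cfsg.IsLarge Q) (M : Subgroup G) (hSM : (S : Subgroup G) ≤ M) (hM : Cfsg.IsInFrakM p M) (hasym : ¬ Cfsg.IsSymmetricIn (Cfsg.largestPReducedOf p M)) (H : Subgroup G) (hH : Cfsg.IsInFrakH p M H) (g : G) (hHQ : H ≤ Subgroup.normalizer ((((Q : Subgroup G).map (MulAut.conj (g : G)).toMonoidHom) : Subgroup G) : Set G)) : ((Q : Subgroup G).map (MulAut.conj (g : G)).toMonoidHom) ≤ Cfsg.pCoreOf p (H ⊔ ((Q : Subgroup G).map (MulAut.conj (g : G)).toMonoidHom)) ∧ Cfsg.pCoreOf p (H ⊔ ((Q : Subgroup G).map (MulAut.conj (g : G)).toMonoidHom)) ≤ Subgroup.normalizer (((Cfsg.pCoreOf p M) : Subgroup G) : Set G) ∧ Subgroup.normalizer (((Cfsg.pCoreOf p M) : Subgroup G) : Set G) ≤ Subgroup.normalizer (((Cfsg.largestPReducedOf p M) : Subgroup G) : Set G) ∧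 Subgroup.normalizer (((Cfsg.largestPReducedOf p M) : Subgroup G) : Set G) = (M ⊔ Subgroup.centralizer (((Cfsg.largestPReducedOf p M) : Subgroup G) : Set G)) ∧ (H.subgroupOf (H ⊔ ((Q : Subgroup G).map (MulAut.conj (g : G)).toMonoidHom))).Normal ∧ (Cfsg.pResidual p ↥H).map H.subtype = (Cfsg.pResidual p ↥(H ⊔ ((Q : Subgroup G).map (MulAut.conj (g : G)).toMonoidHom))).map (H ⊔ ((Q : Subgroup G).map (MulAut.conj (g : G)).toMonoidHom)).subtype ∧ Cfsg.IsPIrreducible p ↥(H ⊔ ((Q : Subgroup G).map (MulAut.conj (g : G)).toMonoidHom)) := by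
  open H9 Subgroup in open scoped commutatorElement in
  have h := fm_of (par_of_large hQ hQp hQ1 S) hSM hM
  rw [YR_eq] at hasym ⊢
  have hwc := h.wc hasym
  obtain ⟨a0, a1, a2, a3⟩ := frakH_iff.1 hH
  rw [cj_def'] at hHQ ⊢
  have a4 := YR_le_Op p M
  have a5 := (Op_le p M).trans (le_normalizer_YR p M)
  have hP := isPGroup_cj g hQp
  rw [pCoreOf_eq, pCoreOf_eq, Ores_eq, Ores_eq, pir_iff]
  have h1 : cj g Q ≤ Op p (H ⊔ cj g Q) := le_Op le_sup_right (sup_le hHQ le_normalizer) hP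
  have h2 := hwc.le_normalizer_of_normalizes (Op_p p (H ⊔ cj g Q)) le_top
    ((a1.trans le_sup_left).trans (le_normalizer_Op p _))
  have h3 : cj g Q ≤ normalizer (H : Set G) := by
    rw [← fh_ncl a1 a2 a3]
    refine normalizer_iSup fun k => ?_
    rw [← cj_normalizer, ← mem_normalizer_iff_cj.1 (hHQ k.2)]
    exact cj_mono _ (h1.trans h2)
  exact ⟨h1, h2, h.normalizer_Op_le, h.normalizer_Y,
    (normal_subgroupOf_iff_le_normalizer le_sup_left).2 (sup_le le_normalizer h3),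
    le_antisymm (Ores_mono le_sup_left) ((Ores_Ores p _).ge.trans (Ores_mono (Ores_le_of_sup hP h3 le_rfl))),
    (fh_pir (Op_p p M) a1 a2 a3 a4 a5).sup hP hHQ⟩

end Cfsg.Agent.S2854
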