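import Cfsg.Statements.S2855
import Cfsg.Agent.H9.MS3

set_option autoImplicit false
open Cfsg

namespace Cfsg.Agent.S2855

/-- Let H be a finite group, p a prime, and 𝒦 a nonempty set of subgroups of H permuted transitively by conjugation, with R the subgroup generated by the members of 𝒦. Suppose O^p(H) ≤ R, each E ∈ 𝒦 has E·O_p(H) normal in R·O_p(H), and each E ∈ 𝒦 is p-minimal (generated by the conjugates of a Sylow p-subgroup T_E of E, with T_E in exactly one maximal subgroup of E). Then H is p-minimal in the same sense. If instead each E ∈ 𝒦 is strongly p-irreducible, then H is p-irreducible and, for E, K ∈ 𝒦, either O^p(E·O_p(H)) = O^p(K·O_p(H)) or [E, K] ≤ O_p(H). -/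
theorem result {H : Type*} [Group H] [Finite H] {p : ℕ} [Fact p.Prime] (𝒦 : Set (Subgroup H)) (hne : 𝒦.Nonempty) (hinv : ∀ h : H, ∀ E ∈ 𝒦, E.map (MulAut.conj h).toMonoidHom ∈ 𝒦) (htr : ∀ E ∈ 𝒦, ∀ K ∈ 𝒦, ∃ h : H, K = E.map (MulAut.conj h).toMonoidHom) (hres : Cfsg.pResidual p H ≤ sSup 𝒦) (hnorm : ∀ E ∈ 𝒦, sSup 𝒦 ⊔ Cfsg.pCore p H ≤ Subgroup.normalizer ((E ⊔ Cfsg.pCore p H : Subgroup H) : Set H)) : ((∀ E ∈ 𝒦, ∀ T : Sylow p ↥E, Cfsg.IsMinimalOver (T : Subgroup ↥E)) → ∀ T : Sylow p H, Cfsg.IsMinimalOver (T : Subgroup H)) ∧ ((∀ E ∈ 𝒦, Cfsg.IsStronglyPIrreducible p ↥E) → Cfsg.IsPIrreducible p H ∧ ∀ E ∈ 𝒦, ∀ K ∈ 𝒦, (Cfsg.pResidual p ↥(E ⊔ Cfsg.pCore p H)).map (E ⊔ Cfsg.pCore p H).subtype = (Cfsg.pResidual p ↥(K ⊔ Cfsg.pCore p H)).map (K ⊔ Cfsg.pCore p H).subtype ∨ ⁅E, K⁆ ≤ Cfsg.pCore p H) := by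
  open H9 Subgroup in open scoped commutatorElement in
  let f := QuotientGroup.mk' (pCore p H)
  have hf : Function.Surjective f := QuotientGroup.mk'_surjective _
  have hk : f.ker = pCore p H := QuotientGroup.ker_mk' _
  have hkp : ∀ E : Subgroup H, IsPGroup p (f.ker ⊓ E : Subgroup H) := fun E => (hk ▸ pCore_p p).to_le inf_le_left
  have e : (⊤ : Subgroup H).map f = ⊤ := map_top_of_surjective f hf
  have e1 : ∀ E : Subgroup H, (E ⊔ pCore p H).map f = E.map f := fun E => by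
    rw [Subgroup.map_sup, (Subgroup.map_eq_bot_iff _).2 hk.ge, sup_bot_eq]
  let 𝒦' := (fun E : Subgroup H => E.map f) '' 𝒦
  have e2 : sSup 𝒦' = (sSup 𝒦).map f := by
    rw [sSup_image, sSup_eq_iSup]; simp only [Subgroup.map_iSup]
  have a1 : 𝒦'.Nonempty := hne.image _
  have a2 : ∀ h, ∀ E ∈ 𝒦', cj h E ∈ 𝒦' := by
    rintro h _ ⟨E, hE, rfl⟩
    obtain ⟨h, rfl⟩ := hf h
    exact ⟨_, hinv h E hE, map_cj f h E⟩
  have a3 : ∀ E ∈ 𝒦', ∀ K ∈ 𝒦', ∃ h, K = cj h E := by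
    rintro _ ⟨E, hE, rfl⟩ _ ⟨K, hK, rfl⟩
    obtain ⟨h, rfl⟩ := htr E hE K hK
    exact ⟨f h, map_cj f h E⟩
  have a4 : Ores p ⊤ ≤ sSup 𝒦' := by
    rw [e2, ← e, ← map_Ores, Ores_top]; exact map_mono hres
  have a5 : ∀ E ∈ 𝒦', sSup 𝒦' ≤ normalizer (E : Set (H ⧸ pCore p H)) := by
    rintro _ ⟨E, hE, rfl⟩
    have := map_le_normalizer_map f (hnorm E hE)
    rwa [e1, e1, ← e2] at this
  constructor
  · intro h T
    have hT := syl_top_of_sylow T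
    rw [mn_top_iff]
    refine Mn.of_map f (e ▸ fam_mn a1 a2 a3 a4 a5 ?_ (syl_map_quot hf hT)) le_top
      ((ker_inf_le_Op f (hkp _)).trans hT.Op_le)
    rintro _ ⟨E, hE, rfl⟩ S hS
    obtain ⟨S', hS', rfl⟩ := hS.exists_of_map f
    obtain ⟨S, rfl⟩ := hS'.exists_sylow
    exact (mn_map_subtype_iff.1 (h E hE S)).map f ((ker_inf_le_Op f (hkp _)).trans hS'.Op_le)
  · intro h
    obtain ⟨h1, h2⟩ := fam_pir a1 a2 a3 a4 a5 (by rw [Op_top]; exact pCore_quotient p) (by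
      rintro _ ⟨E, hE, rfl⟩
      exact (spir_map_iff f (hkp E)).2 (spir_iff.1 (h E hE)))
    refine ⟨pir_top_iff.2 ((pir_map_iff f (hkp ⊤)).1 (e ▸ h1)), fun E hE K hK => ?_⟩
    rw [Ores_eq, Ores_eq]
    have key : ∀ E K : Subgroup H, Ores p (E.map f) = Ores p (K.map f) →
        Ores p (E ⊔ pCore p H) ≤ Ores p (K ⊔ pCore p H) := fun E K h3 => by
      rw [← Ores_Ores]
      refine Ores_mono ?_
      have : (Ores p (E ⊔ pCore p H)).map f ≤ K.map f := by rw [map_Ores, e1, h3]; exact Ores_le p _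
      rwa [Subgroup.map_le_map_iff, hk] at this
    refine (h2 _ ⟨E, hE, rfl⟩ _ ⟨K, hK, rfl⟩).imp (fun h3 => le_antisymm (key E K h3) (key K E h3.symm)) fun h3 => ?_
    rwa [← map_commutator, Subgroup.map_eq_bot_iff, hk] at h3

end Cfsg.Agent.S2855
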