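import Cfsg.Statements.S2859
import Cfsg.Agent.H9.MS4

set_option autoImplicit false
open Cfsg

namespace Cfsg.Agent.S2859

section
open H9 Subgroup
open scoped commutatorElement
theorem aux {G : Type*} [Group G] [Finite G] {p : ℕ} [Fact p.Prime] {Q Hc H₁ H₂ K : Subgroup G} (hwc : WC p Q ⊤)
    (hHc : Hc = ncl Q ⊤) (hn₁ : H₁ ≤ Hc ∧ Hc ≤ normalizer (H₁ : Set G)) (hn₂ : H₂ ≤ Hc ∧ Hc ≤ normalizer (H₂ : Set G))
    (hprod : H₁ ⊔ H₂ = Hc) (hcomm : ⁅H₁, H₂⁆ ≤ normalizer (Q : Set G)) (hK : K = Ores p (ncl Q (H₁ ⊔ Q))) :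
    (⁅K, Q⁆ = K ∧ ⁅K, H₁⁆ = K ∧ K ≤ ⁅H₁, H₁⁆ ∧ Hc ≤ normalizer (K : Set G)) ∧ ⁅K, H₂⁆ ≤ Op p Hc ∧ K ≤ H₁ ∧
      H₁ ≤ normalizer ((K ⊔ Q : Subgroup G) : Set G) ∧ Ores p K = K := by
  have hQ : Q ≤ Hc := hHc ▸ le_ncl _ _
  have w := hwc.mono (le_sup_right (a := H₁)) le_top
  have h1 : ⁅K, Q⁆ = K := hK ▸ w.commutator_Ores
  have h2 : K ≤ H₁ := hK ▸ Ores_le_of_sup hwc.isP (hQ.trans hn₁.2) (ncl_le_self le_sup_right)
  have h3 : H₁ ≤ normalizer (K : Set G) := hK ▸ normalizer_Ores (le_sup_left.trans (le_normalizer_ncl _ _))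
  have h0 : Ores p K = K := hK ▸ Ores_Ores p _
  set D := ⁅H₁, H₂⁆
  have d1 : Hc ≤ normalizer (D : Set G) := normalizer_commutator hn₁.2 hn₂.2
  have d2 : D ≤ Hc := commutator_le_of_le hn₁.1 hn₂.1
  have e1 : Hc ≤ normalizer (Op p D : Set G) := normalizer_Op d1
  have e2 : ⁅D, Hc⁆ ≤ Op p D := by
    have : ncl Q Hc = Hc := hHc ▸ hwc.ncl_ncl
    rw [← this]
    exact commutator_ncl_le ((commutator_le_inf' hcomm (hQ.trans d1)).trans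
      (le_Op inf_le_left (normalizer_inf le_normalizer hcomm) (hwc.isP.to_le inf_le_right))) d1 e1 (hQ.trans e1)
  have h4 : K ≤ ⁅H₁, H₁⁆ ⊔ D := by
    have n1 : Hc ≤ normalizer ((⁅H₁, H₁⁆ ⊔ D : Subgroup G) : Set G) :=
      normalizer_sup (normalizer_commutator hn₁.2 hn₁.2) d1
    exact h1.ge.trans ((commutator_mono h2 (hQ.trans hprod.ge)).trans
      (commutator_sup_le' (hn₁.1.trans n1) (hn₂.1.trans n1) le_sup_left le_sup_right))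
  have h5 : ⁅K, H₂⁆ ≤ Op p D := (commutator_mono h4 le_rfl).trans (commutator_sup_le
    ((commutator_le_of_le hn₁.1 hn₁.1).trans e1) (d2.trans e1) (three_subgroups (hn₁.1.trans e1) (hn₁.1.trans e1)
      (hn₂.1.trans e1) ((commutator_mono le_rfl hn₁.1).trans e2)
      (by rw [commutator_comm H₂]; exact (commutator_mono le_rfl hn₁.1).trans e2))
    ((commutator_mono le_rfl hn₂.1).trans e2))
  have h6 : Op p D ≤ H₁ := (Op_le p D).trans (commutator_le_left' (hn₂.1.trans hn₁.2))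
  have h7 : Hc ≤ normalizer (K : Set G) := by
    have e : Ores p (K ⊔ Op p D) = K := le_antisymm (Ores_le_of_sup (Op_p p D) (h6.trans h3) le_rfl)
      (h0.ge.trans (Ores_mono le_sup_left))
    rw [← e, ← hprod]
    refine normalizer_Ores (sup_le (normalizer_sup h3 (hn₁.1.trans e1)) (le_normalizer_of_commutator_le
      (K := K ⊔ Op p D) (le_trans (commutator_sup_le ((h2.trans hn₁.1).trans e1) le_normalizer h5
        (commutator_le_left' (hn₂.1.trans e1))) le_sup_right) le_rfl))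
  have h8 : ⁅K, H₁⁆ = K := by
    refine le_antisymm (commutator_le_left' h3) (h0.ge.trans (Ores_le_of_sup (Op_p p D)
      (h6.trans (le_normalizer_commutator_right _ _)) ?_))
    have n1 : Hc ≤ normalizer ((⁅K, H₁⁆ ⊔ Op p D : Subgroup G) : Set G) :=
      normalizer_sup (normalizer_commutator h7 hn₁.2) e1
    exact h1.ge.trans ((commutator_mono le_rfl (hQ.trans hprod.ge)).trans
      (commutator_sup_le' (hn₁.1.trans n1) (hn₂.1.trans n1) le_sup_left (h5.trans le_sup_right)))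
  refine ⟨⟨h1, h8, h8.ge.trans (commutator_mono h2 le_rfl), h7⟩, h5.trans (SN.of_normal d2 d1).Op_le_Op, h2, ?_, h0⟩
  rw [hK, w.Ores_sup]; exact le_sup_left.trans (le_normalizer_ncl _ _)
end

/-- Let Q be a nontrivial p-subgroup of the finite group H that is a weakly closed subgroup, H° the weak closure of Q in H (generated by the conjugates of Q) and H_∘ = O^p(H°). Suppose H₁, H₂ are normal subgroups of H° with H° = H₁H₂ and [H₁, H₂] ≤ N_H(Q), and put Kᵢ = O^p of the weak closure of Q in HᵢQ. Then for i = 1, 2: Kᵢ = [Kᵢ, Q] = [Kᵢ, Hᵢ] ≤ Hᵢ′ and Kᵢ is normal in H°; H_∘ = K₁K₂; and [K₁, K₂] ≤ O_p(H°). -/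
theorem result {G : Type*} [Group G] [Finite G] {p : ℕ} [Fact p.Prime] (Q : Subgroup G) (hQp : IsPGroup p ↥Q) (hQ1 : Q ≠ ⊥) (hwc : Cfsg.IsWeaklyClosedSubgroup p Q) (Hc : Subgroup G) (hHc : Hc = Cfsg.weakClosure Q ⊤) (H₁ H₂ : Subgroup G) (hn₁ : H₁ ≤ Hc ∧ Hc ≤ Subgroup.normalizer ((H₁ : Subgroup G) : Set G)) (hn₂ : H₂ ≤ Hc ∧ Hc ≤ Subgroup.normalizer ((H₂ : Subgroup G) : Set G)) (hprod : H₁ ⊔ H₂ = Hc) (hcomm : ⁅H₁, H₂⁆ ≤ Subgroup.normalizer ((Q : Subgroup G) : Set G)) (K₁ K₂ : Subgroup G) (hK₁ : K₁ = ((Cfsg.pResidual p ↥(Cfsg.weakClosure Q (H₁ ⊔ Q))).map ((Cfsg.weakClosure Q (H₁ ⊔ Q))).subtype)) (hK₂ : K₂ = ((Cfsg.pResidual p ↥(Cfsg.weakClosure Q (H₂ ⊔ Q))).map ((Cfsg.weakClosure Q (H₂ ⊔ Q))).subtype)) : (⁅K₁, Q⁆ = K₁ ∧ ⁅K₁, H₁⁆ = K₁ ∧ K₁ ≤ ⁅H₁, H₁⁆ ∧ Hc ≤ Subgroup.normalizer ((K₁ : Subgroup G) : Set G)) ∧ (⁅K₂, Q⁆ = K₂ ∧ ⁅K₂, H₂⁆ = K₂ ∧ K₂ ≤ ⁅H₂,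 H₂⁆ ∧ Hc ≤ Subgroup.normalizer ((K₂ : Subgroup G) : Set G)) ∧ K₁ ⊔ K₂ = ((Cfsg.pResidual p ↥Hc).map (Hc).subtype) ∧ ⁅K₁, K₂⁆ ≤ (Cfsg.pCoreOf p Hc) := by
  open H9 Subgroup in open scoped commutatorElement in
  rw [wc_top_iff] at hwc
  rw [hwc.wcl_eq le_top] at hHc
  rw [Ores_eq, hwc.wcl_eq le_sup_right] at hK₁ hK₂
  obtain ⟨a1, a2, a3, a4, a5⟩ := aux hwc hHc hn₁ hn₂ hprod hcomm hK₁
  obtain ⟨b1, b2, b3, b4, b5⟩ := aux hwc hHc hn₂ hn₁ (sup_comm H₂ H₁ ▸ hprod) (commutator_comm H₁ H₂ ▸ hcomm) hK₂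
  rw [Ores_eq, pCoreOf_eq]
  refine ⟨a1, b1, le_antisymm (sup_le (a5.ge.trans (Ores_mono (a3.trans hn₁.1)))
    (b5.ge.trans (Ores_mono (b3.trans hn₂.1)))) ?_, (commutator_mono le_rfl b3).trans a2⟩
  have hQ : Q ≤ Hc := hHc ▸ le_ncl _ _
  refine Ores_le_of_sup hQp (hQ.trans (normalizer_sup a1.2.2.2 b1.2.2.2)) ?_
  have : ncl Q Hc = Hc := hHc ▸ hwc.ncl_ncl
  refine this.ge.trans (ncl_le le_sup_right (hprod.ge.trans (sup_le ?_ ?_)))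
  · rw [sup_right_comm]; exact normalizer_sup a4 (hn₁.1.trans b1.2.2.2)
  · rw [sup_assoc]; exact normalizer_sup (hn₂.1.trans a1.2.2.2) b4

end Cfsg.Agent.S2859
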