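import Cfsg.Statements.S2860
import Cfsg.Agent.H9.MS4

set_option autoImplicit false
open Cfsg

namespace Cfsg.Agent.S2860

/-- Let Q be a nontrivial large p-subgroup of the finite group H, U a nontrivial elementary abelian p-subgroup of H, and Q ≤ E ≤ N_H(U) with Q not normal in E. Suppose O_p(E/C_E(U)) = 1 and O^p(E)·C_E(U)/C_E(U) is quasisimple. Let E° be the weak closure of Q in E (generated by the conjugates of Q inside E) and E_∘ = O^p(E°). Then O^p(E)·C_E(U) = E_∘·C_E(U); E_∘ is perfect and equals O^p(E_∘); E_∘/C_{E_∘}(U) and E_∘/O_p(E_∘) are quasisimple; and E_∘ = [E_∘, Y] for every p-subgroup Y of E not centralizing U. -/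
theorem result {G : Type*} [Group G] [Finite G] {p : ℕ} [Fact p.Prime] (Q : Subgroup G) (hQp : IsPGroup p ↥Q) (hQ1 : Q ≠ ⊥) (hQ : Cfsg.IsLarge Q) (U : Subgroup G) (hU : Cfsg.IsElementaryAbelian p U) (hU1 : U ≠ ⊥) (E : Subgroup G) (hQE : Q ≤ E) (hEU : E ≤ Subgroup.normalizer ((U : Subgroup G) : Set G)) (hQn : ¬ E ≤ Subgroup.normalizer ((Q : Subgroup G) : Set G)) [hn : ((Subgroup.centralizer ((U : Subgroup G) : Set G)).subgroupOf E).Normal] (hred : Cfsg.pCore p (↥E ⧸ (Subgroup.centralizer ((U : Subgroup G) : Set G)).subgroupOf E) = ⊥) (hqs : Cfsg.IsQuasisimple ↥(((Cfsg.pResidual p ↥E) ⊔ (Subgroup.centralizer ((U : Subgroup G) : Set G)).subgroupOf E).map (QuotientGroup.mk' ((Subgroup.centralizer ((U : Subgroup G) : Set G)).subgroupOf E)))) (Er : Subgroup G) (hEr : Er = ((Cfsg.pResidual p ↥(Cfsg.weakClosure Q E)).map ((Cfsg.weakClosure Q E)).subtype)) [hn2 : ((Subgroup.centralizer ((U : Subgroup G) : Set G)).subgroupOf Er).Normal] : ((Cfsg.pResidual p ↥E).map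 (E).subtype) ⊔ (E ⊓ Subgroup.centralizer ((U : Subgroup G) : Set G)) = Er ⊔ (E ⊓ Subgroup.centralizer ((U : Subgroup G) : Set G)) ∧ ⁅Er, Er⁆ = Er ∧ ((Cfsg.pResidual p ↥Er).map (Er).subtype) = Er ∧ Cfsg.IsQuasisimple (↥Er ⧸ (Subgroup.centralizer ((U : Subgroup G) : Set G)).subgroupOf Er) ∧ Cfsg.IsQuasisimple (↥Er ⧸ Cfsg.pCore p ↥Er) ∧ ∀ Y : Subgroup G, Y ≤ E → IsPGroup p ↥Y → ¬ Y ≤ Subgroup.centralizer ((U : Subgroup G) : Set G) → ⁅Er, Y⁆ = Er := by
  open H9 Subgroup in open scoped commutatorElement in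
  have hwc := large_wc hQ hQp hQ1
  rw [Ores_eq, hwc.wcl_eq hQE] at hEr
  rw [Ores_eq, Ores_eq]
  obtain ⟨-, c2, c3⟩ := large_centralizer_ncl hQ hQp (elem_isP hU) hU1 hQE hEU
  set C := centralizer (U : Set G)
  let f := QuotientGroup.mk' (C.subgroupOf E)
  have hf : Function.Surjective f := QuotientGroup.mk'_surjective _
  have hk : kr f = E ⊓ C := by rw [kr_mk', subgroupOf_map_subtype, inf_comm]
  have hO : Op p (⊤ : Subgroup (E ⧸ C.subgroupOf E)) = ⊥ := by rw [Op_top]; exact hred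
  have e0 : (pResidual p E ⊔ C.subgroupOf E).map f = Ores p ⊤ := by
    rw [Subgroup.map_sup, (Subgroup.map_eq_bot_iff _).2 (QuotientGroup.ker_mk' _).ge, sup_bot_eq, ← Ores_top, map_Ores,
      map_top_of_surjective f hf]
  have hK : Comp (Ores p (⊤ : Subgroup (E ⧸ C.subgroupOf E))) ⊤ := ⟨sn_Ores p ⊤, e0 ▸ qs_iff.2 hqs⟩
  set K := Ores p (⊤ : Subgroup (E ⧸ C.subgroupOf E))
  have h1 : K = Fst ⊤ := le_antisymm (hK.le_Lay.trans (Lay_le_Fst _)) (Fst_le_Ores hO)
  have h2 : ∀ Y ≤ E, IsPGroup p Y → ¬ Y ≤ C → K ≤ ⁅K, im f Y⁆ := fun Y a1 a2 a3 =>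
    (hK.le_commutator_or le_top).resolve_right fun h => a3 (((im_eq_bot_iff f a1).1
      (eq_bot_of_centralizer_Fst hO (isPGroup_im f a2) le_top (h1 ▸ le_centralizer_iff''.2 h))).trans
        (hk.le.trans inf_le_right))
  have hW : ncl Q E ≤ E := ncl_le_self hQE
  have hE : Er ≤ E := hEr ▸ (Ores_le p _).trans hW
  have h3 : im f Er = K := by
    rw [hEr, im_Ores f hW]
    refine le_antisymm (Ores_mono le_top) ((Ores_Ores p _).ge.trans (Ores_mono ?_))
    refine (h2 Q hQE hQp fun h => hQn (hEU.trans (hQ.2 U (le_centralizer_iff.1 h) hU1))).trans ?_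
    rw [ncl_eq_sup, im_sup f (commutator_le_of_le le_rfl hQE) hQE, im_commutator f le_rfl hQE, im_self f hf]
    exact (commutator_mono le_top le_rfl).trans le_sup_left
  have h4 : Ores p Er = Er := hEr ▸ Ores_Ores p _
  have hn0 : E ≤ normalizer (Er : Set G) := hEr ▸ normalizer_Ores (le_normalizer_ncl _ _)
  have h5 : ⁅Er, C⁆ ≤ Op p Er := by
    rw [(hEr ▸ sn_Ores p _ : SN Er (ncl Q E)).Op_eq_inf]
    exact le_inf ((commutator_mono (hEr ▸ Ores_le p _) le_rfl).trans c2)
      (commutator_le_left' (hEr ▸ normalizer_Ores c3))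
  have h6 : ∀ M ≤ Er, Er ≤ normalizer (M : Set G) → K ≤ im f M → Er ≤ M ⊔ Er ⊓ C := fun M a1 a2 a3 => by
    have := (im_le_im_iff f hE (a1.trans hE)).1 (h3.le.trans a3)
    refine (le_inf this le_rfl).trans ((dedekind a1 (Or.inl ((a1.trans hE).trans (le_normalizer_kr f)))).le.trans ?_)
    rw [hk]; exact sup_le_sup_left (le_inf inf_le_right (inf_le_left.trans inf_le_right)) _
  have h7 : ⁅Er, Er⁆ = Er := by
    refine le_antisymm (commutator_le_of_le le_rfl le_rfl) (h4.ge.trans (Ores_le_of_sup (Op_p p Er)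
      ((Op_le p Er).trans (le_normalizer_commutator_left _ _)) ?_))
    have a1 := h6 ⁅Er, Er⁆ (commutator_le_of_le le_rfl le_rfl) (le_normalizer_commutator_left _ _)
      (by rw [im_commutator f hE hE, h3, hK.2.1])
    have a2 : ⁅Er, Q⁆ = Er := hEr ▸ (hwc.mono hQE le_top).commutator_Ores
    have n1 : Er ≤ normalizer ((⁅Er, Er⁆ ⊔ Op p Er : Subgroup G) : Set G) :=
      normalizer_sup (le_normalizer_commutator_left _ _) (le_normalizer_Op p Er)
    refine a2.ge.trans ((commutator_mono a1 le_rfl).trans (commutator_sup_le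
      ((commutator_le_of_le le_rfl le_rfl).trans n1) (inf_le_left.trans n1)
      ((commutator_le_left' (normalizer_commutator (hQE.trans hn0) (hQE.trans hn0))).trans le_sup_left)
      (le_trans ?_ le_sup_right)))
    rw [(hEr ▸ sn_Ores p _ : SN Er (ncl Q E)).Op_eq_inf, commutator_comm]
    exact le_inf ((commutator_mono (le_ncl _ _) inf_le_right).trans c2)
      ((commutator_mono le_rfl inf_le_left).trans (commutator_le_right' (hQE.trans hn0)))
  have h8 : Op p Er ≤ C := ((im_eq_bot_iff f ((Op_le p Er).trans hE)).1 (le_bot_iff.1 ((im_Op_le f hE).trans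
    (by rw [h3]; exact (hK.1.Op_eq_bot hO).le)))).trans (hk.le.trans inf_le_right)
  let φ : Er →* E ⧸ C.subgroupOf E := f.comp (inclusion hE)
  have hφ : φ.ker = C.subgroupOf Er := by
    ext x; rw [MonoidHom.mem_ker, mem_subgroupOf]; exact QuotientGroup.eq_one_iff _
  have hφr : (⊤ : Subgroup Er).map φ = K := by
    rw [← h3, ← map_map, ← MonoidHom.range_eq_map, inclusion_range]; rfl
  have key : ∀ (N : Subgroup Er) [N.Normal], N ≤ C.subgroupOf Er → ⁅Er, C⁆.subgroupOf Er ≤ N → IsQuasisimple (Er ⧸ N) :=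
    fun N _ a1 a2 => by
      let ψ := QuotientGroup.lift N φ (hφ ▸ a1)
      have b1 : (⊤ : Subgroup (Er ⧸ N)) = (⊤ : Subgroup Er).map (QuotientGroup.mk' N) :=
        (map_top_of_surjective _ (QuotientGroup.mk'_surjective N)).symm
      refine qs_top_iff.1 (QS.of_map ψ ?_ ?_ ?_)
      · rw [b1, map_map]; exact hφr ▸ hK.2
      · rw [b1, ← map_commutator]
        congr 1
        apply map_injective Er.subtype_injective
        rw [map_commutator, map_top_subtype, h7]
      · rintro x ⟨hx, -⟩ y -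
        obtain ⟨x, rfl⟩ := QuotientGroup.mk'_surjective N x
        obtain ⟨y, rfl⟩ := QuotientGroup.mk'_surjective N y
        have b2 : x ∈ φ.ker := hx
        rw [hφ] at b2
        rw [← commutatorElement_eq_one_iff_mul_comm, ← map_commutatorElement]
        exact (QuotientGroup.eq_one_iff _).2 (a2 (commutator_mem_commutator y.2 b2))
  refine ⟨?_, h7, h4, key _ le_rfl (comap_mono (h5.trans h8)),
    key _ (subgroupOf_Op.ge.trans (comap_mono h8)) ((comap_mono h5).trans subgroupOf_Op.le), fun Y a1 a2 a3 => ?_⟩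
  · rw [← hk, ← pre_im f hE, ← pre_im f (Ores_le p E), im_Ores f le_rfl, im_self f hf, h3]
  · have a4 := commutator_le_left' (a1.trans hn0)
    refine le_antisymm a4 (le_of_perfect_of_le_sup h7 (inf_le_left.trans (le_normalizer_commutator_left _ _)) ?_
      (h6 _ a4 (le_normalizer_commutator_left _ _) (by rw [im_commutator f hE a1, h3]; exact h2 Y a1 a2 a3)))
    obtain ⟨Γ, _, _, g, hg, hk', -⟩ := exists_quot (Op_le p Er) (le_normalizer_Op p Er)
    refine isSolvable_of_im g inf_le_left (isSolvable_of_comm' (comm_iff_commutator.2 ?_))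
      (isSolvable_of_le (isSolvable_of_isPGroup (hk' ▸ Op_p p Er)) inf_le_left)
    rw [← im_commutator g inf_le_left inf_le_left, im_eq_bot_iff g (commutator_le_of_le inf_le_left inf_le_left), hk']
    exact (commutator_mono inf_le_left inf_le_right).trans h5

end Cfsg.Agent.S2860
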