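import Cfsg.Statements.S2864
import Cfsg.Agent.H9.MS4

set_option autoImplicit false
open Cfsg

namespace Cfsg.Agent.S2864

/-- Standing hypotheses: G a finite group, S a Sylow p-subgroup, Q a nontrivial large p-subgroup of G contained in S, M a subgroup containing S with the basic property (M ∈ 𝔐_G(S)); Y_M the largest p-reduced normal subgroup of M and M† = M·C_G(Y_M). Let I be a nontrivial normal p-subgroup of M and Y ≤ O_p(M†); let L be a subgroup of G containing Y and A a normal p-subgroup of L with I ≤ A ≤ M. If [Y, A] ≤ [I, A], then Y ≤ O_p(L). -/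
theorem result {G : Type*} [Group G] [Finite G] {p : ℕ} [Fact p.Prime] (S : Sylow p G) (Q : Subgroup G) (hQp : IsPGroup p ↥Q) (hQ1 : Q ≠ ⊥) (hQS : Q ≤ (S : Subgroup G)) (hQ : Cfsg.IsLarge Q) (M : Subgroup G) (hSM : (S : Subgroup G) ≤ M) (hM : Cfsg.IsInFrakM p M) (I : Subgroup G) (hI1 : I ≠ ⊥) (hIp : IsPGroup p ↥I) (hIM : I ≤ M ∧ M ≤ Subgroup.normalizer ((I : Subgroup G) : Set G)) (Y : Subgroup G) (hY : Y ≤ (Cfsg.pCoreOf p (M ⊔ Subgroup.centralizer (((Cfsg.largestPReducedOf p M) : Subgroup G) : Set G)))) (L : Subgroup G) (hYL : Y ≤ L) (A : Subgroup G) (hAp : IsPGroup p ↥A) (hAL : A ≤ L ∧ L ≤ Subgroup.normalizer ((A : Subgroup G) : Set G)) (hIA : I ≤ A) (hAM : A ≤ M) (hc : ⁅Y, A⁆ ≤ ⁅I, A⁆) : Y ≤ (Cfsg.pCoreOf p L) := by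
  open H9 Subgroup in open scoped commutatorElement in
  have h := fm_of (par_of_large hQ hQp hQ1 S) hSM hM
  rw [pCoreOf_eq, YR_eq] at hY
  rw [pCoreOf_eq]
  have hYp : IsPGroup p Y := (Op_p p _).to_le hY
  set R := Ores p (ncl Y L)
  have h1 : L ≤ normalizer ((⁅A, A⁆ : Subgroup G) : Set G) := normalizer_commutator hAL.2 hAL.2
  have h2 : ⁅A, ncl Y L⁆ ≤ ⁅A, A⁆ := commutator_ncl_le
    (by rw [commutator_comm]; exact hc.trans (commutator_mono hIA le_rfl)) hAL.2 h1 (hYL.trans h1)
  have h3 : R ≤ centralizer (A : Set G) := Ores_le_iff.2 fun B b1 b2 => le_centralizer_iff.1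
    ((le_of_Phi_sup (K := A ⊓ centralizer (B : Set G)) inf_le_left (by
      conv_lhs => rw [← cop_commutator_sup ((b1.trans (ncl_le_self hYL)).trans hAL.2) (copA_of_p' hAp b2)]
      exact sup_le_sup_right (((commutator_mono le_rfl b1).trans h2).trans (_root_.L.commutator_le_Phi hAp)) _)).trans
      inf_le_right)
  have h4 : R ≤ M ⊔ centralizer (YR p M : Set G) := ((h3.trans (centralizer_anti hIA)).trans
    (centralizer_le_normalizer' I)).trans (h.normalizer_le hIp hI1 hIM.2)
  have h5 : Y ≤ normalizer (R : Set G) := (le_ncl Y L).trans (le_normalizer_Ores p _)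
  have h6 : ⁅R, Y⁆ ≤ Op p R := (le_inf ((commutator_mono le_rfl hY).trans
    (commutator_le_right' (h4.trans (le_normalizer_Op p _)))) (commutator_le_left' h5)).trans (Op_inf_le h4)
  have h7 : SN (R ⊔ Y) L := (sn_of_Ores_le le_sup_left (sup_le (Ores_le p _) (le_ncl Y L))).trans
    (SN.of_normal (ncl_le_self hYL) (le_normalizer_ncl _ _))
  refine (le_sup_right.trans (le_Op (sup_le_sup_right (Op_le p R) Y) (sup_le ?_ (le_sup_right.trans le_normalizer))
    (isP_sup' (Op_p p R) hYp (normalizer_Op h5)))).trans h7.Op_le_Op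
  refine le_normalizer_of_commutator_le (K := Op p R ⊔ Y) (le_trans (commutator_sup_le le_normalizer (normalizer_Op h5)
    (commutator_le_left' (le_normalizer_Op p R)) (by rwa [commutator_comm])) le_sup_left) le_rfl

end Cfsg.Agent.S2864
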