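import Cfsg.Statements.S2872
import Cfsg.Agent.H9.LE1

set_option autoImplicit false
open Cfsg

namespace Cfsg.Agent.S2872

/-- Let S be a Sylow 2-subgroup of the finite group G. Then G has a proper normal subgroup of 2-power index (O²(G) ≠ G), or Ω₁(Z(S)) is contained in the Frattini subgroup of S, or N_G(S) acts nontrivially on Ω₁(Z(S)) by conjugation. -/
theorem result {G : Type*} [Group G] [Finite G] (S : Sylow 2 G) : Cfsg.pResidual 2 G ≠ ⊤ ∨ Cfsg.omegaOne 2 ((S : Subgroup G) ⊓ Subgroup.centralizer ((S : Subgroup G) : Set G)) ≤ (frattini ↥(S : Subgroup G)).map (S : Subgroup G).subtype ∨ ∃ g ∈ Subgroup.normalizer ((S : Subgroup G) : Set G), ∃ z ∈ Cfsg.omegaOne 2 ((S : Subgroup G) ⊓ Subgroup.centralizer ((S : Subgroup G) : Set G)), g * z * g⁻¹ ≠ z := by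
  open H9 Subgroup in open scoped commutatorElement in
  by_contra! h
  obtain ⟨h1, h2, h3⟩ := h
  refine h2 fun z hz => by_contra fun e => ?_
  have hz' := mem_OZ.1 hz
  obtain ⟨M, a1, a2⟩ : ∃ M : Subgroup (S : Subgroup G), IsCoatom M ∧ ⟨z, hz'.1⟩ ∉ M := by
    by_contra! e'
    exact e ⟨_, H1.mem_frattini_iff.2 e', rfl⟩
  have a3 := H1.index_coatom_of_isPGroup S.isPGroup' a1
  have a4 : z ∉ M.map (S : Subgroup G).subtype := fun ⟨y, b1, b2⟩ => a2 (by rwa [show (⟨z, hz'.1⟩ : S) = y from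
    Subtype.ext b2.symm])
  have := normal_of_index_eq_two a3
  obtain ⟨g, b1, b2⟩ := thompson_extremal (syl_top_of_sylow S) (map_subtype_le M) (by
    rw [← L.map_commutator_subtype]; exact map_mono (H1.commutator_le_of_prime_index (by rw [a3]; exact Nat.prime_two)))
    (by rw [← sq]; exact hz'.2.2) hz'.1 a4 (fun g c1 c2 => L.mul_mem_of_relIndex_two (by
      rw [relIndex, subgroupOf_map_subtype', a3]) c1 hz'.1 c2 a4) (by rw [h1]; exact mem_sup_left (mem_top z))
    S.isPGroup' (le_centralizer_singleton_iff.2 hz'.2.1)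
  exact a4 (h3 g (mem_normalizer_of_cj_le b2) z hz ▸ b1)

end Cfsg.Agent.S2872
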