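import Cfsg.Statements.S2873
import Cfsg.Agent.H4.Invl
import Cfsg.Agent.H1.Frob

set_option autoImplicit false
open Cfsg

namespace Cfsg.Agent.S2873

open scoped Pointwise
open H4.Invl Subgroup

/-- Let G be a finite group and r an odd prime such that G ⧸ O₂(G) is dihedral of order 2r, and let R be a Sylow r-subgroup of G with C_{O₂(G)}(R) = 1. Then N_G(R) is dihedral of order 2r; for any involution a of N_G(R), every involution of G outside O₂(G) is conjugate to a; and |C_{O₂(G)}(a)|² = |O₂(G)|. -/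
theorem result {G : Type*} [Group G] [Finite G] {r : ℕ} [Fact r.Prime] (hr : r ≠ 2) [hN : (Cfsg.pCore 2 G).Normal] (hquot : Nonempty (G ⧸ Cfsg.pCore 2 G ≃* DihedralGroup r)) (R : Sylow r G) (hC : Cfsg.pCore 2 G ⊓ Subgroup.centralizer ((R : Subgroup G) : Set G) = ⊥) : Nonempty (↥(Subgroup.normalizer ((R : Subgroup G) : Set G)) ≃* DihedralGroup r) ∧ ∀ a : G, a ∈ Subgroup.normalizer ((R : Subgroup G) : Set G) → orderOf a = 2 → (∀ b : G, orderOf b = 2 → b ∉ Cfsg.pCore 2 G → ∃ g : G, g * a * g⁻¹ = b) ∧ Nat.card ↥(Cfsg.pCore 2 G ⊓ Subgroup.centralizer ({a} : Set G)) ^ 2 = Nat.card ↥(Cfsg.pCore 2 G) := by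
  have hp : r.Prime := Fact.out
  obtain ⟨e⟩ := hquot
  set Q := Cfsg.pCore 2 G with hQ
  let f : G →* DihedralGroup r := e.toMonoidHom.comp (QuotientGroup.mk' Q)
  have hf : Function.Surjective f := e.surjective.comp (QuotientGroup.mk'_surjective _)
  have hk : ∀ g, f g = 1 ↔ g ∈ Q := fun g => by
    simp [f]
  have hQ2 : IsPGroup 2 Q := H9.pCore_p 2
  set N := normalizer ((R : Subgroup G) : Set G) with hNd
  have h2r : ∀ i : ZMod r, i + i = 0 → i = 0 := fun i h => by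
    have h2 : (2 : ZMod r) ≠ 0 := fun h => hr ((Nat.prime_dvd_prime_iff_eq hp Nat.prime_two).1
      ((ZMod.natCast_eq_zero_iff 2 r).1 (by exact_mod_cast h)))
    rw [← two_mul] at h
    exact (mul_eq_zero.1 h).resolve_left h2
  have hQR : ∀ g ∈ Q, g ∈ (R : Subgroup G) → g = 1 := fun g h1 h2 =>
    (IsPGroup.disjoint_of_ne 2 r hr.symm _ _ hQ2 R.2).eq_bot.le ⟨h1, h2⟩
  have hNQ : ∀ g ∈ N, g ∈ Q → g = 1 := fun g h1 h2 => hC.le ⟨h2, fun y hy => by
    have := hQR (g * y * g⁻¹ * y⁻¹) (by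
      have := mul_mem h2 (hN.conj_mem _ (inv_mem h2) y)
      rwa [show g * (y * g⁻¹ * y⁻¹) = g * y * g⁻¹ * y⁻¹ by group] at this)
      (mul_mem ((mem_normalizer_iff.1 h1 y).1 hy) (inv_mem hy))
    rw [mul_inv_eq_one, mul_inv_eq_iff_eq_mul] at this
    exact this.symm⟩
  have inj : ∀ a ∈ N, ∀ b ∈ N, f a = f b → a = b := fun a ha b hb h => by
    have := hNQ (a * b⁻¹) (mul_mem ha (inv_mem hb)) ((hk _).1 (by rw [map_mul, map_inv, h, mul_inv_cancel]))
    rwa [mul_inv_eq_one] at this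
  have hle : (R : Subgroup G) ≤ (rot r).comap f := by
    intro z hz
    obtain ⟨j, hj⟩ := R.2 ⟨z, hz⟩
    have h3 : f z ^ r ^ j = 1 := by rw [← map_pow, show z ^ r ^ j = 1 from congrArg Subtype.val hj, map_one]
    rw [mem_comap]
    rcases e : f z with i | i
    · exact ⟨i, rfl⟩
    · rw [e, sr_pow_odd i fun h => hr ((Nat.prime_dvd_prime_iff_eq Nat.prime_two hp).1
        (Nat.prime_two.dvd_of_dvd_pow h)).symm] at h3
      exact absurd h3 (by rw [DihedralGroup.one_def]; exact fun h => by cases h)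
  have hrot : IsPGroup r (rot r) := by
    rintro ⟨_, i, rfl⟩
    exact ⟨1, Subtype.ext (by
      rw [pow_one, Subgroup.coe_pow, DihedralGroup.r_pow, ZMod.natCast_self, mul_zero]; rfl)⟩
  obtain ⟨y, hy, fy⟩ : DihedralGroup.r 1 ∈ (R : Subgroup G).map f :=
    hrot.le_sylow_of_normal (R.mapSurjective hf) ⟨1, rfl⟩
  have fyk : ∀ i : ZMod r, f (y ^ i.val) = .r i := fun i => by rw [map_pow, fy, DihedralGroup.r_one_pow, ZMod.natCast_zmod_val]
  have hRN : (R : Subgroup G) ≤ N := le_normalizer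
  have hRy : (R : Subgroup G) = zpowers y := le_antisymm (fun z hz => by
    obtain ⟨i, hi⟩ := hle hz
    rw [inj z (hRN hz) _ (hRN (pow_mem hy i.val)) (hi.trans (fyk i).symm)]
    exact pow_mem (mem_zpowers y) _) (zpowers_le.2 hy)
  have sur : ∀ d, ∃ n ∈ N, f n = d := fun d => by
    obtain ⟨g, rfl⟩ := hf d
    obtain ⟨n, hn, m, ⟨i, hi⟩, rfl⟩ := mem_sup_of_normal_right.1 ((Sylow.normalizer_sup_eq_top' R hle).ge (mem_top g))
    exact ⟨n * y ^ i.val, mul_mem hn (hRN (pow_mem hy _)), by rw [map_mul, map_mul, fyk, hi]⟩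
  have hCy : Q ⊓ centralizer {y} = ⊥ := by
    rw [← hC, hRy, zpowers_eq_closure, centralizer_closure]
  have hinvN : ∀ b, b * y * b⁻¹ = y⁻¹ → b ∈ N := fun b hb => by
    rw [hNd, hRy]
    apply mem_normalizer_fintype
    rintro _ ⟨i, rfl⟩
    simp only
    rw [← conj_zpow, hb]
    exact zpow_mem (inv_mem (mem_zpowers y)) _
  have key : ∀ b c : G, b * b = 1 → c * c = 1 → f (b * c) = .r 1 → ∃ s ∈ Q, s⁻¹ * b * s ∈ N ∧ s⁻¹ * c * s ∈ N := by
    intro b c hb hc h
    obtain ⟨s, hs, e⟩ := H1.exists_conj_eq_mul_of_fpf (K := Q) (s := y) (by rw [normalizer_eq_top]; trivial) hCy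
      (k := b * c * y⁻¹) ((hk _).1 (by rw [map_mul, map_inv, h, fy, mul_inv_cancel]))
    have e' : y = s⁻¹ * (b * c) * s := by rw [inv_mul_cancel_right] at e; rw [e]; group
    have ib : b⁻¹ = b := inv_eq_of_mul_eq_one_left hb
    have ic : c⁻¹ = c := inv_eq_of_mul_eq_one_left hc
    refine ⟨s, hs, hinvN _ ?_, hinvN _ ?_⟩
    · rw [e']
      calc _ = s⁻¹ * (b * b * c * b⁻¹) * s := by group
        _ = s⁻¹ * (c⁻¹ * b⁻¹) * s := by rw [hb, ic, one_mul]
        _ = _ := by group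
    · rw [e']
      calc _ = s⁻¹ * (c * b) * s := by group
        _ = s⁻¹ * (c⁻¹ * b⁻¹) * s := by rw [ib, ic]
        _ = _ := by group
  have refl : ∀ b : G, b * b = 1 → b ∉ Q → ∃ i, f b = .sr i := fun b hb hb' => by
    rcases e : f b with i | i
    · have := congrArg f hb
      rw [map_mul, e, map_one, DihedralGroup.r_mul_r, DihedralGroup.one_def, DihedralGroup.r.injEq] at this
      rw [h2r i this] at e
      exact absurd ((hk b).1 e) hb'
    · exact ⟨i, rfl⟩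
  have sq : ∀ c ∈ N, ∀ i, f c = .sr i → c * c = 1 := fun c hc i hi =>
    inj _ (mul_mem hc hc) _ (one_mem _) (by rw [map_mul, hi, map_one, DihedralGroup.sr_mul_self])
  have cj : ∀ a ∈ N, ∀ b ∈ N, ∀ i j, f a = .sr i → f b = .sr j → ∃ g : G, g * a * g⁻¹ = b := fun a ha b hb i j hi hj => by
    have h2 : (2 : ZMod r) ≠ 0 := fun h => hr ((Nat.prime_dvd_prime_iff_eq hp Nat.prime_two).1
      ((ZMod.natCast_eq_zero_iff 2 r).1 (by exact_mod_cast h)))
    have hg := hRN (pow_mem hy ((i - j) / 2).val)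
    refine ⟨_, inj _ (mul_mem (mul_mem hg ha) (inv_mem hg)) _ hb ?_⟩
    rw [map_mul, map_mul, map_inv, fyk, hi, hj]
    simp only [DihedralGroup.inv_r, DihedralGroup.r_mul_sr, DihedralGroup.sr_mul_r, DihedralGroup.sr.injEq]
    field_simp
    ring
  have fs : ∀ s ∈ Q, ∀ b, f (s⁻¹ * b * s) = f b := fun s hs b => by
    rw [map_mul, map_mul, map_inv, (hk s).2 hs]; simp
  refine ⟨⟨MulEquiv.ofBijective (f.comp N.subtype) ⟨fun a b h => Subtype.ext (inj _ a.2 _ b.2 h), fun d => ?_⟩⟩, fun a ha h2 => ?_⟩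
  · obtain ⟨n, hn, e⟩ := sur d
    exact ⟨⟨n, hn⟩, e⟩
  have a2 : a * a = 1 := by rw [← pow_two, ← h2, pow_orderOf_eq_one]
  obtain ⟨i, hi⟩ := refl a a2 fun h => by rw [hNQ a ha h, orderOf_one] at h2; omega
  constructor
  · intro b hb hb'
    have b2 : b * b = 1 := by rw [← pow_two, ← hb, pow_orderOf_eq_one]
    obtain ⟨j, hj⟩ := refl b b2 hb'
    obtain ⟨c, hc, fc⟩ := sur (.sr (j + 1))
    obtain ⟨s, hs, h3, -⟩ := key b c b2 (sq c hc _ fc) (by rw [map_mul, hj, fc]; simp)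
    obtain ⟨g, hg⟩ := cj a ha _ h3 i j hi (by rw [fs s hs, hj])
    exact ⟨s * g, by rw [mul_inv_rev, show s * g * a * (g⁻¹ * s⁻¹) = s * (g * a * g⁻¹) * s⁻¹ by group, hg]; group⟩
  · obtain ⟨c, hc, fc⟩ := sur (.sr (i + 1))
    have c2 := sq c hc _ fc
    obtain ⟨g, hg⟩ := cj a ha c hc i _ hi fc
    have hac : a * c = y := inj _ (mul_mem ha hc) _ (hRN hy) (by rw [map_mul, hi, fc, fy]; simp)
    have e1 : Nat.card ↥(Q ⊓ centralizer {a}) = Nat.card ↥(Q ⊓ centralizer {c}) := by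
      refine Nat.card_congr ⟨fun x => ⟨g * x * g⁻¹, hN.conj_mem _ x.2.1 g, mem_centralizer_singleton_iff.2 (by
          rw [← hg, conj_mul, conj_mul, mem_centralizer_singleton_iff.1 x.2.2])⟩,
        fun x => ⟨g⁻¹ * x * g, by simpa using hN.conj_mem _ x.2.1 g⁻¹, mem_centralizer_singleton_iff.2 (by
          have := mem_centralizer_singleton_iff.1 x.2.2
          calc _ = g⁻¹ * (x * (g * a * g⁻¹)) * g := by group
            _ = g⁻¹ * ((g * a * g⁻¹) * x) * g := by rw [hg, this]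
            _ = _ := by group)⟩, fun x => Subtype.ext (by simp only; group), fun x => Subtype.ext (by simp only; group)⟩
    rw [pow_two]
    conv_lhs => arg 2; rw [e1]
    rw [← Nat.card_prod]
    refine Nat.card_congr (Equiv.ofBijective (fun x => ⟨x.1 * x.2, mul_mem x.1.2.1 x.2.2.1⟩) ⟨?_, ?_⟩)
    · rintro ⟨⟨u, hu⟩, ⟨v, hv⟩⟩ ⟨⟨u', hu'⟩, ⟨v', hv'⟩⟩ h
      have h3 : u * v = u' * v' := congrArg Subtype.val h
      have h4 : u'⁻¹ * u = v' * v⁻¹ := by rw [inv_mul_eq_iff_eq_mul, ← mul_assoc, ← h3, mul_inv_cancel_right]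
      have m1 := mul_mem (inv_mem hu') hu
      have m2 := mul_mem hv' (inv_mem hv)
      rw [← h4] at m2
      have h5 : u'⁻¹ * u = 1 := hCy.le ⟨m1.1, mem_centralizer_singleton_iff.2 (by
        rw [← hac, ← mul_assoc, mem_centralizer_singleton_iff.1 m1.2, mul_assoc a, mem_centralizer_singleton_iff.1 m2.2,
          mul_assoc a])⟩
      rw [inv_mul_eq_one] at h5
      subst h5
      obtain rfl := mul_left_cancel h3
      rfl
    · rintro ⟨q, hq⟩
      obtain ⟨s, hs, h3, h4⟩ := key a (q * c * q⁻¹) a2 (by rw [conj_mul, c2]; simp) (by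
        rw [map_mul, map_mul, map_mul, map_inv, (hk q).2 hq, hi, fc]; simp)
      have h5 := inj _ h3 _ ha (fs s hs a)
      have h6 := inj _ h4 _ hc (by rw [fs s hs, map_mul, map_mul, map_inv, (hk q).2 hq]; simp)
      refine ⟨⟨⟨s, hs, mem_centralizer_singleton_iff.2 ?_⟩, ⟨s⁻¹ * q, Q.mul_mem (Q.inv_mem hs) hq, mem_centralizer_singleton_iff.2 ?_⟩⟩,
        Subtype.ext (by simp)⟩
      · conv_lhs => rw [← h5]
        group
      · conv_rhs => rw [← h6]
        group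

end Cfsg.Agent.S2873
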