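import Cfsg.Statements.S2874
import Mathlib


set_option autoImplicit false
open Cfsg

namespace Cfsg.Agent.S2874

open Subgroup Matrix Equiv

section
variable {k : ℕ}

theorem par (x : ZMod (2 ^ k)) : ∃ y, x = 2 * y ∨ x = 2 * y + 1 := by
  obtain ⟨n, rfl⟩ := ZMod.natCast_zmod_surjective x
  obtain ⟨m, rfl | rfl⟩ := n.even_or_odd'
  exacts [⟨m, Or.inl (by simp)⟩, ⟨m, Or.inr (by simp)⟩]

theorem un (y : ZMod (2 ^ k)) : IsUnit (1 + 2 * y) :=
  IsNilpotent.isUnit_one_add ⟨k, by rw [mul_pow, show (2 : ZMod (2 ^ k)) ^ k = 0 by exact_mod_cast ZMod.natCast_self (2 ^ k), zero_mul]⟩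

theorem can {z : ZMod (2 ^ k)} (y) (h : (1 + 2 * y) * z = 0) : z = 0 := (un y).mul_right_eq_zero.1 h

theorem half (hk : k ≠ 0) {x : ZMod (2 ^ k)} (h : 2 * x = 0) : x = 0 ∨ x = 2 ^ (k - 1) := by
  obtain ⟨k, rfl⟩ := Nat.exists_eq_succ_of_ne_zero hk
  obtain ⟨n, rfl⟩ := ZMod.natCast_zmod_surjective x
  obtain ⟨m, rfl⟩ : 2 ^ k ∣ n := Nat.dvd_of_mul_dvd_mul_left two_pos ((pow_succ' 2 k).symm.dvd.trans
    ((ZMod.natCast_eq_zero_iff (2 * n) _).1 (by exact_mod_cast h)))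
  have e : (2 : ZMod (2 ^ (k + 1))) ^ (k + 1) = 0 := by exact_mod_cast ZMod.natCast_self (2 ^ (k + 1))
  obtain ⟨j, rfl | rfl⟩ := m.even_or_odd'
  · left; push_cast; linear_combination j * e
  · right; push_cast; linear_combination j * e

theorem cube {x : ZMod (2 ^ k)} (h : x ^ 3 = 1) : x = 1 := by
  obtain ⟨y, rfl | rfl⟩ := par x
  · exact sub_eq_zero.1 (can (y + 2 * y ^ 2) (by linear_combination h))
  · exact sub_eq_zero.1 (can (1 + 3 * y + 2 * y ^ 2) (by linear_combination h))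

theorem three {w : Matrix (Fin 2) (Fin 2) (ZMod (2 ^ k))} (h : w ^ 3 = 1) (h1 : w ≠ 1) :
    w 0 0 * w 1 1 - w 0 1 * w 1 0 = 1 ∧ w 0 0 + w 1 1 = -1 := by
  have d := cube ((det_pow w 3).symm.trans (by rw [h, det_one]))
  rw [det_fin_two] at d
  have e := fun i j => congrFun (congrFun h i) j
  have e1 := e 0 0
  have e2 := e 0 1
  have e3 := e 1 0
  have e4 := e 1 1
  simp only [pow_succ, pow_zero, one_mul, mul_apply, Fin.sum_univ_two, one_apply_eq, one_apply_ne (show (0 : Fin 2) ≠ 1 by decide),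
    one_apply_ne (show (1 : Fin 2) ≠ 0 by decide)] at e1 e2 e3 e4
  refine ⟨d, ?_⟩
  obtain ⟨y, hy | hy⟩ := par (w 0 0 + w 1 1)
  · have b : w 0 1 = 0 := can (-2 * y ^ 2) (by linear_combination -e2 - w 0 1 * d + w 0 1 * (w 0 0 + w 1 1 + 2 * y) * hy)
    have c : w 1 0 = 0 := can (-2 * y ^ 2) (by linear_combination -e3 - w 1 0 * d + w 1 0 * (w 0 0 + w 1 1 + 2 * y) * hy)
    refine absurd (ext fun i j => ?_) h1
    fin_cases i <;> fin_cases j
    exacts [cube (x := w 0 0) (by simp only [b, c] at e1; linear_combination e1), b, c,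
      cube (x := w 1 1) (by simp only [b, c] at e4; linear_combination e4)]
  · exact eq_neg_of_add_eq_zero_left (can (-y * w 0 0) (by
      linear_combination -e1 - (2 * w 0 0 + w 1 1) * d + w 0 0 * (w 0 0 + w 1 1 + 1) * hy))

theorem nf (hk : k ≠ 0) {w t : GL (Fin 2) (ZMod (2 ^ k))} (h1 : w ^ 3 = 1) (h2 : w ≠ 1) (h3 : t ^ 2 = 1) (h4 : t ≠ 1)
    (h5 : (w * t) ^ 3 = 1) : ∃ g : GL (Fin 2) (ZMod (2 ^ k)), (g * w * g⁻¹).1 = !![0, -1; 1, -1] ∧
      (g * t * g⁻¹).1 = !![1, 2 ^ (k - 1); 2 ^ (k - 1), 1] := by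
  have T : ∀ {w : GL (Fin 2) (ZMod (2 ^ k))}, w ^ 3 = 1 → w ≠ 1 → _ := fun {w} a b =>
    three (w := w.1) (congrArg Units.val a) fun e => b (Units.ext e)
  obtain ⟨d, r⟩ := T h1 h2
  have hc : IsUnit (w.1 1 0) := by
    obtain ⟨y, hy | hy⟩ := par (w.1 0 0)
    · exact isUnit_of_mul_isUnit_right (x := -w.1 0 1) (by
        convert un (-y * w.1 1 1) using 1; linear_combination d - w.1 1 1 * hy)
    · exact isUnit_of_mul_isUnit_right (x := -w.1 0 1) (by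
        convert un ((y + 1) * w.1 0 0) using 1; linear_combination d - w.1 0 0 * r + w.1 0 0 * hy)
  obtain ⟨P, hP⟩ := (isUnit_iff_isUnit_det !![1, w.1 0 0; 0, w.1 1 0]).2 (by simpa [det_fin_two])
  obtain ⟨u, hu, e1⟩ : ∃ u, u = P⁻¹ * w * P⁻¹⁻¹ ∧ u.1 = !![0, -1; 1, -1] := ⟨_, rfl, by
    rw [inv_inv, mul_assoc, Units.val_mul, Units.inv_mul_eq_iff_eq_mul, Units.val_mul, hP]
    ext i j
    fin_cases i <;> fin_cases j <;> simp [mul_apply, Fin.sum_univ_two]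
    · linear_combination w.1 0 0 * r - d
    · linear_combination w.1 1 0 * r⟩
  obtain ⟨s, hs⟩ : ∃ s, s = P⁻¹ * t * P⁻¹⁻¹ := ⟨_, rfl⟩
  have u3 : u ^ 3 = 1 := by rw [hu, conj_pow, h1]; group
  have s2 : s ^ 2 = 1 := by rw [hs, conj_pow, h3]; group
  have us : (u * s) ^ 3 = 1 := by rw [hu, hs, conj_mul, conj_pow, h5]; group
  have s1 : s ≠ 1 := by rwa [hs, Ne, conj_eq_one_iff]
  have n1 : ∀ {v : GL (Fin 2) (ZMod (2 ^ k))}, v ^ 3 = 1 → v * s ≠ 1 := fun {v} a (b : v * s = 1) => s1 (by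
    rw [eq_inv_of_mul_eq_one_left b, inv_pow, inv_eq_one, pow_succ s 2, s2, one_mul] at a; exact a)
  have ui : (u⁻¹).1 = !![-1, 1; -1, 0] := by
    rw [coe_units_inv, e1]; exact inv_eq_right_inv (by simp [one_fin_two])
  obtain ⟨d1, r1⟩ := T us (n1 u3)
  obtain ⟨-, r2⟩ := T (w := u⁻¹ * s) (by
    rw [show u⁻¹ * s = u⁻¹ * (u * s)⁻¹ * u⁻¹⁻¹ * s ^ 2 by group, s2, mul_one, conj_pow, inv_pow, us]; group) (n1 (by rw [inv_pow, u3, inv_one]))
  have q := fun i j => congrFun (congrFun (show s.1 * s.1 = 1 from congrArg Units.val ((pow_two s).symm.trans s2)) i) j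
  have q1 := q 0 0
  have q3 := q 1 0
  simp [e1, ui, pow_two, mul_apply, Fin.sum_univ_two] at d1 r1 r2 q1 q3
  have e : (2 : ZMod (2 ^ k)) * 2 ^ (k - 1) = 0 := by
    rw [← pow_succ', Nat.sub_add_cancel (by omega)]; exact_mod_cast ZMod.natCast_self (2 ^ k)
  have a1 : 2 * (s.1 0 0 - 1) = 0 := by linear_combination q1 + d1 + s.1 0 0 * (r1 + r2)
  have a2 : 2 * s.1 1 0 = 0 := by linear_combination q3 + s.1 1 0 * (r1 + r2)
  have b1 : s.1 1 1 = 2 - s.1 0 0 := by linear_combination -r1 - r2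
  have b2 : s.1 0 1 = s.1 1 0 + 1 - s.1 0 0 := by linear_combination -r2
  have E := eta_fin_two s.1
  rw [b1, b2] at E
  have cj : ∀ a b c : GL (Fin 2) (ZMod (2 ^ k)), a * b * c * (a * b)⁻¹ = a * (b * c * b⁻¹) * a⁻¹ := fun a b c => by group
  rcases half hk a1 with c1 | c1 <;> rcases half hk a2 with c2 | c2 <;> rw [sub_eq_iff_eq_add.1 c1, c2] at E
  · exact absurd (Units.ext (by rw [E]; simp [one_fin_two]; norm_num)) s1
  · exact ⟨P⁻¹, hu ▸ e1, by rw [← hs, E]; simp; norm_num⟩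
  · refine ⟨u⁻¹ * P⁻¹, by rw [cj, ← hu, inv_mul_cancel, one_mul, inv_inv, e1], ?_⟩
    rw [cj, ← hs, inv_inv, Units.val_mul, Units.val_mul, ui, e1, E]
    ext i j
    fin_cases i <;> fin_cases j <;> simp [mul_apply, Fin.sum_univ_two] <;> first | linear_combination e | linear_combination -e | ring
  · refine ⟨u * P⁻¹, by rw [cj, ← hu, mul_inv_cancel_right, e1], ?_⟩
    rw [cj, ← hs, Units.val_mul, Units.val_mul, ui, e1, E]
    ext i j
    fin_cases i <;> fin_cases j <;> simp [mul_apply, Fin.sum_univ_two] <;> first | linear_combination e | linear_combination -e | ring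

def a4 : alternatingGroup (Fin 4) := ⟨c[0, 1, 2], Perm.mem_alternatingGroup.2 (by decide)⟩
def b4 : alternatingGroup (Fin 4) := ⟨c[0, 1] * c[2, 3], Perm.mem_alternatingGroup.2 (by decide)⟩

theorem gen {G : Type*} [Group G] {H : Subgroup G} (e : H ≃* alternatingGroup (Fin 4)) :
    ∃ w t : G, w ^ 3 = 1 ∧ w ≠ 1 ∧ t ^ 2 = 1 ∧ t ≠ 1 ∧ (w * t) ^ 3 = 1 ∧ H = closure {w, t} := by
  let f := H.subtype.comp e.symm.toMonoidHom
  have i : Function.Injective f := H.subtype_injective.comp e.symm.injective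
  refine ⟨f a4, f b4, by rw [← map_pow, map_eq_one_iff _ i]; decide, (map_ne_one_iff _ i).2 (by decide),
    by rw [← map_pow, map_eq_one_iff _ i]; decide, (map_ne_one_iff _ i).2 (by decide),
    by rw [← map_mul, ← map_pow, map_eq_one_iff _ i]; decide, le_antisymm (fun x hx => ?_) ((closure_le _).2 ?_)⟩
  · obtain ⟨i, j, l, h⟩ := (by decide : ∀ x, ∃ i j l : Fin 3, x = a4 ^ i.1 * b4 ^ j.1 * a4 ^ l.1) (e ⟨x, hx⟩)
    have : x = f (e ⟨x, hx⟩) := by simp [f]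
    rw [this, h, map_mul, map_mul, map_pow, map_pow, map_pow]
    exact mul_mem (mul_mem (pow_mem (subset_closure (by simp)) _) (pow_mem (subset_closure (by simp)) _))
      (pow_mem (subset_closure (by simp)) _)
  · rintro _ (rfl | rfl) <;> exact (e.symm _).2
end

/-- For k ≥ 2, any two subgroups of GL₂(ℤ/2ᵏℤ) (the automorphism group of the homocyclic group ℤ/2ᵏ × ℤ/2ᵏ) that are isomorphic to the alternating group of degree 4 are conjugate. -/
theorem result (k : ℕ) (hk : 2 ≤ k) (H₁ H₂ : Subgroup (GL (Fin 2) (ZMod (2 ^ k)))) (h₁ : Nonempty (↥H₁ ≃* ↥(alternatingGroup (Fin 4)))) (h₂ : Nonempty (↥H₂ ≃* ↥(alternatingGroup (Fin 4)))) : ∃ g : GL (Fin 2) (ZMod (2 ^ k)), H₂ = H₁.map (MulAut.conj g).toMonoidHom := by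
  obtain ⟨w, t, a1, a2, a3, a4, a5, rfl⟩ := gen h₁.some
  obtain ⟨v, s, b1, b2, b3, b4, b5, rfl⟩ := gen h₂.some
  obtain ⟨g, c1, c2⟩ := nf (by omega) a1 a2 a3 a4 a5
  obtain ⟨h, d1, d2⟩ := nf (by omega) b1 b2 b3 b4 b5
  refine ⟨h⁻¹ * g, ?_⟩
  rw [MonoidHom.map_closure, Set.image_pair]
  congr 2
  · simp [mul_assoc, eq_inv_mul_iff_mul_eq, ← mul_assoc g, Units.ext (c1.trans d1.symm)]
  · simp [mul_assoc, eq_inv_mul_iff_mul_eq, ← mul_assoc g, Units.ext (c2.trans d2.symm)]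

end Cfsg.Agent.S2874
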