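import Cfsg.Statements.S2879
import Cfsg.Agent.H1.Q8SL
import Cfsg.Agent.H1.Fitting

set_option autoImplicit false
open Cfsg

namespace Cfsg.Agent.S2879

open Subgroup H1

/-- Let G be a finite solvable group with O(G) = 1 whose Sylow 2-subgroup T is dihedral of order at least 8 or semidihedral, with G ≠ T and Z(T) normal in G. Then G has a normal subgroup isomorphic to SL₂(3). -/
theorem result {G : Type*} [Group G] [Finite G] (hsol : IsSolvable G) (hO : Cfsg.oddCore G = ⊥) (T : Sylow 2 G) (hT : (∃ n : ℕ, 4 ≤ n ∧ Nonempty (↥(T : Subgroup G) ≃* DihedralGroup n)) ∨ Cfsg.IsQuasiDihedral ↥(T : Subgroup G)) (hne : (T : Subgroup G) ≠ ⊤) (hZ : ((T : Subgroup G) ⊓ Subgroup.centralizer ((T : Subgroup G) : Set G)).Normal) : ∃ U : Subgroup G, U.Normal ∧ Nonempty (↥U ≃* Matrix.SpecialLinearGroup (Fin 2) (ZMod 3)) := by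
  haveI : Group.IsSolvable G := hsol
  set R := pCore 2 G
  have hR : IsPGroup 2 R := pCore_isPGroup
  have hC : centralizer (R : Set G) ≤ R := centralizer_pCore_le hO
  obtain ⟨n, a, b, m⟩ : ∃ n a b, MC (T : Subgroup G) n a b := by
    rcases hT with ⟨k, hk, ⟨e⟩⟩ | h
    · obtain ⟨n, a, b, m, -⟩ := mc_of_dihedral T.isPGroup' (by omega) e
      exact ⟨n, a, b, m⟩
    · obtain ⟨n, a, b, m, -⟩ := mc_of_qd h
      exact ⟨n, a, b, m⟩
  have o1 : ∀ x ∈ R, (orderOf x).Coprime 2 → x = 1 := fun x hx h => by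
    obtain ⟨k, hk⟩ := exists_orderOf_eq_pow hR hx
    exact orderOf_eq_one_iff.1 (Nat.eq_one_of_dvd_coprimes (h.pow_right k) dvd_rfl hk.dvd)
  have od : Od R := by
    obtain ⟨q, hq, h⟩ := Nat.exists_prime_and_dvd (fun e => hne (index_eq_one.1 e))
    haveI := Fact.mk hq
    obtain ⟨g, hg⟩ := exists_prime_orderOf_dvd_card' q (h.trans (T : Subgroup G).index_dvd_card)
    have c : (orderOf g).Coprime 2 := hg ▸ (Nat.coprime_primes hq Nat.prime_two).2 fun e => T.not_dvd_index (e ▸ h)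
    exact ⟨g, le_normalizer_of_normal (mem_top g), c, fun h' => hq.one_lt.ne' (by rw [← hg, o1 g (hC h') c, orderOf_one])⟩
  rw [m.center] at hZ
  rcases m.od_cases (pCore_le_sylow T) od with h | h
  · obtain ⟨g, g1, g2, g3⟩ := od
    have oz : orderOf (a ^ 2 ^ n) = 2 := by
      rw [orderOf_pow_of_dvd (by positivity) (m.ord ▸ pow_dvd_pow 2 n.le_succ), m.ord, pow_succ, Nat.mul_div_cancel_left _ (by positivity)]
    refine (klein_not_fix h g1 g2 g3 (le_pCore (IsPGroup.of_card (n := 1) (by rw [Nat.card_zpowers, oz, pow_one])) (mem_zpowers _))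
      (two_ne oz) ?_).elim
    exact two_eq_of_mem_zpowers (hZ.conj_mem _ (mem_zpowers _) g) (mem_zpowers _) (by rw [H1.orderOf_conj, oz]) oz
  obtain ⟨g, g1, ⟨k, g2⟩, g3⟩ := h.exists_three od
  have c : (orderOf g).Coprime 2 := g2 ▸ Nat.Coprime.pow_left k (by norm_num)
  have g4 : g ^ 3 = 1 := o1 _ (hC (h.cube_mem g1 c)) (c.coprime_dvd_left (orderOf_pow_dvd 3))
  refine ⟨R ⊔ zpowers g, ?_, h.sl23 g1 g2 g3 (MonoidHom.id _) Function.surjective_id (by
    rw [g4, zpowers_one_eq_bot, unbar, comap_id, Subgroup.map_bot])⟩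
  have h6 := h.relIndex_dvd
  rw [sup_of_le_left hC, normalizer_eq_top, relIndex_top_right, ← relIndex_mul_index (le_sup_left : R ≤ R ⊔ zpowers g),
    relIndex_sup_zpowers Nat.prime_three g1 (fun e => g3 (by
      rw [o1 g e c]; exact one_mem _)) (g4 ▸ one_mem _), show 6 = 3 * 2 from rfl, Nat.mul_dvd_mul_iff_left three_pos] at h6
  rcases (Nat.dvd_prime Nat.prime_two).1 h6 with e | e
  exacts [normal_of_index_eq_one e, normal_of_index_eq_two e]

end Cfsg.Agent.S2879
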