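import Cfsg.Statements.S2911
import Cfsg.Agent.H9.LE1

set_option autoImplicit false
open Cfsg

namespace Cfsg.Agent.S2911

/-- A finite group whose Sylow 2-subgroups are isomorphic to the direct product of a group of order 2 and a dihedral group of order 8 has a subgroup of index two. -/
theorem result {G : Type*} [Group G] [Finite G] (S : Sylow 2 G) (hS : Nonempty (↥(S : Subgroup G) ≃* Multiplicative (ZMod 2) × DihedralGroup 4)) : ∃ H : Subgroup G, H.index = 2 := by
  open H9 Subgroup in open scoped commutatorElement in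
  obtain ⟨e⟩ := hS
  by_contra h
  have h1 : pResidual 2 G = ⊤ := by_contra fun e => by
    obtain ⟨M, -, h2⟩ := exists_index_of_pResidual e
    exact h ⟨M, h2⟩
  let φ := (MonoidHom.fst _ _).comp e.toMonoidHom
  let z := e.symm (Multiplicative.ofAdd 1, 1)
  have hm : ∀ x : (S : Subgroup G), (x : G) ∈ φ.ker.map (S : Subgroup G).subtype ↔ (e x).1 = 1 := fun x =>
    ⟨fun ⟨y, b1, b2⟩ => by rwa [show x = y from Subtype.ext b2.symm], fun h => ⟨x, h, rfl⟩⟩
  have hz : (z : G) ∉ φ.ker.map (S : Subgroup G).subtype := by rw [hm]; simp [z]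
  have hc : ∀ x : (S : Subgroup G), x * z = z * x := fun x => e.injective (by simp [z, Prod.ext_iff, mul_comm])
  obtain ⟨g, b1, b2⟩ := thompson_extremal (syl_top_of_sylow S) (map_subtype_le φ.ker) (by
    rw [← L.map_commutator_subtype]; exact map_mono (Abelianization.commutator_subset_ker φ))
    (y := z) (congrArg Subtype.val (e.injective (by simp [z, Prod.ext_iff]; decide) : z * z = 1)) z.2 hz
    (fun g c1 c2 => by
      have : ∀ a b : Multiplicative (ZMod 2), a ≠ 1 → b ≠ 1 → a * b = 1 := by decide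
      exact (hm (⟨_, c1⟩ * z)).2 (by
        rw [map_mul, Prod.fst_mul]; exact this _ _ (fun h => c2 ((hm ⟨_, c1⟩).2 h)) fun h => hz ((hm z).2 h)))
    (by rw [h1]; exact mem_sup_left (mem_top _)) S.isPGroup' fun x hx =>
      mem_centralizer_singleton_iff.2 (congrArg Subtype.val (hc ⟨x, hx⟩))
  have b3 := mem_normalizer_of_cj_le b2
  let w : (S : Subgroup G) := ⟨g * z * g⁻¹, map_subtype_le _ b1⟩
  have b4 : ∀ x : (S : Subgroup G), x * w = w * x := fun x => Subtype.ext (by
    have := congrArg Subtype.val (hc ⟨_, conj_mem_of_le_normalizer' le_rfl b3 x.2⟩)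
    simp only [coe_mul, w] at this ⊢
    rw [show x * (g * z * g⁻¹) = g * (g⁻¹ * x * g * z) * g⁻¹ by group, this]; group)
  have key : ∀ d : DihedralGroup 4, (∀ x, x * d = d * x) → ∃ x, x * x = d := by decide
  obtain ⟨x, hx⟩ := key (e w).2 fun x => by simpa using congrArg (fun y => (e y).2) (b4 (e.symm (1, x)))
  have b5 : e.symm (1, x) * e.symm (1, x) = w := e.injective (Prod.ext (by simpa using ((hm w).1 b1).symm) (by simpa))
  have b6 := conj_mem_of_le_normalizer' le_rfl b3 (e.symm (1, x)).2
  have b7 : z = ⟨_, b6⟩ * ⟨_, b6⟩ := Subtype.ext (by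
    have := congrArg Subtype.val b5
    simp only [coe_mul, w] at this ⊢
    rw [show (z : G) = g⁻¹ * (g * z * g⁻¹) * g by group, ← this]; group)
  have : ∀ a : Multiplicative (ZMod 2), a * a = 1 := by decide
  exact hz ((hm z).2 (by rw [b7, map_mul, Prod.fst_mul, this]))

end Cfsg.Agent.S2911
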