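import Cfsg.Statements.S2916
import Cfsg.Agent.H3.W4
import Cfsg.Agent.H7.M24Orb

set_option autoImplicit false
open Cfsg

namespace Cfsg.Agent.S2916

open H3 H4 Subgroup

/-- Let G be a finite group with O²(G) = G (no proper normal subgroup of 2-power index), and let t be an involution of G whose centralizer C_G(t) is isomorphic to GL₂(3). Then G is isomorphic to PSL₃(3) or to the Mathieu group M₁₁. -/
theorem result {G : Type*} [Group G] [Finite G] (hO : Cfsg.pResidual 2 G = ⊤) (t : G) (ht : orderOf t = 2) (hC : Nonempty (↥(Subgroup.centralizer ({t} : Set G)) ≃* GL (Fin 2) (ZMod 3))) : (∃ (F : Type) (_ : Field F) (_ : Fintype F), Fintype.card F = 3 ∧ Nonempty (G ≃* Matrix.ProjectiveSpecialLinearGroup (Fin 3) F)) ∨ Cfsg.Spor.IsoM11 G := by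
  obtain ⟨f, h⟩ := WG.exV ht hC.some
  have n : ∀ H : Subgroup G, H.index ≠ 2 := fun H e => by
    haveI := normal_of_index_eq_two e
    exact H1.no_index_of_pResidual_eq_top hO H e
  have cj := (h.syl n).2
  rcases h.card n with c | c
  · obtain ⟨K, a⟩ := h.idx13 cj c
    obtain ⟨e⟩ := L33.iso
    obtain ⟨a', b', K', c'⟩ := L33.transfer (Equiv.refl _) fun _ _ => Iff.rfl
    obtain ⟨g⟩ := L33.unique c a' (h.h13 cj c) b' a c'
    exact Or.inl ⟨ZMod 3, inferInstance, inferInstance, ZMod.card 3, ⟨g.trans e.symm⟩⟩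
  · haveI := H7.isM11.1
    haveI := M11.simple_of c fun g o => by
      have := Subgroup.orderOf_dvd_natCard (C1 (g ^ 11)) (mem_centralizer_singleton_iff.2 (Commute.self_pow g 11).eq)
      rw [o, h.d48 cj (by rw [orderOf_pow' g (by norm_num), o]; rfl)] at this
      omega
    exact Or.inr (M11.unique c H7.isM11.2)

end Cfsg.Agent.S2916
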