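import Cfsg.Statements.S4349
import Mathlib
import Cfsg.Agent.H4.Cov

set_option autoImplicit false
open Cfsg

namespace Cfsg.Agent.S4349

open scoped Pointwise
open Equiv in
lemma inv_ex {Ω : Type} [Fintype Ω] [DecidableEq Ω] (Q : Subgroup (Perm Ω)) (hQ : IsPGroup 2 Q) :
    ∃ τ : Perm Ω, τ * τ = 1 ∧ (∀ g ∈ Q, g * τ = τ * g) ∧ ∀ a b, τ a = a → τ b = b → a = b := by
  classical
  haveI : Fact (Nat.Prime 2) := ⟨Nat.prime_two⟩
  obtain ⟨τ, hτ, hmax⟩ := Finset.exists_max_image (Finset.univ.filter (fun τ : Perm Ω => τ * τ = 1 ∧ ∀ g ∈ Q, g * τ = τ * g)) (fun τ => τ.support.card)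
    ⟨1, by simp⟩
  obtain ⟨h1, h2⟩ := (Finset.mem_filter.1 hτ).2
  refine ⟨τ, h1, h2, fun a b ha hb => ?_⟩
  by_contra hab
  have hF : ∀ g ∈ Q, ∀ y, τ (g y) = g y ↔ τ y = y := by
    intro g hg y
    have : τ (g y) = g (τ y) := (congrArg (fun f : Perm Ω => f y) (h2 g hg)).symm
    rw [this, g.injective.eq_iff]
  have hσ : ∃ σ : Perm Ω, σ ≠ 1 ∧ σ * σ = 1 ∧ (∀ y, τ y = y ∨ σ y = y) ∧ ∀ g ∈ Q, g * σ = σ * g := by
    let ρ : Q →* Perm Ω :=
      { toFun := fun g => Perm.ofSubtype (Perm.subtypePerm (p := fun y => τ y = y) (g : Perm Ω) (hF g g.2))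
        map_one' := by
          ext y
          by_cases hy : τ y = y
          · rw [Perm.ofSubtype_apply_of_mem (p := fun y => τ y = y) _ hy]; rfl
          · rw [Perm.ofSubtype_apply_of_not_mem (p := fun y => τ y = y) _ hy]; rfl
        map_mul' := fun g h => by
          rw [← map_mul]; congr 1 }
    have hρ1 : ∀ (g : Q) y, τ y = y → ρ g y = (g : Perm Ω) y := fun g y hy =>
      Perm.ofSubtype_apply_of_mem (p := fun y => τ y = y) _ hy
    have hρ2 : ∀ (g : Q) y, ¬ τ y = y → ρ g y = y := fun g y hy =>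
      Perm.ofSubtype_apply_of_not_mem (p := fun y => τ y = y) _ hy
    by_cases hR : ρ.range = ⊥
    · have hfx : ∀ g ∈ Q, ∀ y, τ y = y → g y = y := by
        intro g hg y hy
        have : ρ ⟨g, hg⟩ = 1 := Subgroup.mem_bot.1 (hR ▸ ⟨_, rfl⟩)
        have h3 := hρ1 ⟨g, hg⟩ y hy
        rw [this] at h3
        exact h3.symm
      refine ⟨swap a b, fun e => hab (swap_eq_one_iff.1 e), swap_mul_self _ _, fun y => ?_, fun g hg => ?_⟩
      · by_cases e1 : y = a
        · left; rw [e1, ha]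
        by_cases e2 : y = b
        · left; rw [e2, hb]
        right; exact swap_apply_of_ne_of_ne e1 e2
      · have := swap_apply_apply g a b
        rw [hfx g hg a ha, hfx g hg b hb] at this
        exact mul_inv_eq_iff_eq_mul.1 this.symm
    · have hR2 : IsPGroup 2 ρ.range := hQ.of_surjective ρ.rangeRestrict ρ.rangeRestrict_surjective
      haveI : Nontrivial ρ.range := (Subgroup.nontrivial_iff_ne_bot _).2 hR
      haveI := hR2.center_nontrivial
      have hZ : IsPGroup 2 (Subgroup.center ρ.range) := hR2.to_subgroup _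
      obtain ⟨m, hm0, hm⟩ := hZ.nontrivial_iff_card.1 inferInstance
      obtain ⟨z, hz⟩ := exists_prime_orderOf_dvd_card' (G := Subgroup.center ρ.range) 2 (hm ▸ dvd_pow_self 2 hm0.ne')
      obtain ⟨g0, hg0⟩ := z.1.2
      have hz2 : ∀ y, ¬ τ y = y → (z.1 : Perm Ω) y = y := fun y hy => by rw [← hg0]; exact hρ2 g0 y hy
      have hz1 : ∀ y, τ y = y → τ ((z.1 : Perm Ω) y) = (z.1 : Perm Ω) y := fun y hy => by
        rw [← hg0, hρ1 g0 y hy]; exact (hF _ g0.2 y).2 hy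
      refine ⟨z.1, fun e => ?_, ?_, fun y => ?_, fun g hg => ?_⟩
      · have : z = 1 := Subtype.ext (Subtype.ext e)
        rw [this, orderOf_one] at hz; omega
      · have := pow_orderOf_eq_one z
        rw [hz, pow_two] at this
        exact congrArg (fun w : Subgroup.center ρ.range => (w.1 : Perm Ω)) this
      · by_cases hy : τ y = y
        · exact Or.inl hy
        · exact Or.inr (hz2 y hy)
      · ext y
        by_cases hy : τ y = y
        · have := congrArg (fun w : ρ.range => (w : Perm Ω) y) (Subgroup.mem_center_iff.1 z.2 ⟨ρ ⟨g, hg⟩, ⟨_, rfl⟩⟩)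
          simp only [Subgroup.coe_mul, Perm.mul_apply] at this
          rw [hρ1 _ _ (hz1 y hy), hρ1 _ _ hy] at this
          exact this
        · simp only [Perm.mul_apply]
          rw [hz2 y hy, hz2 _ (fun e => hy ((hF g hg y).1 e))]
  obtain ⟨σ, s1, s2, s3, s4⟩ := hσ
  have hd : Perm.Disjoint τ σ := s3
  have := hmax (τ * σ) (Finset.mem_filter.2 ⟨Finset.mem_univ _, ?_, fun g hg => ?_⟩)
  · rw [hd.card_support_mul] at this
    have h0 : σ.support.card = 0 := by omega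
    exact s1 (Perm.card_support_eq_zero.1 h0)
  · rw [mul_assoc, ← mul_assoc σ, ← hd.commute.eq, mul_assoc, s2, mul_one, h1]
  · rw [← mul_assoc, h2 g hg, mul_assoc, s4 g hg, mul_assoc]

def Cond {Ω : Type} (x : Equiv.Perm Ω) : Prop :=
  (∀ a b, (∀ i : ℤ, (x ^ i) a = a ↔ (x ^ i) b = b) → x a ≠ a → x.SameCycle a b) ∧
  (∀ a b c, x a = a → x b = b → x c = c → a = b ∨ a = c ∨ b = c)

lemma half {Ω : Type} (x : Equiv.Perm Ω) (a : Ω) (i j : ℤ) (hi : (x ^ i) a ≠ a) (hj : (x ^ j) a ≠ a)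
    (hi2 : (x ^ (2 * i)) a = a) (hj2 : (x ^ (2 * j)) a = a) : (x ^ i) a = (x ^ j) a := by
  have k : ∀ n : ℤ, (x ^ n) a = a ↔ (MulAction.period x a : ℤ) ∣ n := fun n => MulAction.zpow_smul_eq_iff_period_dvd (g := x) (a := a)
  rw [Ne, k] at hi hj
  rw [k] at hi2 hj2
  obtain ⟨u, hu⟩ := hi2
  obtain ⟨v, hv⟩ := hj2
  have hu' : Odd u := by
    rw [← Int.not_even_iff_odd]; rintro ⟨w, rfl⟩; exact hi ⟨w, by linarith⟩
  have hv' : Odd v := by
    rw [← Int.not_even_iff_odd]; rintro ⟨w, rfl⟩; exact hj ⟨w, by linarith⟩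
  obtain ⟨u', rfl⟩ := hu'
  obtain ⟨v', rfl⟩ := hv'
  have : (x ^ (i - j)) a = a := (k _).2 ⟨u' - v', by linarith⟩
  calc (x ^ i) a = (x ^ j) ((x ^ (i - j)) a) := by rw [← Equiv.Perm.mul_apply, ← zpow_add]; congr 2; ring
    _ = _ := by rw [this]

lemma tau1 {Ω : Type} {x τ : Equiv.Perm Ω} (hc : Cond x) (h1 : τ * τ = 1) (h2 : x * τ = τ * x) (h3 : ∀ a b, τ a = a → τ b = b → a = b)
    (a : Ω) (ha : x a ≠ a) : ∃ j : ℤ, (x ^ j) a = τ a ∧ τ a ≠ a ∧ (x ^ (2 * j)) a = a := by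
  have hcm : ∀ (i : ℤ) y, (x ^ i) (τ y) = τ ((x ^ i) y) := fun i y =>
    congrArg (fun f : Equiv.Perm Ω => f y) (Commute.zpow_left (show Commute x τ from h2) i).eq
  have hττ : ∀ y, τ (τ y) = y := fun y => congrArg (fun f : Equiv.Perm Ω => f y) h1
  obtain ⟨j, hj⟩ := hc.1 a (τ a) (fun i => by rw [hcm, τ.injective.eq_iff]) ha
  refine ⟨j, hj, fun e => ha (h3 _ _ ?_ e), ?_⟩
  · have := hcm 1 a
    rw [zpow_one, e] at this
    exact this.symm
  · rw [two_mul, zpow_add, Equiv.Perm.mul_apply, hj, hcm, hj, hττ]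

lemma tau_fix {Ω : Type} {x τ : Equiv.Perm Ω} (hc : Cond x) (h2 : x * τ = τ * x) (h3 : ∀ a b, τ a = a → τ b = b → a = b)
    (a b : Ω) (ha : x a = a) (hb : x b = b) (hab : a ≠ b) : τ a = b := by
  have hf : ∀ y, x y = y → x (τ y) = τ y := fun y hy => by
    have := congrArg (fun f : Equiv.Perm Ω => f y) h2
    simpa [hy] using this
  rcases hc.2 a b (τ a) ha hb (hf a ha) with h | h | h
  · exact absurd h hab
  · rcases hc.2 a b (τ b) ha hb (hf b hb) with h' | h' | h'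
    · exact absurd h' hab
    · exact absurd (τ.injective (h.symm.trans h')) hab
    · exact absurd (h3 _ _ h.symm h'.symm) hab
  · exact h.symm

lemma tau_uniq {Ω : Type} {x τ σ : Equiv.Perm Ω} (hc : Cond x) (h1 : τ * τ = 1) (h2 : x * τ = τ * x) (h3 : ∀ a b, τ a = a → τ b = b → a = b)
    (k1 : σ * σ = 1) (k2 : x * σ = σ * x) (k3 : ∀ a b, σ a = a → σ b = b → a = b) : τ = σ := by
  ext a
  by_cases ha : x a = a
  · have hf : ∀ τ : Equiv.Perm Ω, x * τ = τ * x → x (τ a) = τ a := fun τ h => by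
      have := congrArg (fun f : Equiv.Perm Ω => f a) h
      simpa [ha] using this
    by_cases e1 : a = σ a
    · by_cases e2 : a = τ a
      · rw [← e1, ← e2]
      · exact (tau_fix hc k2 k3 a (τ a) ha (hf τ h2) e2).symm
    · exact tau_fix hc h2 h3 a (σ a) ha (hf σ k2) e1
  · obtain ⟨i, a1, a2, a3⟩ := tau1 hc h1 h2 h3 a ha
    obtain ⟨j, b1, b2, b3⟩ := tau1 hc k1 k2 k3 a ha
    rw [← a1, ← b1]
    exact half x a i j (a1 ▸ a2) (b1 ▸ b2) a3 b3

def st {Ω : Type} (τ : Equiv.Perm Ω) (h1 : τ * τ = 1) : Setoid Ω where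
  r := fun a b => b = a ∨ b = τ a
  iseqv := by
    have hττ : ∀ y, τ (τ y) = y := fun y => congrArg (fun f : Equiv.Perm Ω => f y) h1
    refine ⟨fun a => Or.inl rfl, ?_, ?_⟩
    · rintro a b (rfl | rfl)
      · exact Or.inl rfl
      · exact Or.inr (hττ a).symm
    · rintro a b c (rfl | rfl) (rfl | rfl)
      · exact Or.inl rfl
      · exact Or.inr rfl
      · exact Or.inr rfl
      · exact Or.inl (hττ a)

def pi0 {Ω : Type} (τ : Equiv.Perm Ω) (h1 : τ * τ = 1) : Subgroup.centralizer ({τ} : Set (Equiv.Perm Ω)) →* Equiv.Perm (Quotient (st τ h1)) where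
  toFun := fun g => Quotient.congr (g : Equiv.Perm Ω) (fun a b => by
    have h : ∀ y, τ ((g : Equiv.Perm Ω) y) = (g : Equiv.Perm Ω) (τ y) := fun y =>
      (congrArg (fun f : Equiv.Perm Ω => f y) (Subgroup.mem_centralizer_singleton_iff.1 g.2)).symm
    show (b = a ∨ b = τ a) ↔ (_ = _ ∨ _ = τ _)
    rw [h, (g : Equiv.Perm Ω).injective.eq_iff, (g : Equiv.Perm Ω).injective.eq_iff])
  map_one' := by ext ⟨a⟩; rfl
  map_mul' := fun g h => by ext ⟨a⟩; rfl

lemma pi0_mk {Ω : Type} (τ : Equiv.Perm Ω) (h1 : τ * τ = 1) (g : Subgroup.centralizer ({τ} : Set (Equiv.Perm Ω))) (a : Ω) :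
    pi0 τ h1 g (Quotient.mk _ a) = Quotient.mk _ ((g : Equiv.Perm Ω) a) := rfl

lemma mk_eq {Ω : Type} (τ : Equiv.Perm Ω) (h1 : τ * τ = 1) (a b : Ω) :
    (Quotient.mk (st τ h1) b = Quotient.mk _ a) ↔ (b = a ∨ b = τ a) := by
  rw [eq_comm, Quotient.eq]; rfl

lemma cond_q {Ω : Type} {x τ : Equiv.Perm Ω} {k : ℕ} (hk : x ^ 2 ^ k = 1) (hc : Cond x) (h1 : τ * τ = 1) (h2 : x * τ = τ * x) (h3 : ∀ a b, τ a = a → τ b = b → a = b) :
    Cond (pi0 τ h1 ⟨x, Subgroup.mem_centralizer_singleton_iff.2 h2⟩) := by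
  have hττ : ∀ y, τ (τ y) = y := fun y => congrArg (fun f : Equiv.Perm Ω => f y) h1
  have hcm : ∀ (i : ℤ) y, (x ^ i) (τ y) = τ ((x ^ i) y) := fun i y =>
    congrArg (fun f : Equiv.Perm Ω => f y) (Commute.zpow_left (show Commute x τ from h2) i).eq
  set X := pi0 τ h1 ⟨x, Subgroup.mem_centralizer_singleton_iff.2 h2⟩ with hX
  have hp : ∀ (i : ℤ) a, (X ^ i) (Quotient.mk _ a) = Quotient.mk _ ((x ^ i) a) := by
    intro i a
    rw [hX, ← map_zpow, pi0_mk]; rfl
  have hp1 : ∀ a, X (Quotient.mk _ a) = Quotient.mk _ (x a) := fun a => rfl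
  have hev : ∀ a, x a ≠ a → ∀ i : ℤ, (X ^ i) (Quotient.mk _ a) = Quotient.mk _ a ↔ (x ^ (2 * i)) a = a := by
    intro a ha i
    rw [hp, mk_eq]
    constructor
    · rintro (h | h)
      · rw [two_mul, zpow_add, Equiv.Perm.mul_apply, h, h]
      · rw [two_mul, zpow_add, Equiv.Perm.mul_apply, h, hcm, h, hττ]
    · intro h
      by_cases e : (x ^ i) a = a
      · exact Or.inl e
      · obtain ⟨j, a1, a2, a3⟩ := tau1 hc h1 h2 h3 a ha
        exact Or.inr ((half x a i j e (a1 ▸ a2) h a3).trans a1)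
  have hodd : ∀ a, x a ≠ a → ∀ i : ℤ, (x ^ (2 * i + 1)) a ≠ a := by
    intro a ha i h
    have kk : ∀ n : ℤ, (x ^ n) a = a ↔ (MulAction.period x a : ℤ) ∣ n := fun n => MulAction.zpow_smul_eq_iff_period_dvd (g := x) (a := a)
    have d1 := (kk _).1 h
    have d2 := (kk ((2 ^ k : ℕ) : ℤ)).1 (by rw [zpow_natCast, hk]; rfl)
    have hco : IsCoprime (2 * i + 1) ((2 ^ k : ℕ) : ℤ) := by
      push_cast
      exact IsCoprime.pow_right ⟨1, -i, by ring⟩
    have := (hco.isUnit_of_dvd' d1 d2).dvd (a := 1)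
    exact ha (by simpa using (kk 1).2 this)
  constructor
  · rintro ⟨a⟩ ⟨b⟩ h ha
    change X (Quotient.mk _ a) ≠ Quotient.mk _ a at ha
    change ∀ i : ℤ, (X ^ i) (Quotient.mk _ a) = Quotient.mk _ a ↔ (X ^ i) (Quotient.mk _ b) = Quotient.mk _ b at h
    have hb : X (Quotient.mk _ b) ≠ Quotient.mk _ b := fun e => ha (by simpa using (h 1).2 (by simpa using e))
    have ha' : x a ≠ a := fun e => ha (by rw [hp1, e])
    have hb' : x b ≠ b := fun e => hb (by rw [hp1, e])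
    obtain ⟨j, hj⟩ := hc.1 a b (fun i => by
      rcases Int.even_or_odd' i with ⟨m, rfl | rfl⟩
      · rw [← hev a ha', ← hev b hb', h]
      · exact ⟨fun e => absurd e (hodd a ha' m), fun e => absurd e (hodd b hb' m)⟩) ha'
    exact ⟨j, by change (X ^ j) (Quotient.mk _ a) = Quotient.mk _ b; rw [hp, hj]⟩
  · have s1 : ∀ a b, x a = a → x b = b → Quotient.mk (st τ h1) a = Quotient.mk _ b := by
      intro a b ha hb
      by_cases e : a = b
      · rw [e]
      · exact ((mk_eq τ h1 a b).2 (Or.inr (tau_fix hc h2 h3 a b ha hb e).symm)).symm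
    have s2 : ∀ a b, x a ≠ a → x b ≠ b → X (Quotient.mk _ a) = Quotient.mk _ a → X (Quotient.mk _ b) = Quotient.mk _ b → Quotient.mk (st τ h1) a = Quotient.mk _ b := by
      intro a b ha hb ea eb
      have t : ∀ a, X (Quotient.mk _ a) = Quotient.mk _ a → ∀ i : ℤ, (X ^ i) (Quotient.mk _ a) = Quotient.mk _ a := fun a e i =>
        Equiv.Perm.zpow_apply_eq_self_of_apply_eq_self e i
      obtain ⟨j, hj⟩ := hc.1 a b (fun i => by
        rcases Int.even_or_odd' i with ⟨m, rfl | rfl⟩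
        · rw [← hev a ha, ← hev b hb]; exact ⟨fun _ => t b eb m, fun _ => t a ea m⟩
        · exact ⟨fun e => absurd e (hodd a ha m), fun e => absurd e (hodd b hb m)⟩) ha
      rw [← hj, ← hp, t a ea]
    rintro ⟨a⟩ ⟨b⟩ ⟨c⟩ ha hb hc'
    by_cases e1 : x a = a <;> by_cases e2 : x b = b <;> by_cases e3 : x c = c
    · exact Or.inl (s1 a b e1 e2)
    · exact Or.inl (s1 a b e1 e2)
    · exact Or.inr (Or.inl (s1 a c e1 e3))
    · exact Or.inr (Or.inr (s2 b c e2 e3 hb hc'))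
    · exact Or.inr (Or.inr (s1 b c e2 e3))
    · exact Or.inr (Or.inl (s2 a c e1 e3 ha hc'))
    · exact Or.inl (s2 a b e1 e2 ha hb)
    · exact Or.inl (s2 a b e1 e2 ha hb)

lemma uniq (n : ℕ) : ∀ (Ω : Type) [Fintype Ω] [DecidableEq Ω], Fintype.card Ω = n → ∀ x : Equiv.Perm Ω, Cond x →
    ∀ P Q : Sylow 2 (Equiv.Perm Ω), x ∈ P → x ∈ Q → P = Q := by
  classical
  haveI : Fact (Nat.Prime 2) := ⟨Nat.prime_two⟩
  induction n using Nat.strong_induction_on with
  | _ n ih =>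
  intro Ω _ _ hn x hc P Q hP hQ
  obtain ⟨τ, h1, h2, h3⟩ := inv_ex _ P.isPGroup'
  obtain ⟨σ, k1, k2, k3⟩ := inv_ex _ Q.isPGroup'
  have e := tau_uniq hc h1 (h2 x hP) h3 k1 (k2 x hQ) k3
  subst e
  by_cases hτ : τ = 1
  · haveI : Subsingleton Ω := ⟨fun a b => h3 a b (by rw [hτ]; rfl) (by rw [hτ]; rfl)⟩
    exact Sylow.ext (Subsingleton.elim _ _)
  obtain ⟨k, hk⟩ := P.isPGroup' ⟨x, hP⟩
  have hk' : x ^ 2 ^ k = 1 := congrArg Subtype.val hk
  have hcq := cond_q hk' hc h1 (h2 x hP) h3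
  have hlt : Fintype.card (Quotient (st τ h1)) < n := by
    rw [← hn]
    obtain ⟨a, ha⟩ : ∃ a, τ a ≠ a := by
      by_contra h; push Not at h; exact hτ (Equiv.ext h)
    refine Fintype.card_lt_of_surjective_not_injective (Quotient.mk (st τ h1)) Quotient.mk_surjective (fun hi => ha (hi ?_))
    exact (mk_eq τ h1 a (τ a)).2 (Or.inr rfl)
  let C := Subgroup.centralizer ({τ} : Set (Equiv.Perm Ω))
  have hPC : (P : Subgroup (Equiv.Perm Ω)) ≤ C := fun g hg => Subgroup.mem_centralizer_singleton_iff.2 (h2 g hg)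
  have hQC : (Q : Subgroup (Equiv.Perm Ω)) ≤ C := fun g hg => Subgroup.mem_centralizer_singleton_iff.2 (k2 g hg)
  obtain ⟨S, hS⟩ := ((P.isPGroup'.comap_subtype (K := C)).map (pi0 τ h1)).exists_le_sylow
  obtain ⟨T, hT⟩ := ((Q.isPGroup'.comap_subtype (K := C)).map (pi0 τ h1)).exists_le_sylow
  have hST : S = T := ih _ hlt _ rfl _ hcq S T (hS ⟨⟨x, hPC hP⟩, hP, rfl⟩) (hT ⟨⟨x, hQC hQ⟩, hQ, rfl⟩)
  subst hST
  have hker : IsPGroup 2 (pi0 τ h1).ker := by
    rintro ⟨g, hg⟩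
    refine ⟨1, Subtype.ext (Subtype.ext ?_)⟩
    ext a
    have hττ : ∀ y, τ (τ y) = y := fun y => congrArg (fun f : Equiv.Perm Ω => f y) h1
    have hcm : ∀ y, τ ((g : Equiv.Perm Ω) y) = (g : Equiv.Perm Ω) (τ y) := fun y =>
      (congrArg (fun f : Equiv.Perm Ω => f y) (Subgroup.mem_centralizer_singleton_iff.1 g.2)).symm
    have := pi0_mk τ h1 g a
    rw [MonoidHom.mem_ker.1 hg] at this
    show (g : Equiv.Perm Ω) ((g : Equiv.Perm Ω) a) = a
    rcases (mk_eq τ h1 _ _).1 this.symm with h | h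
    · rw [h, h]
    · rw [h, ← hcm, h, hττ]
  have hR := (S.isPGroup'.comap_of_ker_isPGroup _ hker).map C.subtype
  have a1 := P.is_maximal' hR (fun g hg => ⟨⟨g, hPC hg⟩, hS ⟨⟨g, hPC hg⟩, hg, rfl⟩, rfl⟩)
  have a2 := Q.is_maximal' hR (fun g hg => ⟨⟨g, hQC hg⟩, hT ⟨⟨g, hQC hg⟩, hg, rfl⟩, rfl⟩)
  exact Sylow.ext (a1.symm.trans a2)

open Equiv in
lemma tr {Ω : Type} [Fintype Ω] [DecidableEq Ω] (x : Perm Ω) {k : ℕ} (hk : x ^ 2 ^ k = 1) (u v : Ω) (huv : ¬ x.SameCycle u v)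
    (h : ∀ i : ℤ, (x ^ i) u = u ↔ (x ^ i) v = v) : ∃ P : Sylow 2 (Perm Ω), x ∈ P ∧ swap u v ∈ P := by
  haveI : Fact (Nat.Prime 2) := ⟨Nat.prime_two⟩
  let S : Set (Perm Ω) := {s | ∃ i : ℤ, s = swap ((x ^ i) u) ((x ^ i) v)}
  have hsub : ∀ (i j : ℤ) a b, (x ^ i) a = (x ^ j) b ↔ (x ^ (-j + i)) a = b := by
    intro i j a b
    rw [zpow_add, Perm.mul_apply, zpow_neg, Perm.inv_eq_iff_eq]
  have hcomm : ∀ s ∈ S, ∀ t ∈ S, s * t = t * s := by
    rintro _ ⟨i, rfl⟩ _ ⟨j, rfl⟩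
    by_cases e : (x ^ i) u = (x ^ j) u
    · rw [e, (hsub _ _ _ _).2 ((h _).1 ((hsub _ _ _ _).1 e))]
    · have e2 : (x ^ i) v ≠ (x ^ j) v := fun e' => e ((hsub _ _ _ _).2 ((h _).2 ((hsub _ _ _ _).1 e')))
      have e3 : (x ^ i) u ≠ (x ^ j) v := fun e' => huv ⟨_, (hsub _ _ _ _).1 e'⟩
      have e4 : (x ^ j) u ≠ (x ^ i) v := fun e' => huv ⟨_, (hsub _ _ _ _).1 e'⟩
      have := swap_apply_apply (swap ((x ^ i) u) ((x ^ i) v)) ((x ^ j) u) ((x ^ j) v)
      rw [swap_apply_of_ne_of_ne (Ne.symm e) e4, swap_apply_of_ne_of_ne e3.symm e2.symm] at this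
      exact mul_inv_eq_iff_eq_mul.1 this.symm
  have hC := Subgroup.isMulCommutative_closure hcomm
  have hE : IsPGroup 2 (Subgroup.closure S) := by
    rintro ⟨g, hg⟩
    refine ⟨1, Subtype.ext ?_⟩
    show g ^ 2 = 1
    induction hg using Subgroup.closure_induction with
    | mem s hs => obtain ⟨i, rfl⟩ := hs; rw [pow_two, swap_mul_self]
    | one => simp
    | mul a b ha hb iha ihb =>
      have : Commute a b := congrArg Subtype.val (hC.is_comm.comm (⟨a, ha⟩ : Subgroup.closure S) ⟨b, hb⟩)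
      rw [this.mul_pow, iha, ihb, one_mul]
    | inv a ha iha => rw [inv_pow, iha, inv_one]
  have hN : Subgroup.zpowers x ≤ Subgroup.normalizer (Subgroup.closure S : Set (Perm Ω)) := by
    rw [Subgroup.zpowers_le]
    refine Subgroup.mem_normalizer_fintype (fun g hg => ?_)
    induction hg using Subgroup.closure_induction with
    | mem s hs =>
      obtain ⟨i, rfl⟩ := hs
      refine Subgroup.subset_closure ⟨1 + i, ?_⟩
      rw [← swap_apply_apply, zpow_add, zpow_one]; rfl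
    | one => simp
    | mul a b ha hb iha ihb =>
      have := Subgroup.mul_mem _ iha ihb
      rwa [show x * a * x⁻¹ * (x * b * x⁻¹) = x * (a * b) * x⁻¹ by group] at this
    | inv a ha iha =>
      have := Subgroup.inv_mem _ iha
      rwa [show (x * a * x⁻¹)⁻¹ = x * a⁻¹ * x⁻¹ by group] at this
  obtain ⟨P, hP⟩ := ((H4.Cov.pz hk).to_sup_of_normal_right' hE hN).exists_le_sylow
  exact ⟨P, hP (Subgroup.mem_sup_left (Subgroup.mem_zpowers x)), hP (Subgroup.mem_sup_right (Subgroup.subset_closure ⟨0, by simp⟩))⟩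

open Equiv in
lemma cond_of {Ω : Type} [Fintype Ω] [DecidableEq Ω] (x : Perm Ω) {k : ℕ} (hk : x ^ 2 ^ k = 1) (hu : ∃! P : Sylow 2 (Perm Ω), x ∈ P) : Cond x := by
  obtain ⟨P, hP, hPu⟩ := hu
  have key : ∀ u v w, ¬ x.SameCycle u v → ¬ x.SameCycle u w → (∀ i : ℤ, (x ^ i) u = u ↔ (x ^ i) v = v) → (∀ i : ℤ, (x ^ i) u = u ↔ (x ^ i) w = w) → v = w := by
    intro u v w h1 h2 h3 h4
    by_contra hvw
    obtain ⟨Q, a1, a2⟩ := tr x hk u v h1 h3
    obtain ⟨R, b1, b2⟩ := tr x hk u w h2 h4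
    rw [hPu Q a1] at a2
    rw [hPu R b1] at b2
    have huv : u ≠ v := by rintro rfl; exact h1 (Perm.SameCycle.refl _ _)
    have huw : u ≠ w := by rintro rfl; exact h2 (Perm.SameCycle.refl _ _)
    obtain ⟨j, hj⟩ := P.isPGroup' ⟨_, (P : Subgroup (Perm Ω)).mul_mem a2 b2⟩
    have hj' : (swap u v * swap u w) ^ 2 ^ j = 1 := congrArg Subtype.val hj
    have := orderOf_dvd_of_pow_eq_one hj'
    rw [(Perm.isThreeCycle_swap_mul_swap_same huv huw hvw).orderOf] at this
    have := Nat.prime_three.dvd_of_dvd_pow this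
    omega
  constructor
  · intro a b h ha
    by_contra hs
    have hb : x b ≠ b := fun e => ha (by simpa using (h 1).2 (by simpa using e))
    refine hb (key a (x b) b (by rwa [Perm.sameCycle_apply_right]) hs (fun i => ?_) h)
    rw [h, ← Perm.mul_apply, ← zpow_add_one, add_comm, zpow_add, zpow_one, Perm.mul_apply, x.injective.eq_iff]
  · intro a b c ha hb hc
    by_contra hn
    push Not at hn
    have f := fun (y : Ω) (hy : x y = y) (i : ℤ) => Perm.zpow_apply_eq_self_of_apply_eq_self hy i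
    refine hn.2.2 (key a b c ?_ ?_ (fun i => ⟨fun _ => f b hb i, fun _ => f a ha i⟩) (fun i => ⟨fun _ => f c hc i, fun _ => f a ha i⟩))
    · rintro ⟨i, hi⟩; exact hn.1 ((f a ha i).symm.trans hi)
    · rintro ⟨i, hi⟩; exact hn.2.1 ((f a ha i).symm.trans hi)

open Equiv in
lemma cond_iff {Ω : Type} [Fintype Ω] [DecidableEq Ω] (x : Perm Ω) : Cond x ↔ (Fintype.card Ω ≤ x.support.card + 2 ∧ x.cycleType.Nodup) := by
  have hper : ∀ a, x a ≠ a → ∀ i : ℤ, (x ^ i) a = a ↔ ((x.cycleOf a).support.card : ℤ) ∣ i := fun a ha i =>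
    (Perm.isCycleOn_support_cycleOf x a).zpow_apply_eq (by rw [Perm.mem_support, Perm.cycleOf_apply_self]; exact ha)
  rw [Cond, and_comm]
  refine and_congr ?_ ?_
  · have h1 := Finset.card_compl x.support
    have h2 := Finset.card_le_univ x.support
    have h3 := Finset.two_lt_card_iff (s := x.supportᶜ)
    simp only [Finset.mem_compl, Perm.mem_support, not_not] at h3
    constructor
    · intro h
      by_contra hc
      obtain ⟨a, b, c, ha, hb, hc, e1, e2, e3⟩ := h3.1 (by omega)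
      rcases h a b c ha hb hc with e | e | e
      exacts [e1 e, e2 e, e3 e]
    · intro h a b c ha hb hc
      by_contra hn
      push Not at hn
      have := h3.2 ⟨a, b, c, ha, hb, hc, hn.1, hn.2.1, hn.2.2⟩
      omega
  · rw [Perm.cycleType_def, Multiset.nodup_map_iff_inj_on x.cycleFactorsFinset.2]
    constructor
    · intro h c hc d hd e
      obtain ⟨a, ha⟩ := (Perm.mem_cycleFactorsFinset_iff.1 hc).1.nonempty_support
      obtain ⟨b, hb⟩ := (Perm.mem_cycleFactorsFinset_iff.1 hd).1.nonempty_support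
      have e1 := Perm.cycle_is_cycleOf ha hc
      have e2 := Perm.cycle_is_cycleOf hb hd
      have ha' : x a ≠ a := Perm.mem_support.1 (Perm.mem_cycleFactorsFinset_support_le hc ha)
      have hb' : x b ≠ b := Perm.mem_support.1 (Perm.mem_cycleFactorsFinset_support_le hd hb)
      rw [e1, e2]
      refine (h a b (fun i => ?_) ha').cycleOf_eq
      rw [hper a ha', hper b hb', ← e1, ← e2]
      have : c.support.card = d.support.card := e
      rw [this]
    · intro h a b hab ha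
      have hb : x b ≠ b := fun e => ha (by simpa using (hab 1).2 (by simpa using e))
      have e : (x.cycleOf a).support.card = (x.cycleOf b).support.card := by
        apply Nat.dvd_antisymm
        · exact Int.natCast_dvd_natCast.1 ((hper a ha _).1 ((hab _).2 ((hper b hb _).2 dvd_rfl)))
        · exact Int.natCast_dvd_natCast.1 ((hper b hb _).1 ((hab _).1 ((hper a ha _).2 dvd_rfl)))
      have := h _ (Perm.cycleOf_mem_cycleFactorsFinset_iff.2 (Perm.mem_support.2 ha)) _ (Perm.cycleOf_mem_cycleFactorsFinset_iff.2 (Perm.mem_support.2 hb)) e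
      have hb2 : b ∈ (x.cycleOf a).support := by rw [this, Perm.mem_support, Perm.cycleOf_apply_self]; exact hb
      exact (Perm.mem_support_cycleOf_iff.1 hb2).1

/-- Let n ≥ 2 and let x be an element of 2-power order of the symmetric group of degree n. Then x lies in exactly one Sylow 2-subgroup if and only if x has at most two fixed points and the nontrivial cycles of x have pairwise different lengths. -/
theorem result (n : ℕ) (hn : 2 ≤ n)
    (x : Equiv.Perm (Fin n)) (hx : ∃ k : ℕ, orderOf x = 2 ^ k) :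
    (∃! P : Sylow 2 (Equiv.Perm (Fin n)), x ∈ P) ↔ (n ≤ x.support.card + 2 ∧ x.cycleType.Nodup) := by
  obtain ⟨k, hk⟩ := hx
  have hk' : x ^ 2 ^ k = 1 := by rw [← hk, pow_orderOf_eq_one]
  have := cond_iff x
  rw [Fintype.card_fin] at this
  rw [← this]
  refine ⟨cond_of x hk', fun hc => ?_⟩
  obtain ⟨P, hP⟩ := (H4.Cov.pz hk').exists_le_sylow
  exact ⟨P, hP (Subgroup.mem_zpowers x), fun Q hQ => uniq _ _ rfl x hc Q P hQ (hP (Subgroup.mem_zpowers x))⟩

end Cfsg.Agent.S4349
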