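import Cfsg.Statements.S2928
import Mathlib
import Cfsg.Agent.S2929
import Cfsg.Agent.S4349

set_option autoImplicit false
open Cfsg

namespace Cfsg.Agent.S2928

open scoped Pointwise
open Equiv Subgroup S2929

variable {Ω : Type} [Fintype Ω] [DecidableEq Ω]

lemma main2 (H L : Subgroup (Perm Ω)) (hL : H9.QS L) (h1 : L ≤ H) (h2 : H ≤ normalizer (L : Set (Perm Ω))) (h3 : H ⊓ centralizer (L : Set (Perm Ω)) ≤ L)
    {t0 : Perm Ω} (ht0 : t0.IsThreeCycle) (h0 : t0 ∈ H) : ∃ Δ : Finset Ω, L = AA Δ := by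
  obtain ⟨Δ, a1, a2, a3, a4⟩ := key H L hL h1 h2 h3 ht0 h0
  have hbig : 5 ≤ Δ.card := by
    by_contra hn
    refine hL.not_le_solvable (H3.burnside_paqb (p := 2) (q := 3) (a := 3) (b := 1) Nat.prime_two Nat.prime_three ?_) a4
    rw [AA, card_map_of_injective Perm.ofSubtype_injective]
    refine (card_subgroup_dvd_card _).trans ?_
    rw [Nat.card_eq_fintype_card, Fintype.card_perm, Fintype.card_coe]
    exact Nat.factorial_dvd_factorial (n := 4) (by omega)
  refine ⟨Δ, ?_⟩
  haveI : IsSimpleGroup (alternatingGroup Δ) := alternatingGroup.isSimpleGroup (by simpa using hbig)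
  haveI : IsSimpleGroup (AA Δ) := ((alternatingGroup Δ).equivMapOfInjective _ Perm.ofSubtype_injective).symm.isSimpleGroup
  have hn : (L.subgroupOf (AA Δ)).Normal := (normal_subgroupOf_iff_le_normalizer a4).2 (a2.trans h2)
  rcases hn.eq_bot_or_eq_top with h | h
  · refine absurd (eq_bot_iff.2 fun l hl => ?_) hL.ne_bot
    have b1 : (⟨l, a4 hl⟩ : AA Δ) ∈ L.subgroupOf (AA Δ) := hl
    rw [h, mem_bot] at b1
    exact mem_bot.2 (congrArg Subtype.val b1)
  · exact le_antisymm a4 (subgroupOf_eq_top.1 h)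

omit [Fintype Ω] in
lemma sq3 {u b v c c' x x' : Ω} (h : [u, b, v, c, c', x, x'].Nodup) :
    (swap u b * swap c c' * (swap u v * swap x x')) ^ 2 = (swap u b * swap u v) ^ 2 := by
  simp only [List.nodup_cons, List.mem_cons, List.not_mem_nil, or_false, not_or] at h
  ext w
  simp only [pow_two, Perm.mul_apply, swap_apply_def]
  grind

omit [Fintype Ω] [DecidableEq Ω] in
lemma ia (g : Perm Ω) (z : Ω) : g⁻¹ (g z) = z := g.symm_apply_apply z

omit [Fintype Ω] in
lemma swl {τ : Perm Ω} (tt : ∀ y, τ (τ y) = y) (a c : Ω) : (∀ y, (swap a (τ a) * swap c (τ c)) y = y ∨ (swap a (τ a) * swap c (τ c)) y = τ y) ∧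
    ∀ y, (swap a (τ a) * swap c (τ c)) (τ y) = τ ((swap a (τ a) * swap c (τ c)) y) := by
  have h1 : ∀ a y, swap a (τ a) y = y ∨ swap a (τ a) y = τ y := fun a y => by
    simp only [swap_apply_def]; grind
  have h2 : ∀ a y, swap a (τ a) (τ y) = τ (swap a (τ a) y) := fun a y => by
    simp only [swap_apply_def]; grind
  refine ⟨fun y => ?_, fun y => by simp only [Perm.mul_apply, h2]⟩
  simp only [Perm.mul_apply]
  rcases h1 c y with h | h <;> rw [h]
  · exact h1 a y
  · rw [h2]; rcases h1 a y with h | h <;> rw [h]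
    · exact Or.inr rfl
    · exact Or.inl (tt y)

omit [Fintype Ω] in
lemma lst {τ l : Perm Ω} (tt : ∀ y, τ (τ y) = y) (a c : Ω) (ha : τ a ≠ a) (hc : ¬c = a ∧ ¬c = τ a ∧ ¬c = l a ∧ ¬c = τ (l a))
    (h : l ((swap a (τ a) * swap c (τ c)) a) = (swap a (τ a) * swap c (τ c)) (l a)) : l a = a ∨ l a = τ a := by
  simp only [Perm.mul_apply, swap_apply_def] at h
  have e2 := l.injective.eq_iff (a := τ a) (b := a)
  grind

lemma out (h8 : 8 ≤ Fintype.card Ω) (l : List Ω) (hl : l.length ≤ 7) : ∃ z, z ∉ l := by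
  obtain ⟨z, -, hz⟩ : ∃ z ∈ Finset.univ, z ∉ l.toFinset := Finset.exists_mem_notMem_of_card_lt_card (by
    have := List.toFinset_card_le l; rw [Finset.card_univ]; omega)
  exact ⟨z, by simpa using hz⟩

def Gd (H : Subgroup (Perm Ω)) (τ : Perm Ω) : Prop :=
  (∀ y, τ (τ y) = y) ∧ (∃ f, ∀ a, τ a = a → a = f) ∧ ∀ a c, τ a ≠ a → τ c ≠ c → swap a (τ a) * swap c (τ c) ∈ H

lemma step {H : Subgroup (Perm Ω)} (hH : ∀ t ∈ H, ¬ t.IsThreeCycle) {τ σ : Perm Ω} (h1 : Gd H τ) (h2 : Gd H σ) (u c x : Ω)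
    (h : [u, τ u, σ u, c, τ c, x, σ x].Nodup) : False := by
  have h' := h
  simp only [List.nodup_cons, List.mem_cons, List.not_mem_nil, or_false, not_or] at h'
  have := H.pow_mem (H.mul_mem (h1.2.2 u c (by grind) (by grind)) (h2.2.2 u x (by grind) (by grind))) 2
  rw [sq3 h] at this
  exact hH _ this (Perm.isThreeCycle_swap_mul_swap_same (by grind) (by grind) (by grind)).isThreeCycle_sq

lemma comm8 (h8 : 8 ≤ Fintype.card Ω) {H : Subgroup (Perm Ω)} (hH : ∀ t ∈ H, ¬ t.IsThreeCycle) {τ σ : Perm Ω} (h1 : Gd H τ) (h2 : Gd H σ) : τ * σ = σ * τ := by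
  have S := step hH h1 h2
  obtain ⟨t1, ⟨f, t2⟩, -⟩ := h1
  obtain ⟨s1, ⟨g, s2⟩, -⟩ := h2
  have k : ∀ u, τ u ≠ u → σ u ≠ u → τ (σ u) = σ (τ u) := by
    intro u a1 a2
    by_contra a3
    by_cases c1 : τ (σ u) = σ u
    · obtain ⟨x, hx⟩ := out h8 [u, σ u, τ u, σ (τ u), g] (by simp)
      obtain ⟨c, hc⟩ := out h8 [u, σ u, τ u, x, σ x, τ x, τ (σ x)] (by simp)
      simp only [List.mem_cons, List.not_mem_nil, or_false, not_or] at hx hc
      exact S u c x (by simp only [List.nodup_cons, List.mem_cons, List.not_mem_nil, or_false, not_or, List.nodup_nil, not_false_eq_true, and_true]; (repeat' apply And.intro) <;> (intro h; grind))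
    by_cases c2 : σ (τ (σ u)) = τ (σ u)
    · by_cases c3 : τ (σ (τ u)) = σ (τ u)
      · obtain ⟨x, hx⟩ := out h8 [u, σ u, τ u, σ (τ u), τ (σ u)] (by simp)
        simp only [List.mem_cons, List.not_mem_nil, or_false, not_or] at hx
        exact S (τ u) (σ u) x (by simp only [List.nodup_cons, List.mem_cons, List.not_mem_nil, or_false, not_or, List.nodup_nil, not_false_eq_true, and_true]; (repeat' apply And.intro) <;> (intro h; grind))
      · obtain ⟨x, hx⟩ := out h8 [u, σ u, τ u, σ (τ u), τ (σ u), τ (σ (τ u)), σ (τ (σ (τ u)))] (by simp)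
        simp only [List.mem_cons, List.not_mem_nil, or_false, not_or] at hx
        exact S u (σ (τ u)) x (by simp only [List.nodup_cons, List.mem_cons, List.not_mem_nil, or_false, not_or, List.nodup_nil, not_false_eq_true, and_true]; (repeat' apply And.intro) <;> (intro h; grind))
    · obtain ⟨c, hc⟩ := out h8 [u, σ u, τ u, τ (σ u), σ (τ (σ u)), τ (σ (τ (σ u))), f] (by simp)
      simp only [List.mem_cons, List.not_mem_nil, or_false, not_or] at hc
      exact S u c (τ (σ u)) (by simp only [List.nodup_cons, List.mem_cons, List.not_mem_nil, or_false, not_or, List.nodup_nil, not_false_eq_true, and_true]; (repeat' apply And.intro) <;> (intro h; grind))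
  ext u
  show τ (σ u) = σ (τ u)
  have k1 := k u
  have k2 := k (σ u)
  have k3 := k (τ u)
  clear S k hH
  by_cases τ u = u <;> by_cases σ u = u <;> grind

lemma eq10 (h8 : 10 ≤ Fintype.card Ω) {H : Subgroup (Perm Ω)} (hH : ∀ t ∈ H, ¬ t.IsThreeCycle) {τ σ : Perm Ω} (h1 : Gd H τ) (h2 : Gd H σ) : τ = σ := by
  have S := step hH h1 h2
  obtain ⟨t1, ⟨f, t2⟩, -⟩ := h1
  obtain ⟨s1, ⟨g, s2⟩, -⟩ := h2
  have k : ∀ u, τ u ≠ u → σ u ≠ u → τ u = σ u := by
    intro u a1 a2
    by_contra a3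
    obtain ⟨x, hx⟩ := out (by omega) [u, σ u, τ u, σ (τ u), g] (by simp)
    obtain ⟨c, -, hc⟩ : ∃ z ∈ Finset.univ, z ∉ [u, σ u, τ u, τ (σ u), f, x, σ x, τ x, τ (σ x)].toFinset := Finset.exists_mem_notMem_of_card_lt_card (by
      have := List.toFinset_card_le [u, σ u, τ u, τ (σ u), f, x, σ x, τ x, τ (σ x)]; rw [Finset.card_univ]; simp only [List.length_cons, List.length_nil] at this; omega)
    rw [List.mem_toFinset] at hc
    simp only [List.mem_cons, List.not_mem_nil, or_false, not_or] at hx hc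
    exact S u c x (by simp only [List.nodup_cons, List.mem_cons, List.not_mem_nil, or_false, not_or, List.nodup_nil, not_false_eq_true, and_true]; (repeat' apply And.intro) <;> (intro h; grind))
  ext u
  have k1 := k u
  have k2 := k (σ u)
  have k3 := k (τ u)
  clear S k hH
  by_cases τ u = u <;> by_cases σ u = u <;> grind

set_option maxHeartbeats 3000000 in
lemma has3 (h8 : 8 ≤ Fintype.card Ω) (H L : Subgroup (Perm Ω)) (hL : H9.QS L) (h1 : L ≤ H) (h2 : H ≤ normalizer (L : Set (Perm Ω)))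
    (P : Sylow 2 (alternatingGroup Ω)) (hP : (P : Subgroup (alternatingGroup Ω)).map (alternatingGroup Ω).subtype ≤ H) : ∃ t ∈ H, t.IsThreeCycle := by
  classical
  haveI : Fact (Nat.Prime 2) := ⟨Nat.prime_two⟩
  by_contra hH
  push Not at hH
  obtain ⟨τ, t1, t2, t3⟩ := S4349.inv_ex _ (P.isPGroup'.map (alternatingGroup Ω).subtype)
  have tt : ∀ y, τ (τ y) = y := fun y => congrArg (fun f : Perm Ω => f y) t1
  let D : Subgroup (Perm Ω) :=
    { carrier := {g | Perm.sign g = 1 ∧ (∀ y, g y = y ∨ g y = τ y) ∧ ∀ y, g (τ y) = τ (g y)}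
      mul_mem' := fun {a b} ha hb => ⟨by rw [map_mul, ha.1, hb.1, one_mul], fun y => by
        have := ha.2.1 (b y); have := hb.2.1 y; simp only [Perm.mul_apply]; grind, fun y => by simp only [Perm.mul_apply, hb.2.2, ha.2.2]⟩
      one_mem' := ⟨by simp, fun _ => Or.inl rfl, fun _ => rfl⟩
      inv_mem' := fun {g} hg => ⟨by simp [hg.1], fun y => by
        obtain ⟨z, rfl⟩ := g.surjective y
        have := hg.2.1 z; simp only [ia]; grind, fun y => by
        obtain ⟨z, rfl⟩ := g.surjective y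
        rw [← hg.2.2]; simp⟩ }
  have hD2 : ∀ g ∈ D, g * g = 1 := fun g hg => by
    ext y; have := hg.2.1 y; have := hg.2.2 y; simp only [Perm.mul_apply, Perm.one_apply]; grind
  have hDN : ∀ g : Perm Ω, g * τ = τ * g → g ∈ normalizer (D : Set (Perm Ω)) := fun g hg => mem_normalizer_fintype (fun d hd => by
    have e : ∀ y, g (τ y) = τ (g y) := fun y => congrArg (fun f : Perm Ω => f y) hg
    refine ⟨by simp [hd.1], fun y => ?_, fun y => ?_⟩ <;> obtain ⟨z, rfl⟩ := g.surjective y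
    · simp only [Perm.mul_apply, ia]
      rcases hd.2.1 z with h | h
      · left; rw [h]
      · right; rw [h, e]
    · rw [← e]; simp only [Perm.mul_apply, ia]; rw [hd.2.2, e])
  have hDH : D ≤ H := by
    have a1 : IsPGroup 2 (D.comap (alternatingGroup Ω).subtype) := fun g => ⟨1, Subtype.ext (Subtype.ext (by rw [pow_one, pow_two]; exact hD2 _ g.2))⟩
    have a2 := P.is_maximal' (P.isPGroup'.to_sup_of_normal_right' a1 (fun g hg => mem_normalizer_fintype (fun d hd =>
      (mem_normalizer_iff.1 (hDN _ (t2 _ ⟨g, hg, rfl⟩)) _).1 hd))) le_sup_left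
    intro d hd
    exact hP ⟨⟨d, Perm.mem_alternatingGroup.2 hd.1⟩, a2 ▸ mem_sup_right (show _ ∈ D.comap _ from hd), rfl⟩
  have hsw : ∀ a c, τ a ≠ a → τ c ≠ c → swap a (τ a) * swap c (τ c) ∈ D := fun a c ha hc =>
    ⟨by rw [map_mul, Perm.sign_swap ha.symm, Perm.sign_swap hc.symm]; simp, (swl tt a c).1, (swl tt a c).2⟩
  obtain ⟨f, hf⟩ : ∃ f, ∀ a, τ a = a → a = f := by
    by_cases h : ∃ f, τ f = f
    · obtain ⟨f, h⟩ := h; exact ⟨f, fun a ha => t3 a f ha h⟩
    · obtain ⟨f, -⟩ := out h8 [] (by simp); exact ⟨f, fun a ha => absurd ⟨a, ha⟩ h⟩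
  have G1 : Gd H τ := ⟨tt, ⟨f, hf⟩, fun a c ha hc => hDH (hsw a c ha hc)⟩
  have G2 : ∀ l ∈ H, Gd H (l * τ * l⁻¹) := fun l hl => ⟨fun y => by simp [tt], ⟨l f, fun a ha => by
      obtain ⟨z, rfl⟩ := l.surjective a
      rw [hf z (by simpa using ha)]⟩, fun a c ha hc => by
    obtain ⟨a, rfl⟩ := l.surjective a
    obtain ⟨c, rfl⟩ := l.surjective c
    have := H.mul_mem (H.mul_mem hl (G1.2.2 a c (by simpa using ha) (by simpa using hc))) (H.inv_mem hl)
    simp only [Perm.mul_apply, ia, swap_apply_apply]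
    convert this using 1; group⟩
  have ab : ∀ T : Subgroup (Perm Ω), (∀ a ∈ T, ∀ b ∈ T, a * b = b * a) → ¬ L ≤ T := fun T h hT =>
    hL.not_le_centralizer fun a ha b hb => h b (hT hb) a (hT ha)
  have sq2 : ∀ T : Subgroup (Perm Ω), (∀ a ∈ T, a * a = 1) → ∀ a ∈ T, ∀ b ∈ T, a * b = b * a := fun T h a ha b hb => by
    rw [← inv_eq_of_mul_eq_one_right (h _ (T.mul_mem ha hb)), mul_inv_rev, inv_eq_of_mul_eq_one_right (h a ha), inv_eq_of_mul_eq_one_right (h b hb)]
  have hc : ∀ l ∈ L, l * τ = τ * l := by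
    by_cases h10 : 10 ≤ Fintype.card Ω
    · exact fun l hl => mul_inv_eq_iff_eq_mul.1 (eq10 h10 hH G1 (G2 l (h1 hl))).symm
    have hs : Perm.sign τ = 1 := by
      rw [Perm.sign_of_pow_two_eq_one (by rw [pow_two, t1])]
      have : Fintype.card (Function.fixedPoints τ) ≤ 1 := Fintype.card_le_one_iff.2 fun a b => Subtype.ext (t3 _ _ a.2 b.2)
      have h2 := Perm.card_fixedPoints_modEq (p := 2) (n := 1) (f := (fun y => τ y : Function.End Ω)) (funext tt)
      replace h2 : Fintype.card Ω % 2 = Fintype.card (Function.fixedPoints τ) % 2 := by unfold Nat.ModEq at h2; convert h2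
      rw [show (Fintype.card Ω - Fintype.card (Function.fixedPoints τ)) / 2 = 4 by omega]; rfl
    have hτ : τ ∈ H := hDH ⟨hs, fun y => Or.inr rfl, fun _ => rfl⟩
    let S : Set (Perm Ω) := {s | ∃ l ∈ H, s = l * τ * l⁻¹}
    have hC := isMulCommutative_closure (k := S) (by rintro _ ⟨a, ha, rfl⟩ _ ⟨b, hb, rfl⟩; exact comm8 h8 hH (G2 a ha) (G2 b hb))
    have hSH : closure S ≤ H := (closure_le _).2 (by rintro _ ⟨l, hl, rfl⟩; exact H.mul_mem (H.mul_mem hl hτ) (H.inv_mem hl))
    have hN : L ≤ normalizer (closure S : Set (Perm Ω)) := fun l hl => mem_normalizer_fintype (fun g hg => by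
      induction hg using closure_induction with
      | mem s hs => obtain ⟨k, hk, rfl⟩ := hs; exact subset_closure ⟨l * k, H.mul_mem (h1 hl) hk, by group⟩
      | one => simp
      | mul a b ha hb iha ihb =>
        have := mul_mem iha ihb
        rwa [show l * a * l⁻¹ * (l * b * l⁻¹) = l * (a * b) * l⁻¹ by group] at this
      | inv a ha iha =>
        have := inv_mem iha
        rwa [show (l * a * l⁻¹)⁻¹ = l * a⁻¹ * l⁻¹ by group] at this)
    have := (dich hL hN (hSH.trans h2)).resolve_left (ab _ fun a ha b hb => congrArg Subtype.val (hC.is_comm.comm (⟨a, ha⟩ : closure S) ⟨b, hb⟩))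
    exact fun l hl => this (subset_closure ⟨1, H.one_mem, by simp⟩) l hl
  have hDC := (dich hL (fun l hl => hDN l (hc l hl)) (hDH.trans h2)).resolve_left (ab _ (sq2 D hD2))
  refine ab L (sq2 L fun l hl => ?_) le_rfl
  have e : ∀ y, l (τ y) = τ (l y) := fun y => congrArg (fun f : Perm Ω => f y) (hc l hl)
  have k : ∀ a, l a = a ∨ l a = τ a := by
    intro a
    by_cases ha : τ a = a
    · left; exact t3 _ _ (by rw [← e, ha]) ha
    obtain ⟨c, hc⟩ := out h8 [a, τ a, l a, τ (l a), f] (by simp)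
    simp only [List.mem_cons, List.not_mem_nil, or_false, not_or] at hc
    have := congrArg (fun g : Perm Ω => g a) (hDC (hsw a c ha (fun h => hc.2.2.2.2 (hf c h))) l hl)
    exact lst tt a c ha ⟨hc.1, hc.2.1, hc.2.2.1, hc.2.2.2.1⟩ this
  ext y
  show l (l y) = y
  rcases k y with h | h
  · rw [h, h]
  · rw [h, e, h, tt]

/-- Let n ≥ 8 and let H be a subgroup of the symmetric group of degree n whose generalized Fitting subgroup F*(H) is quasisimple. If H contains a Sylow 2-subgroup of the alternating group of degree n, then F*(H) is isomorphic to an alternating group of degree m for some m ∈ {n − 3, n − 2, n − 1, n}. -/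
theorem result (n : ℕ) (hn : 8 ≤ n) (H : Subgroup (Equiv.Perm (Fin n))) (hF : Cfsg.IsQuasisimple ↥(Cfsg.generalizedFittingSubgroup ↥H)) (hS : ∃ P : Sylow 2 ↥(alternatingGroup (Fin n)), ((P : Subgroup ↥(alternatingGroup (Fin n))).map (alternatingGroup (Fin n)).subtype) ≤ H) : ∃ m : ℕ, (m = n - 3 ∨ m = n - 2 ∨ m = n - 1 ∨ m = n) ∧ Nonempty (↥(Cfsg.generalizedFittingSubgroup ↥H) ≃* ↥(alternatingGroup (Fin m))) := by
  classical
  haveI : Fact (Nat.Prime 2) := ⟨Nat.prime_two⟩
  obtain ⟨P, hP⟩ := hS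
  have hq : H9.QS (H9.Fst H) := by
    rw [← H9.Fst_eq]
    exact (H9.qs_map_iff H.subtype_injective).2 (H9.qs_iff.2 hF)
  obtain ⟨t, t1, t2⟩ := has3 (by simpa using hn) H _ hq (H9.Fst_le H) (H9.le_normalizer_Fst H) P hP
  obtain ⟨Δ, h2⟩ := main2 H _ hq (H9.Fst_le H) (H9.le_normalizer_Fst H) (H9.centralizer_Fst_le H) t2 t1
  have h3 := Finset.card_le_univ Δ
  rw [Fintype.card_fin] at h3
  have h1 : n ≤ Δ.card + 3 := by
    by_contra hn'
    have hcc := Finset.card_compl Δ
    rw [Fintype.card_fin] at hcc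
    obtain ⟨u, v, w, hu, hv, hw, f1, f2, f3⟩ := (Finset.two_lt_card_iff (s := Δᶜ)).1 (by omega)
    obtain ⟨z, hz, hz'⟩ : ∃ z ∈ Δᶜ, z ∉ ({u, v, w} : Finset (Fin n)) := Finset.exists_mem_notMem_of_card_lt_card (by
      have := Finset.card_le_three (a := u) (b := v) (c := w); omega)
    simp only [Finset.mem_insert, Finset.mem_singleton, not_or] at hz'
    rw [Finset.mem_compl] at hu hv hw hz
    let K := normalizer ((AA Δ : Subgroup (Perm (Fin n))) : Set (Perm (Fin n)))
    have cen : ∀ c : Perm (Fin n), (∀ y ∈ Δ, c y = y) → c ∈ centralizer ((AA Δ : Subgroup (Perm (Fin n))) : Set (Perm (Fin n))) := fun c hc g hg =>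
      (Perm.Disjoint.commute (fun y => by
        by_cases e : g y = y
        · exact Or.inl e
        · exact Or.inr (hc y ((mem_AA.1 hg).1 y e)))).eq
    have hc : swap u v * swap w z ∈ centralizer ((AA Δ : Subgroup (Perm (Fin n))) : Set (Perm (Fin n))) := cen _ (fun y hy => by
      simp only [Perm.mul_apply, swap_apply_def]; grind)
    have hA : swap u v * swap w z ∈ alternatingGroup (Fin n) := by
      rw [Perm.mem_alternatingGroup, map_mul, Perm.sign_swap f1, Perm.sign_swap (Ne.symm hz'.2.2)]; simp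
    have hPK : (P : Subgroup (alternatingGroup (Fin n))) ≤ K.subgroupOf _ := fun g hg => by
      have := H9.le_normalizer_Fst H (hP ⟨g, hg, rfl⟩)
      rwa [h2] at this
    have h22 : (swap u v * swap w z) ^ 2 ^ 1 = 1 := by
      ext y : 1
      simp only [pow_one, pow_two, Perm.mul_apply, swap_apply_def, Perm.one_apply]; grind
    obtain ⟨R, hR⟩ := (H4.Cov.pz (x := (⟨⟨_, hA⟩, centralizer_le_normalizer _ hc⟩ : K.subgroupOf (alternatingGroup (Fin n)))) (p := 2) (k := 1) (Subtype.ext (Subtype.ext h22))).exists_le_sylow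
    obtain ⟨k, rfl⟩ := MulAction.exists_smul_eq (K.subgroupOf (alternatingGroup (Fin n))) (P.subtype hPK) R
    have m1 : ((k : alternatingGroup (Fin n)) : Perm (Fin n))⁻¹ * (swap u v * swap w z) * (k : alternatingGroup (Fin n)) ∈ H :=
      hP ⟨_, (H4.Cov.mem_smul _ k _).1 (hR (mem_zpowers _)), rfl⟩
    have hk : ((k : alternatingGroup (Fin n)) : Perm (Fin n)) ∈ K := k.2
    generalize ((k : alternatingGroup (Fin n)) : Perm (Fin n)) = κ at m1 hk
    have m2 : κ⁻¹ * (swap u v * swap w z) * κ ∈ centralizer ((AA Δ : Subgroup (Perm (Fin n))) : Set (Perm (Fin n))) := fun g hg => by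
      have := hc _ ((mem_normalizer_iff.1 hk g).1 hg)
      calc g * (κ⁻¹ * (swap u v * swap w z) * κ) = κ⁻¹ * (κ * g * κ⁻¹ * (swap u v * swap w z)) * κ := by group
        _ = _ := by rw [this]; group
    have m3 := H9.centralizer_Fst_le H ⟨m1, by rw [h2]; exact m2⟩
    rw [h2] at m3
    have m4 := (mem_normalizer_iff.1 hk _).1 m3
    rw [show κ * (κ⁻¹ * (swap u v * swap w z) * κ) * κ⁻¹ = swap u v * swap w z by group] at m4
    exact hu ((mem_AA.1 m4).1 u (by simp only [Perm.mul_apply, swap_apply_def]; grind))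
  refine ⟨Δ.card, by omega, ⟨?_⟩⟩
  exact (((Cfsg.generalizedFittingSubgroup H).equivMapOfInjective _ H.subtype_injective).trans (MulEquiv.subgroupCongr ((H9.Fst_eq H).trans h2))).trans
    (((alternatingGroup Δ).equivMapOfInjective _ Equiv.Perm.ofSubtype_injective).symm.trans (Equiv.altCongrHom Δ.equivFin))

end Cfsg.Agent.S2928
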