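import Cfsg.Statements.S4231
import Cfsg.Agent.H5.Sym
import Cfsg.Agent.H8.Cl5

set_option autoImplicit false
open Cfsg

namespace Cfsg.Agent.S4231

open scoped Pointwise
open Subgroup Equiv

theorem comm_of_small {H Ω : Type*} [Group H] [Finite H] [Fintype Ω] [MulAction H Ω] [FaithfulSMul H Ω] {q : ℕ} [hq : Fact q.Prime]
    (h : IsPGroup q H) (hn : Fintype.card Ω < q ^ 2) (a b : H) : a * b = b * a := by
  apply FaithfulSMul.eq_of_smul_eq_smul (α := Ω)
  intro ω
  obtain ⟨k, hk⟩ := h.index (MulAction.stabilizer H ω)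
  have h1 : (MulAction.stabilizer H ω).index ≤ Fintype.card Ω := by
    rw [MulAction.index_stabilizer, ← Nat.card_eq_fintype_card]
    exact Set.ncard_le_card _
  have h2 : k < 2 := (Nat.pow_lt_pow_iff_right hq.out.one_lt).1 (hk ▸ h1.trans_lt hn)
  haveI : (MulAction.stabilizer H ω).Normal := by
    interval_cases k
    · rw [pow_zero, index_eq_one] at hk; rw [hk]; infer_instance
    · obtain ⟨m, hm⟩ := h.exists_card_eq
      have hd := (MulAction.stabilizer H ω).index_dvd_card
      rw [hk, pow_one, hm] at hd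
      have m0 : m ≠ 0 := by rintro rfl; exact hq.out.one_lt.ne' (Nat.dvd_one.1 hd)
      exact normal_of_index_eq_minFac_card (by rw [hk, hm, hq.out.pow_minFac m0, pow_one])
  have hc : IsCyclic (H ⧸ MulAction.stabilizer H ω) := isCyclic_of_card_dvd_prime (p := q) (by
    rw [← index_eq_card, hk]
    interval_cases k <;> simp)
  have : (a * b : H ⧸ MulAction.stabilizer H ω) = (b * a : H) := by
    rw [QuotientGroup.mk_mul]; exact hc.commGroup.mul_comm _ _
  rw [← QuotientGroup.mk_mul, QuotientGroup.eq] at this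
  have h3 : ((a * b)⁻¹ * (b * a)) • ω = ω := this
  rw [mul_smul, inv_smul_eq_iff] at h3
  exact h3.symm

theorem cenA {n : ℕ} (hn : 5 ≤ n) : centralizer (alternatingGroup (Fin n) : Set (Perm (Fin n))) = ⊥ := by
  rw [eq_bot_iff]
  intro σ hσ
  rw [mem_bot]
  ext1 i
  by_contra h
  obtain ⟨k, hk⟩ := Finset.exists_mem_notMem_of_card_lt_card (s := {i, σ i}) (t := Finset.univ)
    (Finset.card_le_two.trans_lt (by simp; omega))
  obtain ⟨l, hl⟩ := Finset.exists_mem_notMem_of_card_lt_card (s := {i, σ i, k}) (t := Finset.univ)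
    (Finset.card_le_three.trans_lt (by simp; omega))
  simp only [Finset.mem_univ, Finset.mem_insert, Finset.mem_singleton, not_or, true_and, Perm.one_apply] at hk hl h
  have := DFunLike.congr_fun (hσ (swap (σ i) k * swap k l) (by simp [Perm.mem_alternatingGroup, Ne.symm hk.2, Ne.symm hl.2.2])) i
  simp only [Perm.mul_apply] at this
  rw [swap_apply_of_ne_of_ne (Ne.symm hk.2) (Ne.symm hl.2.1), swap_apply_left, swap_apply_of_ne_of_ne (Ne.symm hk.1) (Ne.symm hl.1),
    swap_apply_of_ne_of_ne (Ne.symm h) (Ne.symm hk.1)] at this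
  exact hk.2 this

theorem ex (n : ℕ) (m : Multiset ℕ) (h1 : m.sum ≤ n) (h2 : ∀ a ∈ m, 2 ≤ a) (h3 : Even (m.sum + m.card)) :
    ∃ g : alternatingGroup (Fin n), orderOf g = m.lcm := by
  obtain ⟨g, hg⟩ := (Perm.exists_with_cycleType_iff (Fin n) (m := m)).2 ⟨by simpa using h1, h2⟩
  refine ⟨⟨g, ?_⟩, ?_⟩
  · rw [Perm.mem_alternatingGroup, Perm.sign_of_cycleType, hg, h3.neg_one_pow]
  · rw [← orderOf_coe]; exact (Perm.lcm_cycleType g).symm.trans (by rw [hg])

theorem main (n : ℕ) (hn : 5 ≤ n) (G : Subgroup (MulAut (alternatingGroup (Fin n)))) (q : ℕ) [hq : Fact q.Prime] (h2 : q ≠ 2)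
    (h : n < q ^ 2) (Q : Sylow q G) : IsMulCommutative (Q : Subgroup G) := by
  have cen : ∀ σ : Perm (Fin n), (∀ x : alternatingGroup (Fin n), σ * x.1 * σ⁻¹ = x.1) → σ = 1 := by
    intro σ hσ
    have : σ ∈ centralizer (alternatingGroup (Fin n) : Set (Perm (Fin n))) := fun x hx =>
      (mul_inv_eq_iff_eq_mul.1 (hσ ⟨x, hx⟩)).symm
    rwa [cenA hn, mem_bot] at this
  have inj : Function.Injective (MulAut.conjNormal : Perm (Fin n) →* MulAut (alternatingGroup (Fin n))) :=
    (injective_iff_map_eq_one _).2 fun σ hσ => cen σ fun x => congrArg Subtype.val (DFunLike.congr_fun hσ x)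
  by_cases h6 : n = 6
  · subst h6
    have h1 := card_dvd_of_injective _ inj
    rw [Nat.card_perm, Nat.card_eq_fintype_card (α := Fin 6), Fintype.card_fin] at h1
    have h3 := H8.Cl5.a6
    have h4 : Nat.card (MulAut (alternatingGroup (Fin 6))) ∣ 2 ^ 5 * 45 := by
      obtain ⟨c, hc⟩ := h1
      have : 0 < Nat.card (MulAut (alternatingGroup (Fin 6))) := Nat.card_pos
      simp only [Nat.factorial] at hc
      have : c = 1 ∨ c = 2 := by omega
      rcases this with rfl | rfl <;> rw [hc] <;> norm_num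
    obtain ⟨k, hk⟩ := Q.2.exists_card_eq
    have h5 : q ^ k ∣ 2 ^ 5 * 45 := hk ▸ ((card_subgroup_dvd_card _).trans (card_subgroup_dvd_card G)).trans h4
    have h7 : q ^ k ∣ 45 := (((Nat.coprime_primes hq.out Nat.prime_two).2 h2).pow k 5).dvd_of_dvd_mul_left h5
    have h8 : k < 3 := by
      by_contra hc
      have h9 : q ^ 3 ∣ 45 := (pow_dvd_pow _ (by omega)).trans h7
      have : q ≤ 45 := Nat.le_of_dvd (by norm_num) ((dvd_pow_self q (by norm_num)).trans h9)
      have := hq.out.two_le
      interval_cases q <;> omega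
    by_cases h9 : k = 2
    · exact IsPGroup.isMulCommutative_of_card_eq_prime_sq (p := q) (h9 ▸ hk)
    · haveI : IsCyclic (Q : Subgroup G) := isCyclic_of_card_dvd_prime (p := q) (by
        rw [hk]
        interval_cases k <;> simp_all)
      infer_instance
  · have sur : Function.Surjective (MulAut.conjNormal : Perm (Fin n) →* MulAut (alternatingGroup (Fin n))) := fun φ => by
      obtain ⟨σ, hσ⟩ := H5.aut_alt (by simp; omega) (by simpa using h6) φ
      exact ⟨σ, MulEquiv.ext fun x => Subtype.ext (hσ x).symm⟩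
    let e := MulEquiv.ofBijective _ ⟨inj, sur⟩
    let f : (Q : Subgroup G) →* Perm (Fin n) := e.symm.toMonoidHom.comp (G.subtype.comp (Q : Subgroup G).subtype)
    have hf : Function.Injective f := e.symm.injective.comp (Subtype.val_injective.comp Subtype.val_injective)
    letI : MulAction (Q : Subgroup G) (Fin n) := MulAction.compHom _ f
    haveI : FaithfulSMul (Q : Subgroup G) (Fin n) := ⟨fun h => hf (Equiv.ext h)⟩
    exact ⟨⟨comm_of_small (Ω := Fin n) Q.2 (by simpa using h)⟩⟩

/-- Let n ≥ 5 and let G be a group of automorphisms of the alternating group of degree n containing all inner automorphisms. If p ≠ q are primes and G has no element of order pq, then every Sylow p-subgroup of G is abelian or every Sylow q-subgroup of G is abelian. -/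
theorem result (n : ℕ) (hn : 5 ≤ n) (G : Subgroup (MulAut (alternatingGroup (Fin n))))
    (hG : (MulAut.conj : alternatingGroup (Fin n) →* MulAut (alternatingGroup (Fin n))).range ≤ G)
    (p q : ℕ) [Fact p.Prime] [Fact q.Prime] (hpq : p ≠ q) (h : ∀ g : G, orderOf g ≠ p * q) :
    (∀ P : Sylow p G, IsMulCommutative (P : Subgroup G)) ∨ (∀ Q : Sylow q G, IsMulCommutative (Q : Subgroup G)) := by
  have hp : p.Prime := Fact.out
  have hq : q.Prime := Fact.out
  have key : ∀ g : alternatingGroup (Fin n), orderOf g ≠ p * q := fun g hg => by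
    refine h ⟨MulAut.conj g, hG ⟨g, rfl⟩⟩ ?_
    rw [← orderOf_coe, ← hg]
    refine orderOf_injective _ ((injective_iff_map_eq_one _).2 fun x hx => ?_) g
    have : x.1 ∈ centralizer (alternatingGroup (Fin n) : Set (Perm (Fin n))) := fun y hy => by
      have := congrArg Subtype.val (DFunLike.congr_fun hx ⟨y, hy⟩)
      exact (mul_inv_eq_iff_eq_mul.1 this).symm
    rw [cenA hn, mem_bot] at this
    exact Subtype.ext this
  have two : ∀ r : ℕ, r.Prime → r ≠ 2 → r ^ 2 ≤ n → ∃ g : alternatingGroup (Fin n), orderOf g = 2 * r := by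
    intro r hr h2 h3
    have := hr.two_le
    have ho := hr.odd_of_ne_two h2
    obtain ⟨g, hg⟩ := ex n {2, 2, r} (by simp; nlinarith [show 3 ≤ r by omega]) (by simp [this]) (by
      simp [parity_simps, ho])
    refine ⟨g, hg.trans ?_⟩
    have := ((Nat.coprime_primes Nat.prime_two hr).2 h2.symm).lcm_eq_mul
    simp only [Multiset.insert_eq_cons, Multiset.lcm_cons, Multiset.lcm_singleton, normalize_eq, lcm_eq_nat_lcm, this]
    exact Nat.lcm_eq_right (Dvd.intro _ rfl)
  by_contra hc
  rw [not_or] at hc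
  have h1 : p = 2 ∨ p ^ 2 ≤ n := by
    by_contra h'
    push Not at h'
    exact hc.1 (main n hn G p h'.1 h'.2)
  have h2 : q = 2 ∨ q ^ 2 ≤ n := by
    by_contra h'
    push Not at h'
    exact hc.2 (main n hn G q h'.1 h'.2)
  by_cases p2 : p = 2
  · subst p2
    obtain ⟨g, hg⟩ := two q hq hpq.symm (h2.resolve_left hpq.symm)
    exact key g hg
  by_cases q2 : q = 2
  · subst q2
    obtain ⟨g, hg⟩ := two p hp p2 (h1.resolve_left p2)
    exact key g (hg.trans (mul_comm _ _))
  have h3 := h1.resolve_left p2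
  have h4 := h2.resolve_left q2
  have := hp.two_le
  have := hq.two_le
  obtain ⟨g, hg⟩ := ex n {p, q} (by simp; nlinarith) (by simp [*]) (by
    simp [parity_simps, hp.odd_of_ne_two p2, hq.odd_of_ne_two q2, Nat.not_even_iff_odd.2 (hp.odd_of_ne_two p2),
      Nat.not_even_iff_odd.2 (hq.odd_of_ne_two q2)])
  refine key g (hg.trans ?_)
  have := ((Nat.coprime_primes hp hq).2 hpq).lcm_eq_mul
  simp only [Multiset.insert_eq_cons, Multiset.lcm_cons, Multiset.lcm_singleton, normalize_eq, lcm_eq_nat_lcm, this]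

end Cfsg.Agent.S4231
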