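import Cfsg.Statements.S2930
import Mathlib
import Cfsg.Agent.S2929
import Cfsg.Agent.S2119
import Cfsg.Agent.S4231
import Cfsg.Agent.H8.Cl5

set_option autoImplicit false
open Cfsg

namespace Cfsg.Agent.S2930

open scoped Pointwise
open Equiv Subgroup

lemma tau_ex {Ω : Type} [Fintype Ω] [DecidableEq Ω] (Q : Subgroup (Perm Ω)) (hQ : IsPGroup 3 Q) (hf : ∀ a, ∃ g ∈ Q, g a ≠ a) :
    ∃ τ : Perm Ω, τ ^ 3 = 1 ∧ (∀ g ∈ Q, g * τ = τ * g) ∧ ∀ a, τ a ≠ a := by
  classical
  haveI : Fact (Nat.Prime 3) := ⟨Nat.prime_three⟩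
  obtain ⟨τ, hτ, hmax⟩ := Finset.exists_max_image (Finset.univ.filter (fun τ : Perm Ω => τ ^ 3 = 1 ∧ ∀ g ∈ Q, g * τ = τ * g)) (fun τ => τ.support.card)
    ⟨1, by simp⟩
  obtain ⟨h1, h2⟩ := (Finset.mem_filter.1 hτ).2
  refine ⟨τ, h1, h2, fun a ha => ?_⟩
  have hF : ∀ g ∈ Q, ∀ y, τ (g y) = g y ↔ τ y = y := by
    intro g hg y
    have : τ (g y) = g (τ y) := (congrArg (fun f : Perm Ω => f y) (h2 g hg)).symm
    rw [this, g.injective.eq_iff]
  have hσ : ∃ σ : Perm Ω, σ ≠ 1 ∧ σ ^ 3 = 1 ∧ (∀ y, τ y = y ∨ σ y = y) ∧ ∀ g ∈ Q, g * σ = σ * g := by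
    let ρ : Q →* Perm Ω :=
      { toFun := fun g => Perm.ofSubtype (Perm.subtypePerm (p := fun y => τ y = y) (g : Perm Ω) (hF g g.2))
        map_one' := by
          ext y
          by_cases hy : τ y = y
          · rw [Perm.ofSubtype_apply_of_mem (p := fun y => τ y = y) _ hy]; rfl
          · rw [Perm.ofSubtype_apply_of_not_mem (p := fun y => τ y = y) _ hy]; rfl
        map_mul' := fun g h => by
          rw [← map_mul]; congr 1 }
    have hρ1 : ∀ (g : Q) y, τ y = y → ρ g y = (g : Perm Ω) y := fun g y hy =>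
      Perm.ofSubtype_apply_of_mem (p := fun y => τ y = y) _ hy
    have hρ2 : ∀ (g : Q) y, ¬ τ y = y → ρ g y = y := fun g y hy =>
      Perm.ofSubtype_apply_of_not_mem (p := fun y => τ y = y) _ hy
    have hR : ρ.range ≠ ⊥ := fun hR => by
      obtain ⟨g, hg, hga⟩ := hf a
      have : ρ ⟨g, hg⟩ = 1 := Subgroup.mem_bot.1 (hR ▸ ⟨_, rfl⟩)
      have h3 := hρ1 ⟨g, hg⟩ a ha
      rw [this] at h3
      exact hga h3.symm
    have hR2 : IsPGroup 3 ρ.range := hQ.of_surjective ρ.rangeRestrict ρ.rangeRestrict_surjective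
    haveI : Nontrivial ρ.range := (Subgroup.nontrivial_iff_ne_bot _).2 hR
    haveI := hR2.center_nontrivial
    have hZ : IsPGroup 3 (Subgroup.center ρ.range) := hR2.to_subgroup _
    obtain ⟨m, hm0, hm⟩ := hZ.nontrivial_iff_card.1 inferInstance
    obtain ⟨z, hz⟩ := exists_prime_orderOf_dvd_card' (G := Subgroup.center ρ.range) 3 (hm ▸ dvd_pow_self 3 hm0.ne')
    obtain ⟨g0, hg0⟩ := z.1.2
    have hz2 : ∀ y, ¬ τ y = y → (z.1 : Perm Ω) y = y := fun y hy => by rw [← hg0]; exact hρ2 g0 y hy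
    have hz1 : ∀ y, τ y = y → τ ((z.1 : Perm Ω) y) = (z.1 : Perm Ω) y := fun y hy => by
      rw [← hg0, hρ1 g0 y hy]; exact (hF _ g0.2 y).2 hy
    refine ⟨z.1, fun e => ?_, ?_, fun y => ?_, fun g hg => ?_⟩
    · have : z = 1 := Subtype.ext (Subtype.ext e)
      rw [this, orderOf_one] at hz; omega
    · have := pow_orderOf_eq_one z
      rw [hz] at this
      exact congrArg (fun w : Subgroup.center ρ.range => (w.1 : Perm Ω)) this
    · by_cases hy : τ y = y
      · exact Or.inl hy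
      · exact Or.inr (hz2 y hy)
    · ext y
      by_cases hy : τ y = y
      · have := congrArg (fun w : ρ.range => (w : Perm Ω) y) (Subgroup.mem_center_iff.1 z.2 ⟨ρ ⟨g, hg⟩, ⟨_, rfl⟩⟩)
        simp only [Subgroup.coe_mul, Perm.mul_apply] at this
        rw [hρ1 _ _ (hz1 y hy), hρ1 _ _ hy] at this
        exact this
      · simp only [Perm.mul_apply]
        rw [hz2 y hy, hz2 _ (fun e => hy ((hF g hg y).1 e))]
  obtain ⟨σ, s1, s2, s3, s4⟩ := hσ
  have hd : Perm.Disjoint τ σ := s3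
  have := hmax (τ * σ) (Finset.mem_filter.2 ⟨Finset.mem_univ _, ?_, fun g hg => ?_⟩)
  · rw [hd.card_support_mul] at this
    have h0 : σ.support.card = 0 := by omega
    exact s1 (Perm.card_support_eq_zero.1 h0)
  · rw [hd.commute.mul_pow, h1, s2, one_mul]
  · rw [← mul_assoc, h2 g hg, mul_assoc, s4 g hg, mul_assoc]

lemma cl3 {Ω : Type} [Fintype Ω] [DecidableEq Ω] {τ : Perm Ω} (h : τ ^ 3 = 1) (hf : ∀ a, τ a ≠ a) (x : Ω) :
    (∀ y, τ.SameCycle x y ↔ y ∈ ({x, τ x, τ (τ x)} : Finset Ω)) ∧ ({x, τ x, τ (τ x)} : Finset Ω).card = 3 := by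
  have h3 : ∀ p, τ (τ (τ p)) = p := fun p => by simpa [pow_succ] using congrArg (· p) h
  refine ⟨fun y => ⟨fun hs => ?_, fun hy => ?_⟩, ?_⟩
  · obtain ⟨i, hi, rfl⟩ := hs.exists_pow_eq'
    have := Nat.le_of_dvd (by norm_num) (orderOf_dvd_of_pow_eq_one h)
    have : i < 3 := by omega
    interval_cases i <;> simp [pow_succ]
  · simp only [Finset.mem_insert, Finset.mem_singleton] at hy
    rcases hy with rfl | rfl | rfl
    · exact Perm.SameCycle.refl _ _
    · exact ⟨1, rfl⟩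
    · exact ⟨2, rfl⟩
  · refine Finset.card_eq_three.2 ⟨_, _, _, (hf x).symm, fun e => hf x ?_, (hf _).symm, rfl⟩
    have := h3 x
    rwa [← e] at this

def KC {Ω β : Type} (c : Ω → β) : Subgroup (Perm Ω) where
  carrier := {g | ∀ x y, c x = c y ↔ c (g x) = c (g y)}
  mul_mem' := fun ha hb x y => (hb x y).trans (ha _ _)
  one_mem' := fun _ _ => Iff.rfl
  inv_mem' := fun {g} hg x y => by simpa using (hg (g⁻¹ x) (g⁻¹ y)).symm

lemma BL {Ω β : Type} [Fintype Ω] [DecidableEq Ω] [DecidableEq β] (c : Ω → β) (hc : ∀ b, Nat.card {x // c x = b} = 3) (b b' : β) :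
    ∃ g : Perm Ω, Perm.sign g = 1 ∧ (∀ x, c (g x) = swap b b' (c x)) ∧ ∀ x, c x ≠ b → c x ≠ b' → g x = x := by
  have e1 : ∀ i, {x : Ω // c x = i} ≃ Fin 3 := fun i =>
    Fintype.equivOfCardEq (by rw [← Nat.card_eq_fintype_card, hc i]; simp)
  let e : Ω ≃ β × Fin 3 := (Equiv.sigmaFiberEquiv c).symm.trans ((Equiv.sigmaCongrRight e1).trans (Equiv.sigmaEquivProd _ _))
  have he : ∀ x, (e x).1 = c x := fun x => rfl
  let g0 : Perm Ω := e.trans ((Equiv.prodCongrLeft (fun _ : Fin 3 => swap b b')).trans e.symm)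
  have a0 : ∀ x, g0 x = e.symm (swap b b' (e x).1, (e x).2) := fun x => rfl
  have a1 : ∀ x, c (g0 x) = swap b b' (c x) := fun x => by rw [← he, a0, apply_symm_apply, he]
  have a2 : ∀ x, c x ≠ b → c x ≠ b' → g0 x = x := fun x h1 h2 => by
    rw [a0, he, swap_apply_of_ne_of_ne h1 h2, ← he]; simp
  rcases Int.units_eq_one_or (Perm.sign g0) with h | h
  · exact ⟨g0, h, a1, a2⟩
  · have c1 : c (e.symm (b, 0)) = b := by rw [← he, apply_symm_apply]
    have c2 : c (e.symm (b, 1)) = b := by rw [← he, apply_symm_apply]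
    refine ⟨g0 * swap (e.symm (b, 0)) (e.symm (b, 1)), by rw [map_mul, h, Perm.sign_swap (by simp)]; simp, fun x => ?_, fun x h1 h2 => ?_⟩
    · rw [Perm.mul_apply, a1, swap_apply_def (e.symm (b, 0))]
      split_ifs with k1 k2
      · rw [k1, c1, c2]
      · rw [k2, c1, c2]
      · rfl
    · rw [Perm.mul_apply, swap_apply_of_ne_of_ne (by rintro rfl; exact h1 c1) (by rintro rfl; exact h1 c2), a2 x h1 h2]

lemma main {Ω : Type} [Fintype Ω] [DecidableEq Ω] (h5 : 5 ≤ Fintype.card Ω) (P M : Subgroup (Perm Ω)) (hP : IsPGroup 3 P) (hM : ¬ alternatingGroup Ω ≤ M)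
    (U : ∀ K : Subgroup (Perm Ω), P ≤ K → ¬ alternatingGroup Ω ≤ K → K ⊓ alternatingGroup Ω ≤ M) :
    Fintype.card Ω = 6 ∨ Fintype.card Ω = 9 ∨ ∃ a : ℕ, 2 ≤ a ∧ Fintype.card Ω = 3 ^ a + 1 := by
  classical
  haveI : Fact (Nat.Prime 3) := ⟨Nat.prime_three⟩
  let J : Ω → Ω → Prop := fun x y => ∃ t ∈ M, t.IsThreeCycle ∧ t x ≠ x ∧ t y ≠ y
  have fin : ∀ u, (∀ Δ : Finset Ω, u ∈ Δ → (∀ x ∈ Δ, ∀ y, J x y → y ∈ Δ) → ∀ y, y ∈ Δ) → ∀ v, J u v → False := by
    rintro u h v ⟨t, t1, t2, t3, -⟩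
    obtain ⟨Δ, a1, a2, a3⟩ := S2929.cls M t2 t1
    have := h Δ ((S2929.mem_AA.1 a1).1 u t3) (fun x hx y ⟨s, s1, s2, s3, s4⟩ => (S2929.mem_AA.1 (a3 s s1 s2 x hx s3)).1 y s4)
    exact hM (fun g hg => a2 (S2929.mem_AA.2 ⟨fun x _ => this x, Perm.mem_alternatingGroup.1 hg⟩))
  have UK : ∀ {β : Type} (c : Ω → β), P ≤ KC c → ∀ x y z w, x ≠ y → x ≠ z → y ≠ z → c x = c y → c x = c z → c w ≠ c x → KC c ⊓ alternatingGroup Ω ≤ M ∧ J x y := by
    intro β c hc x y z w e1 e2 e3 c1 c2 c3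
    have w1 : w ≠ x := by rintro rfl; exact c3 rfl
    have w2 : w ≠ y := by rintro rfl; exact c3 c1.symm
    have w3 : w ≠ z := by rintro rfl; exact c3 c2.symm
    have hU := U (KC c) hc (fun h => by
      have := (h (Perm.isThreeCycle_swap_mul_swap_same e3 w2.symm w3.symm).mem_alternatingGroup x y).1 c1
      simp only [Perm.mul_apply, swap_apply_left, swap_apply_of_ne_of_ne e1 w1.symm, swap_apply_of_ne_of_ne e1 e2, swap_apply_of_ne_of_ne w2 w3] at this
      exact c3 this.symm)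
    have h3 := Perm.isThreeCycle_swap_mul_swap_same e1 e2 e3
    refine ⟨hU, _, hU ⟨?_, h3.mem_alternatingGroup⟩, h3, ?_, ?_⟩
    · have : ∀ u, c ((swap x y * swap x z) u) = c u := fun u => by
        simp only [Perm.mul_apply, swap_apply_def]
        split_ifs <;> simp_all
      intro u v; rw [this, this]
    · simp [swap_apply_of_ne_of_ne e2.symm e3.symm, e2.symm]
    · simp [swap_apply_of_ne_of_ne e1.symm e3, e1]
  have JS : ∀ Γ : Finset Ω, (∀ g ∈ P, ∀ x ∈ Γ, g x ∈ Γ) → 3 ≤ Γ.card → ∀ w ∉ Γ, ∀ x ∈ Γ, ∀ y ∈ Γ, x ≠ y → J x y := by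
    intro Γ h h3 w hw x hx y hy e
    obtain ⟨z, hz, hz'⟩ : ∃ z ∈ Γ, z ∉ ({x, y} : Finset Ω) := Finset.exists_mem_notMem_of_card_lt_card (by
      have := Finset.card_le_two (a := x) (b := y); omega)
    simp only [Finset.mem_insert, Finset.mem_singleton, not_or] at hz'
    have hi : ∀ g ∈ P, ∀ x, g x ∈ Γ ↔ x ∈ Γ := fun g hg x => ⟨fun e => by simpa using h _ (P.inv_mem hg) _ e, h g hg x⟩
    exact (UK (fun x => decide (x ∈ Γ)) (fun g hg u v => by simp only [hi g hg]) x y z w e (Ne.symm hz'.1) (Ne.symm hz'.2)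
      (by simp [hx, hy]) (by simp [hx, hz]) (by simp [hx, hw])).2
  have Jp : ∀ p, (∀ g ∈ P, g p = p) → ∀ x y, x ≠ p → y ≠ p → x ≠ y → J x y := fun p hp x y e1 e2 e3 =>
    JS {p}ᶜ (fun g hg x hx => by
      simp only [Finset.mem_compl, Finset.mem_singleton] at hx ⊢
      exact fun e => hx (g.injective (e.trans (hp g hg).symm))) (by rw [Finset.card_compl]; simp; omega) p (by simp) x (by simpa) y (by simpa) e3
  have finp : ∀ p, (∀ g ∈ P, g p = p) → ∀ x, x ≠ p → J x p → False := fun p hp x e hj =>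
    fin x (fun Δ hx h y => by
      by_cases e1 : y = p
      · exact h x hx y (e1 ▸ hj)
      by_cases e2 : x = y
      · exact e2 ▸ hx
      exact h x hx y (Jp p hp x y e e1 e2)) p hj
  by_cases hfix : ∃ p, ∀ g ∈ P, g p = p
  · obtain ⟨p, hp⟩ := hfix
    obtain ⟨x, -, hx⟩ : ∃ z ∈ Finset.univ, z ∉ ({p} : Finset Ω) := Finset.exists_mem_notMem_of_card_lt_card (by simp; omega)
    rw [Finset.mem_singleton] at hx
    by_cases hq : ∀ g ∈ P, g x = x
    · exfalso
      obtain ⟨z, -, hz⟩ : ∃ z ∈ Finset.univ, z ∉ ({p, x} : Finset Ω) := Finset.exists_mem_notMem_of_card_lt_card (by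
        have := Finset.card_le_two (a := p) (b := x); rw [Finset.card_univ]; omega)
      simp only [Finset.mem_insert, Finset.mem_singleton, not_or] at hz
      exact finp p hp z hz.1 (Jp x hq z p hz.2 (Ne.symm hx) hz.1)
    push Not at hq
    obtain ⟨g, hg, hgx⟩ := hq
    let O := (MulAction.orbit P x).toFinset
    have hO : ∀ y, y ∈ O ↔ ∃ h ∈ P, h x = y := fun y => by
      simp only [O, Set.mem_toFinset, MulAction.mem_orbit_iff]
      exact ⟨fun ⟨h, e⟩ => ⟨h, h.2, e⟩, fun ⟨h, hh, e⟩ => ⟨⟨h, hh⟩, e⟩⟩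
    have hpO : p ∉ O := fun h => by
      obtain ⟨h, hh, e⟩ := (hO p).1 h
      exact hx (h.injective (e.trans (hp h hh).symm))
    by_cases hall : ∀ w, w ∈ insert p O
    · obtain ⟨a, ha⟩ := hP.card_orbit x
      have h1 : (insert p O).card = Fintype.card Ω := by rw [Finset.eq_univ_iff_forall.2 hall, Finset.card_univ]
      rw [Finset.card_insert_of_notMem hpO, Set.toFinset_card, ← Nat.card_eq_fintype_card, ha] at h1
      refine Or.inr (Or.inr ⟨a, ?_, h1.symm⟩)
      by_contra h2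
      have : a < 2 := by omega
      interval_cases a <;> omega
    · exfalso
      push Not at hall
      obtain ⟨w, hw⟩ := hall
      have hxO : x ∈ O := (hO x).2 ⟨1, P.one_mem, rfl⟩
      refine finp p hp x hx (JS (insert p O) (fun h hh y hy => ?_) ?_ w hw x (Finset.mem_insert_of_mem hxO) p (Finset.mem_insert_self _ _) hx)
      · rcases Finset.mem_insert.1 hy with rfl | hy
        · rw [hp h hh]; exact Finset.mem_insert_self _ _
        · obtain ⟨k, hk, rfl⟩ := (hO y).1 hy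
          exact Finset.mem_insert_of_mem ((hO _).2 ⟨h * k, P.mul_mem hh hk, rfl⟩)
      · rw [Finset.card_insert_of_notMem hpO]
        have := Finset.one_lt_card.2 ⟨x, hxO, g x, (hO _).2 ⟨g, hg, rfl⟩, hgx.symm⟩
        omega
  push Not at hfix
  obtain ⟨τ, t1, t2, t3⟩ := tau_ex P hP hfix
  let β := Quotient (Perm.SameCycle.setoid τ)
  let c : Ω → β := Quotient.mk _
  have hc : ∀ x y, c x = c y ↔ τ.SameCycle x y := fun x y => Quotient.eq
  have hfib : ∀ x, Finset.univ.filter (fun y => c y = c x) = {x, τ x, τ (τ x)} := fun x => by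
    ext y; rw [← (cl3 t1 t3 x).1, Finset.mem_filter, eq_comm, hc]; simp
  have hc3 : ∀ b, Nat.card {x // c x = b} = 3 := by
    rintro ⟨x⟩
    rw [Nat.card_eq_fintype_card, Fintype.card_subtype]
    have := (congrArg Finset.card (hfib x)).trans (cl3 t1 t3 x).2
    convert this
    exact Iff.rfl
  have hn : Fintype.card Ω = Fintype.card β * 3 := by
    rw [← Fintype.card_congr (Equiv.sigmaFiberEquiv c), Fintype.card_sigma]
    simp only [← Nat.card_eq_fintype_card, hc3]; simp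
  by_contra hne
  have h4 : 4 ≤ Fintype.card β := by omega
  have hPK : P ≤ KC c := fun g hg x y => by
    rw [hc, hc]
    have := Perm.sameCycle_conj (f := τ) (g := g) (x := g x) (y := g y)
    rw [mul_inv_eq_iff_eq_mul.2 (t2 g hg)] at this
    simpa using this.symm
  have other : ∀ x, ∃ w, c w ≠ c x := fun x => by
    haveI : Nontrivial β := Fintype.one_lt_card_iff_nontrivial.1 (by omega)
    obtain ⟨⟨w⟩, hw⟩ := exists_ne (c x)
    exact ⟨w, hw⟩
  have third : ∀ x y, ∃ z, c x = c z ∧ x ≠ z ∧ y ≠ z := fun x y => by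
    obtain ⟨z, hz, hz'⟩ : ∃ z ∈ Finset.univ.filter (fun y => c y = c x), z ∉ ({x, y} : Finset Ω) := Finset.exists_mem_notMem_of_card_lt_card (by
      have := Finset.card_le_two (a := x) (b := y); rw [hfib, (cl3 t1 t3 x).2]; omega)
    simp only [Finset.mem_insert, Finset.mem_singleton, not_or] at hz'
    exact ⟨z, (Finset.mem_filter.1 hz).2.symm, Ne.symm hz'.1, Ne.symm hz'.2⟩
  have blk : ∀ x y, c x = c y → x ≠ y → KC c ⊓ alternatingGroup Ω ≤ M ∧ J x y := fun x y h e => by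
    obtain ⟨z, z1, z2, z3⟩ := third x y
    obtain ⟨w, hw⟩ := other x
    exact UK c hPK x y z w e z2 z3 h z1 hw
  have link : ∀ u v, c u ≠ c v → J u v → False := by
    intro u v huv hj
    refine fin u (fun Δ hu h y => ?_) v hj
    have inb : ∀ x ∈ Δ, ∀ y, c x = c y → y ∈ Δ := fun x hx y e => by
      by_cases e' : x = y
      · exact e' ▸ hx
      · exact h x hx y (blk x y e e').2
    by_cases e : c u = c y
    · exact inb u hu y e
    obtain ⟨g, g1, g2, g3⟩ := BL c hc3 (c v) (c y)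
    have gM : g ∈ M := (blk u (τ u) ((hc _ _).2 ⟨1, rfl⟩) (t3 u).symm).1 ⟨fun a b => by rw [g2, g2, (swap _ _).injective.eq_iff], Perm.mem_alternatingGroup.2 g1⟩
    obtain ⟨t, s1, s2, s3, s4⟩ := hj
    refine inb (g v) (h u hu _ ⟨g * t * g⁻¹, M.mul_mem (M.mul_mem gM s1) (M.inv_mem gM), ?_, ?_, ?_⟩) y (by rw [g2, swap_apply_left])
    · show _ = _
      rw [Perm.cycleType_conj]; exact s2
    · rw [← g3 u huv e]; simpa using s3
    · simpa using s4
  let π : KC c →* Perm β :=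
    { toFun := fun g => Quotient.congr (g : Perm Ω) (fun a b => by
        show τ.SameCycle a b ↔ τ.SameCycle _ _
        rw [← hc, ← hc]; exact g.2 a b)
      map_one' := by ext ⟨a⟩; rfl
      map_mul' := fun g h => by ext ⟨a⟩; rfl }
  have hπ : ∀ (g : KC c) x, π g (c x) = c ((g : Perm Ω) x) := fun g x => rfl
  by_cases hb : ∀ b : β, ∃ g ∈ (P.comap (KC c).subtype).map π, g b ≠ b
  · obtain ⟨σ, s1, s2, s3⟩ := tau_ex _ ((hP.comap_subtype (K := KC c)).map π) hb
    let d : Ω → Quotient (Perm.SameCycle.setoid σ) := fun x => Quotient.mk _ (c x)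
    have hd : ∀ x y, d x = d y ↔ σ.SameCycle (c x) (c y) := fun x y => Quotient.eq
    have hPd : P ≤ KC d := fun g hg x y => by
      rw [hd, hd, ← hπ ⟨g, hPK hg⟩, ← hπ ⟨g, hPK hg⟩]
      have := Perm.sameCycle_conj (f := σ) (g := π ⟨g, hPK hg⟩) (x := π ⟨g, hPK hg⟩ (c x)) (y := π ⟨g, hPK hg⟩ (c y))
      rw [mul_inv_eq_iff_eq_mul.2 (s2 _ ⟨⟨g, hPK hg⟩, hg, rfl⟩)] at this
      simpa using this.symm
    obtain ⟨u⟩ : Nonempty Ω := Fintype.card_pos_iff.1 (by omega)
    obtain ⟨v, hv⟩ := Quotient.exists_rep (σ (c u))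
    have hv' : c v = σ (c u) := hv
    obtain ⟨⟨w⟩, -, hw⟩ : ∃ z ∈ Finset.univ, z ∉ ({c u, σ (c u), σ (σ (c u))} : Finset β) := Finset.exists_mem_notMem_of_card_lt_card (by
      rw [(cl3 s1 s3 (c u)).2, Finset.card_univ]; omega)
    have huv : c u ≠ c v := by rw [hv']; exact (s3 _).symm
    obtain ⟨z, z1, z2, z3⟩ := third u v
    refine link u v huv (UK d hPd u v z w (fun e => huv (by rw [e])) z2 z3 ((hd _ _).2 ⟨1, hv'.symm⟩) (by simp only [d, z1]) (fun e => hw ?_)).2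
    exact ((cl3 s1 s3 (c u)).1 _).1 ((hd _ _).1 e.symm)
  · push Not at hb
    obtain ⟨⟨x⟩, hx⟩ := hb
    have hx' : ∀ g ∈ P, c (g x) = c x := fun g hg => hx _ ⟨⟨g, hPK hg⟩, hg, rfl⟩
    obtain ⟨u, hu⟩ := other x
    obtain ⟨⟨v⟩, -, hv⟩ : ∃ z ∈ Finset.univ, z ∉ ({c x, c u} : Finset β) := Finset.exists_mem_notMem_of_card_lt_card (by
      have := Finset.card_le_two (a := c x) (b := c u); rw [Finset.card_univ]; omega)
    replace hv : c v ≠ c x ∧ c v ≠ c u := ⟨fun e => hv (Finset.mem_insert.2 (Or.inl e)), fun e => hv (Finset.mem_insert.2 (Or.inr (Finset.mem_singleton.2 e)))⟩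
    have huv : c u ≠ c v := Ne.symm hv.2
    refine link u v huv (JS (Finset.univ.filter (fun y => c y = c x))ᶜ (fun g hg y hy => ?_) ?_ x (by simp) u (by simpa using hu) v (by simpa using hv.1) (fun e => huv (by rw [e])))
    · simp only [Finset.mem_compl, Finset.mem_filter, Finset.mem_univ, true_and] at hy ⊢
      exact fun e => hy ((hPK hg y x).2 (e.trans (hx' g hg).symm))
    · rw [Finset.card_compl, hfib, (cl3 t1 t3 x).2]; omega

/-- Let X be a finite 3-minimal group (a Sylow 3-subgroup is not normal and lies in a unique maximal subgroup) whose generalized Fitting subgroup is isomorphic to an alternating group of degree n ≥ 5. Then X = F*(X), and n = 6, n = 9, or n = 3ᵃ + 1 for some a ≥ 2. -/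
theorem result {X : Type*} [Group X] [Finite X] (hX : Cfsg.IsPMinimal 3 X) (n : ℕ) (hn : 5 ≤ n) (hF : Nonempty (↥(Cfsg.generalizedFittingSubgroup X) ≃* ↥(alternatingGroup (Fin n)))) : Cfsg.generalizedFittingSubgroup X = ⊤ ∧ (n = 6 ∨ n = 9 ∨ ∃ a : ℕ, 2 ≤ a ∧ n = 3 ^ a + 1) := by
  classical
  haveI : Fact (Nat.Prime 3) := ⟨Nat.prime_three⟩
  obtain ⟨e⟩ := hF
  have hC : ⊤ ⊓ centralizer ((Cfsg.generalizedFittingSubgroup X : Subgroup X) : Set X) ≤ Cfsg.generalizedFittingSubgroup X := by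
    rw [← H9.Fst_top]; exact H9.centralizer_Fst_le ⊤
  haveI hN : (Cfsg.generalizedFittingSubgroup X).Normal := by
    rw [← H9.Fst_top]; exact normalizer_eq_top_iff.1 (top_le_iff.1 (H9.le_normalizer_Fst ⊤))
  generalize Cfsg.generalizedFittingSubgroup X = L at *
  haveI : Nontrivial (Fin n) := Fin.nontrivial_iff_two_le.2 (by omega)
  have inj : Function.Injective (MulAut.conjNormal : Perm (Fin n) →* MulAut (alternatingGroup (Fin n))) :=
    (injective_iff_map_eq_one _).2 fun σ hσ => by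
      have : σ ∈ centralizer (alternatingGroup (Fin n) : Set (Perm (Fin n))) := fun x hx =>
        (mul_inv_eq_iff_eq_mul.1 (show σ * x * σ⁻¹ = x from congrArg (fun ψ : MulAut (alternatingGroup (Fin n)) => (ψ ⟨x, hx⟩).1) hσ)).symm
      rwa [S4231.cenA hn, mem_bot] at this
  have h2 := two_mul_nat_card_alternatingGroup (α := Fin n)
  have hA : Nat.card (MulAut (alternatingGroup (Fin n))) ∣ 4 * Nat.card (alternatingGroup (Fin n)) := by
    by_cases h6 : n = 6
    · subst h6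
      have a1 := H8.Cl5.a6
      obtain ⟨k, hk⟩ := card_dvd_of_injective _ inj
      have a2 : Nat.card (Perm (Fin 6)) = 720 := by rw [Nat.card_eq_fintype_card, Fintype.card_perm]; rfl
      have a3 : 0 < Nat.card (MulAut (alternatingGroup (Fin 6))) := Nat.card_pos
      rw [a2] at hk h2
      have : k = 1 ∨ k = 2 := by omega
      rw [hk, show Nat.card (alternatingGroup (Fin 6)) = 360 by omega]
      rcases this with rfl | rfl <;> norm_num
    · rw [← Nat.card_eq_of_bijective _ (S2119.result n (by omega) h6), ← h2]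
      exact Nat.mul_dvd_mul_right (by norm_num) _
  have inj2 : Function.Injective (MulAut.conjNormal : X →* MulAut L) :=
    (injective_iff_map_eq_one _).2 fun x hx => by
      have c1 : x ∈ centralizer (L : Set X) := fun y hy =>
        (mul_inv_eq_iff_eq_mul.1 (show x * y * x⁻¹ = y from congrArg (fun ψ : MulAut L => (ψ ⟨y, hy⟩).1) hx)).symm
      have c2 : x ∈ L := hC ⟨mem_top _, c1⟩
      have c3 : (e ⟨x, c2⟩ : Perm (Fin n)) ∈ centralizer (alternatingGroup (Fin n) : Set (Perm (Fin n))) := fun y hy => by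
        obtain ⟨z, hz⟩ := e.surjective ⟨y, hy⟩
        have : z * ⟨x, c2⟩ = ⟨x, c2⟩ * z := Subtype.ext (c1 z z.2)
        have := congrArg (fun w => (e w : Perm (Fin n))) this
        simpa [hz] using this
      rw [S4231.cenA hn, mem_bot] at c3
      exact congrArg Subtype.val (e.injective (Subtype.ext (c3.trans (by simp))) : (⟨x, c2⟩ : L) = 1)
  have hidx : L.index ∣ 4 := by
    have := (card_dvd_of_injective _ inj2).trans ((Nat.card_congr (MulAut.congr e).toEquiv) ▸ hA)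
    rw [← L.index_mul_card, Nat.card_congr e.toEquiv] at this
    exact Nat.dvd_of_mul_dvd_mul_right Nat.card_pos this
  obtain ⟨S⟩ : Nonempty (Sylow 3 X) := inferInstance
  obtain ⟨hS, M, ⟨hM, hSM⟩, hMu⟩ := hX S
  have UM : ∀ K : Subgroup X, K ≠ ⊤ → (S : Subgroup X) ≤ K → K ≤ M := fun K hK hSK => by
    obtain ⟨N, n1, n2⟩ := (eq_top_or_exists_le_coatom K).resolve_left hK
    rw [← hMu N ⟨n1, hSK.trans n2⟩]; exact n2
  have hSL : (S : Subgroup X) ≤ L := fun s hs => by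
    obtain ⟨k, hk⟩ := S.isPGroup' ⟨s, hs⟩
    have hk' : s ^ 3 ^ k = 1 := congrArg Subtype.val hk
    have d1 : orderOf (s : X ⧸ L) ∣ 3 ^ k := orderOf_dvd_of_pow_eq_one (by rw [← QuotientGroup.mk_pow, hk']; rfl)
    have d2 : orderOf (s : X ⧸ L) ∣ 4 := (_root_.orderOf_dvd_natCard _).trans hidx
    exact (QuotientGroup.eq_one_iff s).1 (orderOf_eq_one_iff.1 (Nat.eq_one_of_dvd_coprimes (Nat.Coprime.pow_left k (by norm_num)) d1 d2))
  have hL : L = ⊤ := by
    by_contra h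
    have := S.normalizer_sup_eq_top' hSL
    exact hM.1 (top_le_iff.1 (this ▸ sup_le (UM _ (fun e => hS (normalizer_eq_top_iff.1 e)) le_normalizer) (UM L h hSL)))
  refine ⟨hL, ?_⟩
  subst hL
  let f : X ≃* alternatingGroup (Fin n) := topEquiv.symm.trans e
  let φ : X →* Perm (Fin n) := (alternatingGroup (Fin n)).subtype.comp f.toMonoidHom
  have hφ : Function.Injective φ := Subtype.val_injective.comp f.injective
  have hs : ∀ g ∈ alternatingGroup (Fin n), ∃ x, φ x = g := fun g hg => ⟨f.symm ⟨g, hg⟩, by simp [φ]⟩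
  have := main (Ω := Fin n) (by simpa using hn) ((S : Subgroup X).map φ) (M.map φ) (S.isPGroup'.map φ) (fun h => hM.1 (top_le_iff.1 fun x _ => by
      obtain ⟨y, hy, e⟩ := h (f x).2
      exact hφ e ▸ hy)) (fun K h1 h2 g hg => by
      obtain ⟨x, rfl⟩ := hs g hg.2
      refine ⟨x, UM (K.comap φ) (fun e => h2 fun g hg => ?_) (map_le_iff_le_comap.1 h1) hg.1, rfl⟩
      obtain ⟨y, rfl⟩ := hs g hg
      exact (e ▸ mem_top y : y ∈ K.comap φ))
  simpa using this

end Cfsg.Agent.S2930
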