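import Cfsg.Statements.S2968
import Cfsg.Agent.H9.LE1

set_option autoImplicit false
open Cfsg

namespace Cfsg.Agent.S2968

/-- Let G be a finite group, p a prime, P a Sylow p-subgroup of G and x ∈ P an element of p-power order which is isolated in G (the only conjugate of x commuting with x is x itself). Then x lies in the centre of P, and the subgroup generated by x is both strongly closed and weakly closed in P with respect to G. -/
theorem result {G : Type*} [Group G] [Finite G] {p : ℕ} [Fact p.Prime] (P : Sylow p G) (x : G) (hxP : x ∈ (P : Subgroup G)) (hx : ∃ k : ℕ, orderOf x = p ^ k) (hiso : Cfsg.IsIsolated x) : x ∈ (P : Subgroup G) ⊓ Subgroup.centralizer ((P : Subgroup G) : Set G) ∧ Cfsg.IsStronglyClosed (Subgroup.zpowers x) (P : Subgroup G) ∧ Cfsg.IsWeaklyClosed (Subgroup.zpowers x) (P : Subgroup G) := by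
  open H9 Subgroup in open scoped commutatorElement in
  obtain ⟨k, hk⟩ := hx
  have h1 := isPGroup_zpowers_of_pow (p := p) (hk ▸ pow_orderOf_eq_one x)
  have h2 := iso_le hiso P.isPGroup' hxP
  have h3 : ∀ y ∈ zpowers x, ∀ g, g * y * g⁻¹ ∈ (P : Subgroup G) → g * y * g⁻¹ ∈ zpowers x := fun y hy g hg => by
    rwa [iso_pow hiso h1 hy (mem_centralizer_singleton_iff.1 (h2 hg)).symm]
  have h4 : IsStronglyClosed (zpowers x) (P : Subgroup G) := ⟨zpowers_le.2 hxP, h3⟩
  exact ⟨⟨hxP, le_centralizer_singleton_iff.1 h2⟩, h4, H2.stronglyClosed_weaklyClosed h4⟩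

end Cfsg.Agent.S2968
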