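import Cfsg.Statements.S2971
import Cfsg.Agent.H9.LE1

set_option autoImplicit false
open Cfsg

namespace Cfsg.Agent.S2971

/-- Let G be a finite group and p an odd prime such that G has p-rank at most 1 (no elementary abelian subgroup of order p²). If x ∈ G is an isolated element of order p, then x is central modulo the largest normal subgroup of G of order prime to p. -/
theorem result {G : Type*} [Group G] [Finite G] {p : ℕ} [Fact p.Prime] (hp : p ≠ 2) (hrk : Cfsg.PRankLE p 1 G) (x : G) (hx : orderOf x = p) (hiso : Cfsg.IsIsolated x) : Cfsg.InZStar p x := by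
  open H9 Subgroup in open scoped commutatorElement in
  have hc : ∀ P : Sylow p G, IsCyclic (P : Subgroup G) := fun P =>
    FT.isCyclic_of_rk_le_one P.isPGroup' (.inl hp) ((FT.rk_mono le_top).trans (FT.rk_top_le_iff.2 hrk))
  have h := iso_npc hiso (isPGroup_zpowers_of_orderOf hx) (by
    rintro rfl; exact (Fact.out : p.Prime).one_lt.ne (by simpa using hx)) hc
  obtain ⟨P⟩ : Nonempty (Sylow p G) := inferInstance
  have := hc P
  rw [inZ_iff, ← (npc_top_iff.2 h).Ores_eq, Ores_top]
  exact (commutator_mono le_rfl le_top).trans (H2.commutator_le_pResidual_of_comm P inferInstance)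

end Cfsg.Agent.S2971
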