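import Cfsg.Statements.S2972
import Cfsg.Agent.H9.LE1

set_option autoImplicit false
open Cfsg

namespace Cfsg.Agent.S2972

/-- Let G be a finite group, p a prime and x ∈ G an isolated element of order p (the only conjugate of x commuting with x is x) which is not central modulo the largest normal subgroup of order prime to p, while x is central modulo the largest normal subgroup of order prime to p in every proper subgroup containing x, and the image of x is so in every quotient of G by a nontrivial normal subgroup (a minimal counterexample to the Z*_p statement). Then the derived subgroup G' is a non-abelian simple group and G = G'⟨x⟩. -/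
theorem result {G : Type*} [Group G] [Finite G] {p : ℕ} [Fact p.Prime] (x : G) (hx : orderOf x = p) (hiso : Cfsg.IsIsolated x) (hnz : ¬ Cfsg.InZStar p x) (hmin : ∀ (H : Subgroup G) (hxH : x ∈ H), H ≠ ⊤ → Cfsg.InZStar p (⟨x, hxH⟩ : ↥H)) (hquot : ∀ (N : Subgroup G) [N.Normal], N ≠ ⊥ → Cfsg.InZStar p (QuotientGroup.mk x : G ⧸ N)) : IsSimpleGroup ↥(commutator G) ∧ ¬ IsMulCommutative ↥(commutator G) ∧ commutator G ⊔ Subgroup.zpowers x = ⊤ := by
  open H9 Subgroup in open scoped commutatorElement in
  have h0 := Op'_eq_bot_of_min hnz hquot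
  have h1 := isPGroup_zpowers_of_orderOf hx
  have nc : ¬ ⊤ ≤ centralizer ({x} : Set G) := fun e => hnz (inZ_iff.2 (by
    rw [← centralizer_zpowers, le_centralizer_iff'] at e; exact e ▸ bot_le))
  have h2 : ∀ N : Subgroup G, N.Normal → N ⊔ zpowers x ≠ ⊤ → N ≤ centralizer {x} := fun N _ e => by
    have a1 := (inZ_sub _).1 (hmin _ (mem_sup_right (mem_zpowers x)) e)
    rw [← centralizer_zpowers, le_centralizer_iff', eq_bot_iff, ← h0]
    exact (le_inf ((commutator_mono le_sup_left le_rfl).trans a1) (commutator_le_left _ _)).trans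
      ((Op'_inf_le le_sup_left).trans (SN.of_normal_top N).Op'_le_Op')
  have h3 : ∀ N : Subgroup G, N.Normal → x ∈ N → N = ⊤ := fun N _ hN => by_contra fun e => nc (by
    rw [← iso_sup hiso h1 le_top le_normalizer_of_normal hN]
    exact sup_le (h2 N inferInstance (by rwa [sup_eq_left.2 (zpowers_le.2 hN)])) inf_le_right)
  have h4 : commutator G ⊔ zpowers x = ⊤ := h3 _ (Normal.of_commutator_le _ le_sup_left) (mem_sup_right (mem_zpowers x))
  have h5 : center G = ⊥ := by
    by_contra e
    have a1 := (inZ_map (QuotientGroup.mk'_surjective _)).1 (hquot (center G) e)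
    have a2 : IsPGroup p (center G) := by
      have : center G ≤ Op p ⊤ := by
        rw [← Fit_eq_Op_of_Op'_eq_bot h0]
        exact le_Fit le_top le_normalizer_of_normal (isNilpotent_of_le_centralizer (center_le_centralizer _))
      exact (Op_p p _).to_le this
    set M := (Op' p (⊤ : Subgroup (G ⧸ center G))).comap (QuotientGroup.mk' (center G))
    obtain ⟨P, hP⟩ := exists_syl (p := p) M
    have b4 : P ≤ center G := by
      rw [← QuotientGroup.ker_mk' (center G), ← Subgroup.map_eq_bot_iff]
      exact eq_bot_of_p_p' (hP.isP.map _) (cop_of_le (Op'_cop p ⊤) (map_le_iff_le_comap.2 hP.le))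
    have b6 := (npc_of_central_syl hP fun g _ y hy => (mem_center_iff.1 (b4 hy) g).symm).eq_sup hP
    have b7 : Op' p M = ⊥ := eq_bot_iff.2 (h0 ▸ (SN.of_normal le_top (comap_le_normalizer_comap _
      (le_normalizer_Op' p ⊤))).Op'_le_Op')
    rw [b7, bot_sup_eq] at b6
    refine nc fun g _ => mem_centralizer_singleton_iff.2 (mul_inv_eq_iff_eq_mul.1 (hiso g ?_))
    have b := b4 (b6.ge (a1 (commutator_mem_commutator (mem_top g) (mem_zpowers x))))
    rw [show g * x * g⁻¹ = ⁅g, x⁆ * x by group]
    exact Commute.mul_right (mem_center_iff.1 b x) (Commute.refl x)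
  have h6 : ∀ N : Subgroup G, N.Normal → N ≠ ⊥ → N ⊔ zpowers x = ⊤ := fun N _ e => by_contra fun e' => e (by
    have := h3 (centralizer (N : Set G)) inferInstance (le_centralizer_singleton_iff.1 (h2 N inferInstance e'))
    rw [eq_bot_iff, ← h5, ← centralizer_univ, ← coe_top, le_centralizer_iff, this])
  have h7 : Fit (⊤ : Subgroup G) = ⊥ := by
    rw [Fit_eq_Op_of_Op'_eq_bot h0]
    by_contra e
    have := h6 _ (normal_of_top_le (le_normalizer_Op p ⊤)) e
    exact nc (iso_le hiso (this ▸ isP_sup' (Op_p p ⊤) h1 (le_top.trans (le_normalizer_Op p ⊤))) (mem_top x))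
  obtain ⟨K, hK⟩ : ∃ K, Comp K (⊤ : Subgroup G) := by
    by_contra! e
    exact Fst_ne_bot (fun e' => nc (e'.le.trans bot_le)) (by rw [Fst, h7, Lay_eq_bot_iff'.2 e]; simp)
  have h8 : x ∈ normalizer (K : Set G) := by
    obtain ⟨P, a1, a2⟩ := exists_syl_ge h1 le_top
    have a3 := a1.inf_sn hK.sn
    have a4 := a3.ne_bot (by_contra fun e => hK.qs.ne_bot (eq_bot_iff.2 (h0 ▸ hK.sn.le_Op' (cop_iff.2 e))))
    refine mem_normalizer_iff_cj.2 (((hK.cj_of_mem (le_normalizer (mem_top x))).eq_or_comm hK).resolve_right fun e =>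
      a4 (eq_bot_iff.2 (h7 ▸ ((SN.of_normal inf_le_right ?_).trans hK.sn).le_Fit a3.isP.isNilpotent)))
    refine le_trans (le_centralizer_iff.1 (le_trans ?_ (le_centralizer_iff'.2 e))) (centralizer_le_normalizer' _)
    rw [← cj_eq_of_centralizer (A := P ⊓ K) (centralizer_anti inf_le_left
      (le_centralizer_singleton_iff.1 (iso_le hiso a1.isP (a2 (mem_zpowers x)))))]
    exact cj_mono x inf_le_right
  have h9 : K.Normal := normal_of_top_le (by
    rw [← h6 (Lay ⊤) (normal_of_top_le (le_normalizer_Lay ⊤)) fun e => hK.qs.ne_bot (eq_bot_iff.2 (e ▸ hK.le_Lay))]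
    exact sup_le hK.Lay_le_normalizer (zpowers_le.2 h8))
  have h10 : commutator G = K := by
    refine le_antisymm ?_ (hK.qs.perfect.ge.trans (commutator_mono le_top le_top))
    rw [_root_.commutator_def, ← h6 K h9 hK.qs.ne_bot]
    refine commutator_sup_le le_normalizer_of_normal le_normalizer_of_normal (commutator_le_left _ _)
      (commutator_sup_le' le_normalizer_of_normal le_normalizer_of_normal (commutator_le_right _ _) ?_)
    rw [L.commutator_eq_bot_iff_comm.2 (L.isMulCommutative_zpowers x)]; exact bot_le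
  rw [h10] at h4 ⊢
  exact ⟨(hK.simple h7).1, (hK.simple h7).2, h4⟩

end Cfsg.Agent.S2972
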