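import Cfsg.Statements.S2975
import Cfsg.Agent.H9.LE1

set_option autoImplicit false
open Cfsg

namespace Cfsg.Agent.S2975

/-- Let G be a finite group, p a prime and x ∈ G an isolated element of order p (the only conjugate of x commuting with x is x) which is not central modulo the largest normal subgroup of order prime to p, while x is central modulo the largest normal subgroup of order prime to p in every proper subgroup containing x, and the image of x is so in every quotient of G by a nontrivial normal subgroup (a minimal counterexample to the Z*_p statement). Then for every prime q, every q-subgroup of G that is normalized by x and maximal among the q-subgroups normalized by x is either trivial or a Sylow q-subgroup of G; and C_G(x) permutes the x-invariant Sylow q-subgroups of G transitively by conjugation. -/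
theorem result {G : Type*} [Group G] [Finite G] {p : ℕ} [Fact p.Prime] (x : G) (hx : orderOf x = p) (hiso : Cfsg.IsIsolated x) (hnz : ¬ Cfsg.InZStar p x) (hmin : ∀ (H : Subgroup G) (hxH : x ∈ H), H ≠ ⊤ → Cfsg.InZStar p (⟨x, hxH⟩ : ↥H)) (hquot : ∀ (N : Subgroup G) [N.Normal], N ≠ ⊥ → Cfsg.InZStar p (QuotientGroup.mk x : G ⧸ N)) (q : ℕ) [Fact q.Prime] : (∀ Q : Subgroup G, IsPGroup q ↥Q → x ∈ Subgroup.normalizer (Q : Set G) → (∀ R : Subgroup G, IsPGroup q ↥R → x ∈ Subgroup.normalizer (R : Set G) → Q ≤ R → R = Q) → Q = ⊥ ∨ ∃ S : Sylow q G, (S : Subgroup G) = Q) ∧ (∀ S₁ S₂ : Sylow q G, x ∈ Subgroup.normalizer ((S₁ : Subgroup G) : Set G) → x ∈ Subgroup.normalizer ((S₂ : Subgroup G) : Set G) → ∃ c ∈ Subgroup.centralizer ({x} : Set G), (S₁ : Subgroup G).map (MulAut.conj c).toMonoidHom = (S₂ : Subgroup G)) := by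
  open H9 Subgroup in open scoped commutatorElement in
  have h0 := Op'_eq_bot_of_min hnz hquot
  have h1 := isPGroup_zpowers_of_orderOf hx
  refine ⟨fun Q a1 a2 a3 => or_iff_not_imp_left.2 fun e => Syl.exists_sylow_top ?_, fun S T a1 a2 => ?_⟩
  · by_cases hq : q = p
    · subst hq
      obtain ⟨P, b1, b2⟩ := exists_syl_ge (isP_sup' a1 h1 (zpowers_le.2 a2)) le_top
      rwa [← a3 P b1.isP (le_normalizer (b2 (mem_sup_right (mem_zpowers x)))) (le_sup_left.trans b2)]
    have b0 := cop_of_isPGroup_ne hq a1
    have b1 := (inZ_sub _).1 (hmin _ a2 fun e' => e (eq_bot_iff.2 (h0 ▸ le_Op' le_top e'.ge b0)))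
    set N := normalizer (Q : Set G)
    obtain ⟨R, b2⟩ := exists_syl (p := q) N
    have n1 := le_normalizer_Op' p N
    have b3 : zpowers x ≤ normalizer ((R ⊔ Op' p N : Subgroup G) : Set G) := le_normalizer_of_commutator_le
      (((commutator_mono (sup_le b2.le (Op'_le p N)) le_rfl).trans b1).trans le_sup_right) le_rfl
    obtain ⟨U, c1, c2⟩ := cop_exists_syl b3 (copA_of_p h1 (cop_sup (cop_of_isPGroup_ne hq b2.isP) (Op'_cop p N)
      (b2.le.trans n1))) q
    have c3 : Syl q U N := syl_of_card_le c1.isP (c1.le.trans (sup_le b2.le (Op'_le p N))) b2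
      (c1.card_le b2.isP le_sup_left)
    have c4 := a3 U c1.isP (zpowers_le.1 c2) (c3.le_of_le_normalizer a1 le_normalizer (.inr c3.le))
    refine Syl.of_normalizer ?_
    rw [top_inf_eq]
    have c5 : Syl q U N → Syl q Q N := fun h => c4 ▸ h
    exact c5 c3
  · obtain ⟨g, -, e⟩ := (syl_top_of_sylow S).conj (syl_top_of_sylow T)
    obtain ⟨k, hk, e'⟩ := iso_conj hiso h1 a2 (g := g) (by rwa [← e, ← cj_normalizer, conj_mem_cj_iff])
    exact ⟨_, e', by rw [cj_def', cj_mul, e, mem_normalizer_iff_cj.1 hk]⟩

end Cfsg.Agent.S2975
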