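import Cfsg.Statements.S3315
import Cfsg.Agent.H4.SU2

set_option autoImplicit false
open Cfsg

namespace Cfsg.Agent.S3315

open scoped Pointwise
open H4.SU2

section
variable {F : Type*} [Field F] [Fintype F] {D : Dt F}

omit [Fintype F] in
lemma ind (hσ : ∃ t, D.σ t ≠ t) (c2 : ∀ a, ∃ b, b + D.σ b = a * D.σ a) (α : MulAut (UU D)) :
    ∃ (A : F →+ F), (∀ x : UU D, (α x).a = A x.a) ∧ ∀ c, ∃ x : UU D, x.a = c := by
  have hz := center_iff hσ c2
  choose β hβ using c2
  have hc : ∀ x y : UU D, x.a = y.a → (α x).a = (α y).a := by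
    intro x y h
    have h1 : x⁻¹ * y ∈ Subgroup.center (UU D) := (hz _).2 (by simp [h]; linear_combination y.a * D.two)
    have h2 : α (x⁻¹ * y) ∈ Subgroup.center (UU D) := by
      rw [Subgroup.mem_center_iff] at h1 ⊢
      intro g
      obtain ⟨g, rfl⟩ := α.surjective g
      rw [← map_mul, h1, map_mul]
    have h3 := (hz _).1 h2
    rw [map_mul, map_inv, mul_a, inv_a] at h3
    linear_combination h3 - (α y).a * D.two
  refine ⟨AddMonoidHom.mk' (fun c => (α ⟨c, β c, hβ c⟩).a) (fun c d => ?_), fun x => hc _ _ rfl, fun c => ⟨⟨c, β c, hβ c⟩, rfl⟩⟩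
  rw [← mul_a, ← map_mul]
  exact hc _ _ rfl

lemma sqrt (b : F) (hb : D.σ b = b) : ∃ t, D.σ t = t ∧ t * t = b := by
  have hinj : Function.Injective (fun t : F => t * t) := fun s t h => by
    have : (s - t) ^ 2 = 0 := by
      simp only at h
      linear_combination h + (t * t - s * t) * D.two
    exact sub_eq_zero.1 (pow_eq_zero_iff (by norm_num) |>.1 this)
  obtain ⟨l, hl⟩ := (Finite.injective_iff_surjective.1 hinj) b
  simp only at hl
  exact ⟨l, hinj (by show D.σ l * D.σ l = l * l; rw [← map_mul, hl, hb]), hl⟩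

lemma AS (τ : F → F) (h0 : ∀ t, D.σ t = t → D.σ (τ t) = τ t) (h1 : ∀ s t, D.σ s = s → D.σ t = t → τ (s + t) = τ s + τ t)
    (h2 : ∀ s t, D.σ s = s → D.σ t = t → τ (s * t) = τ s * τ t) (h3 : ∀ t, D.σ t = t → τ (τ t) = t) (e : F) (he : D.σ e = e) :
    ∃ v, D.σ v = v ∧ v * v + v = e + τ e := by
  have t2 := D.two
  let K : AddSubgroup F :=
    { carrier := {b | D.σ b = b}
      add_mem' := fun {a b} ha hb => by show D.σ (a + b) = _; rw [map_add, ha, hb]
      zero_mem' := map_zero _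
      neg_mem' := fun {a} ha => by show D.σ (-a) = _; rw [map_neg, ha] }
  let P : K →+ K := AddMonoidHom.mk' (fun v => ⟨v.1 * v.1 + v.1, by show D.σ _ = _; rw [map_add, map_mul, v.2]⟩)
    (fun a b => Subtype.ext (by
      show (a.1 + b.1) * (a.1 + b.1) + (a.1 + b.1) = (a.1 * a.1 + a.1) + (b.1 * b.1 + b.1)
      linear_combination a.1 * b.1 * t2))
  have hP : ∀ v : K, (P v : F) = v.1 * v.1 + v.1 := fun v => rfl
  have hi : P.range.index = 2 := by
    rw [AddSubgroup.index_range, Nat.card_eq_two_iff]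
    refine ⟨0, ⟨⟨1, map_one _⟩, Subtype.ext (by rw [hP]; simpa [one_add_one_eq_two] using t2)⟩, fun h => zero_ne_one (α := F) (congrArg (fun w : P.ker => (w.1 : F)) h), ?_⟩
    rw [Set.eq_univ_iff_forall]
    rintro ⟨v, hv⟩
    have : v.1 * v.1 + v.1 = 0 := congrArg Subtype.val (AddMonoidHom.mem_ker.1 hv)
    have h4 : v.1 = 0 ∨ v.1 = 1 := by grind
    rcases h4 with h | h
    · exact Or.inl (Subtype.ext (Subtype.ext h))
    · exact Or.inr (Subtype.ext (Subtype.ext h))
  have hf : ∀ (a : F) (ha : D.σ a = a), (⟨a, ha⟩ : K) ∈ P.range → (⟨τ a, h0 a ha⟩ : K) ∈ P.range := by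
    rintro a ha ⟨v, hv⟩
    refine ⟨⟨τ v.1, h0 _ v.2⟩, Subtype.ext ?_⟩
    have : v.1 * v.1 + v.1 = a := congrArg Subtype.val hv
    show τ v.1 * τ v.1 + τ v.1 = τ a
    rw [← this, h1 _ _ (by rw [map_mul, v.2]) v.2, h2 _ _ v.2 v.2]
  obtain ⟨v, hv⟩ := (AddSubgroup.add_mem_iff_of_index_two hi (a := ⟨e, he⟩) (b := ⟨τ e, h0 e he⟩)).2
    ⟨hf e he, fun h => by simpa only [h3 e he] using hf _ (h0 e he) h⟩
  exact ⟨v.1, v.2, congrArg Subtype.val hv⟩

lemma core (hσ : ∃ t, D.σ t ≠ t) (A : F →+ F) (B : F → F) (hAA : ∀ a, A (A a) = a)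
    (hBa : ∀ s t, D.σ s = s → D.σ t = t → B (s + t) = B s + B t) (hBB : ∀ t, D.σ t = t → B (B t) = t)
    (hN : ∀ a, D.σ (A a) * A a = B (D.σ a * a)) (b : F) (hb : D.σ b = b) : B b = b := by
  have t2 := D.two
  have B0 : B 0 = 0 := by simpa using (hN 0).symm
  have fN : ∀ a, D.σ (D.σ a * a) = D.σ a * a := fun a => by rw [map_mul, D.inv, mul_comm]
  have fβ : ∀ a c, D.σ (D.σ a * c + D.σ c * a) = D.σ a * c + D.σ c * a := fun a c => by
    simp only [map_add, map_mul, D.inv]; ring
  have hβ : ∀ a c, D.σ (A a) * A c + D.σ (A c) * A a = B (D.σ a * c + D.σ c * a) := by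
    intro a c
    have h1 := hN (a + c)
    rw [show D.σ (a + c) * (a + c) = D.σ a * a + (D.σ c * c + (D.σ a * c + D.σ c * a)) by rw [map_add]; ring,
      hBa _ _ (fN a) (by rw [map_add, fN, fβ]), hBa _ _ (fN c) (fβ a c), ← hN, ← hN, map_add, map_add] at h1
    linear_combination h1
  have hβ0 : ∀ t, D.σ t = t → ∀ a, D.σ (A (t * a)) * A a + D.σ (A a) * A (t * a) = 0 := by
    intro t ht a
    rw [hβ, map_mul, ht, show t * D.σ a * a + D.σ a * (t * a) = 0 by linear_combination t * D.σ a * a * t2, B0]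
  have L : ∀ t, D.σ t = t → ∀ a c, D.σ a * c + D.σ c * a ≠ 0 → A (t * a) * A c = A (t * c) * A a := by
    intro t ht a c hac
    have e1 := hβ0 t ht a
    have e2 := hβ0 t ht c
    have e3 := hβ0 t ht (a + c)
    have e4 : D.σ (A a) * A c + D.σ (A c) * A a ≠ 0 := fun e => hac (by rw [← hBB _ (fβ a c), ← hβ, e, B0])
    simp only [mul_add, map_add] at e3
    apply mul_right_cancel₀ e4
    grind
  obtain ⟨t0, ht0⟩ := hσ
  have A0 : ∀ a, a ≠ 0 → A a ≠ 0 := fun a ha e => ha (by rw [← hAA a, e, map_zero])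
  have A1 := A0 1 one_ne_zero
  let τ : F → F := fun t => A t / A 1
  have hτ : ∀ t, A t = τ t * A 1 := fun t => by simp only [τ]; field_simp
  have semi : ∀ t, D.σ t = t → ∀ a, A (t * a) = τ t * A a := by
    intro t ht a
    have s1 : ∀ a, D.σ a ≠ a → A (t * a) = τ t * A a := by
      intro a ha
      have := L t ht a 1 (by simp only [map_one, mul_one, one_mul]; intro e; exact ha (by linear_combination e - a * t2))
      rw [mul_one, hτ t] at this
      apply mul_right_cancel₀ A1
      linear_combination this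
    by_cases ha : D.σ a = a
    · by_cases a0 : a = 0
      · simp [a0]
      have := L t ht a t0 (by
        rw [ha]; intro e
        have : a * (D.σ t0 - t0) = 0 := by linear_combination e - a * t0 * t2
        exact (mul_eq_zero.1 this).elim a0 (fun h => ht0 (sub_eq_zero.1 h)))
      rw [s1 t0 ht0] at this
      apply mul_right_cancel₀ (A0 t0 (by rintro rfl; exact ht0 (map_zero _)))
      linear_combination this
    · exact s1 a ha
  have τf : ∀ t, D.σ t = t → D.σ (τ t) = τ t := by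
    intro t ht
    have := hβ0 t ht 1
    rw [mul_one, hτ t, map_mul] at this
    have h2 : (D.σ (τ t) - τ t) * (D.σ (A 1) * A 1) = 0 := by linear_combination this - τ t * D.σ (A 1) * A 1 * t2
    exact sub_eq_zero.1 ((mul_eq_zero.1 h2).resolve_right (mul_ne_zero ((map_ne_zero _).2 A1) A1))
  have τa : ∀ s t, τ (s + t) = τ s + τ t := fun s t => by simp only [τ, map_add, add_div]
  have τm : ∀ s t, D.σ s = s → τ (s * t) = τ s * τ t := fun s t hs => by
    apply mul_right_cancel₀ A1
    rw [← hτ, semi s hs, hτ t, mul_assoc]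
  have ττ : ∀ t, D.σ t = t → τ (τ t) = t := fun t ht => by
    have := hAA t
    rwa [hτ t, semi _ (τf t ht), hAA, mul_one] at this
  set m := D.σ (A 1) * A 1 with hm
  have m0 : m ≠ 0 := mul_ne_zero ((map_ne_zero _).2 A1) A1
  have hB : ∀ b, D.σ b = b → B b = m * τ b := by
    intro b hb
    obtain ⟨t, ht, rfl⟩ := sqrt b hb
    have := hN t
    rw [ht, hτ t, map_mul, τf t ht] at this
    rw [← this, τm t t ht]; ring
  by_cases hid : ∀ t, D.σ t = t → τ t = t
  · have s1 : D.σ (1 : F) = 1 := map_one _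
    have h1 := hBB 1 s1
    rw [hB 1 s1, hid 1 s1, mul_one, hB m (fN _), hid m (fN _)] at h1
    have : m = 1 := by grind
    rw [hB b hb, hid b hb, this, one_mul]
  exfalso
  push Not at hid
  obtain ⟨w, hw, hw'⟩ := hid
  have e0 : w + τ w ≠ 0 := fun e => hw' (by linear_combination e - w * t2)
  have ef : D.σ (w + τ w) = w + τ w := by rw [map_add, hw, τf w hw]
  let ω := w / (w + τ w)
  have ωf : D.σ ω = ω := by simp only [ω]; rw [map_div₀, hw, ef]
  have ω1 : ω + τ ω = 1 := by
    have h1 : ω * (w + τ w) = w := by simp only [ω]; field_simp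
    have h2 := τm ω (w + τ w) ωf
    rw [h1, τa, ττ w hw] at h2
    apply mul_right_cancel₀ e0
    linear_combination h1 - h2
  have hC : ∀ c d, A c = c → A d = d → D.σ c * d + D.σ d * c = 0 := by
    intro c d hc hd
    by_contra hs
    have n1 := hN c
    have n2 := hN d
    have n3 := hβ c d
    rw [hc, hB _ (fN c)] at n1
    rw [hd, hB _ (fN d)] at n2
    rw [hc, hd, hB _ (fβ c d)] at n3
    set s := D.σ c * d + D.σ d * c with hs'
    have sf : D.σ s = s := fβ c d
    let g := (D.σ c * c) * (D.σ d * d) / (s * s)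
    have g1 : g * (s * s) = (D.σ c * c) * (D.σ d * d) := by simp only [g]; field_simp
    have gf : D.σ g = g := by simp only [g]; rw [map_div₀, map_mul, fN, fN, map_mul, sf]
    have gτ : τ g = g := by
      have h1 := τm g (s * s) gf
      rw [g1, τm _ _ (fN c), τm s s sf] at h1
      apply mul_right_cancel₀ (mul_ne_zero hs hs)
      rw [g1]
      nth_rewrite 1 [n1, n2, n3]
      rw [show m * τ (D.σ c * c) * (m * τ (D.σ d * d)) = m * m * (τ (D.σ c * c) * τ (D.σ d * d)) by ring, h1]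
      nth_rewrite 2 [n3]
      ring
    obtain ⟨v0, v1, v2⟩ := AS (D := D) τ τf (fun s t _ _ => τa s t) (fun s t h _ => τm s t h) ττ (g * ω) (by rw [map_mul, gf, ωf])
    rw [τm _ _ gf, gτ, ← mul_add, ω1, mul_one] at v2
    let v := D.σ c * d / s
    have a1 : v * s = D.σ c * d := by simp only [v]; field_simp
    have a2 : D.σ v * s = c * D.σ d := by
      have := congrArg D.σ a1
      rwa [map_mul, map_mul, sf, D.inv] at this
    have a3 : v + D.σ v = 1 := by
      apply mul_right_cancel₀ hs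
      linear_combination a1 + a2 - hs'
    have a4 : v * D.σ v = g := by
      apply mul_right_cancel₀ (mul_ne_zero hs hs)
      rw [g1]
      linear_combination (D.σ v * s) * a1 + (D.σ c * d) * a2
    have a5 : v = v0 ∨ v = v0 + 1 := by grind
    have a6 : D.σ v = v := by
      rcases a5 with h | h
      · rw [h, v1]
      · rw [h, map_add, v1, map_one]
    rw [a6] at a3
    exact one_ne_zero (by linear_combination v * t2 - a3 : (1 : F) = 0)
  have dec : ∀ a, ∃ c d, A c = c ∧ A d = d ∧ a = c + τ ω * d := fun a =>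
    ⟨ω * a + A (ω * a), a + A a, by rw [map_add, hAA, add_comm], by rw [map_add, hAA, add_comm], by
      rw [semi ω ωf]; linear_combination (-a) * ω1 - τ ω * A a * t2⟩
  obtain ⟨c, d, hc, hd, e1⟩ := dec 1
  obtain ⟨c', d', hc', hd', e2⟩ := dec t0
  have s1 := congrArg D.σ e1
  have s2 := congrArg D.σ e2
  rw [map_add, map_mul, τf ω ωf] at s1 s2
  rw [map_one] at s1
  have b1 := hC c c' hc hc'
  have b2 := hC c d' hc hd'
  have b3 := hC d c' hd hc'
  have b4 := hC d d' hd hd'
  apply ht0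
  have : (D.σ c + τ ω * D.σ d) * (c' + τ ω * d') + (D.σ c' + τ ω * D.σ d') * (c + τ ω * d) = 0 := by
    linear_combination b1 + τ ω * b2 + τ ω * b3 + τ ω * τ ω * b4
  rw [← s1, ← s2, ← e1, ← e2] at this
  linear_combination this - t0 * t2

lemma inv2 (hσ : ∃ t, D.σ t ≠ t) (c2 : ∀ a, ∃ b, b + D.σ b = a * D.σ a) (α : MulAut (UU D)) (g : UU D) (h : ∀ x, α (α x) = g * x * g⁻¹)
    (z : UU D) (hz : z.a = 0) : α z = z := by
  classical
  obtain ⟨A, hA, hs⟩ := ind hσ c2 α
  have t2 := D.two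
  let zc : ∀ b, D.σ b = b → UU D := fun b hb => ⟨0, b, by rw [hb]; linear_combination b * t2⟩
  let B : F → F := fun b => if hb : D.σ b = b then (α (zc b hb)).b else 0
  have hB : ∀ x : UU D, x.a = 0 → (α x).b = B x.b := fun x hx => by
    simp only [B, dif_pos (fix_of x hx)]
    congr 2
    exact UU.ext hx rfl
  have ha0 : ∀ x : UU D, x.a = 0 → (α x).a = 0 := fun x hx => by rw [hA, hx, map_zero]
  refine UU.ext ((ha0 z hz).trans hz.symm) ?_
  rw [hB z hz]
  refine core hσ A B (fun a => ?_) (fun s t hs ht => ?_) (fun t ht => ?_) (fun a => ?_) _ (fix_of z hz)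
  · obtain ⟨x, rfl⟩ := hs a
    rw [← hA, ← hA, h]; simp; linear_combination g.a * t2
  · have h1 := hB (zc s hs * zc t ht) (by simp [zc])
    rw [map_mul, mul_b, ha0 (zc t ht) rfl, hB _ (show (zc s hs).a = 0 from rfl), hB _ (show (zc t ht).a = 0 from rfl)] at h1
    simpa [zc] using h1.symm
  · have h1 := hB _ (ha0 (zc t ht) rfl)
    rw [h, hB (zc t ht) rfl, Subgroup.mem_center_iff.1 ((center_iff hσ c2 (zc t ht)).2 rfl) g, mul_inv_cancel_right] at h1
    exact h1.symm
  · obtain ⟨x, rfl⟩ := hs a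
    have h1 := hB (x * x) (by rw [mul_a]; linear_combination x.a * t2)
    rw [map_mul, mul_b, mul_b, hA, show x.b + x.b + D.σ x.a * x.a = D.σ x.a * x.a by linear_combination x.b * t2] at h1
    linear_combination h1 - (α x).b * t2
end

/-- Let S be a Sylow 2-subgroup of SU₃(2ⁿ), n ≥ 2 (realised over the field with 4ⁿ elements). If a finite 2-group R contains a subgroup S' of index 2 isomorphic to S, then the centre of S' is contained in the centre of R. -/
theorem result {R : Type*} [Group R] [Finite R]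
    (hR : IsPGroup 2 R) (n : ℕ) (hn : 2 ≤ n) {F : Type*} [Field F] [Fintype F] (hF : Fintype.card F = 4 ^ n)
    (P : Sylow 2 ↥(Cfsg.SU 3 F (2 ^ n))) (S' : Subgroup R) (hS : Nonempty (↥S' ≃* ↥(P : Subgroup ↥(Cfsg.SU 3 F (2 ^ n)))))
    (hidx : S'.index = 2) :
    (Subgroup.center ↥S').map S'.subtype ≤ Subgroup.center R := by
  have hF' : Fintype.card F = (2 ^ n) ^ 2 := by rw [hF, ← pow_mul, mul_comm, pow_mul]; norm_num
  obtain ⟨D, hD⟩ := exD (by omega) hF'
  obtain ⟨e'⟩ := sylow_SU (D := D) (by omega) hF' hD P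
  obtain ⟨e0⟩ := hS
  let e := e0.trans e'
  have h1 : 1 < 2 ^ n := Nat.one_lt_two_pow (by omega)
  obtain ⟨-, c2⟩ := cnt h1 hF' hD
  have hσ := ex_nonfix h1 hF' hD
  haveI : S'.Normal := Subgroup.normal_of_index_eq_two hidx
  rintro _ ⟨z, hz, rfl⟩
  rw [Subgroup.mem_center_iff]
  intro r
  have hz' : (e z).a = 0 := (center_iff hσ c2 _).1 (by
    rw [Subgroup.mem_center_iff]
    intro g
    obtain ⟨g, rfl⟩ := e.surjective g
    rw [← map_mul, Subgroup.mem_center_iff.1 hz g, map_mul])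
  have := inv2 hσ c2 (MulAut.congr e (MulAut.conjNormal r)) (e ⟨r * r, Subgroup.mul_self_mem_of_index_two hidx r⟩) (fun x => by
    obtain ⟨x, rfl⟩ := e.surjective x
    rw [← map_inv, ← map_mul, ← map_mul]
    simp only [MulAut.congr_apply, MulEquiv.trans_apply, MulEquiv.symm_apply_apply]
    congr 1
    apply Subtype.ext
    simp [mul_assoc]) (e z) hz'
  simp only [MulAut.congr_apply, MulEquiv.trans_apply, MulEquiv.symm_apply_apply] at this
  have h2 := congrArg Subtype.val (e.injective this)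
  rw [MulAut.conjNormal_apply] at h2
  exact mul_inv_eq_iff_eq_mul.1 h2

end Cfsg.Agent.S3315
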