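import Cfsg.Statements.S3162
import Cfsg.Agent.H4.SU2
import Cfsg.Agent.S3315
import Cfsg.Agent.S1141
import Cfsg.Agent.H1.Cores
import Cfsg.Agent.H9.Rad

set_option autoImplicit false
open Cfsg

namespace Cfsg.Agent.S3162

open scoped Pointwise
open H4.SU2

section
variable {F : Type*} [Field F] [Fintype F] {D : Dt F}

lemma core (hσ : ∃ t, D.σ t ≠ t) (A : F →+ F) (B : F → F) (A0 : ∀ a, a ≠ 0 → A a ≠ 0)
    (hBa : ∀ s t, D.σ s = s → D.σ t = t → B (s + t) = B s + B t) (hBB : ∀ t, D.σ t = t → B t = 0 → t = 0)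
    (hN : ∀ a, D.σ (A a) * A a = B (D.σ a * a)) : ∃ φ : F →+* F, ∀ a, A a = A 1 * φ a := by
  have t2 := D.two
  have B0 : B 0 = 0 := by simpa using (hN 0).symm
  have fN : ∀ a, D.σ (D.σ a * a) = D.σ a * a := fun a => by rw [map_mul, D.inv, mul_comm]
  have fβ : ∀ a c, D.σ (D.σ a * c + D.σ c * a) = D.σ a * c + D.σ c * a := fun a c => by
    simp only [map_add, map_mul, D.inv]; ring
  have hβ : ∀ a c, D.σ (A a) * A c + D.σ (A c) * A a = B (D.σ a * c + D.σ c * a) := by
    intro a c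
    have h1 := hN (a + c)
    rw [show D.σ (a + c) * (a + c) = D.σ a * a + (D.σ c * c + (D.σ a * c + D.σ c * a)) by rw [map_add]; ring,
      hBa _ _ (fN a) (by rw [map_add, fN, fβ]), hBa _ _ (fN c) (fβ a c), ← hN, ← hN, map_add, map_add] at h1
    linear_combination h1
  have hβ0 : ∀ t, D.σ t = t → ∀ a, D.σ (A (t * a)) * A a + D.σ (A a) * A (t * a) = 0 := by
    intro t ht a
    rw [hβ, map_mul, ht, show t * D.σ a * a + D.σ a * (t * a) = 0 by linear_combination t * D.σ a * a * t2, B0]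
  have L : ∀ t, D.σ t = t → ∀ a c, D.σ a * c + D.σ c * a ≠ 0 → A (t * a) * A c = A (t * c) * A a := by
    intro t ht a c hac
    have e1 := hβ0 t ht a
    have e2 := hβ0 t ht c
    have e3 := hβ0 t ht (a + c)
    have e4 : D.σ (A a) * A c + D.σ (A c) * A a ≠ 0 := fun e => hac (hBB _ (fβ a c) (by rw [← hβ, e]))
    simp only [mul_add, map_add] at e3
    apply mul_right_cancel₀ e4
    grind
  obtain ⟨t0, ht0⟩ := hσ
  have A1 := A0 1 one_ne_zero
  let τ : F → F := fun t => A t / A 1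
  have hτ : ∀ t, A t = τ t * A 1 := fun t => by simp only [τ]; field_simp
  have semi : ∀ t, D.σ t = t → ∀ a, A (t * a) = τ t * A a := by
    intro t ht a
    have s1 : ∀ a, D.σ a ≠ a → A (t * a) = τ t * A a := by
      intro a ha
      have := L t ht a 1 (by simp only [map_one, mul_one, one_mul]; intro e; exact ha (by linear_combination e - a * t2))
      rw [mul_one, hτ t] at this
      apply mul_right_cancel₀ A1
      linear_combination this
    by_cases ha : D.σ a = a
    · by_cases a0 : a = 0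
      · simp [a0]
      have := L t ht a t0 (by
        rw [ha]; intro e
        have : a * (D.σ t0 - t0) = 0 := by linear_combination e - a * t0 * t2
        exact (mul_eq_zero.1 this).elim a0 (fun h => ht0 (sub_eq_zero.1 h)))
      rw [s1 t0 ht0] at this
      apply mul_right_cancel₀ (A0 t0 (by rintro rfl; exact ht0 (map_zero _)))
      linear_combination this
    · exact s1 a ha
  have τf : ∀ t, D.σ t = t → D.σ (τ t) = τ t := by
    intro t ht
    have := hβ0 t ht 1
    rw [mul_one, hτ t, map_mul] at this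
    have h2 : (D.σ (τ t) - τ t) * (D.σ (A 1) * A 1) = 0 := by linear_combination this - τ t * D.σ (A 1) * A 1 * t2
    exact sub_eq_zero.1 ((mul_eq_zero.1 h2).resolve_right (mul_ne_zero ((map_ne_zero _).2 A1) A1))
  have τa : ∀ s t, τ (s + t) = τ s + τ t := fun s t => by simp only [τ, map_add, add_div]
  have τm : ∀ s t, D.σ s = s → τ (s * t) = τ s * τ t := fun s t hs => by
    apply mul_right_cancel₀ A1
    rw [← hτ, semi s hs, hτ t, mul_assoc]
  have m0 : D.σ (A 1) * A 1 ≠ 0 := mul_ne_zero ((map_ne_zero _).2 A1) A1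
  have hB : ∀ b, D.σ b = b → B b = D.σ (A 1) * A 1 * τ b := by
    intro b hb
    obtain ⟨t, ht, rfl⟩ := S3315.sqrt b hb
    have := hN t
    rw [ht, hτ t, map_mul, τf t ht] at this
    rw [← this, τm t t ht]; ring
  have τ1 : τ 1 = 1 := by simp only [τ]; field_simp
  have hsq : ∀ a, τ (a * a) = τ a * τ a := by
    intro a
    have n1 := hN a
    have n2 := hβ a 1
    rw [hB _ (fN a), hτ a, map_mul] at n1
    rw [hB _ (fβ a 1), hτ a, map_mul] at n2
    have n3 : D.σ (τ a) * τ a = τ (D.σ a * a) := mul_left_cancel₀ m0 (by linear_combination n1)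
    have n4 : D.σ (τ a) + τ a = τ (D.σ a * 1 + D.σ 1 * a) := mul_left_cancel₀ m0 (by linear_combination n2)
    rw [show a * a = (D.σ a * 1 + D.σ 1 * a) * a + D.σ a * a by rw [map_one]; linear_combination (-(D.σ a * a)) * t2, τa, τm _ _ (fβ a 1), ← n3, ← n4]
    linear_combination (D.σ (τ a) * τ a) * t2
  have hmul : ∀ a c, τ (a * c) = τ a * τ c := by
    intro a c
    by_cases ha : D.σ a = a
    · exact τm a c ha
    have a0 : a + D.σ a ≠ 0 := fun e => ha (by linear_combination e - a * t2)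
    let k := (c + D.σ c) / (a + D.σ a)
    have k1 : k * (a + D.σ a) = c + D.σ c := by simp only [k]; field_simp
    have kf : D.σ k = k := by simp only [k]; rw [map_div₀, map_add, map_add, D.inv, D.inv, add_comm (D.σ c), add_comm (D.σ a)]
    have jf : D.σ (c + k * a) = c + k * a := by
      rw [map_add, map_mul, kf]; linear_combination k1 + (D.σ c - k * a) * t2
    have e1 : c = (c + k * a) + k * a := by linear_combination (-(k * a)) * t2
    have e2 : a * c = (c + k * a) * a + k * (a * a) := by linear_combination (-(k * a * a)) * t2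
    rw [e2, τa, τm _ _ jf, τm _ _ kf, hsq]
    nth_rewrite 2 [e1]
    rw [τa (c + k * a), τm k a kf]; ring
  exact ⟨{ toFun := τ, map_one' := τ1, map_mul' := hmul, map_zero' := by simp [τ], map_add' := τa }, fun a => by rw [mul_comm]; exact hτ a⟩

lemma strc (hσ : ∃ t, D.σ t ≠ t) (c2 : ∀ a, ∃ b, b + D.σ b = a * D.σ a) (α : MulAut (UU D)) :
    (∃ (l : Fˣ) (φ : F →+* F), ∀ x : UU D, (α x).a = l * φ x.a) ∧ ((∀ x, (α x).a = x.a) → ∀ z : UU D, z.a = 0 → α z = z) := by
  classical
  obtain ⟨A, hA, hs⟩ := S3315.ind hσ c2 α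
  have t2 := D.two
  let zc : ∀ b, D.σ b = b → UU D := fun b hb => ⟨0, b, by rw [hb]; linear_combination b * t2⟩
  let B : F → F := fun b => if hb : D.σ b = b then (α (zc b hb)).b else 0
  have hB : ∀ x : UU D, x.a = 0 → (α x).b = B x.b := fun x hx => by
    simp only [B, dif_pos (fix_of x hx)]
    congr 2
    exact UU.ext hx rfl
  have ha0 : ∀ x : UU D, x.a = 0 → (α x).a = 0 := fun x hx => by rw [hA, hx, map_zero]
  have hN : ∀ a, D.σ (A a) * A a = B (D.σ a * a) := fun a => by
    obtain ⟨x, rfl⟩ := hs a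
    have h1 := hB (x * x) (by rw [mul_a]; linear_combination x.a * t2)
    rw [map_mul, mul_b, mul_b, hA, show x.b + x.b + D.σ x.a * x.a = D.σ x.a * x.a by linear_combination x.b * t2] at h1
    linear_combination h1 - (α x).b * t2
  have A0 : ∀ a, a ≠ 0 → A a ≠ 0 := fun a ha e => by
    obtain ⟨x, rfl⟩ := hs a
    have := (H4.SU2.sq (α x)).2 (by rw [hA, e])
    rw [← map_mul, EmbeddingLike.map_eq_one_iff] at this
    exact ha ((H4.SU2.sq x).1 this)
  constructor
  · refine (core hσ A B A0 (fun s t hs ht => ?_) (fun t ht h => ?_) hN).elim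
      (fun φ hφ => ⟨Units.mk0 _ (A0 1 one_ne_zero), φ, fun x => by rw [hA, hφ]; rfl⟩)
    · have h1 := hB (zc s hs * zc t ht) (by simp [zc])
      rw [map_mul, mul_b, ha0 (zc t ht) rfl, hB _ (show (zc s hs).a = 0 from rfl), hB _ (show (zc t ht).a = 0 from rfl)] at h1
      simpa [zc] using h1.symm
    · have : α (zc t ht) = 1 := UU.ext (ha0 _ rfl) ((hB _ rfl).trans h)
      exact congrArg UU.b (EmbeddingLike.map_eq_one_iff.1 this)
  · intro h z hz
    refine UU.ext ((ha0 z hz).trans hz.symm) ?_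
    obtain ⟨t, ht, e⟩ := S3315.sqrt _ (fix_of z hz)
    have h1 := hN t
    obtain ⟨x, rfl⟩ := hs t
    rw [← hA, h, ht, e] at h1
    exact (hB z hz).trans h1.symm

def KK (D : Dt F) : AddSubgroup F where
  carrier := {b | D.σ b = b}
  add_mem' := fun {a b} ha hb => by show D.σ (a + b) = _; rw [map_add, ha, hb]
  zero_mem' := map_zero _
  neg_mem' := fun {a} ha => by show D.σ (-a) = _; rw [map_neg, ha]

def cen (f : F →+ KK D) : MulAut (UU D) where
  toFun x := ⟨x.a, x.b + f x.a, by rw [map_add, show D.σ (f x.a) = f x.a from (f x.a).2]; linear_combination x.h + (f x.a : F) * D.two⟩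
  invFun x := ⟨x.a, x.b + f x.a, by rw [map_add, show D.σ (f x.a) = f x.a from (f x.a).2]; linear_combination x.h + (f x.a : F) * D.two⟩
  left_inv x := UU.ext rfl (by simp only; linear_combination (f x.a : F) * D.two)
  right_inv x := UU.ext rfl (by simp only; linear_combination (f x.a : F) * D.two)
  map_mul' x y := UU.ext rfl (by simp; ring)

def fld {q : ℕ} (hq : ∀ x, D.σ x = x ^ q) (φ : F ≃+* F) : MulAut (UU D) where
  toFun x := ⟨φ x.a, φ x.b, by have := congrArg φ x.h; simpa [hq] using this⟩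
  invFun x := ⟨φ.symm x.a, φ.symm x.b, by have := congrArg φ.symm x.h; simpa [hq] using this⟩
  left_inv x := UU.ext (by simp) (by simp)
  right_inv x := UU.ext (by simp) (by simp)
  map_mul' x y := UU.ext (by simp) (by simp [hq])

def NN (D : Dt F) : Subgroup (MulAut (UU D)) where
  carrier := {α | ∀ x, (α x).a = x.a}
  mul_mem' := fun {a b} ha hb x => (ha _).trans (hb x)
  one_mem' := fun _ => rfl
  inv_mem' := fun {a} ha x => by have := ha (a⁻¹ x); simpa using this.symm

variable (hσ : ∃ t, D.σ t ≠ t) (c2 : ∀ a, ∃ b, b + D.σ b = a * D.σ a)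
include c2

omit [Fintype F] in
lemma cen_inj : Function.Injective (cen : (F →+ KK D) → _) := by
  intro f g h
  ext a
  obtain ⟨b, hb⟩ := c2 a
  have := congrArg (fun α : MulAut (UU D) => (α ⟨a, b, hb⟩).b) h
  exact add_left_cancel this

include hσ
lemma nn_iff (α : MulAut (UU D)) : α ∈ NN D ↔ ∃ f, cen f = α := by
  refine ⟨fun h => ?_, by rintro ⟨f, rfl⟩ x; rfl⟩
  have hz := (strc hσ c2 α).2 h
  have t2 := D.two
  choose β hβ using c2
  have fx : ∀ x : UU D, D.σ ((α x).b + x.b) = (α x).b + x.b := fun x => by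
    have h1 := (α x).h
    rw [h x] at h1
    rw [map_add]; linear_combination h1 + x.h + (x.a * D.σ x.a - (α x).b - x.b) * t2
  have ad : ∀ x y : UU D, (α (x * y)).b + (x * y).b = ((α x).b + x.b) + ((α y).b + y.b) := fun x y => by
    rw [map_mul, mul_b, mul_b, h x, h y]; linear_combination D.σ x.a * y.a * t2
  have wd : ∀ x y : UU D, x.a = y.a → (α x).b + x.b = (α y).b + y.b := fun x y e => by
    have := ad x (x⁻¹ * y)
    rw [mul_inv_cancel_left, hz (x⁻¹ * y) (by simp [e]; linear_combination y.a * t2)] at this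
    linear_combination (-1 : F) * this - (x⁻¹ * y).b * t2
  refine ⟨AddMonoidHom.mk' (fun a => ⟨(α ⟨a, β a, hβ a⟩).b + β a, fx ⟨a, β a, hβ a⟩⟩) (fun a c => Subtype.ext ?_), ?_⟩
  · exact (wd ⟨a + c, _, hβ _⟩ (⟨a, _, hβ a⟩ * ⟨c, _, hβ c⟩) rfl).trans (ad _ _)
  · ext1 x
    refine UU.ext (h x).symm ?_
    have := wd ⟨x.a, _, hβ _⟩ x rfl
    show x.b + ((α ⟨x.a, β x.a, hβ x.a⟩).b + β x.a) = _
    linear_combination this + x.b * t2

lemma le_nn (O : Subgroup (MulAut (UU D))) (hO : O.Normal) (h2 : IsPGroup 2 O) : O ≤ NN D := by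
  have k : ∀ γ ∈ O, ∀ c : F, (∀ x, (γ x).a = c * x.a) → c = 1 := by
    intro γ hγ c hc
    obtain ⟨j, hj⟩ := h2 ⟨γ, hγ⟩
    have hj' : γ ^ 2 ^ j = 1 := congrArg Subtype.val hj
    have hp : ∀ (i : ℕ) x, ((γ ^ i) x).a = c ^ i * x.a := fun i => by
      induction i with
      | zero => simp
      | succ i ih => intro x; rw [pow_succ', MulAut.mul_apply, hc, ih]; ring
    obtain ⟨b, hb⟩ := c2 1
    have := hp (2 ^ j) ⟨1, b, hb⟩
    rw [hj'] at this
    have h1 : c ^ 2 ^ j = 1 := by simpa using this.symm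
    clear hj hj' this
    induction j generalizing c with
    | zero => simpa using h1
    | succ j ih =>
      have h3 : (c ^ 2 ^ j - 1) ^ 2 = 0 := by
        rw [pow_succ, pow_mul] at h1
        linear_combination h1 + (1 - c ^ 2 ^ j) * D.two
      exact ih c hc hp (sub_eq_zero.1 (pow_eq_zero_iff (by norm_num) |>.1 h3))
  intro α hα
  obtain ⟨l, φ, h⟩ := (strc hσ c2 α).1
  have hφ : ∀ a, φ a = a := by
    intro a
    by_cases a0 : a = 0
    · simp [a0]
    let θ := S1141.th D (Units.mk0 a a0)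
    have hm : α * (θ * α⁻¹ * θ⁻¹) ∈ O := O.mul_mem hα (hO.conj_mem _ (O.inv_mem hα) θ)
    have := k _ hm (φ a / a) (fun x => by
      obtain ⟨y, rfl⟩ := (θ * α).surjective x
      have e : (α * (θ * α⁻¹ * θ⁻¹)) ((θ * α) y) = α (θ y) := by
        rw [← MulAut.mul_apply, ← MulAut.mul_apply]; congr 1; group
      rw [e, MulAut.mul_apply, h, S1141.th_a, S1141.th_a, h, map_mul]
      simp only [Units.val_mk0]; field_simp)
    rwa [div_eq_one_iff_eq a0] at this
  intro x
  rw [h, hφ, k α hα l (fun x => by rw [h, hφ]), one_mul]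

lemma nn_normal : (NN D).Normal := ⟨fun α hα g x => by
  obtain ⟨l, φ, h⟩ := (strc hσ c2 g).1
  obtain ⟨y, rfl⟩ := g.surjective x
  simp only [MulAut.mul_apply, MulAut.inv_apply_self]
  rw [h, h, hα y]⟩

lemma card_aut {q : ℕ} (hq : ∀ x, D.σ x = x ^ q) : Nat.card (MulAut (UU D)) = Nat.card (F →+ KK D) * (Nat.card Fˣ * Nat.card (F ≃+* F)) := by
  rw [← Nat.card_prod, ← Nat.card_prod]
  refine (Nat.card_eq_of_bijective (fun t : (F →+ KK D) × Fˣ × (F ≃+* F) => cen t.1 * (S1141.th D t.2.1 * fld hq t.2.2)) ⟨?_, fun α => ?_⟩).symm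
  · rintro ⟨f, l, φ⟩ ⟨g, m, ψ⟩ h
    have h1 : ∀ a, l * φ a = m * ψ a := fun a => by
      obtain ⟨b, hb⟩ := c2 a
      exact congrArg (fun α : MulAut (UU D) => (α ⟨a, b, hb⟩).a) h
    have e1 : l = m := Units.ext (by simpa using h1 1)
    subst e1
    have e2 : φ = ψ := RingEquiv.ext fun a => mul_left_cancel₀ l.ne_zero (h1 a)
    subst e2
    have e3 : f = g := cen_inj c2 (mul_right_cancel h)
    rw [e3]
  · obtain ⟨l, φ, h⟩ := (strc hσ c2 α).1
    let ψ : F ≃+* F := RingEquiv.ofBijective φ (Finite.injective_iff_bijective.1 φ.injective)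
    obtain ⟨f, hf⟩ := (nn_iff hσ c2 (α * (S1141.th D l * fld hq ψ)⁻¹)).1 (fun x => by
      obtain ⟨y, rfl⟩ := (S1141.th D l * fld hq ψ).surjective x
      rw [MulAut.mul_apply, MulAut.inv_apply_self, h]; rfl)
    exact ⟨(f, l, ψ), by simp only [hf, inv_mul_cancel_right]⟩
end

/-- Let S be a Sylow 2-subgroup of the special unitary group of dimension 3 with parameter q = 2^n (n ≥ 2; realised over the field with q² elements). Then the largest normal 2-subgroup of the automorphism group of S is elementary abelian of order 2^(2n²), and the automorphism group has order 2^(2n²) · 2n(q² − 1). -/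
theorem result {S : Type*} [Group S] [Finite S] (n : ℕ) (hn : 2 ≤ n) {F : Type*} [Field F] [Fintype F] (hF : Fintype.card F = 4 ^ n)
    (P : Sylow 2 ↥(Cfsg.SU 3 F (2 ^ n))) (hS : Nonempty (S ≃* ↥(P : Subgroup ↥(Cfsg.SU 3 F (2 ^ n))))) :
    Cfsg.IsElementaryAbelian 2 (Cfsg.pCore 2 (MulAut S)) ∧ Nat.card ↥(Cfsg.pCore 2 (MulAut S)) = 2 ^ (2 * n ^ 2) ∧
      Nat.card (MulAut S) = 2 ^ (2 * n ^ 2) * (2 * n * ((2 ^ n) ^ 2 - 1)) := by
  classical
  have hF' : Fintype.card F = (2 ^ n) ^ 2 := by rw [hF, ← pow_mul, mul_comm, pow_mul]; norm_num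
  obtain ⟨D, hD⟩ := exD (by omega) hF'
  obtain ⟨e'⟩ := sylow_SU (D := D) (by omega) hF' hD P
  obtain ⟨e0⟩ := hS
  let e := MulAut.congr (e0.trans e')
  have h1 : 1 < 2 ^ n := Nat.one_lt_two_pow (by omega)
  obtain ⟨c1, c2⟩ := cnt h1 hF' hD
  have hσ := ex_nonfix h1 hF' hD
  haveI : Fact (Nat.Prime 2) := ⟨Nat.prime_two⟩
  haveI : CharP F 2 := (CharP.charP_iff_prime_eq_zero Nat.prime_two).2 (by exact_mod_cast D.two)
  letI : Algebra (ZMod 2) F := ZMod.algebra F 2
  have hfr : Module.finrank (ZMod 2) F = n * 2 := by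
    have := Module.card_eq_pow_finrank (K := ZMod 2) (V := F)
    rw [hF', ZMod.card, ← pow_mul] at this
    exact (Nat.pow_right_injective le_rfl this).symm
  have hK : Nat.card (F →+ KK D) = 2 ^ (2 * n ^ 2) := by
    letI : Module (ZMod 2) (KK D) := AddCommGroup.zmodModule (fun x => Subtype.ext (by
      show (2 : ℕ) • (x : F) = 0
      rw [two_nsmul]; linear_combination (x : F) * D.two))
    have hk : Module.finrank (ZMod 2) (KK D) = n := by
      have := Module.natCard_eq_pow_finrank (K := ZMod 2) (V := KK D)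
      rw [show Nat.card (KK D) = 2 ^ n from c1, Nat.card_zmod] at this
      exact (Nat.pow_right_injective le_rfl this).symm
    haveI : Finite (F →ₗ[ZMod 2] KK D) := Finite.of_injective _ DFunLike.coe_injective
    rw [Nat.card_congr (AddMonoidHom.toZModLinearMapEquiv 2).toEquiv, Module.natCard_eq_pow_finrank (K := ZMod 2), Module.finrank_linearMap, hfr, hk, Nat.card_zmod]
    congr 1; ring
  have hA : Nat.card (F ≃+* F) = 2 * n := by
    rw [mul_comm, ← hfr, ← IsGalois.card_aut_eq_finrank]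
    refine (Nat.card_eq_of_bijective (fun φ : F ≃ₐ[ZMod 2] F => φ.toRingEquiv) ⟨fun a b h => AlgEquiv.ext fun x => congrArg (fun ψ : F ≃+* F => ψ x) h, fun φ => ⟨AlgEquiv.ofRingEquiv (f := φ) (fun x => ?_), rfl⟩⟩).symm
    exact congrArg (fun g : ZMod 2 →+* F => g x) (Subsingleton.elim (φ.toRingHom.comp (algebraMap (ZMod 2) F)) (algebraMap (ZMod 2) F))
  have hsq : ∀ α ∈ NN D, α ^ 2 = 1 := fun α hα => by
    obtain ⟨f, rfl⟩ := (nn_iff hσ c2 α).1 hα
    ext1 x
    exact (cen f).left_inv x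
  have hcm : ∀ α ∈ NN D, ∀ β ∈ NN D, α * β = β * α := fun α hα β hβ => by
    have a1 := hsq _ hα
    have a2 := hsq _ hβ
    have a3 := hsq _ ((NN D).mul_mem hα hβ)
    rw [pow_two] at a1 a2 a3
    rw [← inv_eq_of_mul_eq_one_right a3, mul_inv_rev, inv_eq_of_mul_eq_one_right a1, inv_eq_of_mul_eq_one_right a2]
  have hp : IsPGroup 2 (NN D) := fun α => ⟨1, Subtype.ext (hsq _ α.2)⟩
  have hO : Cfsg.pCore 2 (MulAut S) = (NN D).comap e.toMonoidHom := by
    apply le_antisymm
    · rw [← Subgroup.map_le_iff_le_comap]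
      exact le_nn hσ c2 _ ((Cfsg.pCore_normal 2 _).map _ e.surjective) ((H9.pCore_p 2).map _)
    · exact le_sSup ⟨(nn_normal hσ c2).comap _, hp.comap_of_injective _ e.injective⟩
  have hN : Nat.card (NN D) = 2 ^ (2 * n ^ 2) := by
    rw [← hK]
    exact (Nat.card_eq_of_bijective (fun f => (⟨cen f, fun _ => rfl⟩ : NN D)) ⟨fun f g h => cen_inj c2 (congrArg Subtype.val h),
      fun α => by obtain ⟨f, hf⟩ := (nn_iff hσ c2 α.1).1 α.2; exact ⟨f, Subtype.ext hf⟩⟩).symm
  rw [hO]
  refine ⟨⟨⟨⟨fun a b => Subtype.ext (e.injective ?_)⟩⟩, fun a ha => e.injective ?_⟩, ?_, ?_⟩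
  · simp only [Subgroup.coe_mul, map_mul]; exact hcm _ a.2 _ b.2
  · rw [map_pow, map_one]; exact hsq _ ha
  · rw [← hN]
    exact Nat.card_congr (e.toEquiv.subtypeEquiv fun _ => Iff.rfl)
  · rw [Nat.card_congr e.toEquiv, card_aut hσ c2 hD, hK, hA, Nat.card_units, Nat.card_eq_fintype_card, hF', mul_comm (_ - 1)]

end Cfsg.Agent.S3162
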