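import Cfsg.Statements.S3179
import Cfsg.Agent.H8.G52
import Cfsg.Agent.S1163
import Cfsg.Agent.S2503
import Cfsg.Agent.S0280
import Cfsg.Agent.S0243
-- import your own Cfsg.Agent.* helpers here

set_option autoImplicit false
set_option maxRecDepth 200000
open Cfsg

namespace Cfsg.Agent.S3179

/-- Let X be a section of the general linear group GL(5, 2), that is, a quotient of a subgroup of it. If X is isomorphic to PSL(2, 2^n) for some n ≥ 2, to a Suzuki group over the field with 2^(2m+1) elements for some m ≥ 1, or to PSU(3, 2^n) for some n ≥ 2, then X is isomorphic to PSL(2, 4). -/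
theorem result {H : Subgroup (GL (Fin 5) (ZMod 2))}
    {K : Subgroup ↥H} [K.Normal]
    (hX : (∃ (n : ℕ) (F : Type) (_ : Field F) (_ : Fintype F), 2 ≤ n ∧ Fintype.card F = 2 ^ n ∧
        Nonempty (↥H ⧸ K ≃* Matrix.ProjectiveSpecialLinearGroup (Fin 2) F)) ∨
      (∃ (m : ℕ) (F : Type) (_ : Field F) (_ : Fintype F), 1 ≤ m ∧ Fintype.card F = 2 ^ (2 * m + 1) ∧
        Nonempty (↥H ⧸ K ≃* ↥(Cfsg.Lie.Sz F (2 ^ (m + 1))))) ∨
      (∃ (n : ℕ) (F : Type) (_ : Field F) (_ : Fintype F), 2 ≤ n ∧ Fintype.card F = 4 ^ n ∧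
        Nonempty (↥H ⧸ K ≃* Cfsg.PSU 3 F (2 ^ n)))) :
    ∃ (F : Type) (_ : Field F) (_ : Fintype F), Fintype.card F = 4 ∧
      Nonempty (↥H ⧸ K ≃* Matrix.ProjectiveSpecialLinearGroup (Fin 2) F) := by
  have d : Nat.card (H ⧸ K) ∣ 9999360 := (K.card_quotient_dvd_card.trans H.card_subgroup_dvd_card).trans H8.G52.card.dvd
  have big : ∀ n k : ℕ, k ≤ n → 2 ^ k ≤ 2 ^ n := fun n k h => Nat.pow_le_pow_right (by norm_num) h
  rcases hX with ⟨n, F, _, _, hn, hF, ⟨e⟩⟩ | ⟨m, F, _, _, hm, hF, ⟨e⟩⟩ | ⟨n, F, _, _, hn, hF, ⟨e⟩⟩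
  · have c := Cfsg.Agent.S0243.result hF 2 le_rfl
    rw [← Nat.card_congr e.toEquiv, Fin.prod_univ_two] at c
    obtain h | h := le_or_gt 9 n
    · have h1 := big n 9 h
      have h2 := Nat.le_of_dvd (by norm_num) d
      have h3 : Nat.gcd 2 (2 ^ n - 1) ≤ 2 := Nat.gcd_le_left _ (by norm_num)
      generalize 2 ^ n = q at *
      obtain ⟨r, rfl⟩ : ∃ r, q = r + 1 := ⟨q - 1, by omega⟩
      have e1 : (r + 1) ^ 2 - (r + 1) ^ ((0 : Fin 2) : ℕ) = r * (r + 2) := by simp [Nat.sub_eq_iff_eq_add]; ring_nf; omega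
      have e2 : (r + 1) ^ 2 - (r + 1) ^ ((1 : Fin 2) : ℕ) = r * (r + 1) := by simp; ring_nf; omega
      rw [e1, e2, Nat.add_sub_cancel] at c
      rw [Nat.add_sub_cancel] at h3
      have h4 : r * (r * (r + 2) * (r + 1)) ≤ r * (2 * 9999360) := by nlinarith [Nat.mul_le_mul h3 (Nat.mul_le_mul_left r h2)]
      have h5 := Nat.le_of_mul_le_mul_left h4 (by omega)
      nlinarith [Nat.mul_le_mul (Nat.mul_le_mul (show 511 ≤ r by omega) (show 511 ≤ r + 2 by omega)) (show 511 ≤ r + 1 by omega)]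
    interval_cases n
    · exact ⟨F, _, _, hF, ⟨e⟩⟩
    · obtain ⟨A, -, h1, h2, -⟩ := Cfsg.Agent.S2503.result (F := F) (by rw [hF]; norm_num) (by rw [hF]; norm_num)
      obtain ⟨a, ha⟩ := IsCyclic.exists_ofOrder_eq_natCard (α := A)
      obtain ⟨x, hx⟩ := QuotientGroup.mk_surjective (e.symm a)
      have o : orderOf (x : H ⧸ K) = 9 := by rw [hx, MulEquiv.orderOf_eq, Subgroup.orderOf_coe, ha, h2, hF]; norm_num
      have o2 : 9 ∣ orderOf (x : GL (Fin 5) (ZMod 2)) := by rw [Subgroup.orderOf_coe, ← o]; exact orderOf_map_dvd (QuotientGroup.mk' K) x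
      have o3 := orderOf_pow_orderOf_div (orderOf_pos _).ne' o2
      have := orderOf_dvd_of_pow_eq_one (H8.G52.no9 _ (orderOf_dvd_iff_pow_eq_one.1 o3.dvd))
      rw [o3] at this
      norm_num at this
    all_goals
      exfalso
      generalize Nat.card (H ⧸ K) = x at c d
      norm_num at c
      obtain rfl | rfl | rfl | rfl | rfl : x = 4080 ∨ x = 32736 ∨ x = 262080 ∨ x = 2097024 ∨ x = 16776960 := by omega
      all_goals norm_num at d
  · have c := (Cfsg.Agent.S1163.result hm hF).1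
    rw [← Nat.card_congr e.toEquiv] at c
    rw [c] at d
    obtain rfl | h := hm.eq_or_lt
    · norm_num at d
    have h1 := big (2 * m + 1) 5 (by omega)
    have h2 := Nat.le_of_dvd (by norm_num) d
    generalize 2 ^ (2 * m + 1) = q at *
    have h3 : 32 ^ 2 ≤ q ^ 2 := Nat.pow_le_pow_left h1 2
    have := Nat.mul_le_mul (Nat.mul_le_mul h3 (show 31 ≤ q - 1 by omega)) (Nat.add_le_add_right h3 1)
    omega
  · have c := Cfsg.Agent.S0280.result (q := 2 ^ n) (hF.trans (by rw [← pow_mul, mul_comm, pow_mul]; norm_num)) 3 (by norm_num)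
    rw [← Nat.card_congr e.toEquiv] at c
    simp only [Finset.prod_range_succ] at c
    norm_num at c
    exfalso
    generalize Nat.card (H ⧸ K) = x at c d
    obtain h | h := le_or_gt 4 n
    · have h1 := big n 4 h
      have h2 := Nat.le_of_dvd (by norm_num) d
      have h3 : Nat.gcd 3 (2 ^ n + 1) ≤ 3 := Nat.gcd_le_left _ (by norm_num)
      generalize 2 ^ n = q at *
      have h4 : 16 ^ 2 ≤ q ^ 2 := Nat.pow_le_pow_left h1 2
      have h5 : 16 ^ 3 ≤ q ^ 3 := Nat.pow_le_pow_left h1 3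
      have h6 := Nat.mul_le_mul h3 (Nat.mul_le_mul_left (q + 1) h2)
      have h7 := Nat.mul_le_mul h5 (Nat.mul_le_mul (Nat.mul_le_mul_left (q + 1) (show 255 ≤ q ^ 2 - 1 by omega)) (Nat.add_le_add_right h5 1))
      omega
    interval_cases n
    all_goals
      norm_num at c
      obtain rfl | rfl : x = 62400 ∨ x = 5515776 := by omega
      all_goals norm_num at d

end Cfsg.Agent.S3179
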