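import Cfsg.Statements.S3224
import Cfsg.Agent.L.PG4
import Mathlib

set_option autoImplicit false
open Cfsg

namespace Cfsg.Agent.S3224

open Subgroup

/-- A finite 2-group containing an involution whose centralizer has order 4 is dihedral, quasi-dihedral (semidihedral), or of order 4. -/
theorem result {S : Type*} [Group S] [Finite S] (hS : IsPGroup 2 S)
    (x : S) (hx : orderOf x = 2) (hC : Nat.card ↥(Subgroup.centralizer ({x} : Set S)) = 4) :
    (∃ n : ℕ, Nonempty (S ≃* DihedralGroup n)) ∨ Cfsg.IsQuasiDihedral S ∨ Nat.card S = 4 := by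
  obtain ⟨n, hn⟩ := IsPGroup.iff_card.1 hS
  have h0 := card_le_card_group (centralizer ({x} : Set S))
  rw [hC, hn] at h0
  rcases n with _ | _ | _ | n
  · omega
  · omega
  · exact Or.inr (Or.inr hn)
  obtain ⟨a, b, h1, h2, h3, h4⟩ := L.dqs_of_max_class hn ((L.nilpotencyClass_eq_iff hn).1
    (L.max_class_of_centralizer _ hn x hC.le))
  have hi : (zpowers a).relIndex ⊤ = 2 := by rwa [relIndex_top_right]
  have h5 : x ∉ zpowers a := fun h => by
    have h6 : zpowers a < centralizer {x} := lt_of_le_of_ne (zpowers_le.2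
      (mem_centralizer_singleton_iff.2 (L.commute_of_mem_zpowers h).symm)) fun e => h3 (by
        rw [e, mem_centralizer_singleton_iff]
        refine (h4.commute_iff (by omega) h1 h).2 ?_
        obtain ⟨m, rfl⟩ := h
        have := pow_orderOf_eq_one (a ^ m)
        simp only at hx
        rw [hx, ← zpow_natCast, ← zpow_mul, L.zpow_eq_one_iff_dvd h1] at this
        obtain ⟨w, hw⟩ := this
        exact ⟨w, by
          simp only [← zpow_natCast, ← zpow_mul]; congr 1
          apply mul_right_cancel₀ (two_ne_zero' ℤ); push_cast at hw ⊢; rw [hw]; ring⟩)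
    have := H1.card_lt_of_lt h6
    rw [hC, Nat.card_zpowers, h1, pow_add] at this
    omega
  rcases h4 with h | ⟨h6, h7⟩ | h
  · exact Or.inl ⟨_, H5.dih_equiv_of_index_two a b (by rw [← pow_two, h.1]) h.2 h3 h2⟩
  · exfalso
    obtain ⟨i, hi⟩ := L.mul_mem_of_relIndex_two hi trivial trivial h5 (show b⁻¹ ∉ _ by simpa using h3)
    have h8 := pow_orderOf_eq_one x
    rw [hx, show x = a ^ i * b by simp only at hi; rw [hi]; group,
      show (a ^ i * b) ^ 2 = a ^ i * (b * a ^ i * b⁻¹) * b ^ 2 by rw [pow_two, pow_two]; group,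
      ← conj_zpow, h7, h6] at h8
    have h9 := L.orderOf_pow_two_pow h1
    rw [show a ^ 2 ^ (n + 1) = 1 by simpa using h8] at h9
    simp at h9
  · exact Or.inr (Or.inl ⟨n + 2, by have := h.1; omega, hn, a, b, h1,
      orderOf_eq_prime h.2.1 (by rintro rfl; exact h3 (one_mem _)), h.2.2⟩)

end Cfsg.Agent.S3224
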