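import Cfsg.Statements.S3390
import Cfsg.Agent.S3224

set_option autoImplicit false
open Cfsg

namespace Cfsg.Agent.S3390

open Subgroup MulAction
open scoped commutatorElement Pointwise

theorem fix3 {X : Type*} [Finite X] {s : Set X} (h : Nat.card s ≤ 2) {a b c : X} (ha : a ∈ s) (hb : b ∈ s) (hc : c ∈ s)
    (ab : a ≠ b) : c = a ∨ c = b := by
  by_contra! hn
  have h3 : ({a, b, c} : Set X).ncard = 3 := Set.ncard_eq_three.2 ⟨a, b, c, ab, hn.1.symm, hn.2.symm, rfl⟩
  have := Set.ncard_le_ncard (s := {a, b, c}) (t := s) (by rintro _ (rfl | rfl | rfl) <;> assumption)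
  rw [Nat.card_coe_set_eq] at h
  omega

theorem card2 {X : Type*} {s : Set X} {a b : X} (ha : a ∈ s) (hb : b ∈ s) (ab : a ≠ b)
    (h : ∀ c ∈ s, c = a ∨ c = b) : Nat.card s = 2 := by
  rw [Nat.card_coe_set_eq, ← Set.ncard_pair ab]
  congr 1
  exact Set.Subset.antisymm h (by rintro _ (rfl | rfl) <;> assumption)

theorem mod2 {K X : Type*} [Group K] [Finite X] [MulAction K X] {p : ℕ} (hp : p.Prime) {g : K} (hg : orderOf g = p)
    {a b : X} (ha : g • a = a) (hb : g • b = b) (ab : a ≠ b) (h : ∀ c, g • c = c → c = a ∨ c = b) :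
    Nat.card X ≡ 2 [MOD p] := by
  have := Fact.mk hp
  have h1 : IsPGroup p (zpowers g) := IsPGroup.of_card (n := 1) (by rw [Nat.card_zpowers, hg, pow_one])
  have o : ∀ c : X, g • c = c → c ∈ fixedPoints (zpowers g) X := fun c hc k =>
    (zpowers_le.2 (mem_stabilizer_iff.2 hc) : zpowers g ≤ stabilizer K c) k.2
  rw [← card2 (o a ha) (o b hb) ab fun c hc => h c (hc ⟨g, mem_zpowers g⟩)]
  exact h1.card_modEq_card_fixedPoints X

theorem burn {K X : Type*} [Group K] [Finite K] [Finite X] [MulAction K X]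
    (h : ∀ g : K, g ≠ 1 → Nat.card (fixedBy X g) = 2) : ∃ k, Nat.card X + 2 * Nat.card K = k * Nat.card K + 2 := by
  classical
  have := Fintype.ofFinite K
  have := Fintype.ofFinite X
  have := Fintype.ofFinite (Quotient (orbitRel K X))
  have e := sum_card_fixedBy_eq_card_orbits_mul_card_group K X
  rw [← Finset.add_sum_erase _ _ (Finset.mem_univ 1), Finset.sum_congr rfl (g := fun _ => 2) fun g hg => by
    rw [← Nat.card_eq_fintype_card, h g (Finset.ne_of_mem_erase hg)]] at e
  simp only [Finset.sum_const, smul_eq_mul, Finset.card_erase_of_mem (Finset.mem_univ _), Finset.card_univ,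
    ← Nat.card_eq_fintype_card, fixedBy_one_eq_univ, Nat.card_univ] at e
  have : 0 < Nat.card K := Nat.card_pos
  exact ⟨_, by rw [← e]; omega⟩

theorem lemA {P Ω : Type*} [Group P] [Finite P] [Finite Ω] [MulAction P Ω] (hP : IsPGroup 2 P)
    (hfix : ∀ g : P, g ≠ 1 → Nat.card (fixedBy Ω g) ≤ 2) (ω : Ω) (h0 : stabilizer P ω ≠ ⊥)
    (h1 : (stabilizer P ω).index ≠ 1) (h2 : (stabilizer P ω).index ≠ 2) :
    Nat.card (stabilizer P ω) = 2 ∧ ((∃ n : ℕ, Nonempty (P ≃* DihedralGroup n)) ∨ Cfsg.IsQuasiDihedral P) := by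
  obtain ⟨n, hn⟩ := hP.index (stabilizer P ω)
  obtain ⟨n, rfl⟩ : ∃ m, n = m + 2 := by
    rcases n with _ | _ | n
    · exact absurd hn h1
    · exact absurd hn h2
    · exact ⟨n, rfl⟩
  obtain ⟨a, ha⟩ := IsPGroup.iff_card.1 (hP.to_subgroup (stabilizer P ω))
  have := hP.isNilpotent
  obtain ⟨s, sN, sT⟩ := SetLike.exists_of_lt (normalizerCondition_of_isNilpotent (stabilizer P ω)
    (lt_top_iff_ne_top.2 fun e => h1 (index_eq_one.2 e)))
  have ne : ω ≠ s • ω := fun e => sT e.symm
  have fβ : ∀ t ∈ stabilizer P ω, t • s • ω = s • ω := fun t ht => by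
    have : s⁻¹ * t * s ∈ stabilizer P ω := (mem_normalizer_iff''.1 sN t).1 ht
    rw [mem_stabilizer_iff, mul_smul, mul_smul, inv_smul_eq_iff] at this
    exact this
  obtain ⟨k, hk⟩ := burn (K := stabilizer P ω) (X := orbit P ω) fun g hg =>
    card2 (a := ⟨ω, mem_orbit_self ω⟩) (b := ⟨s • ω, mem_orbit ω s⟩) (Subtype.ext g.2) (Subtype.ext (fβ g g.2))
      (fun e => ne (congrArg Subtype.val e)) fun c hc =>
        (fix3 (hfix g fun e => hg (Subtype.ext e)) g.2 (fβ g g.2) (congrArg Subtype.val hc) ne).imp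
          Subtype.ext Subtype.ext
  rw [Nat.card_coe_set_eq, ← index_stabilizer, hn, ha] at hk
  have hT : Nat.card (stabilizer P ω) = 2 := by
    rcases a with _ | _ | a
    · exact absurd (card_eq_one.1 ha) h0
    · exact ha
    · rw [pow_add 2 n, show 2 ^ (a + 1 + 1) = 2 ^ a * 4 by ring, ← mul_assoc k] at hk
      generalize k * 2 ^ a = q at hk
      omega
  refine ⟨hT, ?_⟩
  obtain ⟨⟨t, ht⟩, t1, tu⟩ := (Nat.card_eq_two_iff' (1 : stabilizer P ω)).1 hT
  have t1' : t ≠ 1 := fun e => t1 (Subtype.ext e)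
  have tu' : ∀ y ∈ stabilizer P ω, y ≠ 1 → y = t := fun y hy h =>
    congrArg Subtype.val (tu ⟨y, hy⟩ fun e => h (congrArg Subtype.val e))
  have ot : orderOf t = 2 := by
    have := orderOf_dvd_natCard (⟨t, ht⟩ : stabilizer P ω)
    rw [hT, orderOf_mk] at this
    exact ((Nat.dvd_prime Nat.prime_two).1 this).resolve_left fun e => t1' (orderOf_eq_one_iff.1 e)
  have le : stabilizer P ω ≤ centralizer {t} := fun y hy => mem_centralizer_singleton_iff.2 (by
    by_cases h : y = 1
    · simp [h]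
    · rw [tu' y hy h])
  have sC : s ∈ centralizer {t} := mem_centralizer_singleton_iff.2 (by
    have := tu' _ ((mem_normalizer_iff.1 sN t).1 ht) (by simpa using t1')
    rwa [mul_inv_eq_iff_eq_mul] at this)
  have c1 : Nat.card (stabilizer P ω) < Nat.card (centralizer ({t} : Set P)) :=
    lt_of_le_of_ne (card_le_of_le le) fun e => sT (eq_of_le_of_card_ge le e.ge ▸ sC)
  have c2 := card_dvd_of_le le
  have c3 : Nat.card (centralizer ({t} : Set P)) ≤ 4 := by
    have e := (stabilizer (centralizer ({t} : Set P)) ω).card_mul_index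
    have a1 : Nat.card (stabilizer (centralizer ({t} : Set P)) ω) ≤ 2 := hT ▸ Nat.card_le_card_of_injective
      (fun x => (⟨x.1.1, x.2⟩ : stabilizer P ω)) fun x y e => Subtype.ext (Subtype.ext (congrArg (fun z : stabilizer P ω => z.1) e))
    have a2 : (stabilizer (centralizer ({t} : Set P)) ω).index ≤ 2 := by
      rw [index_stabilizer]
      refine le_trans (Set.ncard_le_ncard (t := fixedBy Ω t) ?_) (hfix t t1')
      rintro _ ⟨c, rfl⟩
      show t • (c : P) • ω = (c : P) • ω
      rw [← mul_smul, ← mem_centralizer_singleton_iff.1 c.2, mul_smul, ht]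
    rw [← e]; exact Nat.mul_le_mul a1 a2
  rw [hT] at c1 c2
  rcases Cfsg.Agent.S3224.result hP t ot (by omega) with h | h | h
  · exact Or.inl h
  · exact Or.inr h
  · have := (stabilizer P ω).card_mul_index
    rw [hT, hn, h, pow_add] at this
    have : 0 < 2 ^ n := by positivity
    omega


/-- Let G be a finite group acting faithfully and transitively on a finite set Ω with fixity 2 (every non-identity element fixes at most two points, and some fixes exactly two). Let α ∈ Ω and S a Sylow 2-subgroup of G. Then one of the following holds: the stabilizer S_α of α in S is trivial; S is dihedral or semidihedral and either |S_α| = 2 or |S : S_α| = 2; |S| ≥ 4, S has exactly one orbit of size 2 on Ω, every other S-orbit is regular, and G has a normal subgroup of index 2 or of index |S| which is a Frobenius group; or S ≤ G_α. -/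
theorem result {G : Type*} [Group G] [Finite G] {Ω : Type*} [Fintype Ω] [MulAction G Ω] [FaithfulSMul G Ω] (htr : MulAction.IsPretransitive G Ω)
    (hfix : ∀ g : G, g ≠ 1 → Nat.card (MulAction.fixedBy Ω g) ≤ 2) (hex : ∃ g : G, g ≠ 1 ∧ Nat.card (MulAction.fixedBy Ω g) = 2) (α : Ω) (S : Sylow 2 G) :
    (S : Subgroup G) ⊓ MulAction.stabilizer G α = ⊥ ∨
    (((∃ n : ℕ, Nonempty (↥(S : Subgroup G) ≃* DihedralGroup n)) ∨ Cfsg.IsQuasiDihedral ↥(S : Subgroup G)) ∧
       (Nat.card ↥((S : Subgroup G) ⊓ MulAction.stabilizer G α) = 2 ∨ ((S : Subgroup G) ⊓ MulAction.stabilizer G α).relIndex (S : Subgroup G) = 2)) ∨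
    (4 ≤ Nat.card (S : Subgroup G) ∧
       (∃ ω : Ω, Nat.card (MulAction.orbit ↥(S : Subgroup G) ω) = 2 ∧
          ∀ ω' : Ω, ω' ∉ MulAction.orbit ↥(S : Subgroup G) ω → Nat.card (MulAction.orbit ↥(S : Subgroup G) ω') = Nat.card (S : Subgroup G)) ∧
       ∃ N : Subgroup G, N.Normal ∧ (N.index = 2 ∨ N.index = Nat.card (S : Subgroup G)) ∧ (∃ H : Subgroup ↥N, Cfsg.IsFrobeniusComplement H)) ∨
    (S : Subgroup G) ≤ MulAction.stabilizer G α := by
  have eS : ((S : Subgroup G) ⊓ stabilizer G α).subgroupOf S = stabilizer S α := by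
    ext x; simp [mem_subgroupOf]; rfl
  have eC : Nat.card ↥((S : Subgroup G) ⊓ stabilizer G α) = Nat.card (stabilizer S α) := by
    rw [← eS]; exact (Nat.card_congr (subgroupOfEquivOfLe inf_le_left).toEquiv).symm
  have hf : ∀ g : S, g ≠ 1 → Nat.card (fixedBy Ω g) ≤ 2 := fun g hg => hfix g fun e => hg (Subtype.ext e)
  by_cases h0 : stabilizer S α = ⊥
  · exact Or.inl (card_eq_one.1 (by rw [eC, h0, card_bot]))
  by_cases h1 : (stabilizer S α).index = 1
  · exact Or.inr (Or.inr (Or.inr fun x hx => (index_eq_one.1 h1 ▸ mem_top _ : (⟨x, hx⟩ : S) ∈ stabilizer S α)))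
  by_cases h2 : (stabilizer S α).index = 2
  swap
  · obtain ⟨a, b⟩ := lemA S.2 hf α h0 h1 h2
    exact Or.inr (Or.inl ⟨b, Or.inl (eC.trans a)⟩)
  have nT := normal_of_index_eq_two h2
  have cT := (stabilizer S α).card_mul_index
  have T2 : 1 < Nat.card (stabilizer S α) := (one_lt_card_iff_ne_bot _).2 h0
  rw [h2] at cT
  have fo : ∀ x : S, ∀ ω ∈ orbit S α, x • ω = ω ↔ x ∈ stabilizer S α := by
    rintro x _ ⟨s, rfl⟩
    have : x ∈ stabilizer S α ↔ s⁻¹ * (x * s) ∈ stabilizer S α := by
      rw [nT.mem_comm_iff, mul_inv_cancel_right]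
    rw [this, mem_stabilizer_iff, mul_smul, mul_smul, inv_smul_eq_iff]
  obtain ⟨s, sT⟩ : ∃ s : S, s ∉ stabilizer S α := by
    by_contra! h; exact h1 (index_eq_one.2 ((eq_top_iff' _).2 h))
  have ne : α ≠ s • α := fun e => sT e.symm
  by_cases h3 : ∃ γ ∉ orbit S α, stabilizer S γ ≠ ⊥
  · obtain ⟨γ, a, b⟩ := h3
    refine Or.inr (Or.inl ⟨?_, Or.inr (by rw [relIndex, eS, h2])⟩)
    have dj : ∀ x ∈ stabilizer S γ, x ∈ stabilizer S α → x = 1 := fun x h h' => by
      by_contra x1
      rcases fix3 (hf x x1) h' ((fo x _ (mem_orbit α s)).2 h') h ne with rfl | rfl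
      exacts [a (mem_orbit_self _), a (mem_orbit α s)]
    by_cases i1 : (stabilizer S γ).index = 1
    · exact absurd ((eq_bot_iff_forall _).2 fun x hx => dj x (index_eq_one.1 i1 ▸ mem_top _) hx) h0
    by_cases i2 : (stabilizer S γ).index = 2
    swap
    · exact (lemA S.2 hf γ b i1 i2).2
    have c4 := index_inf_le (H := stabilizer S γ) (K := stabilizer S α)
    rw [(eq_bot_iff_forall (stabilizer S γ ⊓ stabilizer S α)).2 fun x hx => dj x hx.1 hx.2, index_bot, i2, h2] at c4
    have c5 := card_subgroup_dvd_card (stabilizer S α)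
    have ex : Monoid.exponent S ∣ 2 := Monoid.exponent_dvd_of_forall_pow_eq_one fun g =>
      dj _ (sq_mem_of_index_two i2 g) (sq_mem_of_index_two h2 g)
    have : Nontrivial S := Finite.one_lt_card_iff_nontrivial.1 (by omega)
    have : IsKleinFour S := ⟨by omega, ((Nat.dvd_prime Nat.prime_two).1 ex).resolve_left Monoid.one_lt_exponent.ne'⟩
    exact Or.inl ⟨2, IsKleinFour.nonempty_mulEquiv⟩
  push Not at h3
  refine Or.inr (Or.inr (Or.inl ⟨by omega, ⟨α, by rw [Nat.card_coe_set_eq, ← index_stabilizer, h2], fun ω h => by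
    rw [Nat.card_coe_set_eq, ← index_stabilizer, h3 ω h, index_bot]⟩, ?_⟩))
  have fx : ∀ x : S, ∀ ω : Ω, x • ω = ω → x ∈ stabilizer S α := fun x ω h => by
    by_cases o : ω ∈ orbit S α
    · exact (fo x ω o).1 h
    · rw [show x = 1 from mem_bot.1 (h3 ω o ▸ mem_stabilizer_iff.2 h)]; exact one_mem _
  have foc : (S : Subgroup G).focalSubgroupOf ≤ stabilizer S α := by
    have : (S : Subgroup G).focalSubgroup ≤ stabilizer G α := by
      rw [focalSubgroup_def, closure_le]
      rintro g ⟨hg, x, hx, u, rfl⟩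
      have hy : u * x⁻¹ * u⁻¹ ∈ (S : Subgroup G) := by
        have := mul_mem (inv_mem hx) hg
        simpa [commutatorElement_def, mul_assoc] using this
      have := (mul_mem_iff_of_index_two h2 (a := ⟨x, hx⟩) (b := ⟨_, hy⟩)).2
        ⟨fun h => fx _ (u • α) (by
          show (u * x⁻¹ * u⁻¹) • u • α = u • α
          rw [mul_smul, inv_smul_smul, mul_smul, inv_smul_eq_iff.2 (show x • α = α from h).symm]),
         fun h => fx _ (u⁻¹ • α) (by
          have h' : (u * x⁻¹ * u⁻¹) • α = α := h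
          rw [mul_smul, mul_smul, ← eq_inv_smul_iff, inv_smul_eq_iff] at h'
          exact h'.symm)⟩
      have e : ⁅x, u⁆ = x * (u * x⁻¹ * u⁻¹) := by simp [commutatorElement_def, mul_assoc]
      rw [e]; exact this
    exact fun x hx => this hx
  obtain ⟨N, iN, TN⟩ : ∃ N : Subgroup G, N.index = 2 ∧ ∀ t ∈ stabilizer S α, (t : G) ∈ N := by
    refine ⟨((stabilizer S α).map (QuotientGroup.mk' _)).comap (S : Subgroup G).transferFocal, ?_, fun t ht => ?_⟩
    · rw [index_comap_of_surjective _ (transferFocal_surjective S),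
        index_map_eq _ (QuotientGroup.mk'_surjective _) (by rwa [QuotientGroup.ker_mk']), h2]
    · rw [mem_comap, transferFocal_eq_pow]
      exact pow_mem (mem_map_of_mem _ ht) _
  have nN := normal_of_index_eq_two iN
  obtain ⟨⟨t, ht⟩, t1⟩ := ne_bot_iff_exists_ne_one.1 h0
  have t1' : (t : G) ≠ 1 := fun e => t1 (Subtype.ext (Subtype.ext e))
  refine ⟨N, nN, Or.inl iN, stabilizer N α, fun e => t1' ?_, fun e => t1' ?_, fun h hh => ?_⟩
  · have : (⟨t, TN t ht⟩ : N) ∈ stabilizer N α := ht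
    rw [e] at this
    exact congrArg Subtype.val (mem_bot.1 this)
  · refine eq_of_smul_eq_smul (α := Ω) fun c => ?_
    obtain ⟨u, rfl⟩ := exists_smul_eq G α c
    have : (⟨u⁻¹ * t * u, nN.conj_mem' _ (TN t ht) u⟩ : N) ∈ stabilizer N α := e ▸ mem_top _
    have h' : (u⁻¹ * t * u) • α = α := this
    rw [mul_smul, mul_smul, inv_smul_eq_iff] at h'
    rw [h', one_smul]
  have n1 : ¬ 2 ∣ (stabilizer N α).index := fun h => S.not_dvd_index (by
    obtain ⟨r, hr⟩ := card_dvd_of_injective
      (MonoidHom.mk' (fun x => ⟨⟨x.1.1, TN _ x.2⟩, x.2⟩) fun _ _ => rfl : stabilizer S α →* stabilizer N α)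
      fun x y e => Subtype.ext (Subtype.ext (congrArg (fun z : stabilizer N α => z.1.1) e))
    have a1 := (stabilizer N α).card_mul_index
    have a2 := N.card_mul_index
    have a3 := (S : Subgroup G).card_mul_index
    rw [← a2, ← a1, hr, iN, ← cT, mul_right_comm, mul_assoc _ r] at a3
    rw [Nat.eq_of_mul_eq_mul_left (by omega) (Nat.eq_of_mul_eq_mul_right two_pos a3)]
    exact h.mul_left r)
  have n2 : Nat.card Ω = 2 * (stabilizer N α).index := by
    have ev : Nat.card Ω ≡ 0 [MOD 2] := by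
      have := S.2.card_modEq_card_fixedPoints Ω
      rwa [show fixedPoints S Ω = ∅ from Set.eq_empty_of_forall_notMem fun c hc => sT (fx s c (hc s)),
        Nat.card_coe_set_eq, Set.ncard_empty] at this
    have a1 := relIndex_mul_index (inf_le_left : stabilizer G α ⊓ N ≤ _)
    have a2 := relIndex_mul_index (inf_le_right : stabilizer G α ⊓ N ≤ _)
    have a3 := relIndex_dvd_index_of_normal N (stabilizer G α)
    rw [inf_relIndex_left, index_stabilizer_of_transitive] at a1
    rw [inf_relIndex_right, iN, show (stabilizer G α).relIndex N = (stabilizer N α).index from rfl] at a2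
    rw [iN] at a3
    rcases (Nat.dvd_prime Nat.prime_two).1 a3 with e | e <;> rw [e] at a1 <;> unfold Nat.ModEq at ev <;> omega
  rw [eq_bot_iff_forall]
  rintro k ⟨k1, k2⟩
  by_contra hk
  obtain ⟨p, hp, hd⟩ := Nat.exists_prime_and_dvd (mt orderOf_eq_one_iff.1 hk)
  have og := orderOf_pow_orderOf_div (orderOf_pos k).ne' hd
  have k3 : k ∈ stabilizer N (h • α) := by
    have : (h⁻¹ * k * h) • α = α := by
      have := mem_pointwise_smul_iff_inv_smul_mem.1 k2
      simpa using this
    rwa [mul_smul, mul_smul, inv_smul_eq_iff] at this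
  generalize hg : k ^ (orderOf k / p) = g at og
  have g1 : g • α = α := hg ▸ pow_mem k1 _
  have g2 : g • h • α = h • α := hg ▸ pow_mem k3 _
  have g0 : (g : G) ≠ 1 := fun e => hp.one_lt.ne' (by rw [← og, show g = 1 from Subtype.ext e, orderOf_one])
  have ne' : α ≠ h • α := fun e => hh e.symm
  have m1 := mod2 hp og g1 g2 ne' fun c hc => fix3 (hfix g g0) g1 g2 hc ne'
  have m2 := mod2 (X := orbit N α) hp og (a := ⟨α, mem_orbit_self α⟩) (b := ⟨h • α, mem_orbit α h⟩)
    (Subtype.ext g1) (Subtype.ext g2) (fun e => ne' (congrArg Subtype.val e)) fun c hc =>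
      (fix3 (hfix g g0) g1 g2 (congrArg Subtype.val hc) ne').imp Subtype.ext Subtype.ext
  rw [Nat.card_coe_set_eq, ← index_stabilizer] at m2
  rw [n2] at m1
  have m3 : p ∣ 2 := (Nat.modEq_iff_dvd' (by norm_num : 2 ≤ 2 * 2)).1 (m1.symm.trans (m2.mul_left 2))
  obtain rfl := (Nat.prime_dvd_prime_iff_eq hp Nat.prime_two).1 m3
  unfold Nat.ModEq at m2
  omega

end Cfsg.Agent.S3390
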