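import Cfsg.Statements.S3413
import Cfsg.Agent.H3.M5
import Cfsg.Agent.H7.M24Orb

set_option autoImplicit false
open Cfsg

namespace Cfsg.Agent.S3413

open H3 H4 Subgroup

/-- Let H be a finite group whose commuting graph (vertices the non-identity elements, two joined when they commute) is isomorphic to that of the Mathieu group M_11: there is a bijection between the non-identity elements of H and of M_11 under which two elements commute exactly when their images do. Then H ≅ M_11. -/
theorem result {H : Type*} [Group H] [Finite H]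
    (f : {h : H // h ≠ 1} ≃ {g : ↥Cfsg.Spor.M11 // g ≠ 1})
    (hf : ∀ x y : {h : H // h ≠ 1}, (x : H) * y = y * x ↔ ((f x) : ↥Cfsg.Spor.M11) * (f y) = (f y) * (f x)) :
    Nonempty (H ≃* ↥Cfsg.Spor.M11) := by
  haveI := H7.isM11.1
  have c : Nat.card H = 7920 := by
    classical
    rw [← H7.isM11.2, ← Nat.card_congr (Equiv.optionSubtypeNe (1 : H)), ← Nat.card_congr (Equiv.optionSubtypeNe (1 : Cfsg.Spor.M11)),
      Finite.card_option, Finite.card_option, Nat.card_congr f]
  haveI := M11.simple_of c fun g o => by
    have g1 : g ≠ 1 := by rintro rfl; simp at o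
    have a : Nat.card (C1 g) = Nat.card (C1 (f ⟨g, g1⟩).1) := by
      rw [card_C1_eq, card_C1_eq]
      exact congrArg (· + 1) (Nat.card_congr (f.subtypeEquiv fun y => hf ⟨g, g1⟩ y))
    have b := o ▸ Subgroup.orderOf_dvd_natCard (C1 g) (mem_centralizer_singleton_iff.2 rfl)
    rw [a] at b
    rw [M11.cen11 H7.isM11.2 (f ⟨g, g1⟩).2 ((show 11 ∣ 22 by norm_num).trans b)] at b
    omega
  exact M11.unique c H7.isM11.2

end Cfsg.Agent.S3413
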