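import Cfsg.Statements.S3495
import Cfsg.Agent.H2.Man

set_option autoImplicit false
open Cfsg

namespace Cfsg.Agent.S3495

open MulAction in

/-- Let a finite group G act faithfully and primitively on a finite set Ω with non-trivial point stabilizers, each acting primitively on every one of its orbits (an extremely primitive group), and suppose G has an elementary abelian normal p-subgroup N acting regularly on Ω (affine type). Then every non-trivial subgroup M of a point stabilizer G_α that is normal in G_α has the same orbits on Ω as G_α, and normalizes no subgroup of N other than 1 and N. -/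
theorem result {G : Type*} [Group G] [Finite G] {Ω : Type*} [Fintype Ω] [MulAction G Ω] [FaithfulSMul G Ω] (hprim : MulAction.IsPreprimitive G Ω) (hH : ∀ α : Ω, MulAction.stabilizer G α ≠ ⊥) (hep : ∀ (α : Ω) (ω : Ω), MulAction.IsPreprimitive (MulAction.stabilizer G α) (MulAction.orbit (MulAction.stabilizer G α) ω))
    (N : Subgroup G) [N.Normal] (hNc : IsMulCommutative N) (p : ℕ) (hp : p.Prime) (hNp : ∀ n ∈ N, n ^ p = 1)
    (hNtr : MulAction.IsPretransitive N Ω) (hNreg : ∀ ω : Ω, MulAction.stabilizer N ω = ⊥) (α : Ω) (M : Subgroup G) (hM : M ≠ ⊥) (hMle : M ≤ MulAction.stabilizer G α)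
    (hMn : MulAction.stabilizer G α ≤ Subgroup.normalizer (M : Set G)) :
    (∀ ω : Ω, MulAction.orbit M ω = MulAction.orbit (MulAction.stabilizer G α) ω) ∧
    (∀ L : Subgroup G, L ≤ N → M ≤ Subgroup.normalizer (L : Set G) → L = ⊥ ∨ L = N) := by
  have key := fun ω g hg => H2.orbit_eq_of_normal hprim hH hep hM hMle hMn ω (g := g) hg
  refine ⟨fun ω => Set.ext fun x => ⟨fun ⟨k, hk⟩ => ⟨⟨k, hMle k.2⟩, hk⟩, fun ⟨g, hg⟩ => ?_⟩, fun L hL hML => ?_⟩
  · obtain ⟨k, hk, e⟩ := key ω g g.2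
    exact ⟨⟨k, hk⟩, e.trans hg⟩
  have reg : ∀ a ∈ N, ∀ b ∈ N, a • α = b • α → a = b := fun a ha b hb h => by
    have : (⟨b⁻¹ * a, N.mul_mem (N.inv_mem hb) ha⟩ : N) ∈ stabilizer N α := by
      show (b⁻¹ * a) • α = α
      rw [mul_smul, h, inv_smul_smul]
    rw [hNreg, Subgroup.mem_bot] at this
    exact (inv_mul_eq_one.1 (congrArg Subtype.val this)).symm
  have hn : ∀ g : G, ∀ l ∈ N, g * l * g⁻¹ ∈ N := fun g l hl => Subgroup.Normal.conj_mem inferInstance l hl g
  have h1 : ∀ g : G, g • α = α → ∀ l ∈ L, g * l * g⁻¹ ∈ L := fun g hg l hl => by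
    obtain ⟨k, hk, e⟩ := key (l • α) g hg
    rw [← reg _ (hn k l (hL hl)) _ (hn g l (hL hl)) (by
      rw [mul_smul, mul_smul, mul_smul, mul_smul, inv_smul_eq_iff.2 hg.symm, inv_smul_eq_iff.2 (hMle hk).symm, e])]
    exact H1.conj_mem_of_mem_normalizer (hML hk) hl
  haveI : L.Normal := ⟨fun l hl g => by
    obtain ⟨n, hn'⟩ := hNtr.exists_smul_eq α (g • α)
    have h2 := h1 ((n : G)⁻¹ * g) (by rw [mul_smul, inv_smul_eq_iff]; exact hn'.symm) l hl
    have h3 := H1.comm_of_mem hNc n.2 (hL h2)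
    have : g * l * g⁻¹ = n * ((n : G)⁻¹ * g * l * ((n : G)⁻¹ * g)⁻¹) * (n : G)⁻¹ := by group
    rw [this, h3, mul_inv_cancel_right]; exact h2⟩
  refine or_iff_not_imp_left.2 fun h0 => le_antisymm hL fun n hn' => ?_
  have := IsQuasiPreprimitive.isPretransitive_of_normal (X := Ω) (N := L) (fun h => h0 (eq_bot_iff.2 fun l hl => by
    have : α ∈ fixedPoints L Ω := h ▸ Set.mem_univ _
    exact reg l (hL hl) 1 N.one_mem (by rw [one_smul]; exact this ⟨l, hl⟩)))
  obtain ⟨l, hl⟩ := this.exists_smul_eq α (n • α)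
  exact reg _ (hL l.2) _ hn' hl ▸ l.2

end Cfsg.Agent.S3495
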