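import Cfsg.Statements.S3496
import Cfsg.Agent.H9.XP2
import Cfsg.Agent.S3495

set_option autoImplicit false
open Cfsg

namespace Cfsg.Agent.S3496

/-- The soluble extremely primitive groups. Let a finite solvable group G act faithfully and primitively on a finite set Ω with p ^ d points (p prime), with non-trivial point stabilizers each acting primitively on every one of its orbits. Then there is a prime q such that every orbit of a point stabilizer G_α other than {α} has exactly q points, q divides p ^ d − 1 but no p ^ i − 1 with 0 < i < d, and G_α has a normal subgroup T of order q with G_α generated by T and one further element and the order of G_α dividing q·d (so G_α is cyclic of order q, or an extension of T by a cyclic group of order dividing d). -/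
theorem result {G : Type*} [Group G] [Finite G] {Ω : Type*} [Fintype Ω] [MulAction G Ω] [FaithfulSMul G Ω] [Group.IsSolvable G] (p d : ℕ) (hp : p.Prime) (hcard : Fintype.card Ω = p ^ d)
    (hprim : MulAction.IsPreprimitive G Ω) (hH : ∀ α : Ω, MulAction.stabilizer G α ≠ ⊥) (hep : ∀ (α : Ω) (ω : Ω), MulAction.IsPreprimitive (MulAction.stabilizer G α) (MulAction.orbit (MulAction.stabilizer G α) ω)) (α : Ω) :
    ∃ q : ℕ, q.Prime ∧ (∀ ω : Ω, ω ≠ α → Nat.card (MulAction.orbit (MulAction.stabilizer G α) ω) = q) ∧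
      q ∣ p ^ d - 1 ∧ (∀ i : ℕ, 0 < i → i < d → ¬ q ∣ p ^ i - 1) ∧
      ∃ T : Subgroup G, T ≤ MulAction.stabilizer G α ∧ MulAction.stabilizer G α ≤ Subgroup.normalizer (T : Set G) ∧ Nat.card T = q ∧
        (∃ h : G, MulAction.stabilizer G α = T ⊔ Subgroup.zpowers h) ∧ Nat.card (MulAction.stabilizer G α) ∣ q * d := by
  open H9 Subgroup in open scoped commutatorElement in
  classical
  have X := H9.XP.hyp_of hprim hep α (hH α)
  haveI : Nonempty Ω := ⟨α⟩
  have Y := H9.XP.hyp_opt hprim
  haveI : Nontrivial (MulAction.stabilizer G α) := (Subgroup.nontrivial_iff_ne_bot _).mpr (hH α)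
  haveI : Nontrivial G := (MulAction.stabilizer G α).subtype_injective.nontrivial
  have hN0 : fittingSubgroup G ≠ ⊥ := H1.fitting_ne_bot
  obtain ⟨r, hr, hNr, hNc⟩ := Y.nilp _ H1.fitting_isNilpotent hN0
  have hF0 : fittingSubgroup (MulAction.stabilizer G α) ≠ ⊥ := H1.fitting_ne_bot
  obtain ⟨q, hq, hFq, hFc⟩ := X.nilp _ H1.fitting_isNilpotent hF0
  set N := fittingSubgroup G
  set T0 := fittingSubgroup (MulAction.stabilizer G α)
  set T := T0.map (MulAction.stabilizer G α).subtype with hT
  have hNtr : MulAction.IsPretransitive N Ω := ⟨fun x y => by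
    obtain ⟨g, rfl⟩ := hprim.toIsPretransitive.exists_smul_eq x y
    obtain ⟨k, hk, e⟩ := Y.tr N inferInstance hN0 (some x) g
    exact ⟨⟨k, hk⟩, Option.some_injective _ e⟩⟩
  have hNreg : ∀ ω : Ω, MulAction.stabilizer N ω = ⊥ := fun ω => eq_bot_iff.mpr fun k hk =>
    Subtype.ext (Y.cent_fix inferInstance hN0 (fun m hm => hNc k k.2 m hm) (Option.some_ne_none ω) (congrArg some hk))
  have hNcard : Nat.card N = p ^ d := by
    rw [← hcard, ← Nat.card_eq_fintype_card, ← MulAction.index_stabilizer_of_transitive N α, hNreg, Subgroup.index_bot]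
  have hT0 : T ≠ ⊥ := fun h => hF0 ((Subgroup.map_eq_bot_iff_of_injective T0 Subtype.val_injective).mp h)
  have hTle : T ≤ MulAction.stabilizer G α := Subgroup.map_subtype_le T0
  have hconj : ∀ h ∈ MulAction.stabilizer G α, ∀ t ∈ T, h * t * h⁻¹ ∈ T := by
    rintro h hh _ ⟨m, hm, rfl⟩
    exact ⟨_, Subgroup.Normal.conj_mem inferInstance m hm ⟨h, hh⟩, rfl⟩
  have hTn : MulAction.stabilizer G α ≤ Subgroup.normalizer (T : Set G) := fun h hh =>
    Subgroup.mem_normalizer_fintype (hconj h hh)
  have irr := (Cfsg.Agent.S3495.result hprim hH hep N ⟨⟨fun a b => Subtype.ext (hNc a a.2 b b.2)⟩⟩ r hr hNr hNtr hNreg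
    α T hT0 hTle hTn).2
  obtain ⟨hTc, hi, hpw⟩ := H9.XP.fld_main (N := N) (T := T) (d := d) hp hq hNc
    (by rintro _ ⟨a, ha, rfl⟩ _ ⟨b, hb, rfl⟩; exact congrArg Subtype.val (hFc a ha b hb))
    (by rintro _ ⟨a, ha, rfl⟩; exact congrArg Subtype.val (hFq a ha)) hT0 hN0 hNcard
    (fun W hW hWT => irr W hW fun t ht => Subgroup.mem_normalizer_fintype (hWT t ht))
    (fun t ht hc => Y.faith (some α) (Option.some_ne_none α) t fun g => by
      obtain ⟨k, hk, e⟩ := Y.tr N inferInstance hN0 (some α) g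
      rw [← e, ← mul_smul, hc k hk, mul_smul]
      exact congrArg (fun z => k • some z) (hTle ht))
  have hT0c : Nat.card T0 = q := by
    rw [← hTc, hT, Subgroup.card_map_of_injective (MulAction.stabilizer G α).subtype_injective]
  have hdv : q ∣ p ^ d - 1 := by rw [← hT0c, ← hcard]; exact X.dvd T0 hF0 hFc
  have hd : 0 < d := Nat.pos_of_ne_zero fun h => hN0 (Subgroup.card_eq_one.mp (by rw [hNcard, h, pow_zero]))
  obtain ⟨⟨h, hh⟩, hcd⟩ := H9.XP.cyc_main (T := T0) hFc hT0c hp.pos hd hdv
    (fun h hc => X.cent_mem inferInstance hF0 hFc hc) fun h => by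
      obtain ⟨j, hj⟩ := hpw h (hconj h h.2)
      exact ⟨j, fun t ht => Subtype.ext (hj t ⟨t, ht, rfl⟩)⟩
  refine ⟨q, hq, fun ω hω => ?_, hdv, hi, T, hTle, hTn, hTc, ⟨h, ?_⟩, hcd⟩
  · have h1 : MulAction.orbit (MulAction.stabilizer G α) ω = MulAction.orbit T0 ω := by
      ext x
      constructor
      · rintro ⟨g, rfl⟩
        obtain ⟨k, hk, e⟩ := X.tr T0 inferInstance hF0 ω g
        exact ⟨⟨k, hk⟩, e⟩
      · rintro ⟨k, rfl⟩; exact ⟨k, rfl⟩
    have h2 : MulAction.stabilizer T0 ω = ⊥ := eq_bot_iff.mpr fun k hk =>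
      Subtype.ext (X.cent_fix inferInstance hF0 (fun m hm => hFc k k.2 m hm) hω hk)
    rw [h1, Nat.card_coe_set_eq, ← MulAction.index_stabilizer, h2, Subgroup.index_bot, hT0c]
  · have := congrArg (Subgroup.map (MulAction.stabilizer G α).subtype) hh
    rw [Subgroup.map_sup, MonoidHom.map_zpowers, ← MonoidHom.range_eq_map, Subgroup.range_subtype] at this
    exact this.symm

end Cfsg.Agent.S3496
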