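import Cfsg.Statements.S3497
import Cfsg.Agent.H9.XP

set_option autoImplicit false
open Cfsg

namespace Cfsg.Agent.S3497

/-- Restrictions on the point stabilizer of an extremely primitive group. Let a finite group G act faithfully and primitively on a finite set Ω with point stabilizers H = G_α whose order is neither 1 nor a prime, each acting primitively on every one of its orbits. Then H has trivial center, the Fitting subgroup F(H) is an elementary abelian p-group for some prime p, and if F(H) ≠ 1 has order p ^ e then p ^ e divides the number of points minus one and H / F(H) embeds in GL_e(p) (there is a homomorphism from H to GL_e(p) with kernel exactly F(H)). -/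
theorem result {G : Type*} [Group G] [Finite G] {Ω : Type*} [Fintype Ω] [MulAction G Ω] [FaithfulSMul G Ω] (hprim : MulAction.IsPreprimitive G Ω) (hep : ∀ (α : Ω) (ω : Ω), MulAction.IsPreprimitive (MulAction.stabilizer G α) (MulAction.orbit (MulAction.stabilizer G α) ω)) (α : Ω)
    (hH1 : MulAction.stabilizer G α ≠ ⊥) (hHp : ¬ (Nat.card (MulAction.stabilizer G α)).Prime) :
    Subgroup.center (MulAction.stabilizer G α) = ⊥ ∧
    IsMulCommutative (Cfsg.fittingSubgroup (MulAction.stabilizer G α)) ∧
    ∃ p e : ℕ, p.Prime ∧ Nat.card (Cfsg.fittingSubgroup (MulAction.stabilizer G α)) = p ^ e ∧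
      (∀ x ∈ Cfsg.fittingSubgroup (MulAction.stabilizer G α), x ^ p = 1) ∧
      (Cfsg.fittingSubgroup (MulAction.stabilizer G α) ≠ ⊥ →
        p ^ e ∣ Fintype.card Ω - 1 ∧
        ∃ φ : MulAction.stabilizer G α →* GL (Fin e) (ZMod p), φ.ker = Cfsg.fittingSubgroup (MulAction.stabilizer G α)) := by
  open H9 Subgroup in open scoped commutatorElement in
  have X := H9.XP.hyp_of hprim hep α hH1
  refine ⟨X.center_eq hHp, ?_⟩
  by_cases h0 : fittingSubgroup (MulAction.stabilizer G α) = ⊥
  · refine ⟨?_, 2, 0, Nat.prime_two, by rw [h0, Subgroup.card_bot, pow_zero], fun x hx => ?_, fun h => absurd h0 h⟩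
    · rw [h0]; infer_instance
    · rw [h0, Subgroup.mem_bot] at hx; rw [hx, one_pow]
  obtain ⟨p, hp, he, hab⟩ := X.nilp _ H1.fitting_isNilpotent h0
  obtain ⟨e, hc, φ, hφ⟩ := H9.XP.exists_gl _ hp he hab
  refine ⟨⟨⟨fun a b => Subtype.ext (hab a a.2 b b.2)⟩⟩, p, e, hp, hc, he, fun _ => ⟨hc ▸ X.dvd _ h0 hab, φ, ?_⟩⟩
  ext h
  rw [MonoidHom.mem_ker, hφ]
  exact ⟨fun hh => X.cent_mem inferInstance h0 hab hh, fun hh k hk => hab h hh k hk⟩

end Cfsg.Agent.S3497
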