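import Cfsg.Statements.S3518
import Cfsg.Agent.PM.Pr2
import Cfsg.Agent.H2.MinN
import Cfsg.Agent.H9.Syl

set_option autoImplicit false
open Cfsg

namespace Cfsg.Agent.S3518

open Subgroup MulAction Equiv

/-- Closures of subgroups of the one-dimensional affine group. Let p be a prime and G a group of permutations of F_p lying in the affine group AGL₁(p) = {x ↦ ax + b, a ≠ 0} and containing all translations. (1) If G is a proper subgroup of AGL₁(p), then G is 2-closed: a permutation of F_p agreeing on every ordered pair of points with some element of G lies in G. (2) Every permutation of F_p agrees on every ordered pair with some element of AGL₁(p) (the 2-closure of AGL₁(p) is the symmetric group). (3) AGL₁(p) is 3-closed: a permutation agreeing on every ordered triple with some affine map is affine. -/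
theorem result (p : ℕ) [Fact p.Prime] (G : Subgroup (Equiv.Perm (ZMod p))) (hG : G ≤ Cfsg.affineGroup (ZMod p))
    (htrans : ∀ b : ZMod p, ∃ g ∈ G, ∀ x, g x = x + b) :
    (G ≠ Cfsg.affineGroup (ZMod p) → ∀ σ : Equiv.Perm (ZMod p), (∀ t : Fin 2 → ZMod p, ∃ g ∈ G, ∀ i, σ (t i) = g (t i)) → σ ∈ G) ∧
    (∀ σ : Equiv.Perm (ZMod p), (∀ t : Fin 2 → ZMod p, ∃ g ∈ Cfsg.affineGroup (ZMod p), ∀ i, σ (t i) = g (t i))) ∧
    (∀ σ : Equiv.Perm (ZMod p), (∀ t : Fin 3 → ZMod p, ∃ g ∈ Cfsg.affineGroup (ZMod p), ∀ i, σ (t i) = g (t i)) → σ ∈ Cfsg.affineGroup (ZMod p)) := by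
  have hp : p.Prime := Fact.out
  have two : ∀ (σ g : Perm (ZMod p)), σ ∈ affineGroup (ZMod p) → g ∈ affineGroup (ZMod p) → σ 0 = g 0 → σ 1 = g 1 → σ = g := by
    rintro σ g ⟨a, b, h1⟩ ⟨c, d, h2⟩ e1 e2
    simp only [h1, h2, mul_zero, zero_add, mul_one] at e1 e2
    ext x
    rw [h1, h2, e1, add_right_cancel (e1 ▸ e2 : (a : ZMod p) + d = c + d)]
  have aff : ∀ a b : ZMod p, a ≠ 0 → ∃ g ∈ affineGroup (ZMod p), ∀ x, g x = a * x + b := fun a b ha =>
    ⟨(Equiv.mulLeft₀ a ha).trans (Equiv.addRight b), ⟨Units.mk0 a ha, b, fun x => rfl⟩, fun x => rfl⟩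
  refine ⟨fun hne σ hσ => ?_, fun σ t => ?_, fun σ hσ => ?_⟩
  · let X : Subgroup (Perm (ZMod p)) :=
      { carrier := {σ | ∀ x y, ∃ g ∈ G, σ x = g x ∧ σ y = g y}
        one_mem' := fun x y => ⟨1, G.one_mem, rfl, rfl⟩
        mul_mem' := fun {a b} ha hb x y => by
          obtain ⟨g, hg, h1, h2⟩ := hb x y
          obtain ⟨k, hk, h3, h4⟩ := ha (b x) (b y)
          exact ⟨k * g, G.mul_mem hk hg, by simp [h3, ← h1], by simp [h4, ← h2]⟩
        inv_mem' := fun {a} ha x y => by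
          obtain ⟨g, hg, h1, h2⟩ := ha (a⁻¹ x) (a⁻¹ y)
          rw [Perm.inv_def, Equiv.apply_symm_apply] at h1 h2
          exact ⟨g⁻¹, G.inv_mem hg, Perm.eq_inv_iff_eq.2 h1.symm, Perm.eq_inv_iff_eq.2 h2.symm⟩ }
    have hGX : G ≤ X := fun g hg x y => ⟨g, hg, rfl, rfl⟩
    have hσX : σ ∈ X := fun x y => by
      obtain ⟨g, hg, h⟩ := hσ ![x, y]
      exact ⟨g, hg, h 0, h 1⟩
    haveI : IsPretransitive X (ZMod p) := ⟨fun x y => by
      obtain ⟨g, hg, h⟩ := htrans (y - x)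
      exact ⟨⟨g, hGX hg⟩, by show g x = y; rw [h]; ring⟩⟩
    have hcard : Nat.card (ZMod p) = p := Nat.card_zmod p
    have hsol : Group.IsSolvable X := by
      by_contra h
      have h2 := PM.two_iff.1 (PM.burnside hcard h)
      refine hne (le_antisymm hG fun g hg => ?_)
      obtain ⟨u, h3, h4⟩ := h2 0 1 (g 0) (g 1) zero_ne_one (g.injective.ne zero_ne_one)
      obtain ⟨k, hk, h5, h6⟩ := u.2 0 1
      rw [two g k hg (hG hk) (h3.symm.trans h5) (h4.symm.trans h6)]
      exact hk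
    obtain ⟨c, hc, hc'⟩ := htrans 1
    let c' : X := ⟨c, hGX hc⟩
    have he : ∀ j, c' • (Equiv.refl (ZMod p)) j = (Equiv.refl (ZMod p)) (j + 1) := hc'
    have hc1 : c' ≠ 1 := fun e => by
      have := he 0
      rw [e, one_smul] at this
      simp at this
    have hcp : c' ^ p = 1 := Subtype.ext (Equiv.ext fun x => by
      have := PM.pow_coord he p x
      rw [ZMod.natCast_self, add_zero] at this
      exact this)
    have hco : orderOf c' = p := orderOf_eq_prime hcp hc1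
    haveI : Nontrivial X := ⟨⟨_, _, hc1⟩⟩
    haveI : IsPreprimitive X (ZMod p) := IsPreprimitive.of_prime_card (by rw [hcard]; exact hp)
    obtain ⟨N, -, hN⟩ := H2M.exists_minN (X := X) (N := ⊤) top_ne_bot
    haveI := hN.1
    have hab : ∀ m ∈ N, ∀ n ∈ N, m * n = n * m := fun m hm n hn => by
      have := (hN.2.2 ⁅N, N⁆ inferInstance (commutator_le_left N N)).resolve_right
        (Group.IsSolvable.commutator_lt_of_ne_bot hN.2.1).ne
      exact ((commutator_eq_bot_iff_le_centralizer.1 this hn) m hm)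
    have ht := PM.tr_iff.2 (PM.normal_tr' (α := ZMod p) N hN.2.1)
    have hNc : Nat.card N = p := by
      rw [PM.card_reg ht 0 (PM.sub_stab_bot.2 fun n hn h => PM.eq_one_of_comm ht (fun m hm => hab m hm n hn) h), hcard]
    obtain ⟨P, hP⟩ := (IsPGroup.of_card (p := p) (n := 1) (G := zpowers c') (by rw [Nat.card_zpowers, hco, pow_one])).exists_le_sylow
    have h1 := (PM.card_norm hcard P).1
    have h2 : N ≤ P := (IsPGroup.of_card (p := p) (n := 1) (G := N) (by rw [hNc, pow_one])).le_sylow_of_normal P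
    have h3 : N = zpowers c' := (eq_of_le_of_card_ge h2 (by rw [h1, hNc])).trans
      (eq_of_le_of_card_ge hP (by rw [h1, Nat.card_zpowers, hco])).symm
    obtain ⟨a, b, hab⟩ := PM.affine_of_norm (g := ⟨σ, hσX⟩) he (h3 ▸ hN.1.conj_mem _ (h3 ▸ mem_zpowers c') _)
    have hab' : ∀ x, σ x = a * x + b := hab
    have ha : a ≠ 0 := fun e => zero_ne_one (σ.injective (by rw [hab', hab', e]; simp) : (0 : ZMod p) = 1)
    obtain ⟨g, hg, h5, h6⟩ := hσX 0 1
    rw [two σ g ⟨Units.mk0 a ha, b, hab'⟩ (hG hg) h5 h6]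
    exact hg
  · by_cases h : t 0 = t 1
    · obtain ⟨g, hg, h1⟩ := aff 1 (σ (t 0) - t 0) one_ne_zero
      exact ⟨g, hg, Fin.forall_fin_two.2 ⟨by rw [h1]; ring, by rw [h1, ← h]; ring⟩⟩
    · have h' := sub_ne_zero.2 h
      obtain ⟨g, hg, h1⟩ := aff ((σ (t 0) - σ (t 1)) / (t 0 - t 1)) (σ (t 0) - (σ (t 0) - σ (t 1)) / (t 0 - t 1) * t 0)
        (div_ne_zero (sub_ne_zero.2 (σ.injective.ne h)) h')
      exact ⟨g, hg, Fin.forall_fin_two.2 ⟨by rw [h1]; ring, by rw [h1]; field_simp; ring⟩⟩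
  · obtain ⟨g, hg, h⟩ := hσ ![0, 1, 0]
    have : σ = g := Equiv.ext fun x => by
      obtain ⟨k, hk, h'⟩ := hσ ![0, 1, x]
      rw [two g k hg hk ((h 0).symm.trans (h' 0)) ((h 1).symm.trans (h' 1))]
      exact h' 2
    exact this ▸ hg

end Cfsg.Agent.S3518
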