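import Cfsg.Statements.S3532
import Cfsg.Agent.CZ.Fab
import Cfsg.Agent.S2475

set_option autoImplicit false
open Cfsg

namespace Cfsg.Agent.S3532

theorem range_prod {A B : Type*} [Group A] [Group B] (d : ℕ) : d ∈ Set.range (orderOf : A × B → ℕ) ↔
    ∃ x ∈ Set.range (orderOf : A → ℕ), ∃ y ∈ Set.range (orderOf : B → ℕ), Nat.lcm x y = d := by
  constructor
  · rintro ⟨⟨a, b⟩, rfl⟩
    exact ⟨_, ⟨a, rfl⟩, _, ⟨b, rfl⟩, (Prod.orderOf_mk).symm⟩
  · rintro ⟨_, ⟨a, rfl⟩, _, ⟨b, rfl⟩, rfl⟩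
    exact ⟨(a, b), Prod.orderOf_mk⟩

/-- Let q ≥ 4 be a prime power and L = PSL(2,q). There is a finite solvable group with the same set of element orders as L × L (so L × L is not determined by its spectrum). -/
theorem result {F : Type*} [Field F] [Fintype F] (hF : 4 ≤ Fintype.card F) :
    ∃ (H : Type) (_ : Group H) (_ : Finite H), Group.IsSolvable H ∧
      Set.range (orderOf : H → ℕ) = Set.range (orderOf : Matrix.ProjectiveSpecialLinearGroup (Fin 2) F × Matrix.ProjectiveSpecialLinearGroup (Fin 2) F → ℕ) := by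
  obtain ⟨p, hp⟩ := CharP.exists F
  obtain ⟨k, hpp, hk⟩ := FiniteField.card F p
  haveI : Fact p.Prime := ⟨hpp⟩
  have hS := Cfsg.Agent.S2475.result (F := F) p hF
  set q := Fintype.card F with hq
  have hpq : p ∣ q := hk ▸ dvd_pow_self p k.ne_zero
  obtain ⟨m, n, hm, hn, hm1, hn0, hmq, hmn⟩ : ∃ m n, (q - 1) / Nat.gcd 2 (q - 1) = m ∧ (q + 1) / Nat.gcd 2 (q - 1) = n ∧
      1 < m ∧ 0 < n ∧ m ∣ q - 1 ∧ m.Coprime n := by
    refine ⟨_, _, rfl, rfl, ?_⟩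
    rcases Nat.even_or_odd' q with ⟨t, ht | ht⟩
    · have h1 : Nat.gcd 2 (q - 1) = 1 := (Nat.coprime_two_left.2 ⟨t - 1, by omega⟩)
      rw [h1, Nat.div_one, Nat.div_one]
      refine ⟨by omega, by omega, dvd_rfl, ?_⟩
      rw [show q + 1 = 2 + (q - 1) by omega, Nat.coprime_add_self_right]
      exact Nat.Coprime.symm h1
    · have h1 : Nat.gcd 2 (q - 1) = 2 := Nat.gcd_eq_left ⟨t, by omega⟩
      rw [h1, show (q - 1) / 2 = t by omega, show (q + 1) / 2 = t + 1 by omega]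
      exact ⟨by omega, by omega, ⟨2, by omega⟩, by simp⟩
  rw [hm, hn] at hS
  have hpm : p.Coprime m := by
    refine (hpp.coprime_iff_not_dvd).2 fun h => hpp.one_lt.ne' (Nat.dvd_one.1 ?_)
    have := (Nat.dvd_sub hpq (h.trans hmq))
    rwa [show q - (q - 1) = 1 by omega] at this
  obtain ⟨H1, _, _, -, s1, -, -, e1⟩ := CZ.exists_FAB p m hpp.one_lt (by omega) hpm
  obtain ⟨H2, _, _, -, s2, -, -, e2⟩ := CZ.exists_FAB m n hm1 hn0 hmn
  refine ⟨H1 × H2, inferInstance, inferInstance, inferInstance, ?_⟩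
  ext d
  rw [range_prod, range_prod, e1, e2, hS]
  constructor
  · rintro ⟨x, hx, y, hy, rfl⟩
    exact ⟨x, hx.imp_right Or.inl, y, Or.inr hy, rfl⟩
  · rintro ⟨x, hx | hx | hx, y, hy | hy | hy, rfl⟩
    · exact ⟨_, Or.inl (Nat.lcm_dvd hx hy), 1, Or.inl (one_dvd _), Nat.lcm_one_right _⟩
    · exact ⟨x, Or.inl hx, y, Or.inl hy, rfl⟩
    · exact ⟨x, Or.inl hx, y, Or.inr hy, rfl⟩
    · exact ⟨y, Or.inl hy, x, Or.inl hx, Nat.lcm_comm _ _⟩
    · exact ⟨x, Or.inr hx, y, Or.inl hy, rfl⟩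
    · exact ⟨x, Or.inr hx, y, Or.inr hy, rfl⟩
    · exact ⟨y, Or.inl hy, x, Or.inr hx, Nat.lcm_comm _ _⟩
    · exact ⟨y, Or.inr hy, x, Or.inr hx, Nat.lcm_comm _ _⟩
    · exact ⟨1, Or.inl (one_dvd _), _, Or.inr (Nat.lcm_dvd hx hy), Nat.lcm_one_left _⟩

end Cfsg.Agent.S3532
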