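import Cfsg.Statements.S3554


set_option autoImplicit false
open Cfsg

namespace Cfsg.Agent.S3554

/-- Let G act faithfully and transitively on a finite set and suppose G has a non-trivial cyclic normal subgroup. Then some element of G of prime order fixes no point. -/
theorem result {G Ω : Type*} [Group G] [Finite G] [MulAction G Ω] [FaithfulSMul G Ω] [Finite Ω]
    (htrans : MulAction.IsPretransitive G Ω) (C : Subgroup G) (hC : C.Normal) (hC1 : C ≠ ⊥) (hcyc : IsCyclic ↥C) :
    ∃ g : G, (orderOf g).Prime ∧ ∀ ω : Ω, g • ω ≠ ω := by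
  haveI : Nontrivial C := (Subgroup.nontrivial_iff_ne_bot _).2 hC1
  obtain ⟨p, hp, hpd⟩ := Nat.exists_prime_and_dvd (Finite.one_lt_card (α := C)).ne'
  haveI := Fact.mk hp
  obtain ⟨x, hx⟩ := exists_prime_orderOf_dvd_card' p hpd
  have hx' : orderOf (x : G) = p := by rw [Subgroup.orderOf_coe, hx]
  refine ⟨x, hx' ▸ hp, fun ω hω => ?_⟩
  have key : ∀ g : G, g⁻¹ * x * g ∈ Subgroup.zpowers (x : G) := fun g => by
    obtain ⟨c, hc⟩ := hcyc.exists_generator
    obtain ⟨m, hm⟩ := hc x
    obtain ⟨k, hk⟩ := hc ⟨g⁻¹ * c * g, by simpa using hC.conj_mem _ c.2 g⁻¹⟩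
    have hm' : (c : G) ^ m = x := congrArg Subtype.val hm
    have hk' : (c : G) ^ k = g⁻¹ * c * g := congrArg Subtype.val hk
    refine ⟨k, ?_⟩
    beta_reduce
    rw [← hm', ← zpow_mul, mul_comm, zpow_mul, hk']
    simpa using conj_zpow (a := g⁻¹) (b := (c : G)) (i := m)
  have : (x : G) = 1 := by
    refine FaithfulSMul.eq_of_smul_eq_smul (α := Ω) fun a => ?_
    obtain ⟨g, rfl⟩ := htrans.exists_smul_eq ω a
    have h1 : Subgroup.zpowers (x : G) ≤ MulAction.stabilizer G ω := by
      rw [Subgroup.zpowers_le]; exact hω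
    have h2 : (g⁻¹ * x * g) • ω = ω := h1 (key g)
    rw [mul_smul, mul_smul, inv_smul_eq_iff] at h2
    rw [h2, one_smul]
  rw [this, orderOf_one] at hx'
  exact hp.one_lt.ne hx'

end Cfsg.Agent.S3554
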