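import Cfsg.Statements.S3592
import Cfsg.Agent.H3.M5
import Cfsg.Agent.H7.M24Orb

set_option autoImplicit false
open Cfsg

namespace Cfsg.Agent.S3592

open H3 H4 Subgroup

/-- Let M be the Mathieu group M₁₁ (order 7920). If a finite group G has the same order as M and the same set of values of the function 'number of elements of order n' (taken over the element orders n that occur), then G is isomorphic to M. -/
theorem result {G : Type*} [Group G] [Finite G]
    (hcard : Nat.card G = Nat.card ↥Cfsg.Spor.M11)
    (hnse : {c : ℕ | 0 < c ∧ ∃ n : ℕ, c = Nat.card {g : G // orderOf g = n}} =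
      {c : ℕ | 0 < c ∧ ∃ n : ℕ, c = Nat.card {g : ↥Cfsg.Spor.M11 // orderOf g = n}}) :
    Nonempty (G ≃* ↥Cfsg.Spor.M11) := by
  haveI := H7.isM11.1
  have c := hcard.trans H7.isM11.2
  have cP : ∀ P : Sylow 11 G, Nat.card P = 11 := fun P => card_sylow_of P c (k := 1) (by norm_num) (by norm_num)
  have m := card_sylow_mod (p := 11) G
  haveI := M11.simple_of c fun g o => by
    have o2 : orderOf (g ^ 2) = 11 := by rw [orderOf_pow_of_dvd two_ne_zero (by omega), o]
    obtain ⟨P, hP⟩ := (IsPGroup.of_card (n := 1) (by rw [Nat.card_zpowers, o2, pow_one]) : IsPGroup 11 (zpowers (g ^ 2))).exists_le_sylow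
    have a := H1.card_order_p P (cP P)
    obtain ⟨-, n, b⟩ := hnse.le (show Nat.card {x : G // orderOf x = 11} ∈ _ from ⟨by omega, 11, rfl⟩)
    have d := M11.nse H7.isM11.2 n
    have e := H1.card_sylow_mul P
    have i := o ▸ Subgroup.orderOf_dvd_natCard _ (CS_le_NS (P : Subgroup G) ((C1_eq_prime (cP P) (hP (mem_zpowers _))
      (by intro e; simp [e] at o2)).le (mem_centralizer_singleton_iff.2 (Commute.self_pow g 2))))
    rw [show Nat.card (Sylow 11 G) = 144 by omega, c] at e
    simp only [NS] at i
    omega
  exact M11.unique c H7.isM11.2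

end Cfsg.Agent.S3592
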