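import Cfsg.Statements.S3626
import Cfsg.Agent.H6.Spec3
import Cfsg.Agent.S1159

set_option autoImplicit false
open Cfsg

namespace Cfsg.Agent.S3626

/-- Let R be the small Ree group over the field with q = 3^(2m+1) ≥ 27 elements. Then there are finite groups of arbitrarily large order with exactly the same set of element orders as R × R × R. -/
theorem result {K : Type*} [Field K] [Fintype K] {m : ℕ} (hm : 1 ≤ m) (hK : Fintype.card K = 3 ^ (2 * m + 1)) (N : ℕ) :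
    ∃ (H : Type) (_ : Group H) (_ : Fintype H), N < Fintype.card H ∧
      Set.range (orderOf : H → ℕ) = Set.range (orderOf : ↥(Cfsg.Lie.twistedG2 K (3 ^ m)) × ↥(Cfsg.Lie.twistedG2 K (3 ^ m)) × ↥(Cfsg.Lie.twistedG2 K (3 ^ m)) → ℕ) := by
  obtain ⟨H, hG, hF, hN, -, hs⟩ := H6.Sp3.exists_H (2 * m + 1) ⟨m, rfl⟩ N
  obtain ⟨R, hR, hRF, ⟨e⟩⟩ := Finite.exists_type_univ_nonempty_mulEquiv.{_, 0} ↥(Cfsg.Lie.twistedG2 K (3 ^ m))
  have hr : ∀ d, d ∈ Set.range (orderOf : R → ℕ) ↔ (d ∣ 6 ∨ d ∣ 9 ∨ d ∣ 3 ^ (2 * m + 1) - 1 ∨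
      d ∣ (3 ^ (2 * m + 1) + 1) / 2) ∨ d ∣ 3 ^ (2 * m + 1) - 3 ^ (m + 1) + 1 ∨ d ∣ 3 ^ (2 * m + 1) + 3 ^ (m + 1) + 1 := by
    intro d
    have := Cfsg.Agent.S1159.result hm hK d
    simp only [or_assoc]
    rw [← this]
    exact ⟨fun ⟨g, h⟩ => ⟨e.symm g, by rw [MulEquiv.orderOf_eq, h]⟩, fun ⟨g, h⟩ => ⟨e g, by rw [MulEquiv.orderOf_eq, h]⟩⟩
  refine ⟨R × R × H, inferInstance, inferInstance, ?_, ?_⟩
  · rw [Fintype.card_prod, Fintype.card_prod]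
    exact hN.trans_le ((Nat.le_mul_of_pos_left _ Fintype.card_pos).trans (Nat.le_mul_of_pos_left _ Fintype.card_pos))
  · rw [H6.Sp3.cube_spectrum hr hs]
    let E := e.prodCongr (e.prodCongr e)
    ext d
    exact ⟨fun ⟨g, h⟩ => ⟨E.symm g, by rw [MulEquiv.orderOf_eq, h]⟩, fun ⟨g, h⟩ => ⟨E g, by rw [MulEquiv.orderOf_eq, h]⟩⟩

end Cfsg.Agent.S3626
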