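import Cfsg.Statements.S3641
import Cfsg.Agent.H3.R18

set_option autoImplicit false
open Cfsg

namespace Cfsg.Agent.S3641

open H3 H1 Subgroup

theorem nrm {G : Type*} [Group G] [Finite G] {p : ℕ} [Fact p.Prime] (K : Subgroup G) [K.Normal] (S : Sylow p G)
    (h : K ≤ normalizer ((S : Subgroup G) : Set G)) : ((S : Subgroup G) ⊓ K).Normal := by
  rw [← normalizer_eq_top_iff, ← (sylow_inf_normal S K).frattini_top, eq_comm, sup_eq_right]
  exact le_normalizer_inf h le_normalizer_of_normal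

theorem triv {G : Type*} [Group G] [Finite G] (hZ : center G = ⊥) (K : Subgroup G) [K.Normal]
    (h : ∀ p : ℕ, p.Prime → p ∣ Nat.card G → ∀ S : Sylow p G, K ≤ normalizer ((S : Subgroup G) : Set G)) : K = ⊥ := by
  by_contra c
  obtain ⟨p, hp, hd⟩ := Nat.exists_prime_and_dvd (mt card_eq_one.1 c)
  haveI := Fact.mk hp
  obtain ⟨S⟩ : Nonempty (Sylow p G) := inferInstance
  haveI hN := nrm K S (h p hp (hd.trans K.card_subgroup_dvd_card) S)
  obtain ⟨⟨z, h1, h2⟩, h3⟩ := ne_bot_iff_exists_ne_one.1 (inf_centralizer_ne_bot_of_isPGroup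
    (S.isPGroup'.to_inf_left (K := K)) S.isPGroup' le_normalizer_of_normal
    fun e => (sylow_inf_normal S K).eq_bot_iff.1 e hd)
  have : centralizer {z} = ⊤ := eq_top_of_forall_sylow_le fun q hq hq' => by
    by_cases e : q = p
    · subst e
      exact ⟨S, fun y hy => mem_centralizer_singleton_iff.2 (h2 y hy)⟩
    · haveI := Fact.mk hq
      obtain ⟨Q⟩ : Nonempty (Sylow q G) := inferInstance
      refine ⟨Q, fun y hy => mem_centralizer_singleton_iff.2 ?_⟩
      have a : y * z⁻¹ * y⁻¹ * z ∈ (S : Subgroup G) ⊓ K := mul_mem (hN.conj_mem _ (inv_mem h1) y) h1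
      have b : y * z⁻¹ * y⁻¹ * z ∈ (Q : Subgroup G) := by
        have := mul_mem hy ((mem_normalizer_iff''.1 (h q hq hq' Q h1.2) y⁻¹).1 (inv_mem hy))
        simpa only [mul_assoc] using this
      have d := (IsPGroup.disjoint_of_ne p q (Ne.symm e) _ _ (S.isPGroup'.to_inf_left (K := K)) Q.isPGroup').le_bot ⟨a, b⟩
      rw [mem_bot, mul_eq_one_iff_eq_inv, mul_inv_eq_iff_eq_mul, mul_inv_eq_iff_eq_mul, mul_assoc, eq_inv_mul_iff_mul_eq] at d
      exact d.symm
  exact h3 (Subtype.ext (mem_bot.1 (hZ ▸ mem_center_iff.2 fun g =>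
    mem_centralizer_singleton_iff.1 (this ▸ mem_top g))))

theorem congr {A B : Type*} [Group A] [Group B] [Finite A] [Finite B] (e : A ≃* B) (p : ℕ) [Fact p.Prime] :
    Nat.card (Sylow p A) = Nat.card (Sylow p B) :=
  le_antisymm (Nat.card_le_card_of_surjective _ (Sylow.mapSurjective_surjective (f := e.symm.toMonoidHom) e.symm.surjective p))
    (Nat.card_le_card_of_surjective _ (Sylow.mapSurjective_surjective (f := e.toMonoidHom) e.surjective p))

/-- Let G be a finite group with trivial centre whose set of Sylow numbers (numbers of Sylow r-subgroups, r over the prime divisors of its order) is exactly {18, 136, 153}. Then G is isomorphic to PSL(2, 17) or to PGL(2, 17). -/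
theorem result {G : Type*} [Group G] [Finite G] (hZ : Subgroup.center G = ⊥) (hNS : {c : ℕ | ∃ r : ℕ, r.Prime ∧ r ∣ Nat.card G ∧ c = Nat.card (Sylow r G)} = ({18, 136, 153} : Set ℕ))
    {F : Type*} [Field F] [Fintype F] (hF : Fintype.card F = 17) :
    Nonempty (G ≃* Matrix.ProjectiveSpecialLinearGroup (Fin 2) F) ∨ Nonempty (G ≃* (GL (Fin 2) F ⧸ Subgroup.center (GL (Fin 2) F))) := by
  haveI : Fact (Nat.Prime 17) := ⟨by norm_num⟩
  have h0 : ∀ r : ℕ, r.Prime → r ∣ Nat.card G → Nat.card (Sylow r G) = 18 ∨ Nat.card (Sylow r G) = 136 ∨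
      Nat.card (Sylow r G) = 153 := fun r a b => hNS.le ⟨r, a, b, rfl⟩
  have h1 : ∀ r : ℕ, r.Prime → Nat.card (Sylow r G) = 18 → r = 17 := fun r a b => by
    haveI := Fact.mk a
    have := card_sylow_modEq_one r G
    rw [b] at this
    exact (Nat.prime_dvd_prime_iff_eq a (by norm_num)).1 ((Nat.modEq_iff_dvd' (by norm_num)).1 this.symm)
  have hn : Nat.card (Sylow 17 G) = 18 := by
    obtain ⟨r, a, -, b⟩ := hNS.ge (Or.inl rfl : 18 ∈ ({18, 136, 153} : Set ℕ))
    exact h1 r a b.symm ▸ b.symm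
  obtain ⟨P⟩ : Nonempty (Sylow 17 G) := inferInstance
  have h2 : 18 ∣ Nat.card G := ⟨_, (hn ▸ card_sylow_mul P).symm⟩
  have n2 : Nat.card (Sylow 2 G) = 153 := by
    have := h0 2 Nat.prime_two (by omega)
    have := card_sylow_mod (p := 2) G
    omega
  have n3 : Nat.card (Sylow 3 G) = 136 := by
    have := h0 3 Nat.prime_three (by omega)
    have := card_sylow_mod (p := 3) G
    omega
  obtain ⟨K, hK⟩ : ∃ K, K = (MulAction.toPermHom G (Sylow 17 G)).ker := ⟨_, rfl⟩
  haveI : K.Normal := hK ▸ inferInstance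
  have k1 : ∀ x, x ∈ K ↔ ∀ Q : Sylow 17 G, x ∈ normalizer ((Q : Subgroup G) : Set G) := fun x => by
    rw [hK, MonoidHom.mem_ker, Equiv.ext_iff]
    exact forall_congr' fun Q => Sylow.smul_eq_iff_mem_normalizer
  have k2 : ∀ Q : Sylow 17 G, K ≤ normalizer ((Q : Subgroup G) : Set G) := fun Q x hx => (k1 x).1 hx Q
  have k3 : Nat.card (Sylow 17 (G ⧸ K)) = 18 := by
    rw [(isSylowIn_top P).card_sylow_quotient, sup_eq_left.2 (k2 P), ← (isSylowIn_top P).card_sylow, hn]
  have k4 : Nat.card (G ⧸ K) ∣ Nat.factorial 18 := by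
    subst hK
    rw [Nat.card_congr (QuotientGroup.quotientKerEquivRange _).toEquiv, ← hn, ← Nat.card_perm]
    exact card_subgroup_dvd_card _
  obtain ⟨L, _, hC, ⟨e⟩⟩ := r17_a k3 (fun Q => card_sylow_of Q rfl (k := 1) (by
      by_contra c
      rw [(isSylowIn_top Q).card_sylow, (isSylowIn_top Q).eq_bot_iff.2 (by simpa using c), normalizer_eq_top, index_top] at k3
      omega) fun c => absurd (c.trans k4) (by decide))
    fun x hx => by
      obtain ⟨x, rfl⟩ := QuotientGroup.mk'_surjective K x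
      refine (QuotientGroup.eq_one_iff x).2 ((k1 x).2 fun Q => ?_)
      obtain ⟨R, hR⟩ := ((isSylowIn_top Q).map_mk' K).exists_sylow_top
      have := hx R
      rw [hR, normalizer_map_mk', ((isSylowIn_top Q).of_le le_sup_left le_top).normalizer_sup, sup_eq_left.2 (k2 Q)] at this
      exact (comap_map_eq_self (f := QuotientGroup.mk' K) (by simpa using k2 Q)).le this
  replace e : L ≃* H5.PSL2 F := e.trans (H5.pslCongr (FiniteField.ringEquivOfCardEq (by rw [ZMod.card, hF])))
  obtain ⟨k5, k6⟩ := r18_b hF L hC e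
  have k7 : ∀ (q n : ℕ) [Fact q.Prime], (q = 2 ∧ n = 153 ∨ q = 3 ∧ n = 136) → Nat.card (Sylow q G) = n →
      ∀ S : Sylow q G, K ≤ normalizer ((S : Subgroup G) : Set G) := fun q n _ a b S => by
    obtain ⟨T, hT⟩ := exists_isSylowIn (p := q) (⊤ : Subgroup (G ⧸ K))
    have c : Nat.card (Sylow q (H5.PSL2 F)) ∣ Nat.card (Sylow q (G ⧸ K)) := by
      rw [sylow_formula L hT, congr e q]
      exact Dvd.dvd.mul_right (dvd_mul_left _ _) _
    rw [(isSylowIn_top S).card_sylow_quotient] at c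
    rw [(isSylowIn_top S).card_sylow] at b
    have d := index_dvd_of_le (le_sup_left (a := normalizer ((S : Subgroup G) : Set G)) (b := K))
    rw [r18_syl hF q n a (b ▸ c.trans d), ← b] at c
    by_contra f
    exact absurd (Nat.le_of_dvd (Nat.pos_of_ne_zero index_ne_zero_of_finite) c)
      (not_le.2 (index_strictAnti (lt_of_le_of_ne le_sup_left fun g => f (le_sup_right.trans g.ge))))
  have k8 : K = ⊥ := triv hZ K fun r a b T => by
    haveI := Fact.mk a
    by_cases r2 : r = 2
    · subst r2; exact k7 2 _ (Or.inl ⟨rfl, rfl⟩) n2 T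
    by_cases r3 : r = 3
    · subst r3; exact k7 3 _ (Or.inr ⟨rfl, rfl⟩) n3 T
    by_cases r17 : r = 17
    · subst r17; exact k2 T
    exfalso
    have c1 : (T : Subgroup G) ≤ K := by
      have := ((isSylowIn_top T).map_mk' K).eq_bot_iff.2 fun c => by
        rw [card_top] at c
        have d : r ∣ 2 ^ 5 * (3 ^ 2 * 17) := c.trans k5
        rcases a.dvd_mul.1 d with d | d
        · exact r2 ((Nat.prime_dvd_prime_iff_eq a Nat.prime_two).1 (a.dvd_of_dvd_pow d))
        rcases a.dvd_mul.1 d with d | d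
        · exact r3 ((Nat.prime_dvd_prime_iff_eq a Nat.prime_three).1 (a.dvd_of_dvd_pow d))
        · exact r17 ((Nat.prime_dvd_prime_iff_eq a (by norm_num)).1 d)
      rwa [Subgroup.map_eq_bot_iff, QuotientGroup.ker_mk'] at this
    have c2 := ((isSylowIn_top T).of_le c1 le_top).relIndex_normalizer_eq le_top le_normalizer_of_normal
    rw [relIndex_top_right, ← (isSylowIn_top T).card_sylow] at c2
    have c3 : Nat.card (Sylow r G) = 136 ∨ Nat.card (Sylow r G) = 153 := (h0 r a b).resolve_left fun c => r17 (h1 r a c)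
    haveI := nrm K P (k2 P)
    have c4 := ((isSylowIn_top T).of_le (le_sup_left (b := (P : Subgroup G) ⊓ K)) le_top).card_sylow_rel
    rw [relIndex_sup_of_le le_normalizer le_normalizer_of_normal] at c4
    have c5 := card_sylow_modEq_one r ↥((T : Subgroup G) ⊔ (P : Subgroup G) ⊓ K)
    have c6 := relIndex_le_of_le_right (H := normalizer ((T : Subgroup G) : Set G))
      (inf_le_right : (P : Subgroup G) ⊓ K ≤ K) (by omega)
    obtain ⟨j, hj⟩ := IsPGroup.iff_card.1 (P.isPGroup'.to_inf_left (K := K))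
    obtain ⟨i, -, hi⟩ := (Nat.dvd_prime_pow (by norm_num)).1
      (hj ▸ relIndex_dvd_card (normalizer ((T : Subgroup G) : Set G)) ((P : Subgroup G) ⊓ K))
    rw [c4, hi] at c5
    rw [hi, ← c2] at c6
    have c7 : i < 2 := (Nat.pow_lt_pow_iff_right (a := 17) (by norm_num)).1 (by omega)
    interval_cases i
    · exact (sylow_inf_normal P K).not_dvd_relIndex_of_le (relIndex_eq_one.1 hi) (by omega)
    · have : r ∣ 2 ^ 4 := (Nat.modEq_iff_dvd' (by norm_num)).1 c5.symm
      exact r2 ((Nat.prime_dvd_prime_iff_eq a Nat.prime_two).1 (a.dvd_of_dvd_pow this))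
  have E := (QuotientGroup.quotientBot.symm.trans (QuotientGroup.quotientMulEquivOfEq k8.symm) : G ≃* _)
  exact k6.imp (fun ⟨f⟩ => ⟨E.trans f⟩) fun ⟨f⟩ => ⟨E.trans f⟩

end Cfsg.Agent.S3641
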