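import Cfsg.Statements.S3669
import Cfsg.Agent.H3.G2e
import Cfsg.Agent.H3.Chr3
import Cfsg.Agent.S0493
import Cfsg.Agent.H1.CS
import Cfsg.Agent.H1.Primitive
import Cfsg.Agent.H5.PSL2
import Cfsg.Agent.H5.KB

set_option autoImplicit false
open Cfsg

namespace Cfsg.Agent.S3669

open Subgroup H1

/-- The character degree graph of a finite group has as vertices the primes dividing some irreducible complex character degree, two distinct primes being joined when their product divides some irreducible character degree; two groups have the same character degree graph when they have the same vertices and the same joined pairs. A finite group of order 60 with the same character degree graph as the alternating group A₅ (whose character degrees are 1, 3, 4, 5, so the graph has vertices 2, 3, 5 and no edges) is isomorphic to A₅. -/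
theorem result {G : Type*} [Group G] [Finite G] (hcard : Nat.card G = 60)
    (hΓ : Cfsg.degreePrimes G = Cfsg.degreePrimes (alternatingGroup (Fin 5)) ∧ Cfsg.degreeGraph G = Cfsg.degreeGraph (alternatingGroup (Fin 5))) : Nonempty (G ≃* alternatingGroup (Fin 5)) := by
  have h5 : 5 ∈ degreePrimes (alternatingGroup (Fin 5)) := by
    let F := GaloisField 2 2
    haveI := Fintype.ofFinite F
    have hF : Fintype.card F = 4 := by rw [← Nat.card_eq_fintype_card, GaloisField.card 2 2 two_ne_zero]; rfl
    obtain ⟨H, ⟨e⟩⟩ := (H5.exists_A5_iff (F := F)).2 (by rw [hF]; norm_num)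
    have h1 : H = (H5.mkS (F := F)).range := eq_of_le_of_card_ge (H5.A5_le_PS e) (by
      rw [Nat.card_congr e.toEquiv, H5.KB.card_A5]
      exact (Nat.card_le_card_of_surjective _ (MonoidHom.rangeRestrict_surjective _)).trans (by rw [H5.card_SL2, hF]))
    subst h1
    have := (H3.G2.degs_ge (f := e.toMonoidHom.comp H5.mkS.rangeRestrict) (e.surjective.comp (MonoidHom.rangeRestrict_surjective _))
      (fun g h => H5.mkS_eq_one_iff.1 congr(($(e.map_eq_one_iff.1 h) : H5.PG F))) hF.ge (by omega)).2.1
    exact ⟨by norm_num, _, this, by rw [hF]⟩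
  rw [← hΓ.1] at h5
  obtain ⟨-, _, ⟨χ, rfl⟩, h5⟩ := h5
  haveI : Fact (Nat.Prime 5) := ⟨by norm_num⟩
  by_cases hs : IsSimpleGroup G
  · exact H5.simple_sixty hcard
  exfalso
  have key := solvable_of_simple (P := fun G _ _ => Nat.card G < 60) (fun G _ _ N _ h => (card_le_card_group N).trans_lt h)
    (fun G _ _ N _ h => (Nat.le_of_dvd Nat.card_pos (card_quotient_dvd_card N)).trans_lt h) fun G _ _ _ h => by
      by_cases hc : IsCyclic G
      · infer_instance
      · exact absurd (S0493.result hc (by omega)) h.ne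
  haveI : Nontrivial G := Finite.one_lt_card_iff_nontrivial.1 (by omega)
  obtain ⟨N, hN, h1, h2⟩ : ∃ N : Subgroup G, N.Normal ∧ N ≠ ⊥ ∧ N ≠ ⊤ := by
    by_contra! h
    exact hs ⟨fun N hN => or_iff_not_imp_left.2 (h N hN)⟩
  have e := N.card_mul_index
  have e1 := N.one_lt_card_iff_ne_bot.2 h1
  have e2 := one_lt_index_of_ne_top h2
  haveI : Group.IsSolvable G := isSolvable_of_normal_of_quotient N (key N (by nlinarith)) (key (G ⧸ N) (by
    rw [← index_eq_card]; nlinarith))
  obtain ⟨P⟩ : Nonempty (Sylow 5 G) := inferInstance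
  have cP : Nat.card P = 5 := by
    rw [P.card_eq_multiplicity, hcard, show (60 : ℕ) = 5 ^ 1 * 12 from rfl, Nat.factorization_mul_apply_of_coprime (by norm_num),
      Nat.Prime.factorization_pow (by norm_num), Nat.factorization_eq_zero_of_not_dvd (by norm_num)]; simp
  haveI : IsCyclic P := isCyclic_of_prime_card cP
  have h3 : (P : Subgroup G) ≤ pCore 5 G := le_pCore_of_le_fitting P.isPGroup' (le_trans (le_centralizer_iff.1
    (fitting_eq_iSup_pCore.le.trans (iSup_le fun q => ?_))) centralizer_fitting_le)
  · haveI : (P : Subgroup G).Normal := le_antisymm (pCore_le_sylow P) h3 ▸ inferInstance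
    exact H3.not_dvd_of_normal (fun x hx y hy => (le_centralizer_iff_isMulCommutative.2 inferInstance hy x hx)) P.not_dvd_index χ.2 h5
  haveI := Fact.mk q.2
  by_cases h : (q : ℕ) = 5
  · have : pCore q G ≤ P := by rw [h]; exact pCore_le_sylow P
    exact this.trans (le_centralizer_iff_isMulCommutative.2 inferInstance)
  obtain ⟨k, hk⟩ := (pCore_isPGroup (p := q) (G := G)).exists_card_eq
  have h4 : Nat.card (pCore q G) ≤ 4 := by
    have h6 : (q : ℕ) ^ k ∣ 2 ^ 2 * 3 * 5 := hk ▸ (hcard ▸ card_subgroup_dvd_card _ : _ ∣ 60)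
    rw [hk]
    have c : ∀ r : ℕ, r.Prime → (q : ℕ) ≠ r → ∀ j, ((q : ℕ) ^ k).Coprime (r ^ j) := fun r hr h j =>
      Nat.Coprime.pow _ _ ((Nat.coprime_primes q.2 hr).2 h)
    have h7 := (c 5 (by norm_num) h 1).dvd_of_dvd_mul_right h6
    by_cases h2 : (q : ℕ) = 2
    · exact Nat.le_of_dvd (by norm_num) ((c 3 (by norm_num) (by omega) 1).dvd_of_dvd_mul_right h7)
    · exact (Nat.le_of_dvd (by norm_num) ((c 2 (by norm_num) h2 2).dvd_of_dvd_mul_left h7)).trans (by norm_num)
  have h6 := card_modEq_card_inf_centralizer P.isPGroup' (le_normalizer_of_normal (H := pCore q G))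
  refine inf_eq_left.1 (eq_of_le_of_card_ge inf_le_left (Nat.ModEq.eq_of_lt_of_lt h6 (by omega) ?_).le)
  exact ((card_le_of_le inf_le_left).trans h4).trans_lt (by norm_num)

end Cfsg.Agent.S3669
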