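import Cfsg.Statements.S3683
import Cfsg.Agent.H1.Basic

set_option autoImplicit false
open Cfsg

namespace Cfsg.Agent.S3683

open MulAction in

/-- Let a finite group G act faithfully and primitively on a set Ω, and suppose the stabilizer of a point a fixes a second point b ≠ a (a suborbit of length 1 other than {a}). Then the stabilizer of a is trivial and G is cyclic of prime order. -/
theorem result {G Ω : Type*} [Group G] [Finite G] [MulAction G Ω] [FaithfulSMul G Ω] [Finite Ω]
    (hprim : MulAction.IsPreprimitive G Ω) (a b : Ω) (hab : a ≠ b) (hfix : ∀ g : G, g • a = a → g • b = b) :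
    MulAction.stabilizer G a = ⊥ ∧ IsCyclic G ∧ (Nat.card G).Prime := by
  haveI : Nontrivial Ω := ⟨⟨a, b, hab⟩⟩
  haveI := hprim
  have ha := IsPreprimitive.isCoatom_stabilizer_of_isPreprimitive G a
  have hb := IsPreprimitive.isCoatom_stabilizer_of_isPreprimitive G b
  have h1 : stabilizer G a = stabilizer G b := by
    rcases ha.le_iff.1 (show stabilizer G a ≤ stabilizer G b from hfix) with h | h
    exacts [absurd h hb.1, h.symm]
  obtain ⟨g, hg⟩ := exists_smul_eq G a b
  have h2 : g ∈ Subgroup.normalizer (stabilizer G a : Set G) := by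
    rw [H1.mem_normalizer_iff_conj_mem]
    intro x hx
    rw [h1, mem_stabilizer_iff, mul_smul, mul_smul, ← hg, inv_smul_smul, mem_stabilizer_iff.1 hx]
  have h3 : Subgroup.normalizer (stabilizer G a : Set G) = ⊤ :=
    ha.2 _ (lt_of_le_of_ne Subgroup.le_normalizer fun h => hab (by
      rw [← h] at h2; exact (mem_stabilizer_iff.1 h2).symm.trans hg))
  haveI := Subgroup.normalizer_eq_top_iff.1 h3
  have h4 : stabilizer G a = ⊥ := by
    rw [eq_bot_iff]
    intro x hx
    refine FaithfulSMul.eq_of_smul_eq_smul (α := Ω) fun c => ?_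
    obtain ⟨k, rfl⟩ := exists_smul_eq G a c
    have h5 : (k⁻¹ * x * k) • a = a := by
      simpa using Subgroup.Normal.conj_mem inferInstance x hx k⁻¹
    rw [mul_smul, mul_smul, inv_smul_eq_iff] at h5
    rw [h5, one_smul]
  have h5 := H1.prime_index_of_normal_coatom ha
  rw [h4, Subgroup.index_bot] at h5
  haveI := Fact.mk h5
  exact ⟨h4, isCyclic_of_prime_card rfl, h5⟩

end Cfsg.Agent.S3683
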