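import Cfsg.Statements.S3807
import Cfsg.Agent.H1.Misc3

set_option autoImplicit false
open Cfsg

namespace Cfsg.Agent.S3807

open H1
theorem center_le {S : Type*} [Group S] [Finite S] {p : ℕ} (hp : p.Prime) (hna : ¬ IsMulCommutative S)
    {A : Subgroup S} (hA : IsMulCommutative ↥A) (hAi : A.index = p) : Subgroup.center S ≤ A := by
  intro z hz
  by_contra h
  have := L.sup_zpowers_eq_of_relIndex_prime (N := A) (M := ⊤) (by simpa [hAi] using hp) le_top
    (Subgroup.mem_top z) h
  exact hna (L.isMulCommutative_top_iff.1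
    (this ▸ L.isMulCommutative_sup_zpowers hA (Subgroup.center_le_centralizer _ hz)))

/-- Let S be a non-abelian finite p-group with an abelian subgroup A of index p. Then [S : Z(S)] = p·#[S,S], and either [S,S] has order p, S/Z(S) is elementary abelian of order p², and S has exactly p + 1 abelian subgroups of index p; or [S,S] has order at least p² and A is the only abelian subgroup of index p in S. -/
theorem result {S : Type*} [Group S] [Finite S] (p : ℕ) [Fact p.Prime] (hS : IsPGroup p S) (hna : ¬ IsMulCommutative S)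
    (A : Subgroup S) (hA : IsMulCommutative ↥A) (hAi : A.index = p) :
    (Subgroup.center S).index = p * Nat.card (commutator S) ∧
      ((Nat.card (commutator S) = p ∧ Cfsg.IsElementaryAbelian p (⊤ : Subgroup (S ⧸ Subgroup.center S)) ∧
          Nat.card (S ⧸ Subgroup.center S) = p ^ 2 ∧
          Nat.card {B : Subgroup S // IsMulCommutative ↥B ∧ B.index = p} = p + 1) ∨
        (p ^ 2 ≤ Nat.card (commutator S) ∧ ∀ B : Subgroup S, IsMulCommutative ↥B → B.index = p → B = A)) := by
  have hp : p.Prime := Fact.out
  have hA1 : A ≠ ⊤ := fun h => by rw [h, Subgroup.index_top] at hAi; exact hp.one_lt.ne hAi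
  obtain ⟨x, hx⟩ := exists_notMem hA1
  have hgen := L.sup_zpowers_eq_of_relIndex_prime (N := A) (M := ⊤) (by simpa [hAi] using hp) le_top
    (Subgroup.mem_top x) hx
  have hn := L.le_normalizer_of_relIndex_prime (A := A) (M := ⊤) (hS.to_subgroup _) le_top (by simpa [hAi] using hp)
  obtain ⟨h1, -⟩ := L.card_commutator_mul hA (hn (Subgroup.mem_top x))
  rw [hgen, ← commutator_def] at h1
  have h2 : A ⊓ Subgroup.centralizer {x} = Subgroup.center S := by
    refine le_antisymm (fun z hz => ?_) (le_inf (center_le hp hna hA hAi) (Subgroup.center_le_centralizer _))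
    have : A ⊔ Subgroup.zpowers x ≤ Subgroup.centralizer {z} :=
      sup_le (H9.le_centralizer_singleton_iff.2 (L.le_centralizer_of_comm hA hz.1)) (Subgroup.zpowers_le.2
        (Subgroup.mem_centralizer_singleton_iff.2 (Subgroup.mem_centralizer_singleton_iff.1 hz.2).symm))
    rw [Subgroup.mem_center_iff]
    exact fun g => Subgroup.mem_centralizer_singleton_iff.1 (this (hgen ▸ Subgroup.mem_top g))
  rw [h2] at h1
  have h3 : (Subgroup.center S).index = p * Nat.card (commutator S) := by
    have e1 := (Subgroup.center S).card_mul_index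
    rw [← A.card_mul_index, ← h1, hAi] at e1
    refine Nat.eq_of_mul_eq_mul_left (Nat.card_pos (α := Subgroup.center S)) (e1.trans (by ring))
  refine ⟨h3, ?_⟩
  by_cases h4 : Nat.card (commutator S) = p
  · left
    have h5 : Nat.card (S ⧸ Subgroup.center S) = p ^ 2 := by rw [← Subgroup.index_eq_card, h3, h4, sq]
    have h6 : ¬ IsCyclic (S ⧸ Subgroup.center S) := fun h =>
      hna ⟨⟨commutative_of_cyclic_center_quotient (QuotientGroup.mk' (Subgroup.center S)) (by simp)⟩⟩
    have h7 : ∀ y ∈ (⊤ : Subgroup (S ⧸ Subgroup.center S)), y ^ p = 1 := fun y hy =>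
      L.pow_eq_one_of_card_sq (by simpa using h5) (by rwa [L.isCyclic_top_iff]) hy
    refine ⟨h4, ⟨L.isMulCommutative_of_card_le_sq ((hS.to_quotient _).to_subgroup _) (by simp [h5]), h7⟩, h5, ?_⟩
    rw [← L.card_subgroups_of_exp_sq h7 (by simpa using h5)]
    refine Nat.card_congr (Equiv.ofBijective (fun B => ⟨B.1.map (QuotientGroup.mk' _), le_top, ?_⟩) ⟨?_, ?_⟩)
    · have e := (B.1.map (QuotientGroup.mk' (Subgroup.center S))).card_mul_index
      rw [index_map_mk', sup_eq_left.2 (center_le hp hna B.2.1 B.2.2), B.2.2, h5, sq] at e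
      exact Nat.eq_of_mul_eq_mul_right hp.pos e
    · intro B C h
      have := congrArg (fun K => Subgroup.comap (QuotientGroup.mk' (Subgroup.center S)) K.1) h
      simp only [Subgroup.comap_map_eq, QuotientGroup.ker_mk', sup_eq_left.2 (center_le hp hna B.2.1 B.2.2),
        sup_eq_left.2 (center_le hp hna C.2.1 C.2.2)] at this
      exact Subtype.ext this
    · rintro ⟨K, -, hK⟩
      have hZ : Subgroup.center S ≤ K.comap (QuotientGroup.mk' (Subgroup.center S)) := by
        nth_rewrite 1 [← QuotientGroup.ker_mk' (Subgroup.center S)]; exact Subgroup.ker_le_comap _ _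
      refine ⟨⟨K.comap (QuotientGroup.mk' _), ?_, ?_⟩, Subtype.ext
        (Subgroup.map_comap_eq_self_of_surjective (QuotientGroup.mk'_surjective _) K)⟩
      · refine L.isMulCommutative_of_relIndex_prime (N := Subgroup.center S) ?_ hZ (Subgroup.center_le_centralizer _)
        rw [← card_map_mk', Subgroup.map_comap_eq_self_of_surjective (QuotientGroup.mk'_surjective _), hK]
        exact hp
      · have e := K.card_mul_index
        rw [hK, h5, sq] at e
        rw [Subgroup.index_comap_of_surjective _ (QuotientGroup.mk'_surjective _)]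
        exact Nat.eq_of_mul_eq_mul_left hp.pos e
  · right
    obtain ⟨k, hk⟩ := L.exists_card_eq_pow (hS.to_subgroup (commutator S))
    have hk0 : k ≠ 0 := by
      rintro rfl
      exact hna (L.commutator_eq_bot_iff_comm'.1 (Subgroup.card_eq_one.1 (by simpa using hk)))
    have hk1 : k ≠ 1 := by rintro rfl; exact h4 (by simpa using hk)
    have h5 : p ^ 2 ≤ Nat.card (commutator S) := hk ▸ Nat.pow_le_pow_right hp.pos (by omega)
    refine ⟨h5, fun B hB hBi => ?_⟩
    by_contra hne
    have h6 : A ⊔ B = ⊤ := sup_eq_top_of_coatom (isCoatom_of_index_prime (hAi ▸ hp)) fun h =>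
      hne (((isCoatom_of_index_prime (hBi ▸ hp)).le_iff.1 h).resolve_left hA1).symm
    have h7 : A ⊓ B ≤ Subgroup.center S := by
      rw [← Subgroup.centralizer_univ, ← Subgroup.coe_top, ← h6, H9.centralizer_sup]
      exact inf_le_inf (L.le_centralizer_of_comm hA) (L.le_centralizer_of_comm hB)
    have h8 := (Nat.le_of_dvd (Nat.pos_of_ne_zero Subgroup.FiniteIndex.index_ne_zero)
      (Subgroup.index_dvd_of_le h7)).trans Subgroup.index_inf_le
    rw [h3, hAi, hBi] at h8
    nlinarith [hp.one_lt, Nat.le_of_mul_le_mul_left h8 hp.pos]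

end Cfsg.Agent.S3807
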