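import Cfsg.Statements.S3808
import Cfsg.Agent.H1.Misc3

set_option autoImplicit false
open Cfsg

namespace Cfsg.Agent.S3808

open H1

/-- Let S be a finite p-group with an extraspecial subgroup Q of index p. Then either Z(S) = Z(Q), or S = Q·Z(S) and Z(S) has order p². -/
theorem result {S : Type*} [Group S] [Finite S] (p : ℕ) [Fact p.Prime] (hS : IsPGroup p S) (Q : Subgroup S) (hQ : Cfsg.IsExtraspecial p ↥Q) (hQi : Q.index = p) :
    Subgroup.center S = (Subgroup.center ↥Q).map Q.subtype ∨
      (Q ⊔ Subgroup.center S = ⊤ ∧ Nat.card (Subgroup.center S) = p ^ 2) := by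
  have hp : p.Prime := Fact.out
  have hn := L.le_normalizer_of_relIndex_prime (A := Q) (M := ⊤) (hS.to_subgroup _) le_top (by simpa [hQi] using hp)
  obtain ⟨-, -, -, h1⟩ := L.isExtraspecial_iff.1 hQ
  rw [H9.map_center_subtype]
  have h2 : Q ⊓ Subgroup.centralizer (Q : Set S) ≤ Subgroup.center S := by
    rw [← Subgroup.centralizer_univ, ← Subgroup.coe_top]
    exact L.le_centralizer_of_card_prime (hS.to_subgroup _) le_top
      (le_normalizer_inf hn (le_normalizer_centralizer hn)) (h1 ▸ hp)
  have h3 : Q ⊓ Subgroup.center S = Q ⊓ Subgroup.centralizer (Q : Set S) :=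
    le_antisymm (inf_le_inf_left _ (Subgroup.center_le_centralizer _)) (le_inf inf_le_left h2)
  by_cases h : Subgroup.center S ≤ Q
  · left; rw [← h3, inf_eq_right.2 h]
  · right
    have h4 := sup_eq_top_of_coatom (isCoatom_of_index_prime (hQi ▸ hp)) h
    refine ⟨h4, ?_⟩
    rw [← card_inf_mul_relIndex Q, h3, h1, ← relIndex_sup_of_le_normalizer (le_top.trans hn), sup_comm, h4,
      Subgroup.relIndex_top_right, hQi, sq]

end Cfsg.Agent.S3808
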