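import Cfsg.Statements.S3809
import Cfsg.Agent.H1.ES

set_option autoImplicit false
open Cfsg

namespace Cfsg.Agent.S3809

open scoped commutatorElement
open H1

/-- Let S be a finite p-group with an extraspecial subgroup of index p. Then S has order p^(2+2n) for some n ≥ 1, derived length at most 3, and exponent dividing p³. -/
theorem result {S : Type*} [Group S] [Finite S] (p : ℕ) [Fact p.Prime] (hS : IsPGroup p S) (Q : Subgroup S) (hQ : Cfsg.IsExtraspecial p ↥Q) (hQi : Q.index = p) :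
    (∃ n : ℕ, 1 ≤ n ∧ Nat.card S = p ^ (2 + 2 * n)) ∧ derivedSeries S 3 = ⊥ ∧ ∀ x : S, x ^ (p ^ 3) = 1 := by
  open Subgroup in
  obtain ⟨m, z, h⟩ := xp_of hQ
  have hp : p.Prime := Fact.out
  have : Q.Normal := normalizer_eq_top_iff.1 (eq_top_iff.2 (L.le_normalizer_of_relIndex_prime
    (hS.to_subgroup ⊤) le_top (by rwa [relIndex_top_right, hQi])))
  have h1 : ⁅(⊤ : Subgroup S), ⊤⁆ ≤ Q := L.commutator_le_of_relIndex_prime (hS.to_subgroup ⊤) le_top
    le_rfl le_normalizer_of_normal le_normalizer_of_normal (by rwa [relIndex_top_right, hQi])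
  refine ⟨⟨m + 1, by omega, by rw [← Q.card_mul_index, h.cd, hQi]; ring⟩, ?_, fun x => ?_⟩
  · have h2 : derivedSeries S 2 ≤ zpowers z :=
      (commutator_mono h1 h1).trans (commutator_le.2 h.comm)
    exact eq_bot_iff.2 ((commutator_mono h2 h2).trans
      (L.commutator_eq_bot_iff_comm.2 (L.isMulCommutative_zpowers z)).le)
  · obtain ⟨k, hk⟩ := h.pow h.nd (hQi ▸ Q.pow_index_mem x)
    rw [pow_succ, pow_two, pow_mul, pow_mul, ← hk, ← zpow_natCast, ← zpow_mul, mul_comm, zpow_mul,
      zpow_natCast, h.zp, one_zpow]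

end Cfsg.Agent.S3809
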