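import Cfsg.Statements.S3810
import Cfsg.Agent.H1.Misc3
import Cfsg.Agent.S3807

set_option autoImplicit false
open Cfsg

namespace Cfsg.Agent.S3810

open H1

/-- Let S be a finite p-group with an extraspecial subgroup of index p. Then S has an abelian subgroup of index p if and only if S has order p⁴. -/
theorem result {S : Type*} [Group S] [Finite S] (p : ℕ) [Fact p.Prime] (hS : IsPGroup p S) (Q : Subgroup S) (hQ : Cfsg.IsExtraspecial p ↥Q) (hQi : Q.index = p) :
    (∃ A : Subgroup S, IsMulCommutative ↥A ∧ A.index = p) ↔ Nat.card S = p ^ 4 := by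
  have hp : p.Prime := Fact.out
  constructor
  · rintro ⟨A, hA, hAi⟩
    have hna : ¬ IsMulCommutative Q := fun h => by
      have h1 := hQ.2
      rw [← hQ.1.2.2, L.commutator_eq_bot_iff_comm'.2 h, Subgroup.card_bot] at h1
      exact hp.one_lt.ne h1
    have h1 : (A.subgroupOf Q).index = p := L.relIndex_eq_of_le hQ.1.1 (fun h => hna (isMulCommutative_of_le h hA))
      (by rw [← hAi, ← Subgroup.relIndex_top_right]; exact relIndex_le_relIndex_of_le _ le_top)
    have h2 := (Cfsg.Agent.S3807.result p hQ.1.1 hna (A.subgroupOf Q) inferInstance h1).1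
    rw [hQ.1.2.2, hQ.2] at h2
    rw [← Q.card_mul_index, ← (Subgroup.center Q).card_mul_index, h2, hQ.2, hQi]; ring
  · intro h
    obtain ⟨N, -, hN, hc⟩ := L.exists_normal_card' (L := ⊤) (C := ⊤) (hS.to_subgroup _) le_rfl
      Subgroup.le_normalizer 2 (by rw [Subgroup.card_top, h]; exact Nat.pow_le_pow_right hp.pos (by omega))
    have h1 := L.relIndex_centralizer_le_pow (hS.to_subgroup ⊤) 2 le_top hN hc
    have h2 : N ≤ Subgroup.centralizer (N : Set S) :=
      L.le_centralizer_of_comm (L.isMulCommutative_of_card_le_sq (hS.to_subgroup _) hc.le)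
    obtain ⟨M, h3, h4, -, h5⟩ := L.exists_normal_card (L := ⊤) (hS.to_subgroup _) h2 le_top hN
      (le_normalizer_centralizer hN) 1 (by
        have e := (Subgroup.centralizer (N : Set S)).card_mul_index
        rw [Subgroup.relIndex_top_right] at h1
        have := Nat.mul_le_mul_left (Nat.card (Subgroup.centralizer (N : Set S))) h1
        rw [e, h] at this
        rw [hc]
        exact Nat.le_of_mul_le_mul_right (c := p) (by simpa [pow_succ] using this) hp.pos)
    refine ⟨M, L.isMulCommutative_of_relIndex_prime (N := N) ?_ h3 (Subgroup.le_centralizer_iff.1 h4), ?_⟩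
    · have e := card_mul_relIndex h3
      rw [h5, pow_one] at e
      rw [Nat.eq_of_mul_eq_mul_left Nat.card_pos e]; exact hp
    · have e := M.card_mul_index
      rw [h5, hc, h] at e
      exact Nat.eq_of_mul_eq_mul_left (Nat.mul_pos (pow_pos hp.pos _) (pow_pos hp.pos _)) (e.trans (by ring))

end Cfsg.Agent.S3810
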