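import Cfsg.Statements.S3811
import Cfsg.Agent.H9.Soft

set_option autoImplicit false
open Cfsg

namespace Cfsg.Agent.S3811

/-- Let P be a finite p-group and E an abelian subgroup of P that contains its centralizer, has index p in its normalizer, and has index at least p² in P. Then the subgroups of P containing E are totally ordered by inclusion, each proper one has index p in its normalizer (so they form the normalizer tower of E, with all steps of index p), and the i-th member of the tower above E has nilpotency class i + 1 whenever it is a proper subgroup of P. -/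
theorem result {P : Type*} [Group P] [Finite P] (p : ℕ) [Fact p.Prime] (hP : IsPGroup p P)
    (E : Subgroup P) (hEab : IsMulCommutative ↥E) (hC : Subgroup.centralizer (E : Set P) ≤ E)
    (hN : (E.subgroupOf (Subgroup.normalizer (E : Set P))).index = p) (hidx : p ^ 2 ≤ E.index) :
    (∀ K L : Subgroup P, E ≤ K → E ≤ L → K ≤ L ∨ L ≤ K) ∧
      (∀ K : Subgroup P, E ≤ K → K ≠ ⊤ → (K.subgroupOf (Subgroup.normalizer (K : Set P))).index = p) ∧
      ∀ (i : ℕ) (K : Subgroup P) [Group.IsNilpotent ↥K], E ≤ K → K ≠ ⊤ → K.index * p ^ i = E.index →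
        Group.nilpotencyClass ↥K = i + 1 := by
  open H9 Subgroup in open scoped commutatorElement in
  open Subgroup in
  have hp : p.Prime := Fact.out
  have h := fun K i => H9.Sf.main i P hP E K (L.le_centralizer_of_comm hEab) hC hN
  have h1 : ∀ K : Subgroup P, E ≤ K → K ≠ ⊤ → K.relIndex (normalizer (K : Set P)) = p := fun K a b =>
    let ⟨i, hi⟩ := L.exists_relIndex_eq_pow (N := E) (hP.to_subgroup K); (h K i a b hi).1
  refine ⟨fun K M a b => by_contra fun c => ?_, h1, fun i K _ a b c => (h K i a b ?_).2⟩
  · rw [not_or] at c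
    have k : ∀ A : Subgroup P, K ⊓ M < A → K ⊓ M < normalizer ((K ⊓ M : Subgroup P) : Set P) ⊓ A ∧
        normalizer ((K ⊓ M : Subgroup P) : Set P) ≤ A := fun A d =>
      have e := H9.lt_normalizer_of_nilpotent (hP.to_subgroup A).isNilpotent d
      ⟨e, inf_eq_left.1 ((L.eq_or_eq_of_relIndex_prime (h1 _ (le_inf a b) (ne_top_of_lt d) ▸ hp) e.le
        inf_le_left).resolve_left e.ne')⟩
    have x := k K (inf_lt_left.2 c.1)
    exact x.1.not_ge (inf_le_left.trans (le_inf x.2 (k M (inf_lt_right.2 c.2)).2))
  · rw [← relIndex_mul_index a, mul_comm] at c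
    exact (Nat.eq_of_mul_eq_mul_right (Nat.pos_of_ne_zero index_ne_zero_of_finite) c).symm

end Cfsg.Agent.S3811
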