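import Cfsg.Statements.S3861
import Cfsg.Agent.H1.Tr2
import Cfsg.Agent.S0200

set_option autoImplicit false
open Cfsg

namespace Cfsg.Agent.S3861

open H1

/-- A finite group G has no non-identity element of odd order that is conjugate to its inverse if and only if the Sylow 2-subgroups of G are normal. -/
theorem result {G : Type*} [Group G] [Finite G] (P : Sylow 2 G) : (∀ x : G, x ≠ 1 → Odd (orderOf x) → ¬ IsConj x x⁻¹) ↔ (P : Subgroup G).Normal := by
  constructor
  · intro h
    have hodd : ¬ 2 ∣ (Cfsg.pCore 2 G).index := by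
      intro hd
      obtain ⟨t, ht⟩ := exists_prime_orderOf_dvd_card' (G := G ⧸ Cfsg.pCore 2 G) 2 hd
      obtain ⟨y, hy1, hy2, hy3⟩ := Cfsg.Agent.S0200.result t ht (fun N _ hN htN => by
        have := le_pCore hN htN
        rw [pCore_quotient_pCore, Subgroup.mem_bot] at this
        exact two_ne ht this)
      obtain ⟨g, rfl⟩ := QuotientGroup.mk'_surjective _ y
      obtain ⟨x, -, hx1, hx2⟩ := exists_lift_p' (p := 2) _ g (Odd.not_two_dvd_nat hy2)
      rw [← hx1] at hy1 hy3
      have hc : (orderOf x).Coprime (Nat.card (Cfsg.pCore 2 G)) :=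
        (isPGroup_coprime' pCore_isPGroup hx2).symm
      refine h x (fun e => hy1 (by simp [e])) (Nat.odd_iff.2 (by omega))
        (isConj_of_mk_isConj hc (by rwa [orderOf_inv]) (isConj_iff.2 ⟨t, hy3⟩))
    have h2 : IsSylowIn 2 (Cfsg.pCore 2 G) ⊤ :=
      ⟨le_top, pCore_isPGroup, by rwa [Subgroup.relIndex_top_right]⟩
    rw [h2.eq_of_le P.isPGroup' (pCore_le_sylow P) le_top]
    infer_instance
  · intro hn x hx1 hx hc
    obtain ⟨c, hc⟩ := isConj_iff.1 hc
    obtain ⟨t, -, ht, hi⟩ := exists_two_elt_inverts (L := ⊤) trivial hc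
    have htP : t ∈ (P : Subgroup G) :=
      (isSylowIn_top P).mem_of_mem_normalizer trivial ht (by rw [Subgroup.normalizer_eq_top]; trivial)
    have h1 : x ^ 2 ∈ (P : Subgroup G) := by
      have := mul_mem (hn.conj_mem _ htP x) (inv_mem htP)
      have e : x * t * x⁻¹ * t⁻¹ = x * (t * x * t⁻¹)⁻¹ := by group
      rwa [e, hi, inv_inv, ← sq] at this
    have h2 : x ∈ (P : Subgroup G) := L.mem_of_pow_mem h1 (Nat.coprime_two_right.2 hx)
    exact hx1 (H2.eq_one_of_coprime_of_mem P.isPGroup' h2 (Nat.coprime_two_right.2 hx))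

end Cfsg.Agent.S3861
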