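import Cfsg.Statements.S3870
import Cfsg.Agent.H1.Misc3

set_option autoImplicit false
open Cfsg

namespace Cfsg.Agent.S3870

open H1

/-- Let G be a finite simple group whose Sylow p-subgroups are not normal but such that every proper subgroup of G has a normal Sylow p-subgroup. Then any two distinct Sylow p-subgroups of G intersect trivially, and for every Sylow p-subgroup P the normalizer of every non-identity subgroup of P lies in the normalizer of P. -/
theorem result {G : Type*} [Group G] [Finite G] [IsSimpleGroup G] {p : ℕ} [Fact p.Prime]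
    (hnc : ¬ Cfsg.IsPClosed p G) (hsub : ∀ H : Subgroup G, H ≠ ⊤ → Cfsg.IsPClosed p ↥H) :
    (∀ P Q : Sylow p G, P ≠ Q → (P : Subgroup G) ⊓ (Q : Subgroup G) = ⊥) ∧
      ∀ (P : Sylow p G) (R : Subgroup G), R ≤ P → R ≠ ⊥ →
        Subgroup.normalizer (R : Set G) ≤ Subgroup.normalizer ((P : Subgroup G) : Set G) := by
  have key : ∀ n : ℕ, ∀ R : Subgroup G, R.index = n → R ≠ ⊥ → ∀ P Q : Sylow p G, R ≤ P → R ≤ Q → P = Q := by
    intro n
    induction n using Nat.strong_induction_on with
    | _ n ih =>
    intro R hn hR P Q h1 h2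
    by_cases e : R = P
    · exact Sylow.ext (P.is_maximal' Q.isPGroup' (e ▸ h2)).symm
    by_cases e' : R = Q
    · exact Sylow.ext (Q.is_maximal' P.isPGroup' (e' ▸ h1))
    have hN : Subgroup.normalizer (R : Set G) ≠ ⊤ := fun h => by
      rcases (Subgroup.normalizer_eq_top_iff.1 h).eq_bot_or_eq_top with h3 | h3
      · exact hR h3
      · exact e (le_antisymm h1 (h3 ▸ le_top))
    obtain ⟨S⟩ := (inferInstance : Nonempty (Sylow p (Subgroup.normalizer (R : Set G))))
    have hS := isSylowIn_map_subtype S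
    have hSn := normal_map_subtype_iff.1 (hsub _ hN S)
    obtain ⟨T, hT⟩ := hS.2.exists_le_sylow
    have h3 : ∀ P : Sylow p G, R ≤ P → R ≠ P → P = T := fun P h1 e => by
      have h4 := lt_normalizer_inf_of_isPGroup P.isPGroup' (lt_of_le_of_ne h1 e)
      refine ih _ ?_ _ rfl (ne_bot_of_gt h4) P T inf_le_right ((hS.le_of_le_normalizer (P.isPGroup'.to_le inf_le_right)
        inf_le_left (inf_le_left.trans hSn)).trans hT)
      rw [← hn]; exact Subgroup.index_strictAnti h4
    rw [h3 P h1 e, h3 Q h2 e']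
  refine ⟨fun P Q h => ?_, fun P R h1 h2 g hg => ?_⟩
  · by_contra h2
    exact h (key _ _ rfl h2 P Q inf_le_left inf_le_right)
  · refine Sylow.smul_eq_iff_mem_normalizer.1 (key _ R rfl h2 _ _ ?_ h1)
    rw [sylow_coe_smul, ← conj_smul_eq_self_iff.2 hg]; exact conj_smul_mono _ h1

end Cfsg.Agent.S3870
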