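import Cfsg.Statements.S4209
import Cfsg.Agent.H1.Reg

set_option autoImplicit false
open Cfsg

namespace Cfsg.Agent.S4209

open H1

/-- A finite `p`-group of nilpotency class less than `p` (the term of index `p - 1` of the lower central series of the whole group, indexed from `0`, is trivial) is a regular `p`-group. -/
theorem result {G : Type*} [Group G] [Finite G] {p : ℕ} [Fact p.Prime] (hG : IsPGroup p G) (hcl : (⊤ : Subgroup G).lowerCentralSeries (p - 1) = ⊥) : Cfsg.IsRegularPGroup p G := by
  have hp : p.Prime := Fact.out
  refine R1.reg ⟨hG, fun a b => ⟨_, hall_petresco (left_mem_pair a b) (right_mem_pair a b) p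
    fun i hi c hc => ?_, by simp [mul_assoc]⟩⟩
  rcases hi.lt_or_eq with hi | hi
  · obtain ⟨k, hk⟩ := hp.dvd_choose_self (by omega) hi
    rw [hk, pow_mul]
    exact pow_mem (by simpa using (pow_mem_pc (p := p) (n := 1)
      (Subgroup.lowerCentralSeries_antitone _ (show 1 ≤ i + 1 by omega) hc))) _
  · have : c ∈ (⊤ : Subgroup G).lowerCentralSeries (i + 1) :=
      Subgroup.lowerCentralSeries_mono (i + 1) le_top hc
    rw [show i + 1 = p - 1 by omega, hcl] at this
    rw [Subgroup.mem_bot.1 this, one_pow]
    exact one_mem _

end Cfsg.Agent.S4209
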