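import Cfsg.Statements.S3872
import Cfsg.Agent.H1.Q1
import Cfsg.Agent.S4209
import Cfsg.Agent.L.PG4
import Cfsg.Agent.L.PG3

set_option autoImplicit false
open Cfsg

namespace Cfsg.Agent.S3872

open H1
open Subgroup H9

/-- Say that a finite group is p-exponent closed when its elements of order dividing p form a subgroup. Let G be a finite p-group that is not p-exponent closed, but all of whose proper subgroups and proper quotients are. Then G is generated by two elements, has nilpotency class at least p, has exponent p², has cyclic center, and has order at least p^(p+1). -/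
theorem result {G : Type*} [Group G] [Finite G] {p : ℕ} [Fact p.Prime] (hG : IsPGroup p G)
    (hnc : ¬ (∃ H : Subgroup G, (H : Set G) = {g : G | g ^ p = 1})) (hsub : ∀ K : Subgroup G, K ≠ ⊤ → (∃ H : Subgroup ↥K, (H : Set ↥K) = {g : ↥K | g ^ p = 1}))
    (hquo : ∀ (N : Subgroup G) [N.Normal], N ≠ ⊥ → (∃ H : Subgroup (G ⧸ N), (H : Set (G ⧸ N)) = {g : (G ⧸ N) | g ^ p = 1})) :
    (∃ x y : G, Subgroup.closure ({x, y} : Set G) = ⊤) ∧ (⊤ : Subgroup G).lowerCentralSeries (p - 1) ≠ ⊥ ∧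
      Monoid.exponent G = p ^ 2 ∧ IsCyclic ↥(Subgroup.center G) ∧ p ^ (p + 1) ≤ Nat.card G := by
  have hp : p.Prime := Fact.out
  obtain ⟨x, y, hx, hy, hxy⟩ : ∃ x y : G, x ^ p = 1 ∧ y ^ p = 1 ∧ (x * y) ^ p ≠ 1 := by
    by_contra h
    push Not at h
    exact hnc ⟨{ carrier := {g | g ^ p = 1}, mul_mem' := fun ha hb => h _ _ ha hb, one_mem' := one_pow p
                 inv_mem' := fun {a} ha => by rw [Set.mem_setOf_eq, inv_pow, show a ^ p = 1 from ha, inv_one] }, rfl⟩
  have gen : closure ({x, y} : Set G) = ⊤ := by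
    by_contra h
    obtain ⟨H, hH⟩ := hsub _ h
    have m : ∀ g : closure ({x, y} : Set G), g ∈ H ↔ (g : G) ^ p = 1 := fun g => by
      rw [← SetLike.mem_coe, hH, Set.mem_setOf_eq, Subtype.ext_iff]; rfl
    exact hxy ((m _).1 (H.mul_mem ((m ⟨x, left_mem_pair x y⟩).2 hx) ((m ⟨y, right_mem_pair x y⟩).2 hy)))
  have cl : (⊤ : Subgroup G).lowerCentralSeries (p - 1) ≠ ⊥ := fun h =>
    hxy ((R1.of_reg (S4209.result hG h)).omega hx hy)
  have q : ∀ N : Subgroup G, N.Normal → N ≠ ⊥ → ∀ g : G, g ^ p ∈ N := fun N _ h g => by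
    obtain ⟨H, hH⟩ := hquo N h
    have m : ∀ g : G, (g : G ⧸ N) ∈ H ↔ g ^ p ∈ N := fun g => by
      rw [← SetLike.mem_coe, hH, Set.mem_setOf_eq, ← QuotientGroup.mk_pow, QuotientGroup.eq_one_iff]
    have : closure ({x, y} : Set G) ≤ H.comap (QuotientGroup.mk' N) :=
      pair_le ((m x).2 (hx ▸ N.one_mem)) ((m y).2 (hy ▸ N.one_mem))
    rw [gen] at this
    exact (m g).1 (this (mem_top g))
  have q' : ∀ z ∈ center G, z ≠ 1 → ∀ g : G, g ^ p ∈ zpowers z := fun z hz h =>
    q _ ⟨fun n hn g => by rw [mem_center_iff.1 (zpowers_le.2 hz hn) g, mul_inv_cancel_right]; exact hn⟩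
      (zpowers_ne_bot.2 h)
  have : Nontrivial G := ⟨⟨_, _, hxy⟩⟩
  obtain ⟨z, hz, oz⟩ := exists_orderOf_eq_of_isPGroup (hG.to_subgroup (center G))
    (L.center_ne_bot hG Finite.one_lt_card.ne')
  have z1 : ∀ z : G, orderOf z = p → z ≠ 1 := fun z oz e => hp.ne_one (by rw [← oz, e, orderOf_one])
  refine ⟨⟨x, y, gen⟩, cl, ?_, ?_, ?_⟩
  · have d : Monoid.exponent G ∣ p ^ 2 := Monoid.exponent_dvd_of_forall_pow_eq_one fun g => by
      obtain ⟨k, hk⟩ := q' z hz (z1 z oz) g
      rw [sq, pow_mul, ← hk, ← zpow_natCast, ← zpow_mul, mul_comm, zpow_mul, zpow_natCast, ← oz, pow_orderOf_eq_one,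
        one_zpow]
    obtain ⟨k, hk, e⟩ := (Nat.dvd_prime_pow hp).1 d
    rcases hk.eq_or_lt with rfl | hk
    · exact e
    · refine absurd (L.pow_eq_one_of_dvd (Monoid.pow_exponent_eq_one _) ?_) hxy
      rw [e]; simpa using pow_dvd_pow p (Nat.lt_succ_iff.1 hk)
  · by_contra h
    obtain ⟨A, h1, h2, h3⟩ := L.exists_elem_two (hG.to_subgroup (center G)) h (.inr inferInstance)
    have : A ≤ zpowers ((x * y) ^ p) := fun a ha => by
      by_cases a1 : a = 1
      · exact a1 ▸ one_mem _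
      rcases bot_or_eq_of_prime (A := zpowers a) (by rw [Nat.card_zpowers, orderOf_eq_prime (h2.2 a ha) a1]; exact hp)
        (zpowers_le.2 (q' a (h1 ha) a1 (x * y))) with e | e
      · exact absurd (zpowers_eq_bot.1 e) hxy
      · exact e ▸ mem_zpowers a
    have l := card_le_of_le (this.trans (zpowers_le.2 (q' z hz (z1 z oz) (x * y))))
    rw [h3, Nat.card_zpowers, oz] at l
    have := hp.one_lt
    nlinarith
  · obtain ⟨j, rfl⟩ := Nat.exists_eq_add_of_le' hp.two_le
    simpa using L.pow_le_card_of_lcs (hG.to_subgroup ⊤) j cl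

end Cfsg.Agent.S3872
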