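import Cfsg.Statements.S3889
import Cfsg.Agent.H1.Basic

set_option autoImplicit false
open Cfsg

namespace Cfsg.Agent.S3889

/-- A finite abelian group that is the union of a family of proper subgroups any two of which intersect trivially is elementary abelian: its exponent is a prime. -/
theorem result {G : Type*} [CommGroup G] [Finite G] (𝓑 : Set (Subgroup G)) (hprop : ∀ B ∈ 𝓑, B ≠ ⊤)
    (hcov : ∀ g : G, ∃ B ∈ 𝓑, g ∈ B) (hdisj : ∀ B ∈ 𝓑, ∀ C ∈ 𝓑, B ≠ C → B ⊓ C = ⊥) :
    (Monoid.exponent G).Prime := by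
  -- key: if `x ∉ B` where `y ∈ B`, `y^p = 1`... every element outside the member containing `y` has `x^p=1`
  have hnt : Nontrivial G := by
    obtain ⟨B, hB, -⟩ := hcov 1
    by_contra h
    rw [not_nontrivial_iff_subsingleton] at h
    exact hprop B hB (Subsingleton.elim _ _)
  obtain ⟨p, hp, hd⟩ := Nat.exists_prime_and_dvd (Finite.one_lt_card (α := G)).ne'
  haveI := Fact.mk hp
  obtain ⟨y, hy⟩ := exists_prime_orderOf_dvd_card' p hd
  have hy1 : y ≠ 1 := by rintro rfl; rw [orderOf_one] at hy; exact hp.one_lt.ne hy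
  have hyp : y ^ p = 1 := hy ▸ pow_orderOf_eq_one y
  obtain ⟨B, hB, hyB⟩ := hcov y
  have key : ∀ x, x ∉ B → x ^ p = 1 := by
    intro x hx
    obtain ⟨C, hC, hxC⟩ := hcov x
    obtain ⟨D, hD, hxD⟩ := hcov (x * y)
    have hCD : C ≠ D := by
      rintro rfl
      have hyC : y ∈ C := (C.mul_mem_cancel_left hxC).1 hxD
      have hBC : B ≠ C := fun h => hx (h ▸ hxC)
      have : y ∈ B ⊓ C := ⟨hyB, hyC⟩
      rw [hdisj B hB C hC hBC] at this
      exact hy1 this
    have : x ^ p ∈ C ⊓ D := ⟨C.pow_mem hxC p, by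
      have := D.pow_mem hxD p
      rwa [mul_pow, hyp, mul_one] at this⟩
    rwa [hdisj C hC D hD hCD] at this
  have all : ∀ x : G, x ^ p = 1 := by
    intro x
    by_cases hx : x ∈ B
    · obtain ⟨z, hz⟩ : ∃ z, z ∉ B := by
        by_contra h
        push Not at h
        exact hprop B hB (eq_top_iff.2 fun z _ => h z)
      have h1 := key (x * z) (fun h => hz ((B.mul_mem_cancel_left hx).1 h))
      rwa [mul_pow, key z hz, mul_one] at h1
    · exact key x hx
  have h1 : Monoid.exponent G ∣ p := Monoid.exponent_dvd_of_forall_pow_eq_one all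
  have h2 : p ∣ Monoid.exponent G := hy ▸ Monoid.order_dvd_exponent y
  rwa [Nat.dvd_antisymm h1 h2]

end Cfsg.Agent.S3889
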