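import Cfsg.Statements.S3890
import Cfsg.Agent.H4.Cov

set_option autoImplicit false
open Cfsg

namespace Cfsg.Agent.S3890

open scoped Pointwise


/-- A cover of a group is a finite set of proper subgroups whose union is the whole group; it is minimal when no cover has fewer members, and nilpotent when all its members are nilpotent. Let G be a finite group with trivial center admitting a nilpotent minimal cover 𝓐, and let P be an abelian Sylow p-subgroup of G that is not normal. Then either P is elementary abelian of order greater than p, or P is a Sylow p-subgroup of some member A of 𝓐, the normalizer N of P is a maximal subgroup of G, N meets each of its conjugates by elements outside N in a subgroup of order prime to p, and the centralizer of P equals A. -/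
theorem result {G : Type*} [Group G] [Finite G] (hZ : Subgroup.center G = ⊥) (𝓐 : Finset (Subgroup G))
    (h𝓐 : ((∀ A ∈ 𝓐, A ≠ ⊤) ∧ (∀ g : G, ∃ A ∈ 𝓐, g ∈ A)) ∧ (∀ 𝓑 : Finset (Subgroup G), (∀ A ∈ 𝓑, A ≠ ⊤) ∧ (∀ g : G, ∃ A ∈ 𝓑, g ∈ A) → 𝓐.card ≤ 𝓑.card) ∧ (∀ A ∈ 𝓐, Group.IsNilpotent ↥A)) {p : ℕ} [Fact p.Prime] (P : Sylow p G) (hab : IsMulCommutative ↥(P : Subgroup G))
    (hnn : ¬ (P : Subgroup G).Normal) :
    (Cfsg.IsElementaryAbelian p (P : Subgroup G) ∧ p < Nat.card ↥(P : Subgroup G)) ∨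
    (∃ A ∈ 𝓐, (P : Subgroup G) ≤ A ∧ ¬ p ∣ ((P : Subgroup G).subgroupOf A).index ∧
      IsCoatom (Subgroup.normalizer ((P : Subgroup G) : Set G)) ∧
      (∀ g : G, g ∉ Subgroup.normalizer ((P : Subgroup G) : Set G) →
        ¬ p ∣ Nat.card ↥(Subgroup.normalizer ((P : Subgroup G) : Set G) ⊓
          (Subgroup.normalizer ((P : Subgroup G) : Set G)).map (MulAut.conj g).toMonoidHom)) ∧
      Subgroup.centralizer ((P : Subgroup G) : Set G) = A) := by
  by_cases hne : (∀ x ∈ (P : Subgroup G), x ^ p = 1) ∧ p < Nat.card (P : Subgroup G)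
  · exact Or.inl ⟨⟨hab, hne.1⟩, hne.2⟩
  right
  obtain ⟨A, hA, h1, h2, h3⟩ := H4.Cov.main hZ h𝓐 P hab hne hnn
  refine ⟨A, hA, h1, (P.subtype h1).not_dvd_index, H4.Cov.coatom hZ h𝓐 P hab hne hnn, fun g hg hd => ?_, h2⟩
  obtain ⟨⟨x, hx1, y, hy, hxy⟩, hx⟩ := exists_prime_orderOf_dvd_card' p hd
  have hox : orderOf x = p := (Subgroup.orderOf_mk x _).symm.trans hx
  have hxp : x ^ p ^ 1 = 1 := by rw [pow_one, ← hox, pow_orderOf_eq_one]
  have hin : ∀ z : G, z ^ p ^ 1 = 1 → z ∈ Subgroup.normalizer ((P : Subgroup G) : Set G) → z ∈ (P : Subgroup G) := by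
    intro z hz hzN
    have h1 := (H4.Cov.pz hz).inf_normalizer_sylow P
    have h2 : z ∈ Subgroup.zpowers z ⊓ Subgroup.normalizer ((P : Subgroup G) : Set G) := ⟨Subgroup.mem_zpowers z, hzN⟩
    have h3 : z ∈ Subgroup.zpowers z ⊓ (P : Subgroup G) := h1 ▸ h2
    exact h3.2
  have e : g⁻¹ * x * g = y := by
    rw [← hxy]; simp [mul_assoc]
  have hy' : y ^ p ^ 1 = 1 := by
    rw [← e, show g⁻¹ * x * g = g⁻¹ * x * g⁻¹⁻¹ by simp, conj_pow, hxp]; simp
  have := (h3 g hg).1 x (hin x hxp hx1) (e ▸ hin y hy' hy)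
  rw [this, orderOf_one] at hox
  exact (Fact.out : p.Prime).ne_one hox.symm

end Cfsg.Agent.S3890
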