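import Cfsg.Statements.S3892
import Mathlib
import Cfsg.Agent.H1.Fitting
import Cfsg.Agent.S0065

set_option autoImplicit false
open Cfsg

namespace Cfsg.Agent.S3892

open scoped Pointwise
open Equiv Equiv.Perm in
lemma cop {G : Type*} [Group G] [Finite G] {H : Subgroup G} (hH : Group.IsNilpotent H) {a b : G} (ha : a ∈ H) (hb : b ∈ H)
    {k : ℕ} (h3 : a ^ 3 = 1) (hk : b ^ k = 1) (hc : Nat.Coprime 3 k) : a * b = b * a :=
  H1.commute_of_coprime_of_nilpotent hH ha hb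
    (Nat.Coprime.coprime_dvd_right (orderOf_dvd_of_pow_eq_one hk) (Nat.Coprime.coprime_dvd_left (orderOf_dvd_of_pow_eq_one h3) hc))

lemma red {G : Type*} [Group G] (x y : G) (M : Subgroup G) (hM : M ≠ ⊤)
    (hx : ∀ H : Subgroup G, Group.IsNilpotent H → x ∈ H → H ≤ M)
    (hy : ∀ H : Subgroup G, Group.IsNilpotent H → y ∈ H → H ≤ M)
    (hxy : ∀ H : Subgroup G, Group.IsNilpotent H → x ∈ H → y ∈ H → False) :
    ¬ ∃ 𝓐 : Finset (Subgroup G), ((∀ A ∈ 𝓐, A ≠ ⊤) ∧ (∀ g : G, ∃ A ∈ 𝓐, g ∈ A)) ∧ (∀ 𝓑 : Finset (Subgroup G), (∀ A ∈ 𝓑, A ≠ ⊤) ∧ (∀ g : G, ∃ A ∈ 𝓑, g ∈ A) → 𝓐.card ≤ 𝓑.card) ∧ (∀ A ∈ 𝓐, Group.IsNilpotent ↥A) := by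
  classical
  rintro ⟨𝓐, ⟨h1, h2⟩, h3, h4⟩
  obtain ⟨A, hA, hxA⟩ := h2 x
  obtain ⟨B, hB, hyB⟩ := h2 y
  have hAB : A ≠ B := fun e => hxy A (h4 A hA) hxA (e ▸ hyB)
  have := h3 (insert M ((𝓐.erase A).erase B)) ⟨?_, ?_⟩
  · have c1 := Finset.card_insert_le M ((𝓐.erase A).erase B)
    have c2 := Finset.card_erase_add_one hA
    have c3 := Finset.card_erase_add_one (Finset.mem_erase.2 ⟨hAB.symm, hB⟩)
    omega
  · intro C hC
    rcases Finset.mem_insert.1 hC with rfl | hC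
    · exact hM
    · exact h1 C (Finset.mem_of_mem_erase (Finset.mem_of_mem_erase hC))
  · intro g
    obtain ⟨C, hC, hg⟩ := h2 g
    by_cases e1 : C = A
    · exact ⟨M, Finset.mem_insert_self _ _, hx A (h4 A hA) hxA (e1 ▸ hg)⟩
    by_cases e2 : C = B
    · exact ⟨M, Finset.mem_insert_self _ _, hy B (h4 B hB) hyB (e2 ▸ hg)⟩
    exact ⟨C, Finset.mem_insert_of_mem (Finset.mem_erase.2 ⟨e2, Finset.mem_erase.2 ⟨e1, hC⟩⟩), hg⟩

lemma L1 {Ω : Type*} [Fintype Ω] [DecidableEq Ω] (x : Equiv.Perm Ω) (hc : x.IsCycle)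
    (hF : ∀ p, x p = p → ∃ q, (∀ a, x a = a → a = p ∨ a = q) ∧ (q = p ∨ Odd (Fintype.card Ω)))
    (H : Subgroup (Equiv.Perm Ω)) (hH : Group.IsNilpotent H) (hx : x ∈ H) :
    ∀ h ∈ H, ∀ p, x p = p → x (h p) = h p := by
  intro h0 hh0 p hp
  by_contra hne
  obtain ⟨q, hq, hodd⟩ := hF p hp
  have horb : ∀ a, x a ≠ a → ∃ h ∈ H, h p = a := by
    intro a ha
    obtain ⟨k, hk⟩ := hc.exists_zpow_eq hne ha
    exact ⟨x ^ k * h0, H.mul_mem (H.zpow_mem hx k) hh0, hk⟩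
  have hT : (⊤ : Subgroup H) ≠ ⊥ := by
    intro e
    have : (⟨x, hx⟩ : H) ∈ (⊥ : Subgroup H) := e ▸ Subgroup.mem_top _
    exact hc.ne_one (congrArg Subtype.val (Subgroup.mem_bot.1 this))
  obtain ⟨⟨z0, hz0⟩, hz1⟩ := (Subgroup.ne_bot_iff_exists_ne_one).1 (S0065.result (⊤ : Subgroup H) hT)
  have hz1' : (z0 : Equiv.Perm Ω) ≠ 1 := fun e => hz1 (Subtype.ext (Subtype.ext e))
  have hzc : ∀ h ∈ H, ∀ a, (z0 : Equiv.Perm Ω) (h a) = h ((z0 : Equiv.Perm Ω) a) := by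
    intro h hh a
    have := congrArg Subtype.val (Subgroup.mem_center_iff.1 hz0.2 ⟨h, hh⟩)
    exact (congrArg (fun g : Equiv.Perm Ω => g a) this).symm
  have hzH : (z0 : Equiv.Perm Ω) ∈ H := z0.2
  generalize (z0 : Equiv.Perm Ω) = z at hz1' hzc hzH
  by_cases hzp : z p = p
  · apply hz1'
    have h1 : ∀ a, a ≠ q → z a = a := by
      intro a ha
      by_cases hxa : x a = a
      · rcases hq a hxa with rfl | rfl
        · exact hzp
        · exact absurd rfl ha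
      · obtain ⟨h, hh, rfl⟩ := horb a hxa
        rw [hzc h hh, hzp]
    ext a
    by_cases ha : a = q
    · subst ha
      by_contra hn
      exact hn (z.injective (h1 _ hn))
    · exact h1 a ha
  · have hfix : ∀ a, x a = a → x (z a) = z a := fun a ha => by rw [← hzc x hx, ha]
    have hzq : z p = q := (hq _ (hfix p hp)).resolve_left hzp
    have hqp : q ≠ p := hzq ▸ hzp
    have hodd' := hodd.resolve_left hqp
    have htr : ∀ a, ∃ h ∈ H, h p = a := by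
      intro a
      by_cases hxa : x a = a
      · rcases hq a hxa with rfl | rfl
        · exact ⟨1, H.one_mem, rfl⟩
        · exact ⟨z, hzH, hzq⟩
      · exact horb a hxa
    have hzz : z (z p) = p := by
      rcases hq _ (hfix _ (hfix p hp)) with h | h
      · exact h
      · exact absurd (z.injective (h.trans hzq.symm)) hzp
    have hz2 : z ^ 2 ^ 1 = 1 := by
      ext a
      obtain ⟨h, hh, rfl⟩ := htr a
      simp only [pow_one, pow_two, Equiv.Perm.mul_apply, Equiv.Perm.one_apply]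
      rw [hzc h hh, hzc h hh, hzz]
    haveI : Fact (Nat.Prime 2) := ⟨Nat.prime_two⟩
    obtain ⟨a, ha⟩ := Equiv.Perm.exists_fixed_point_of_prime (p := 2) (n := 1) (by rw [← even_iff_two_dvd, Nat.not_even_iff_odd]; exact hodd') hz2
    obtain ⟨h, hh, rfl⟩ := htr a
    rw [hzc h hh] at ha
    exact hzp (h.injective ha)

def MM {Ω : Type*} (x : Equiv.Perm Ω) : Subgroup (Equiv.Perm Ω) where
  carrier := {g | ∀ u, x u = u ↔ x (g u) = g u}
  mul_mem' := fun ha hb u => (hb u).trans (ha _)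
  one_mem' := fun _ => Iff.rfl
  inv_mem' := by
    intro g hg u
    have := hg (g⁻¹ u)
    simpa using this.symm

lemma L2 {Ω : Type*} [Fintype Ω] [DecidableEq Ω] (x : Equiv.Perm Ω) (hc : x.IsCycle)
    (hF : ∀ p, x p = p → ∃ q, (∀ a, x a = a → a = p ∨ a = q) ∧ (q = p ∨ Odd (Fintype.card Ω)))
    (H : Subgroup (Equiv.Perm Ω)) (hH : Group.IsNilpotent H) (hx : x ∈ H) : H ≤ MM x := by
  intro h hh u
  refine ⟨L1 x hc hF H hH hx h hh u, fun e => ?_⟩
  simpa using L1 x hc hF H hH hx h⁻¹ (H.inv_mem hh) _ e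

lemma G1 {Ω : Type*} [Fintype Ω] [DecidableEq Ω] (x : Equiv.Perm Ω) (hc : x.IsCycle)
    (hF : ∀ p, x p = p → ∃ q, (∀ a, x a = a → a = p ∨ a = q) ∧ (q = p ∨ Odd (Fintype.card Ω)))
    (a b c d p : Ω) (hab : a ≠ b) (hac : a ≠ c) (had : a ≠ d) (hbc : b ≠ c) (hbd : b ≠ d) (hcd : c ≠ d)
    (h1 : x a = b) (h2 : x b = c) (h3 : x c = d) (hp : x p = p) :
    ∃ y : Equiv.Perm Ω, Equiv.Perm.sign y = Equiv.Perm.sign x ∧ (∃ g, Equiv.Perm.sign g = 1 ∧ g ∉ MM x) ∧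
      (∀ H : Subgroup (Equiv.Perm Ω), Group.IsNilpotent H → y ∈ H → H ≤ MM x) ∧
      (∀ H : Subgroup (Equiv.Perm Ω), Group.IsNilpotent H → x ∈ H → y ∈ H → False) := by
  let s := Equiv.swap b c
  have hfix : ∀ u, (s * x * s⁻¹) u = u ↔ x u = u := by
    intro u
    simp only [s, Equiv.swap_inv, Equiv.Perm.mul_apply, Equiv.swap_apply_eq_iff]
    by_cases e1 : u = b
    · subst e1; simp [h2, h3, hcd.symm, hbc.symm]
    by_cases e2 : u = c
    · subst e2; simp [h2, h3, hcd.symm, hbc.symm]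
    rw [Equiv.swap_apply_of_ne_of_ne e1 e2]
  have hMM : MM (s * x * s⁻¹) = MM x := by
    ext g
    show (∀ u, _ ↔ _) ↔ (∀ u, _ ↔ _)
    simp only [hfix]
  have hpa : p ≠ a := by rintro rfl; exact hab (hp.symm.trans h1)
  have hpb : p ≠ b := by rintro rfl; exact hbc (hp.symm.trans h2)
  have hpc : p ≠ c := by rintro rfl; exact hcd (hp.symm.trans h3)
  refine ⟨s * x * s⁻¹, by simp [s, Equiv.Perm.sign_swap hbc], ⟨Equiv.swap a p * Equiv.swap b c, ?_, ?_⟩, ?_, ?_⟩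
  · rw [map_mul, Equiv.Perm.sign_swap hpa.symm, Equiv.Perm.sign_swap hbc]; simp
  · intro hg
    have := (hg p).1 hp
    simp only [Equiv.Perm.mul_apply, Equiv.swap_apply_of_ne_of_ne hpb hpc, Equiv.swap_apply_right] at this
    exact hab (this.symm.trans h1)
  · intro H hH hy
    rw [← hMM]
    refine L2 _ hc.conj ?_ H hH hy
    simpa only [hfix] using hF
  · intro H hH hx hy
    have e1 : x * Equiv.swap a b * x⁻¹ = Equiv.swap b c := by rw [← Equiv.swap_apply_apply, h1, h2]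
    have e2 : x * Equiv.swap b c * x⁻¹ = Equiv.swap c d := by rw [← Equiv.swap_apply_apply, h2, h3]
    have ht : x⁻¹ * (s * x * s⁻¹) = Equiv.swap a b * Equiv.swap b c := by
      simp only [s, Equiv.swap_inv]
      nth_rewrite 1 [← e1]
      group
    have htH : Equiv.swap a b * Equiv.swap b c ∈ H := ht ▸ H.mul_mem (H.inv_mem hx) hy
    have ht'H : Equiv.swap b c * Equiv.swap c d ∈ H := by
      have := H.mul_mem (H.mul_mem hx htH) (H.inv_mem hx)
      rw [← e2]; nth_rewrite 1 [← e1]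
      convert this using 1
      group
    have huH : Equiv.swap a b * Equiv.swap c d ∈ H := by
      have := H.mul_mem htH ht'H
      rwa [mul_assoc, ← mul_assoc (Equiv.swap b c), Equiv.swap_mul_self, one_mul] at this
    have t3 : (Equiv.swap a b * Equiv.swap b c) ^ 3 = 1 := by
      rw [Equiv.swap_comm a b, ← (Equiv.Perm.isThreeCycle_swap_mul_swap_same hab.symm hbc hac).orderOf, pow_orderOf_eq_one]
    have u2 : (Equiv.swap a b * Equiv.swap c d) ^ 2 = 1 := by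
      have : Commute (Equiv.swap a b) (Equiv.swap c d) := by
        have e3 : Equiv.swap a b * Equiv.swap c d * (Equiv.swap a b)⁻¹ = Equiv.swap c d := by
          rw [← Equiv.swap_apply_apply, Equiv.swap_apply_of_ne_of_ne hac.symm hbc.symm, Equiv.swap_apply_of_ne_of_ne had.symm hbd.symm]
        show _ * _ = _ * _
        rw [mul_inv_eq_iff_eq_mul] at e3
        exact e3
      rw [this.mul_pow, pow_two, pow_two, Equiv.swap_mul_self, Equiv.swap_mul_self, one_mul]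
    have hcm := cop hH htH huH t3 u2 (by norm_num)
    have := congrArg (fun g : Equiv.Perm Ω => g d) hcm
    simp only [Equiv.Perm.mul_apply, Equiv.swap_apply_right, Equiv.swap_apply_left, Equiv.swap_apply_of_ne_of_ne hac.symm hbc.symm,
      Equiv.swap_apply_of_ne_of_ne had.symm hbd.symm, Equiv.swap_apply_of_ne_of_ne hbd.symm hcd.symm] at this
    exact hac this

lemma G2 (n : ℕ) (j : Fin (n + 1)) (hj : 3 ≤ j.val) (hn : j.val + 1 = n ∨ (j.val + 2 = n ∧ Odd (n + 1))) :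
    ∃ x y : Equiv.Perm (Fin (n + 1)), Equiv.Perm.sign x = (-1) ^ j.val ∧ Equiv.Perm.sign y = Equiv.Perm.sign x ∧ (∃ g, Equiv.Perm.sign g = 1 ∧ g ∉ MM x) ∧
      (∀ H : Subgroup (Equiv.Perm (Fin (n + 1))), Group.IsNilpotent H → x ∈ H → H ≤ MM x) ∧
      (∀ H : Subgroup (Equiv.Perm (Fin (n + 1))), Group.IsNilpotent H → y ∈ H → H ≤ MM x) ∧
      (∀ H : Subgroup (Equiv.Perm (Fin (n + 1))), Group.IsNilpotent H → x ∈ H → y ∈ H → False) := by
  have hj0 : j ≠ 0 := by rintro rfl; simp at hj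
  have hc := Fin.isCycle_cycleRange hj0
  have hlt : ∀ i : Fin (n + 1), i < j → (j.cycleRange i).val = i.val + 1 := fun i hi => Fin.coe_cycleRange_of_lt hi
  have hfix : ∀ a, j.cycleRange a = a → j < a := by
    intro a ha
    rcases lt_trichotomy a j with h | h | h
    · have := hlt a h
      rw [ha] at this; omega
    · rw [h, Fin.cycleRange_self] at ha; exact absurd ha.symm hj0
    · exact h
  have hF : ∀ p, j.cycleRange p = p → ∃ q, (∀ a, j.cycleRange a = a → a = p ∨ a = q) ∧ (q = p ∨ Odd (Fintype.card (Fin (n + 1)))) := by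
    intro p hp
    have hp' := hfix p hp
    rw [Fin.lt_def] at hp'
    have := p.2
    rcases hn with hn | ⟨hn, ho⟩
    · refine ⟨p, fun a ha => Or.inl ?_, Or.inl rfl⟩
      have ha' := hfix a ha
      rw [Fin.lt_def] at ha'
      have := a.2
      exact Fin.ext (by omega)
    · refine ⟨⟨2 * n - 1 - p.val, by omega⟩, fun a ha => ?_, Or.inr (by simpa using ho)⟩
      have ha' := hfix a ha
      rw [Fin.lt_def] at ha'
      have := a.2
      simp only [Fin.ext_iff]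
      omega
  obtain ⟨y, h1, h2, h3, h4⟩ := G1 j.cycleRange hc hF ⟨0, by omega⟩ ⟨1, by omega⟩ ⟨2, by omega⟩ ⟨3, by omega⟩ (Fin.last n)
    (by simp) (by simp) (by simp) (by simp) (by simp) (by simp)
    (Fin.ext (hlt _ (by rw [Fin.lt_def]; show 0 < j.val; omega))) (Fin.ext (hlt _ (by rw [Fin.lt_def]; show 1 < j.val; omega))) (Fin.ext (hlt _ (by rw [Fin.lt_def]; show 2 < j.val; omega)))
    (Fin.cycleRange_of_gt (by rw [Fin.lt_def]; simp; omega))
  exact ⟨j.cycleRange, y, Fin.sign_cycleRange j, h1, h2, L2 _ hc hF, h3, h4⟩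

lemma toA {Ω : Type*} [Fintype Ω] [DecidableEq Ω] (x y : Equiv.Perm Ω) (M : Subgroup (Equiv.Perm Ω)) (sx : Equiv.Perm.sign x = 1) (sy : Equiv.Perm.sign y = 1)
    (hM : ∃ g, Equiv.Perm.sign g = 1 ∧ g ∉ M)
    (hx : ∀ H : Subgroup (Equiv.Perm Ω), (∀ h ∈ H, Equiv.Perm.sign h = 1) → Group.IsNilpotent H → x ∈ H → H ≤ M)
    (hy : ∀ H : Subgroup (Equiv.Perm Ω), (∀ h ∈ H, Equiv.Perm.sign h = 1) → Group.IsNilpotent H → y ∈ H → H ≤ M)
    (hxy : ∀ H : Subgroup (Equiv.Perm Ω), Group.IsNilpotent H → x ∈ H → y ∈ H → False) :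
    ¬ ∃ 𝓐 : Finset (Subgroup (alternatingGroup Ω)), ((∀ A ∈ 𝓐, A ≠ ⊤) ∧ (∀ g : (alternatingGroup Ω), ∃ A ∈ 𝓐, g ∈ A)) ∧ (∀ 𝓑 : Finset (Subgroup (alternatingGroup Ω)), (∀ A ∈ 𝓑, A ≠ ⊤) ∧ (∀ g : (alternatingGroup Ω), ∃ A ∈ 𝓑, g ∈ A) → 𝓐.card ≤ 𝓑.card) ∧ (∀ A ∈ 𝓐, Group.IsNilpotent ↥A) := by
  have hnil : ∀ H : Subgroup (alternatingGroup Ω), Group.IsNilpotent H → Group.IsNilpotent (H.map (alternatingGroup Ω).subtype) := fun H hH =>
    nilpotent_of_mulEquiv (H.equivMapOfInjective _ Subtype.val_injective)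
  have hs : ∀ H : Subgroup (alternatingGroup Ω), ∀ h ∈ H.map (alternatingGroup Ω).subtype, Equiv.Perm.sign h = 1 := by
    rintro H _ ⟨h, -, rfl⟩
    exact Equiv.Perm.mem_alternatingGroup.1 h.2
  refine red (⟨x, Equiv.Perm.mem_alternatingGroup.2 sx⟩ : alternatingGroup Ω) ⟨y, Equiv.Perm.mem_alternatingGroup.2 sy⟩ (M.subgroupOf _) ?_ ?_ ?_ ?_
  · intro e
    obtain ⟨g, hg, hgM⟩ := hM
    have : (⟨g, Equiv.Perm.mem_alternatingGroup.2 hg⟩ : alternatingGroup Ω) ∈ M.subgroupOf (alternatingGroup Ω) := e ▸ Subgroup.mem_top _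
    exact hgM this
  · intro H hH h g hg
    exact hx _ (hs H) (hnil H hH) ⟨_, h, rfl⟩ ⟨g, hg, rfl⟩
  · intro H hH h g hg
    exact hy _ (hs H) (hnil H hH) ⟨_, h, rfl⟩ ⟨g, hg, rfl⟩
  · intro H hH h h'
    exact hxy _ (hnil H hH) ⟨_, h, rfl⟩ ⟨_, h', rfl⟩

def x5 : Equiv.Perm (Fin 5) := Equiv.swap 0 1 * Equiv.swap 1 2
def y5 : Equiv.Perm (Fin 5) := Equiv.swap 1 2 * Equiv.swap 2 3
def x4 : Equiv.Perm (Fin 4) := Equiv.swap 0 1 * Equiv.swap 1 2
def y4 : Equiv.Perm (Fin 4) := Equiv.swap 1 2 * Equiv.swap 2 3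

lemma d5 : ∀ x ∈ [x5, y5], x ^ 3 = 1 ∧ ∀ h : Equiv.Perm (Fin 5), Equiv.Perm.sign h = 1 → (h ^ 10 = 1 → x * h = h * x) → ((h * x) ^ 10 = 1 → x * (h * x) = h * x * x) →
    ((h * x⁻¹) ^ 10 = 1 → x * (h * x⁻¹) = h * x⁻¹ * x) → h 4 = 4 := by decide +kernel

lemma d4 : ∀ x ∈ [x4, y4], x ^ 3 = 1 ∧ ∀ h : Equiv.Perm (Fin 4), (h ^ 4 = 1 → x * h = h * x) → Equiv.Perm.sign h = 1 := by decide +kernel

/-- A cover of a group is a finite set of proper subgroups whose union is the whole group; it is minimal when no cover has fewer members, and nilpotent when all its members are nilpotent. The alternating groups of degree at least 5 and the symmetric groups of degree at least 4 have no nilpotent minimal cover. -/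
theorem result (n : ℕ) :
    (5 ≤ n → ¬ ∃ 𝓐 : Finset (Subgroup ↥(alternatingGroup (Fin n))), ((∀ A ∈ 𝓐, A ≠ ⊤) ∧ (∀ g : ↥(alternatingGroup (Fin n)), ∃ A ∈ 𝓐, g ∈ A)) ∧ (∀ 𝓑 : Finset (Subgroup ↥(alternatingGroup (Fin n))), (∀ A ∈ 𝓑, A ≠ ⊤) ∧ (∀ g : ↥(alternatingGroup (Fin n)), ∃ A ∈ 𝓑, g ∈ A) → 𝓐.card ≤ 𝓑.card) ∧ (∀ A ∈ 𝓐, Group.IsNilpotent ↥A)) ∧
    (4 ≤ n → ¬ ∃ 𝓐 : Finset (Subgroup (Equiv.Perm (Fin n))), ((∀ A ∈ 𝓐, A ≠ ⊤) ∧ (∀ g : (Equiv.Perm (Fin n)), ∃ A ∈ 𝓐, g ∈ A)) ∧ (∀ 𝓑 : Finset (Subgroup (Equiv.Perm (Fin n))), (∀ A ∈ 𝓑, A ≠ ⊤) ∧ (∀ g : (Equiv.Perm (Fin n)), ∃ A ∈ 𝓑, g ∈ A) → 𝓐.card ≤ 𝓑.card) ∧ (∀ A ∈ 𝓐, Group.IsNilpotent ↥A)) := by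
  constructor
  · intro hn
    by_cases h5 : n = 5
    · subst h5
      have key : ∀ x ∈ [x5, y5], ∀ H : Subgroup (Equiv.Perm (Fin 5)), (∀ h ∈ H, Equiv.Perm.sign h = 1) → Group.IsNilpotent H → x ∈ H → H ≤ MulAction.stabilizer (Equiv.Perm (Fin 5)) (4 : Fin 5) := by
        intro x hx H hs hH hxH h hh
        obtain ⟨a, b⟩ := d5 x hx
        exact b h (hs h hh) (fun e => cop hH hxH hh a e (by norm_num)) (fun e => cop hH hxH (H.mul_mem hh hxH) a e (by norm_num))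
          (fun e => cop hH hxH (H.mul_mem hh (H.inv_mem hxH)) a e (by norm_num))
      refine toA x5 y5 (MulAction.stabilizer (Equiv.Perm (Fin 5)) (4 : Fin 5)) (by decide +kernel) (by decide +kernel)
        ⟨Equiv.swap 0 4 * Equiv.swap 1 2, by decide +kernel, by rw [MulAction.mem_stabilizer_iff]; decide +kernel⟩ (key _ (by simp)) (key _ (by simp)) ?_
      intro H hH hx hy
      have := cop (k := 2) hH hx (H.mul_mem hx hy) (by decide +kernel) (by decide +kernel) (by norm_num)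
      revert this; decide +kernel
    · obtain ⟨m, rfl⟩ : ∃ m, n = m + 1 := ⟨n - 1, by omega⟩
      have : ∃ j : Fin (m + 1), 3 ≤ j.val ∧ (j.val + 1 = m ∨ (j.val + 2 = m ∧ Odd (m + 1))) ∧ Even j.val := by
        rcases Nat.even_or_odd' m with ⟨k, hk | hk⟩
        · exact ⟨⟨m - 2, by omega⟩, by simp; omega, Or.inr ⟨by simp; omega, ⟨k, by omega⟩⟩, ⟨k - 1, by simp; omega⟩⟩
        · exact ⟨⟨m - 1, by omega⟩, by simp; omega, Or.inl (by simp; omega), ⟨k, by simp; omega⟩⟩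
      obtain ⟨j, h1, h2, h3⟩ := this
      obtain ⟨x, y, a1, a2, a3, a4, a5, a6⟩ := G2 m j h1 h2
      rw [h3.neg_one_pow] at a1
      exact toA x y (MM x) a1 (a2.trans a1) a3 (fun H _ => a4 H) (fun H _ => a5 H) a6
  · intro hn
    by_cases h4 : n = 4
    · subst h4
      have key : ∀ x ∈ [x4, y4], ∀ H : Subgroup (Equiv.Perm (Fin 4)), Group.IsNilpotent H → x ∈ H → H ≤ alternatingGroup (Fin 4) := by
        intro x hx H hH hxH h hh
        obtain ⟨a, b⟩ := d4 x hx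
        exact Equiv.Perm.mem_alternatingGroup.2 (b h (fun e => cop hH hxH hh a e (by norm_num)))
      refine red x4 y4 (alternatingGroup (Fin 4)) ?_ (key _ (by simp)) (key _ (by simp)) ?_
      · intro e
        have : Equiv.swap (0 : Fin 4) 1 ∈ alternatingGroup (Fin 4) := e ▸ Subgroup.mem_top _
        rw [Equiv.Perm.mem_alternatingGroup] at this
        revert this; decide +kernel
      · intro H hH hx hy
        have := cop (k := 2) hH hx (H.mul_mem hx hy) (by decide +kernel) (by decide +kernel) (by norm_num)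
        revert this; decide +kernel
    · obtain ⟨m, rfl⟩ : ∃ m, n = m + 1 := ⟨n - 1, by omega⟩
      obtain ⟨x, y, a1, a2, ⟨g, -, a3⟩, a4, a5, a6⟩ := G2 m ⟨m - 1, by omega⟩ (by simp; omega) (Or.inl (by simp; omega))
      exact red x y (MM x) (fun e => a3 (e ▸ Subgroup.mem_top _)) a4 a5 a6

end Cfsg.Agent.S3892
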