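import Cfsg.Statements.S3893
import Cfsg.Agent.H6.Suz4

set_option autoImplicit false
open Cfsg

namespace Cfsg.Agent.S3893

/-- A cover of a group is a finite set of proper subgroups whose union is the whole group; it is minimal when no cover has fewer members, and nilpotent when all its members are nilpotent. The Suzuki groups Sz(q), q = 2^(2m+1) with m ≥ 1, have no nilpotent minimal cover. -/
theorem result {F : Type*} [Field F] [Fintype F] (m : ℕ) (hm : 1 ≤ m) (hF : Fintype.card F = 2 ^ (2 * m + 1)) :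
    ¬ ∃ 𝓐 : Finset (Subgroup ↥(Cfsg.Lie.Sz F (2 ^ (m + 1)))), ((∀ A ∈ 𝓐, A ≠ ⊤) ∧ (∀ g : ↥(Cfsg.Lie.Sz F (2 ^ (m + 1))), ∃ A ∈ 𝓐, g ∈ A)) ∧ (∀ 𝓑 : Finset (Subgroup ↥(Cfsg.Lie.Sz F (2 ^ (m + 1)))), (∀ A ∈ 𝓑, A ≠ ⊤) ∧ (∀ g : ↥(Cfsg.Lie.Sz F (2 ^ (m + 1))), ∃ A ∈ 𝓑, g ∈ A) → 𝓐.card ≤ 𝓑.card) ∧ (∀ A ∈ 𝓐, Group.IsNilpotent ↥A) := by
  let P := H6.Suz.Par.mk m hm hF
  let X := P.lie
  classical
  rintro ⟨𝓐, ⟨h1, h2⟩, h3, h4⟩
  have key : ∀ A ∈ 𝓐, ∀ g ∈ A, g ≠ 1 → ∃ z ≠ 1, z * g = g * z ∧ A ≤ Subgroup.centralizer {z} :=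
    fun A hA g hg hg1 => by
      have := h4 A hA
      have : Nontrivial A := ⟨⟨g, hg⟩, 1, fun e => hg1 (congrArg Subtype.val e)⟩
      obtain ⟨⟨z, hz⟩, h⟩ := Subgroup.ne_bot_iff_exists_ne_one.1 (Group.IsNilpotent.center_ne_bot A)
      have e := fun y hy => congrArg Subtype.val (Subgroup.mem_center_iff.1 hz ⟨y, hy⟩)
      exact ⟨z, fun e => h (Subtype.ext (Subtype.ext e)), (e g hg).symm, fun y hy => H6.Suz.mem_cent.2 (e y hy)⟩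
  obtain ⟨k, hk⟩ := P.exists_unit_ne
  obtain ⟨A, hA, a1⟩ := h2 (X.T 0 1)
  obtain ⟨A', hA', a2⟩ := h2 (X.D k)
  have t1 : X.T 0 1 ≠ 1 := by simp [X.T_eq_one]
  obtain ⟨z, z1, z2, z3⟩ := key A hA _ a1 t1
  obtain ⟨y, y1, y2, y3⟩ := key A' hA' _ a2 fun e => hk (H6.Suz.SzS.D_inj (e.trans (map_one _).symm))
  have hU : A ≤ X.U := fun x hx => H6.Suz.SzS.mem_U_of_comm
    (H6.Suz.SzS.mem_U_of_comm (X.T_mem ..) t1 z2) z1 (H6.Suz.mem_cent.1 (z3 hx))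
  obtain ⟨l, rfl⟩ := H6.Suz.SzS.mem_H_of_comm hk y2
  rw [X.cent_D (fun e => y1 (by simp [e]))] at y3
  have hne : A ≠ A' := by
    rintro rfl
    exact hk (H6.Suz.SzS.eq_one_of_D_mem (hU a2))
  have := h3 (insert X.B ((𝓐.erase A).erase A')) ⟨fun C hC => ?_, fun g => ?_⟩
  · have h5 := Finset.card_insert_le X.B ((𝓐.erase A).erase A')
    have h6 := Finset.card_erase_add_one (Finset.mem_erase.2 ⟨hne.symm, hA'⟩)
    have h7 := Finset.card_erase_add_one hA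
    omega
  · rcases Finset.mem_insert.1 hC with rfl | hC
    exacts [X.isCoatom_B.1, h1 C (Finset.mem_of_mem_erase (Finset.mem_of_mem_erase hC))]
  · obtain ⟨C, hC, hg⟩ := h2 g
    by_cases e : C = A
    · exact ⟨_, Finset.mem_insert_self .., X.U_le_B (hU (e ▸ hg))⟩
    by_cases e' : C = A'
    · exact ⟨_, Finset.mem_insert_self .., X.H_le_B (y3 (e' ▸ hg))⟩
    exact ⟨C, by simp [e, e', hC], hg⟩

end Cfsg.Agent.S3893
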