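import Cfsg.Statements.S4018
import Cfsg.Agent.H1.SylAct
import Cfsg.Agent.H1.MaxNil

set_option autoImplicit false
open Cfsg

namespace Cfsg.Agent.S4018

open scoped Pointwise
open H1
open Subgroup Cfsg Pointwise H1

theorem friend {I : Type*} [Fintype I] [DecidableEq I] [Nonempty I] (r : I → I → Prop) [DecidableRel r]
    (hs : ∀ u v, r u v → r v u) (hi : ∀ u, ¬ r u u) (d : ℕ) (hd : ∀ u, (Finset.univ.filter (r u)).card = d)
    (h : ∀ u v, u ≠ v → (Finset.univ.filter fun w => r u w ∧ r v w).card = 1) (h0 : d ≠ 0) :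
    Fintype.card I = 3 := by
  have key : ∀ (R : Type) [CommRing R], ∃ A J : Matrix I I R, A * J = (d : R) • J ∧
      A * A = ((d : R) - 1) • (1 : Matrix I I R) + J ∧ A.trace = 0 ∧ J.trace = Fintype.card I ∧
      (d : R) * d = d - 1 + Fintype.card I := by
    intro R _
    let A : Matrix I I R := Matrix.of fun u v => if r u v then 1 else 0
    let J : Matrix I I R := Matrix.of fun _ _ => 1
    have h1 : A * J = (d : R) • J := by
      ext u v
      simp [A, J, Matrix.mul_apply, ← hd u]
    have h2 : A * A = ((d : R) - 1) • (1 : Matrix I I R) + J := by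
      ext u v
      have : (A * A) u v = (Finset.univ.filter fun w => r u w ∧ r v w).card := by
        simp only [A, Matrix.mul_apply, Matrix.of_apply, Finset.card_filter, Nat.cast_sum]
        refine Finset.sum_congr rfl fun w _ => ?_
        by_cases h1 : r u w <;> by_cases h2 : r w v
        · simp [h1, h2, hs _ _ h2]
        · simp [h1, h2, mt (hs v w) h2]
        · simp [h1]
        · simp [h1]
      rw [this]
      by_cases e : u = v
      · subst e; simp [J, hd u]
      · simp [J, h u v e, Matrix.one_apply_ne e]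
    refine ⟨A, J, h1, h2, by simp [A, Matrix.trace, hi], by simp [J, Matrix.trace], ?_⟩
    have h3 : A * A * J = ((d : R) * d) • J := by
      rw [Matrix.mul_assoc, h1, Matrix.mul_smul, h1, smul_smul]
    rw [h2, Matrix.add_mul, Matrix.smul_mul, Matrix.one_mul] at h3
    obtain ⟨u⟩ := ‹Nonempty I›
    have := congrFun (congrFun h3 u) u
    simpa [J, Matrix.mul_apply] using this.symm
  by_cases h2 : d = 2
  · obtain ⟨-, -, -, -, -, -, e⟩ := key ℤ
    subst h2
    push_cast at e
    omega
  obtain ⟨p, hp, hpd⟩ := Nat.exists_prime_and_dvd (n := d - 1) (by omega)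
  haveI := Fact.mk hp
  obtain ⟨A, J, h1, h3, h4, h5, h6⟩ := key (ZMod p)
  have hd1 : (d : ZMod p) = 1 := by
    have := (ZMod.natCast_eq_zero_iff _ _).2 hpd
    rw [Nat.cast_sub (by omega), sub_eq_zero] at this
    simpa using this
  rw [hd1] at h1 h3 h6
  rw [one_smul] at h1
  rw [sub_self, zero_smul, zero_add] at h3
  have h7 : ∀ k, A ^ (k + 2) = J := fun k => by
    induction k with
    | zero => rw [pow_two, h3]
    | succ k ih => rw [pow_succ', ih, h1]
  have h8 := ZMod.trace_pow_card A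
  have h9 := h7 (p - 2)
  rw [show p - 2 + 2 = p by have := hp.two_le; omega] at h9
  rw [h9, h4, h5, zero_pow hp.ne_zero] at h8
  rw [h8] at h6
  simp at h6

/-- Let G be a finite group with an abelian Sylow 3-subgroup P such that the normalizer of P has order 4·#P, the centralizer C of P has order 2·#P, C meets each of its conjugates by elements outside its normalizer trivially, and every proper subgroup of G of even order has order dividing 4·#P. Then G is not simple. -/
theorem result {G : Type*} [Group G] [Finite G]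
    (P : Sylow 3 G) (hab : IsMulCommutative P)
    (hN : Nat.card (Subgroup.normalizer ((P : Subgroup G) : Set G)) = 4 * Nat.card P)
    (hC : Nat.card (Subgroup.centralizer (P : Set G)) = 2 * Nat.card P)
    (hTI : Cfsg.IsTISubset (Subgroup.centralizer (P : Set G) : Set G))
    (heven : ∀ H : Subgroup G, H ≠ ⊤ → 2 ∣ Nat.card H → Nat.card H ∣ 4 * Nat.card P) :
    ¬ IsSimpleGroup G := by
  classical
  intro hG
  haveI : Fact (Nat.Prime 3) := ⟨by norm_num⟩
  haveI : Fact (Nat.Prime 2) := ⟨by norm_num⟩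
  have := Fintype.ofFinite G
  change Nat.card (centralizer ((P : Subgroup G) : Set G)) = _ at hC
  change IsTISubset (centralizer ((P : Subgroup G) : Set G) : Set G) at hTI
  set C := centralizer ((P : Subgroup G) : Set G) with hCd
  set N := normalizer ((P : Subgroup G) : Set G) with hNd
  obtain ⟨k, hk⟩ := IsPGroup.iff_card.1 P.isPGroup'
  have hk' : Nat.card P = 3 ^ k := hk
  have hodd : ¬ 2 ∣ Nat.card P := fun h => absurd (Nat.Prime.dvd_of_dvd_pow Nat.prime_two (hk' ▸ h)) (by norm_num)
  have hpos : 0 < Nat.card P := Nat.card_pos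
  have h4 : 4 ∣ Nat.card G := (Dvd.intro _ hN.symm).trans (card_subgroup_dvd_card _)
  have hnp : ¬ (Nat.card G).Prime := fun h => by
    rcases h.eq_one_or_self_of_dvd 4 h4 with e | e
    · omega
    · rw [← e] at h; exact absurd h (by norm_num)
  have hns : ¬ Group.IsSolvable G := fun h => hnp (prime_card_of_solvable h)
  have hPC : (P : Subgroup G) ≤ C := le_centralizer _
  have hCN : C ≤ N := centralizer_le_normalizer _
  obtain ⟨⟨t, ht⟩, ho⟩ := exists_prime_orderOf_dvd_card' (G := C) 2 ⟨_, hC⟩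
  rw [← orderOf_coe] at ho
  simp only at ho
  have huniq : ∀ s ∈ C, orderOf s = 2 → s = t := fun s hs hs2 => by
    have hi : (P : Subgroup G).relIndex C = 2 := by
      have := card_mul_relIndex hPC
      rw [hC, mul_comm 2] at this
      exact Nat.eq_of_mul_eq_mul_left hpos this
    have hn : ∀ u ∈ C, orderOf u = 2 → u ∉ (P : Subgroup G) := fun u _ h1 h2 =>
      hodd (h1 ▸ orderOf_dvd_card_of_mem h2)
    have h1 : s * t ∈ (P : Subgroup G) := by
      have := (mul_mem_iff_of_index_two hi (a := ⟨s, hs⟩) (b := ⟨t, ht⟩)).2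
        (iff_of_false (hn s hs hs2) (hn t ht ho))
      exact this
    have h2 : s * t = t * s := by
      have h3 := ht _ h1
      rw [mul_assoc, two_sq ho, mul_one] at h3
      rw [← mul_left_cancel_iff (a := t), ← h3, ← mul_assoc, two_sq ho, one_mul]
    by_contra hne
    refine hn _ (mul_mem hs ht) (two_of ?_ fun e => hne ?_) h1
    · rw [mul_assoc, ← mul_assoc t, ← h2, mul_assoc, two_sq ho, mul_one, two_sq hs2]
    · rw [eq_inv_of_mul_eq_one_left e, two_inv ho]
  have hNC : normalizer (C : Set G) ≤ centralizer {t} := fun g hg => mem_centralizer_singleton_iff.2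
    (mul_inv_eq_iff_eq_mul.1 (huniq _ (conj_mem_of_mem_normalizer hg ht) (by rw [orderOf_conj, ho])))
  have hCt : centralizer {t} ≠ ⊤ := fun e => two_ne ho ((center_eq_bot_of_simple hns).le
    (mem_center_iff.2 fun g => mem_centralizer_singleton_iff.1 (e.ge (mem_top g))))
  have hNt : N = centralizer {t} := by
    have h1 : N ≤ centralizer {t} := (centralizer_normalizer _).trans hNC
    refine eq_of_le_of_card_eq h1 ((card_le_of_le h1).antisymm ?_)
    rw [hN]
    exact Nat.le_of_dvd (by omega) (heven _ hCt (ho ▸ orderOf_dvd_card_of_mem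
      (mem_centralizer_singleton_iff.2 rfl)))
  have hi2 : C.relIndex N = 2 := by
    have := card_mul_relIndex hCN
    rw [hC, hN] at this
    exact Nat.eq_of_mul_eq_mul_left (show 0 < 2 * Nat.card P by omega) (by omega)
  obtain ⟨T⟩ : Nonempty (Sylow 2 G) := inferInstance
  have hnpc : ¬ HasNormalPComplement 2 G := fun h =>
    hnp (prime_card_of_isPGroup (isPGroup_of_hasNPC_of_simple h (by omega)))
  have hT4 : Nat.card T = 4 := by
    obtain ⟨j, hj⟩ := IsPGroup.iff_card.1 T.isPGroup'
    have h1 : 2 ^ 2 ∣ Nat.card T := T.pow_dvd_card_of_pow_dvd_card h4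
    have h2 := heven T (fun e => hns (isSolvable_of_eq_top (isSolvable_of_isPGroup T.isPGroup') e))
      (by omega)
    have h3 := Nat.Coprime.dvd_of_dvd_mul_right (by
      rw [hj]; exact Nat.Coprime.pow_left j ((Nat.Prime.coprime_iff_not_dvd Nat.prime_two).2 hodd)) h2
    exact Nat.dvd_antisymm h3 h1
  have hTc : ¬ IsCyclic (T : Subgroup G) := fun h => hnpc (hasNPC_top_iff.1 (hasNPC_two_of_isCyclic
    ⟨le_top, T.isPGroup', (isSylowIn_top T).not_dvd⟩ h))
  have hTK : IsKleinFour (T : Subgroup G) := ⟨hT4, (not_isCyclic_iff_exponent_eq_prime Nat.prime_two hT4).1 hTc⟩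
  have hcl := (klein_classes T hTK).2 hnpc
  have hconj : ∀ u : G, orderOf u = 2 → ∃ g, g * u * g⁻¹ = t := fun u hu => by
    have := (Nat.card_eq_one_iff_unique.1 hcl).1.elim ⟨_, u, hu, rfl⟩ ⟨_, t, ho, rfl⟩
    exact isConj_iff.1 (ConjClasses.mk_eq_mk_iff_isConj.1 (congrArg Subtype.val this))
  have U0 : ∀ u v w : G, orderOf u = 2 → orderOf v = 2 → orderOf w = 2 → u ≠ t → v ≠ t → w ≠ t → u ≠ w → v ≠ w →
      Commute u t → Commute v t → Commute u w → Commute v w → u = v := by
    have aux : ∀ u w : G, orderOf u = 2 → orderOf w = 2 → u ≠ t → w ≠ t → u ≠ w →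
        Commute u t → Commute w t → Commute u w → u * w = t := fun u w u1 w1 u2 w2 h1 h2 h3 h5 => by
      refine huniq _ ((mul_mem_iff_of_index_two hi2 (a := ⟨u, hNt ▸ mem_centralizer_singleton_iff.2 h2⟩)
        (b := ⟨w, hNt ▸ mem_centralizer_singleton_iff.2 h3⟩)).2
        (iff_of_false (fun e => u2 (huniq u e u1)) fun e => w2 (huniq w e w1))) (two_of ?_ fun e => h1 ?_)
      · rw [mul_assoc, ← mul_assoc w, ← h5.eq, mul_assoc, two_sq w1, mul_one, two_sq u1]
      · rw [eq_inv_of_mul_eq_one_left e, two_inv w1]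
    intro u v w u1 v1 w1 u2 v2 w2 h1 h2 h3 h5 h7 h8
    by_contra hne
    have h9 : u * v ∈ C := (mul_mem_iff_of_index_two hi2 (a := ⟨u, hNt ▸ mem_centralizer_singleton_iff.2 h3⟩)
        (b := ⟨v, hNt ▸ mem_centralizer_singleton_iff.2 h5⟩)).2
        (iff_of_false (fun e => u2 (huniq u e u1)) fun e => v2 (huniq v e v1))
    have h6 : Commute w t := by
      refine mem_centralizer_singleton_iff.1 (hNC ?_)
      by_contra hc
      refine hne ?_
      have := hTI _ hc _ h9 (by rw [(h7.mul_left h8).symm.eq, mul_inv_cancel_right]; exact h9)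
      rw [eq_inv_of_mul_eq_one_left this, two_inv v1]
    refine hne ?_
    exact mul_right_cancel ((aux u w u1 w1 u2 w2 h1 h3 h6 h7).trans (aux v w v1 w1 v2 w2 h2 h5 h6 h8).symm)
  let I := {u : G // orderOf u = 2}
  haveI : Nonempty I := ⟨⟨t, ho⟩⟩
  let r : I → I → Prop := fun u v => u ≠ v ∧ Commute u.1 v.1
  let cj : G → I ≃ I := fun g => (MulAut.conj g).toEquiv.subtypeEquiv fun u => by
    simp [orderOf_conj]
  have hcj : ∀ g u v, r (cj g u) (cj g v) ↔ r u v := fun g u v =>
    and_congr (cj g).injective.ne_iff ⟨fun h => (MulAut.conj g).injective (by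
      rw [map_mul, map_mul]; exact h), fun h => h.map (MulAut.conj g)⟩
  have hI := friend r (fun u v h => ⟨h.1.symm, h.2.symm⟩) (fun u h => h.1 rfl)
    (Finset.univ.filter (r ⟨t, ho⟩)).card (fun u => ?_) (fun u v huv => ?_) ?_
  · have h1 : (centralizer {t}).index = 3 := by
      rw [← hI, ← Nat.card_eq_fintype_card, ← ncard_carrier]
      refine Nat.card_congr (Equiv.subtypeEquivRight fun u => ConjClasses.mem_carrier_iff_mk_eq.trans
        (ConjClasses.mk_eq_mk_iff_isConj.trans ⟨fun h => ?_, fun h => isConj_iff.2 (hconj u h)⟩))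
      obtain ⟨g, rfl⟩ := isConj_iff.1 h
      rwa [orderOf_conj] at ho
    have h2 := card_sylow_modEq_one 3 G
    rw [(isSylowIn_top P).card_sylow, ← hNd, hNt, h1] at h2
    exact absurd h2 (by decide)
  · obtain ⟨g, hg⟩ := hconj u.1 u.2
    refine Finset.card_bijective _ (cj g).bijective fun v => ?_
    simp only [Finset.mem_filter, Finset.mem_univ, true_and]
    rw [← hcj g, show cj g u = ⟨t, ho⟩ from Subtype.ext hg]
  · have hne : u.1 ≠ v.1 := fun e => huv (Subtype.ext e)
    have hx1 : u.1 * v.1 ≠ 1 := fun e => hne (by rw [eq_inv_of_mul_eq_one_left e, two_inv v.2])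
    refine Finset.card_eq_one.2 ?_
    suffices ∃ w, r u w ∧ r v w by
      obtain ⟨w, hw⟩ := this
      refine ⟨w, Finset.eq_singleton_iff_unique_mem.2 ⟨by simpa using hw, fun w' hw' => ?_⟩⟩
      simp only [Finset.mem_filter, Finset.mem_univ, true_and] at hw'
      by_contra hc
      obtain ⟨g, hg⟩ := hconj w.1 w.2
      have e : cj g w = ⟨t, ho⟩ := Subtype.ext hg
      have a1 := (hcj g _ _).2 hw.1
      have a2 := (hcj g _ _).2 hw.2
      have a3 := (hcj g _ _).2 hw'.1
      have a4 := (hcj g _ _).2 hw'.2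
      rw [e] at a1 a2
      exact huv ((cj g).injective (Subtype.ext (U0 _ _ _ (cj g u).2 (cj g v).2 (cj g w').2
        (fun h => a1.1 (Subtype.ext h)) (fun h => a2.1 (Subtype.ext h))
        (fun h => hc ((cj g).injective ((Subtype.ext h).trans e.symm))) (fun h => a3.1 (Subtype.ext h))
        (fun h => a4.1 (Subtype.ext h)) a1.2 a2.2 a3.2 a4.2)))
    by_cases hod : Odd (orderOf (u.1 * v.1))
    swap
    · obtain ⟨z, z1, z2, z3, z4⟩ := pair_even (two_sq u.2) (two_sq v.2) hod
      refine ⟨⟨z, z2⟩, ⟨fun e => pair_notMem u.2 v.2 hne (e ▸ z1), z3.symm⟩, fun e => pair_notMem v.2 u.2 hne.symm ?_,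
        z4.symm⟩
      rw [show v.1 * u.1 = (u.1 * v.1)⁻¹ by rw [mul_inv_rev, two_inv u.2, two_inv v.2], zpowers_inv]
      exact e ▸ z1
    have hD : closure ({u.1, v.1} : Set G) ≠ ⊤ := fun e => by
      have hn : (zpowers (u.1 * v.1)).Normal := normalizer_eq_top_iff.1 (top_le_iff.1 (e ▸ (closure_le _).2 (by
        rintro _ (rfl | rfl)
        · exact mem_normalizer_iff_conj_mem.2 fun x hx => by
            rw [pair_inverts (two_sq u.2) (two_sq v.2) hx]; exact inv_mem hx
        · exact mem_normalizer_iff_conj_mem.2 fun x hx => by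
            rw [pair_inverts' (two_sq u.2) (two_sq v.2) hx]; exact inv_mem hx)))
      rcases hG.eq_bot_or_eq_top_of_normal _ hn with h1 | h1
      · exact hx1 (zpowers_eq_bot.1 h1)
      · exact hns (isSolvable_of_eq_top (isSolvable_zpowers _) h1)
    have h1 := (orderOf_dvd_card_of_mem (zpowers_le_closure_pair (mem_zpowers _))).trans (heven _ hD
      ((dvd_of_eq u.2.symm).trans (orderOf_dvd_card_of_mem (subset_closure (Set.mem_insert _ _)))))
    have h2 := Nat.Coprime.dvd_of_dvd_mul_left (Nat.Coprime.pow_right 2 (Nat.coprime_two_right.2 hod)) h1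
    rw [hk'] at h2
    obtain ⟨j, -, hj⟩ := (Nat.dvd_prime_pow (by norm_num)).1 h2
    obtain ⟨g, -, hg⟩ := (isSylowIn_top P).exists_conj_le (isPGroup_zpowers_iff.2 ⟨j, hj⟩) le_top
    have h3 : g * (u.1 * v.1) * g⁻¹ ∈ (P : Subgroup G) := hg (conj_mem_conj_smul (mem_zpowers _))
    have key : ∀ s : I, s.1 * (u.1 * v.1) * s.1⁻¹ = (u.1 * v.1)⁻¹ → r s ((cj g).symm ⟨t, ho⟩) := fun s hs => by
      rw [← hcj g, Equiv.apply_symm_apply]
      have h5 : g * s.1 * g⁻¹ * (g * (u.1 * v.1) * g⁻¹) * (g * s.1 * g⁻¹)⁻¹ = (g * (u.1 * v.1) * g⁻¹)⁻¹ := by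
        rw [conj_inv (a := u.1 * v.1), ← hs]; group
      refine ⟨fun e => hx1 ?_, mem_centralizer_singleton_iff.1 (hNC ?_)⟩
      · have e' : g * s.1 * g⁻¹ = t := congrArg Subtype.val e
        rw [e', ← ht _ h3, mul_inv_cancel_right, conj_inv, mul_left_inj, mul_right_inj, eq_inv_iff_mul_eq_one,
          ← pow_two] at h5
        exact orderOf_eq_one_iff.1 (Nat.eq_one_of_dvd_coprimes (Nat.coprime_two_right.2 hod) dvd_rfl
          (orderOf_dvd_of_pow_eq_one h5))
      · by_contra hc
        exact hx1 (conj_eq_one_iff.1 (hTI _ hc _ (hPC h3) (h5 ▸ inv_mem (hPC h3))))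
    exact ⟨_, key u (pair_inverts (two_sq u.2) (two_sq v.2) (mem_zpowers _)),
      key v (pair_inverts' (two_sq u.2) (two_sq v.2) (mem_zpowers _))⟩
  · obtain ⟨a, -, b, -, a1, b1, -, h1, h2, -⟩ := klein_elems hTK
    obtain ⟨g, hg⟩ := hconj a a1
    refine Finset.card_ne_zero.2 ⟨cj g ⟨b, b1⟩, ?_⟩
    simp only [Finset.mem_filter, Finset.mem_univ, true_and]
    rw [← show cj g ⟨a, a1⟩ = ⟨t, ho⟩ from Subtype.ext hg, hcj]
    exact ⟨fun e => h1 (congrArg Subtype.val e), h2⟩

end Cfsg.Agent.S4018
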