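import Cfsg.Statements.S4112
import Cfsg.Agent.H1.Misc2

set_option autoImplicit false
open Cfsg

namespace Cfsg.Agent.S4112

open H1

/-- Let G be a finite group and M ≤ N non-trivial proper normal subgroups such that for every g outside N the conjugacy class of g is a union of cosets of M (equivalently gm is conjugate to g for every m ∈ M). Then (1) and (2) below are equivalent, and they imply (3): (1) every g outside N acts fixed-point-freely on M, that is C_G(x) ≤ N for every x ∈ M, x ≠ 1; (2) the index of N in G is coprime to the order of M; (3) there is a subgroup H of G with HN = G and H ∩ M = 1. -/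
theorem result {G : Type*} [Group G] [Finite G] (N M : Subgroup G) [N.Normal] [M.Normal] (hMN : M ≤ N) (hM1 : M ≠ ⊥) (hN2 : N ≠ ⊤)
    (hcam : ∀ g : G, g ∉ N → ∀ m ∈ M, ∃ x : G, x * g * x⁻¹ = g * m) :
    ((∀ x ∈ M, x ≠ 1 → Subgroup.centralizer ({x} : Set G) ≤ N) ↔ N.index.Coprime (Nat.card M)) ∧
    ((∀ x ∈ M, x ≠ 1 → Subgroup.centralizer ({x} : Set G) ≤ N) → ∃ H : Subgroup G, H ⊔ N = ⊤ ∧ H ⊓ M = ⊥) := by
  have h12 : (∀ x ∈ M, x ≠ 1 → Subgroup.centralizer ({x} : Set G) ≤ N) → N.index.Coprime (Nat.card M) := by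
    intro h
    refine Nat.coprime_of_dvd fun r hr h1 h2 => ?_
    haveI := Fact.mk hr
    obtain ⟨R⟩ := (inferInstance : Nonempty (Sylow r G))
    have h3 : (R : Subgroup G) ⊓ M ≠ ⊥ := fun h => (sylow_inf_normal R M).eq_bot_iff.1 h h2
    obtain ⟨x, hx, hx1⟩ := exists_mem_ne_one (inf_centralizer_ne_bot_of_isPGroup (R.isPGroup'.to_le inf_le_left)
      R.isPGroup' (le_normalizer_inf Subgroup.le_normalizer Subgroup.le_normalizer_of_normal) h3)
    exact R.not_dvd_index (h1.trans (Subgroup.index_dvd_of_le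
      ((H9.le_centralizer_singleton_iff.2 hx.2).trans (h x hx.1.2 hx1))))
  refine ⟨⟨h12, fun h x hx hx1 => le_of_forall_primePow_mem fun r k hr g hg hk => ?_⟩, fun h => ?_⟩
  · by_contra hgN
    have h1 : r ∣ N.index := by
      by_contra h2
      exact hgN (mem_of_coprime_index (hk ▸ Nat.Coprime.pow_left k ((Nat.Prime.coprime_iff_not_dvd hr).2 h2)))
    have h2 : (orderOf g).Coprime (orderOf x) := hk ▸ Nat.Coprime.pow_left k
      (Nat.Coprime.coprime_dvd_left h1 (Nat.Coprime.coprime_dvd_right (orderOf_dvd_card_of_mem hx) h))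
    obtain ⟨y, hy⟩ := hcam g hgN x hx
    have h3 := orderOf_conj y g
    rw [hy, Commute.orderOf_mul_eq_mul_orderOf_of_coprime (Subgroup.mem_centralizer_singleton_iff.1 hg) h2] at h3
    exact hx1 (orderOf_eq_one_iff.1 ((Nat.mul_eq_left (orderOf_pos g).ne').1 h3))
  · obtain ⟨H, h1, h2, -⟩ := exists_supplement_top N
    refine ⟨H, h1, inf_eq_bot_of_coprime (Nat.coprime_of_dvd fun r hr h3 h4 => ?_)⟩
    exact hr.one_lt.ne' (Nat.eq_one_of_dvd_coprimes (h12 h) (h2 r hr h3) h4)

end Cfsg.Agent.S4112
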