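import Cfsg.Statements.S4113
import Cfsg.Agent.CZ.C

set_option autoImplicit false
open Cfsg

namespace Cfsg.Agent.S4113

open Subgroup H9

/-- Let G be a finite group, M ≤ N non-trivial proper normal subgroups, and H a subgroup with HM = G and H ∩ M = 1. Then every element of G outside N acts fixed-point-freely on M (C_G(x) ≤ N for every x ∈ M, x ≠ 1) if and only if H ∩ gHg⁻¹ ≤ H ∩ N for every g outside H, with H proper and non-trivial and H ∩ N proper in H. -/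
theorem result {G : Type*} [Group G] [Finite G] (N M : Subgroup G) [N.Normal] [M.Normal] (hMN : M ≤ N) (hM1 : M ≠ ⊥) (hN2 : N ≠ ⊤)
    (H : Subgroup G) (hHM : H ⊔ M = ⊤) (hHM' : H ⊓ M = ⊥) :
    (∀ x ∈ M, x ≠ 1 → Subgroup.centralizer ({x} : Set G) ≤ N) ↔
      (H ≠ ⊥ ∧ H ≠ ⊤ ∧ H ⊓ N < H ∧ ∀ g : G, g ∉ H → H ⊓ H.map (MulAut.conj g).toMonoidHom ≤ N) := by
  have n1 : H ≤ normalizer (M : Set G) := le_normalizer_of_normal
  have fx : ∀ {x m : G}, x ∈ H → m ∈ M → m⁻¹ * x * m ∈ H → x * m = m * x := fun {x m} hx hm h => by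
    have : x⁻¹ * (m⁻¹ * x * m) ∈ H ⊓ M := ⟨H.mul_mem (H.inv_mem hx) h, by
      simpa [mul_assoc] using mul_mem (‹M.Normal›.conj_mem' _ (inv_mem hm) x) hm⟩
    rw [hHM', mem_bot, inv_mul_eq_one] at this
    nth_rewrite 2 [this]; group
  have h0 : ¬ H ≤ N := fun h => hN2 (eq_top_iff.2 (hHM ▸ sup_le h hMN))
  refine ⟨fun h => ⟨fun e => h0 (e ▸ bot_le), fun e => hM1 (by rw [← hHM', e, top_inf_eq]),
    lt_of_le_not_ge inf_le_left fun e => h0 (e.trans inf_le_right), fun g hg x hx => ?_⟩, fun h x hx h1 c hc => ?_⟩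
  · obtain ⟨m, hm, u, hu, rfl⟩ := (H1.mem_sup_of_le_normalizer_left n1).1 (sup_comm H M ▸ hHM ▸ mem_top g)
    refine h m hm (fun e => hg (by simpa [e] using hu)) (mem_centralizer_singleton_iff.2 (fx hx.1 hm ?_))
    simpa [mul_assoc] using mul_mem (mul_mem hu (H1.mem_map_conj.1 hx.2)) (inv_mem hu)
  by_contra hn
  have key : Function.Bijective fun y : M × {u : G // u ∈ H ∧ u ∉ N} =>
      (⟨y.1 * y.2 * (y.1 : G)⁻¹, fun e => y.2.2.2 (by simpa [mul_assoc] using ‹N.Normal›.conj_mem' _ e y.1)⟩ :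
        {u : G // u ∉ N}) := by
    rw [Nat.bijective_iff_injective_and_card]
    constructor
    · rintro ⟨m, u⟩ ⟨m', u'⟩ e
      simp only [Subtype.mk.injEq] at e
      obtain rfl : m = m' := by
        by_contra k
        refine u.2.2 (h.2.2.2 ((m : G)⁻¹ * m') (fun e' => k (Subtype.ext (inv_mul_eq_one.1 (mem_bot.1 (hHM'.le
          ⟨e', M.mul_mem (M.inv_mem m.2) m'.2⟩))))) ⟨u.2.1, H1.mem_map_conj.2 ?_⟩)
        rw [show ((m : G)⁻¹ * m')⁻¹ * u * ((m : G)⁻¹ * m') = (m' : G)⁻¹ * (m * u * (m : G)⁻¹) * m' by group, e]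
        simpa [mul_assoc] using u'.2.1
      exact Prod.ext rfl (Subtype.ext (by simpa using e))
    · refine (Nat.card_congr (Equiv.ofBijective (fun y : M × {u : G // u ∈ H ∧ u ∉ N} =>
        (⟨y.1 * y.2, fun e => y.2.2.2 (by simpa using mul_mem (inv_mem (hMN y.1.2)) e)⟩ : {u : G // u ∉ N})) ⟨?_, ?_⟩))
      · rintro ⟨m, u⟩ ⟨m', u'⟩ e
        obtain ⟨k1, k2⟩ := H1.eq_of_mul_eq_mul hHM' m.2 m'.2 u.2.1 u'.2.1 (congrArg Subtype.val e)
        exact Prod.ext (Subtype.ext k1) (Subtype.ext k2)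
      · rintro ⟨g, hg⟩
        obtain ⟨m, hm, u, hu, rfl⟩ := (H1.mem_sup_of_le_normalizer_left n1).1 (sup_comm H M ▸ hHM ▸ mem_top g)
        exact ⟨⟨⟨m, hm⟩, u, hu, fun e => hg (mul_mem (hMN hm) e)⟩, rfl⟩
  obtain ⟨⟨m, u⟩, e⟩ := key.2 ⟨c, hn⟩
  simp only [Subtype.mk.injEq] at e
  have k := ‹M.Normal›.conj_mem' x hx m
  refine u.2.2 (h.2.2.2 _ (fun e' => h1 ?_) ⟨u.2.1, H1.mem_map_conj.2 (?_ : ((m : G)⁻¹ * x * m)⁻¹ * u * _ ∈ H)⟩)
  · exact H1.conj_eq_one_iff'.1 (mem_bot.1 (hHM'.le ⟨e', k⟩))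
  · rw [show ((m : G)⁻¹ * x * m)⁻¹ * u * ((m : G)⁻¹ * x * m) = (m : G)⁻¹ * x⁻¹ * (m * u * (m : G)⁻¹ * x) * m by group,
      e, mem_centralizer_singleton_iff.1 hc, ← e]
    simpa [mul_assoc] using u.2.1

end Cfsg.Agent.S4113
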