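import Cfsg.Statements.S4126
import Cfsg.Agent.CZ.C
import Cfsg.Agent.S1946

set_option autoImplicit false
open Cfsg

namespace Cfsg.Agent.S4126

/-- Let G be a finite group and p a prime. Suppose every element of order p, and when p = 2 also every element of order 4, has a conjugacy class of p-power size. Then G has a normal p-complement. -/
theorem result {G : Type*} [Group G] [Finite G] (p : ℕ) [Fact p.Prime]
    (h : ∀ x : G, (orderOf x = p ∨ (p = 2 ∧ orderOf x = 4)) → ∃ a : ℕ, (Subgroup.centralizer ({x} : Set G)).index = p ^ a) :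
    Cfsg.HasNormalPComplement p G := by
  obtain ⟨P⟩ : Nonempty (Sylow p G) := inferInstance
  refine (Cfsg.Agent.S1946.result P).2 fun a ha h1 g _ => ?_
  by_cases e : a = 1
  · exact ⟨1, one_mem _, by simp [e]⟩
  obtain ⟨k, hk⟩ : ∃ k, (Subgroup.centralizer ({a} : Set G)).index = p ^ k := by
    refine h a ?_
    rcases h1 with h1 | ⟨rfl, h1⟩
    · exact Or.inl (orderOf_eq_prime h1 e)
    · obtain ⟨i, hi, e2⟩ := (Nat.dvd_prime_pow Nat.prime_two (m := 2)).1 (orderOf_dvd_of_pow_eq_one h1)
      interval_cases i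
      · exact absurd (orderOf_eq_one_iff.1 e2) e
      · exact Or.inl e2
      · exact Or.inr ⟨rfl, e2⟩
  exact CZ.conj_syl P hk g

end Cfsg.Agent.S4126
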