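import Cfsg.Statements.S4163
import Cfsg.Agent.H9.Comp

set_option autoImplicit false
open Cfsg

namespace Cfsg.Agent.S4163

open Subgroup H9 in
theorem lem {G : Type*} [Group G] [Finite G] (A : Subgroup G) [hn : A.Normal] (hA : IsMulCommutative A) (x a : G) (ha : a ∈ A)
    (hx : 1 < (centralizer ({x} : Set G)).index) :
    (centralizer ({a * x * a⁻¹ * x⁻¹} : Set G)).index < (centralizer ({x} : Set G)).index := by
  classical
  by_cases h1 : a * x * a⁻¹ * x⁻¹ = 1
  · rw [h1]
    have : centralizer ({1} : Set G) = ⊤ := eq_top_iff.2 fun g _ => by simp [mem_centralizer_singleton_iff]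
    rw [this, index_top]; exact hx
  have cm : ∀ b ∈ A, ∀ c ∈ A, b * c = c * b := fun b hb c hc =>
    congrArg Subtype.val (hA.is_comm.comm (⟨b, hb⟩ : A) ⟨c, hc⟩)
  set C := centralizer ({x} : Set G) with hC
  set H := C ⊔ A with hH
  set y := a * x * a⁻¹ * x⁻¹ with hy
  -- class of y under H injects into (class of x under H) minus a point
  have key : (centralizer ({y} : Set G)).relIndex H < C.relIndex H := by
    let f : H ⧸ (centralizer ({y} : Set G)).subgroupOf H → G :=
      Quotient.lift (fun h : H => (h : G) * y * (h : G)⁻¹ * x) (by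
        intro g h hgh
        have h2 : g⁻¹ * h ∈ (centralizer ({y} : Set G)).subgroupOf H := QuotientGroup.leftRel_apply.1 hgh
        have h3 := mem_centralizer_singleton_iff.1 (mem_subgroupOf.1 h2)
        simp only [coe_mul, coe_inv] at h3
        have : (h : G) * y * (h : G)⁻¹ = g * y * (g : G)⁻¹ := by
          calc (h : G) * y * (h : G)⁻¹ = g * ((g : G)⁻¹ * h * y) * (h : G)⁻¹ := by group
            _ = g * y * (g : G)⁻¹ := by rw [h3]; group
        simp only [this])
    let k : H ⧸ C.subgroupOf H → G :=
      Quotient.lift (fun h : H => (h : G) * x * (h : G)⁻¹) (by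
        intro g h hgh
        have h2 : g⁻¹ * h ∈ C.subgroupOf H := QuotientGroup.leftRel_apply.1 hgh
        have h3 := mem_centralizer_singleton_iff.1 (mem_subgroupOf.1 h2)
        simp only [coe_mul, coe_inv] at h3
        have : (h : G) * x * (h : G)⁻¹ = g * x * (g : G)⁻¹ := by
          calc (h : G) * x * (h : G)⁻¹ = g * ((g : G)⁻¹ * h * x) * (h : G)⁻¹ := by group
            _ = g * x * (g : G)⁻¹ := by rw [h3]; group
        simp only [this])
    have hf : Function.Injective f := by
      intro g h
      induction g using QuotientGroup.induction_on with | H g => ?_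
      induction h using QuotientGroup.induction_on with | H h => ?_
      intro e
      have e' : (g : G) * y * (g : G)⁻¹ * x = h * y * (h : G)⁻¹ * x := e
      refine QuotientGroup.eq.2 (mem_subgroupOf.2 (mem_centralizer_singleton_iff.2 ?_))
      have e2 := mul_right_cancel e'
      simp only [coe_mul, coe_inv]
      calc (g : G)⁻¹ * h * y = (g : G)⁻¹ * (h * y * (h : G)⁻¹) * h := by group
        _ = y * ((g : G)⁻¹ * h) := by rw [← e2]; group
    have hsub : Set.range f ⊂ Set.range k := by
      refine ⟨?_, fun hle => ?_⟩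
      · rintro _ ⟨g, rfl⟩
        induction g using QuotientGroup.induction_on with | H g => ?_
        obtain ⟨b, hb, c, hc, e⟩ := (mem_sup_of_le_normalizer' (H := C) (N := A) le_normalizer_of_normal).1 (by rw [sup_comm]; exact g.2)
        have hc' := mem_centralizer_singleton_iff.1 hc
        refine ⟨QuotientGroup.mk ⟨c * a * c⁻¹, mem_sup_right (hn.conj_mem a ha c)⟩, ?_⟩
        show c * a * c⁻¹ * x * (c * a * c⁻¹)⁻¹ = (g : G) * y * (g : G)⁻¹ * x
        have hyA : c * y * c⁻¹ ∈ A := hn.conj_mem _ (by
          rw [hy, mul_assoc, mul_assoc]; exact A.mul_mem ha (by simpa [mul_assoc] using hn.conj_mem _ (A.inv_mem ha) x)) c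
        rw [← e]
        calc c * a * c⁻¹ * x * (c * a * c⁻¹)⁻¹ = c * a * (c⁻¹ * x * c) * a⁻¹ * c⁻¹ := by group
          _ = c * a * x * a⁻¹ * c⁻¹ := by rw [mul_assoc c⁻¹, ← hc']; group
          _ = (c * y * c⁻¹) * (c * x * c⁻¹) := by rw [hy]; group
          _ = (c * y * c⁻¹) * x := by rw [hc']; group
          _ = (b * (c * y * c⁻¹) * b⁻¹) * x := by rw [cm b hb _ hyA]; group
          _ = _ := by group
      · obtain ⟨g, e⟩ := hle ⟨QuotientGroup.mk 1, rfl⟩
        induction g using QuotientGroup.induction_on with | H g => ?_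
        have e' : (g : G) * y * (g : G)⁻¹ * x = (1 : H) * x * ((1 : H) : G)⁻¹ := e
        simp only [coe_one, one_mul, inv_one, mul_one, mul_eq_right] at e'
        apply h1
        calc y = (g : G)⁻¹ * (g * y * (g : G)⁻¹) * g := by group
          _ = 1 := by rw [e']; simp
    have h4 := Set.ncard_lt_ncard hsub (Set.toFinite _)
    rw [Set.ncard_range_of_injective hf] at h4
    refine h4.trans_le ?_
    rw [← Set.image_univ]
    exact (Set.ncard_image_le (Set.toFinite _)).trans (Set.ncard_univ _).le
  have e1 := relIndex_mul_index (le_sup_left : C ≤ H)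
  have e2 : (centralizer ({y} : Set G)).index ≤ (centralizer ({y} : Set G)).relIndex H * H.index := by
    rw [← inf_relIndex_right, relIndex_mul_index inf_le_right]
    exact index_antitone inf_le_left
  have h3 : 0 < H.index := Nat.pos_of_ne_zero index_ne_zero_of_finite
  rw [← e1]
  exact e2.trans_lt (Nat.mul_lt_mul_of_pos_right key h3)

open Subgroup H9 in
theorem ucs3 {M : Type*} [Group M] (h : ⁅⁅⁅(⊤ : Subgroup M), (⊤ : Subgroup M)⁆, (⊤ : Subgroup M)⁆, (⊤ : Subgroup M)⁆ = ⊥) : Subgroup.upperCentralSeries M 3 = ⊤ := by
  rw [eq_top_iff]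
  intro x _
  rw [Subgroup.mem_upperCentralSeries_succ_iff]
  intro y
  rw [Subgroup.mem_upperCentralSeries_succ_iff]
  intro z
  rw [Subgroup.mem_upperCentralSeries_succ_iff]
  intro w
  rw [Subgroup.upperCentralSeries_zero, ← h]
  exact commutator_mem_commutator (commutator_mem_commutator (commutator_mem_commutator trivial trivial) trivial) trivial
open Subgroup H9 in

/-- Let G be a finite group with a normal abelian subgroup A satisfying C_G(A) = A. Suppose some conjugacy class of G has size greater than 1, let m be the smallest such size, and let M be the subgroup generated by the elements whose class has size 1 or m. Then M is nilpotent of class at most 3. -/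
theorem result {G : Type*} [Group G] [Finite G]
    (A : Subgroup G) [A.Normal] (hA : IsMulCommutative A) (hCA : Subgroup.centralizer (A : Set G) = A)
    (m : ℕ) (hm1 : 1 < m) (hm : ∃ x : G, (Subgroup.centralizer ({x} : Set G)).index = m) (hmin : ∀ x : G, 1 < (Subgroup.centralizer ({x} : Set G)).index → m ≤ (Subgroup.centralizer ({x} : Set G)).index) :
    Subgroup.upperCentralSeries ↥(Subgroup.closure {x : G | (Subgroup.centralizer ({x} : Set G)).index = 1 ∨ (Subgroup.centralizer ({x} : Set G)).index = m}) 3 = ⊤ := by
  set M := Subgroup.closure {x : G | (Subgroup.centralizer ({x} : Set G)).index = 1 ∨ (Subgroup.centralizer ({x} : Set G)).index = m} with hM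
  have cen : ∀ y : G, (centralizer ({y} : Set G)).index = 1 → y ∈ center G := fun y hy => by
    rw [index_eq_one] at hy
    rw [mem_center_iff]
    intro g
    exact mem_centralizer_singleton_iff.1 (hy ▸ mem_top g)
  have h1 : ⁅M, A⁆ ≤ center G := by
    have : M ≤ (centralizer (A.map (QuotientGroup.mk' (center G)) : Set (G ⧸ center G))).comap (QuotientGroup.mk' (center G)) := by
      rw [hM, closure_le]
      intro x hx
      rintro _ ⟨a, ha, rfl⟩
      have : a * x * a⁻¹ * x⁻¹ ∈ center G := by
        rcases hx with hx | hx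
        · have := mem_center_iff.1 (cen x hx) a
          rw [this]; simp
        · apply cen
          have := lem A hA x a ha (hx ▸ hm1)
          by_contra hne
          have h3 : 0 < (centralizer ({a * x * a⁻¹ * x⁻¹} : Set G)).index := Nat.pos_of_ne_zero index_ne_zero_of_finite
          have := hmin _ (by omega : 1 < (centralizer ({a * x * a⁻¹ * x⁻¹} : Set G)).index)
          omega
      rw [← map_mul, ← map_mul]
      refine (QuotientGroup.eq_iff_div_mem.2 ?_)
      simpa [div_eq_mul_inv, mul_assoc] using this
    rw [← map_le_iff_le_comap, ← commutator_eq_bot_iff_le_centralizer, ← map_commutator, Subgroup.map_eq_bot_iff, QuotientGroup.ker_mk'] at this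
    exact this
  have hc : ∀ X : Subgroup G, ⁅center G, X⁆ = ⊥ := fun X =>
    commutator_eq_bot_iff_le_centralizer.2 (center_le_centralizer _)
  have h2 : ⁅⁅M, M⁆, A⁆ = ⊥ := by
    refine commutator_commutator_eq_bot_of_rotate ?_ ?_
    · exact eq_bot_iff.2 ((commutator_mono h1 le_rfl).trans (hc M).le)
    · rw [commutator_comm A M]; exact eq_bot_iff.2 ((commutator_mono h1 le_rfl).trans (hc M).le)
  have h3 : ⁅M, M⁆ ≤ A := by rw [← hCA]; exact commutator_eq_bot_iff_le_centralizer.1 h2
  have h4 : ⁅⁅⁅M, M⁆, M⁆, M⁆ = ⊥ := by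
    refine eq_bot_iff.2 ((commutator_mono ((commutator_mono h3 le_rfl).trans ?_) le_rfl).trans (hc M).le)
    rw [commutator_comm]; exact h1
  apply ucs3
  apply map_injective M.subtype_injective
  rw [map_commutator, map_commutator, map_commutator, ← MonoidHom.range_eq_map, range_subtype, h4, Subgroup.map_bot]

end Cfsg.Agent.S4163
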