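import Cfsg.Statements.S4365
import Cfsg.Agent.CZ.C
import Cfsg.Agent.S4163

set_option autoImplicit false
open Cfsg

namespace Cfsg.Agent.S4365

open Subgroup H9
open scoped commutatorElement

theorem aux {P : Type*} [Group P] [Finite P] {p : ℕ} [hp : Fact p.Prime] (hP : IsPGroup p P) {m : ℕ}
    (h : ∀ x : P, (centralizer ({x} : Set P)).index = 1 ∨ (centralizer ({x} : Set P)).index = m) (x : P) :
    x ^ p ∈ center P := by
  have e0 : ∀ x : P, x ∉ center P → (centralizer ({x} : Set P)).index = m := fun x hx =>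
    (h x).resolve_left fun e => hx (H1.ci_eq_one_iff.1 e)
  have e1 : ∀ x : P, x ^ p ∉ center P → centralizer {x} = centralizer ({x ^ p} : Set P) := fun x hx => by
    have k := H1.centralizer_le_centralizer_of_mem_zpowers (npow_mem_zpowers x p)
    have := relIndex_mul_index k
    rw [e0 _ hx, e0 x fun e => hx (pow_mem e p)] at this
    exact k.antisymm (relIndex_eq_one.1 (Nat.eq_of_mul_eq_mul_right
      (e0 _ hx ▸ Nat.pos_of_ne_zero index_ne_zero_of_finite) (this.trans (one_mul m).symm)))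
  haveI := hP.isNilpotent
  obtain ⟨A, -, -, h2, h3, h4⟩ := H1.exists_maximal_abelian_normal (A := (⊥ : Subgroup P)) (L := ⊤) bot_le
    le_normalizer_of_normal inferInstance
  haveI : A.Normal := normalizer_eq_top_iff.1 (eq_top_iff.2 h2)
  have h5 := H1.centralizer_eq_of_maximal_abelian_normal (L := ⊤) inferInstance le_top h2 h3 h4
  have e2 : ∀ a ∈ A, ∀ y, ⁅a, y⁆ ∈ center P := fun a ha y => by
    by_cases hy : y ∈ center P
    · rw [commutatorElement_eq_one_iff_mul_comm.2 (mem_center_iff.1 hy a)]; exact one_mem _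
    · by_contra k
      have := Cfsg.Agent.S4163.lem A h3 y a ha (lt_of_le_of_ne (Nat.pos_of_ne_zero index_ne_zero_of_finite)
        fun e => hy (H1.ci_eq_one_iff.1 e.symm))
      rw [← commutatorElement_def, e0 _ hy, e0 _ k] at this
      exact lt_irrefl _ this
  have pw : ∀ a ∈ A, ∀ (y : P) (n : ℕ), ⁅a ^ n, y⁆ = ⁅a, y⁆ ^ n ∧ ⁅a, y ^ n⁆ = ⁅a, y⁆ ^ n := fun a ha y n => by
    have c := mem_center_iff.1 (e2 a ha y)
    induction n with
    | zero => simp
    | succ n ih =>
      constructor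
      · rw [pow_succ', pow_succ, ← ih.1, show ⁅a * a ^ n, y⁆ = a * ⁅a ^ n, y⁆ * a⁻¹ * ⁅a, y⁆ by group,
          mem_center_iff.1 (e2 _ (pow_mem ha n) y) a]; group
      · rw [pow_succ, pow_succ, ← ih.2, show ⁅a, y ^ n * y⁆ = ⁅a, y ^ n⁆ * (y ^ n * ⁅a, y⁆) * (y ^ n)⁻¹ by group,
          c]; group
  have e3 : ∀ a ∈ A, a ^ p ∈ center P := fun a ha => by
    by_contra k
    obtain ⟨y, hy⟩ : ∃ y, y ∉ centralizer ({a} : Set P) := H1.exists_notMem fun e => k (pow_mem
      (H1.ci_eq_one_iff.1 (index_eq_one.2 e)) p)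
    obtain ⟨n, hn⟩ := hP y
    induction n generalizing y with
    | zero => exact hy (by simpa using (by simpa using hn : y = 1) ▸ one_mem _)
    | succ n ih =>
      refine ih (y ^ p) (fun e => hy ?_) (by rw [← pow_mul, ← pow_succ', hn])
      rw [e1 a k, mem_centralizer_singleton_iff, eq_comm, ← commutatorElement_eq_one_iff_mul_comm, (pw a ha y p).1,
        ← (pw a ha y p).2, commutatorElement_eq_one_iff_mul_comm]
      exact (mem_centralizer_singleton_iff.1 e).symm
  by_contra k
  refine k (e3 x (h5 ▸ ⟨trivial, fun a ha => ?_⟩))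
  refine mem_centralizer_singleton_iff.1 (e1 x k ▸ mem_centralizer_singleton_iff.2 ?_)
  rw [← commutatorElement_eq_one_iff_mul_comm, (pw a ha x p).2, ← (pw a ha x p).1,
    commutatorElement_eq_one_iff_mul_comm]
  exact (mem_center_iff.1 (e3 a ha) x).symm

/-- Let P be a finite p-group whose conjugacy class sizes are exactly 1 and pᵃ for some a ≥ 1. Then every element of P has its p-th power in the center of P (P/Z(P) has exponent p). -/
theorem result {P : Type*} [Group P] [Finite P] (p : ℕ) [Fact p.Prime]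
    (hP : IsPGroup p P) (a : ℕ) (ha : 1 ≤ a)
    (hcs : {k : ℕ | ∃ x : P, (Subgroup.centralizer ({x} : Set P)).index = k} = {1, p ^ a}) (x : P) :
    x ^ p ∈ Subgroup.center P := by
  exact aux hP (m := p ^ a) (fun y => by simpa using (hcs.le ⟨y, rfl⟩ : _ ∈ ({1, p ^ a} : Set ℕ))) x

end Cfsg.Agent.S4365
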