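import Cfsg.Statements.S4134
import Cfsg.Agent.CZ.C
import Cfsg.Agent.S4365
import Cfsg.Agent.S3993
import Cfsg.Agent.H1.MC

set_option autoImplicit false
open Cfsg

namespace Cfsg.Agent.S4134

open Subgroup H9 Finset

theorem tors {G : Type*} [Group G] [Finite G] {A : Subgroup G} (hA : IsMulCommutative A) {a b d e : ℕ}
    (h : d.Coprime e) (ha : a ∣ d) (hb : b ∣ e) (hc : Nat.card A = a * b) :
    {g | g ∈ A ∧ g ^ d = 1}.ncard = a := by
  let B : Subgroup G :=
    { carrier := {g | g ∈ A ∧ g ^ d = 1}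
      mul_mem' := fun hx hy => ⟨mul_mem hx.1 hy.1, by
        rw [Commute.mul_pow (H1.comm_of_mem hA hx.1 hy.1), hx.2, hy.2, one_mul]⟩
      one_mem' := ⟨one_mem _, one_pow _⟩
      inv_mem' := fun hx => ⟨inv_mem hx.1, by rw [inv_pow, hx.2, inv_one]⟩ }
  change (B : Set G).ncard = a
  rw [← Nat.card_coe_set_eq]
  refine Nat.dvd_antisymm (Nat.Coprime.dvd_of_dvd_mul_right (n := b) ?_ (hc ▸ card_dvd_of_le (H := B) fun x hx => hx.1)) ?_
  · refine Nat.coprime_of_dvd fun r hr h1 h2 => ?_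
    obtain ⟨x, hx, e1⟩ := H1.exists_mem_orderOf_eq_prime (H := B) hr h1
    exact hr.one_lt.ne' (Nat.eq_one_of_dvd_coprimes h (e1 ▸ orderOf_dvd_of_pow_eq_one hx.2) (h2.trans hb))
  · refine (Cfsg.Agent.S3993.result (G := A) a (hc ▸ dvd_mul_right a b)).trans (dvd_of_eq (Nat.card_congr
      ⟨fun x => ⟨x.1, x.1.2, L.pow_eq_one_of_dvd (congrArg Subtype.val x.2) ha⟩, fun x => ⟨⟨x.1, x.2.1⟩, Subtype.ext ?_⟩,
        fun _ => rfl, fun _ => rfl⟩))
    exact orderOf_dvd_iff_pow_eq_one.1 (Nat.Coprime.dvd_of_dvd_mul_right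
      ((h.coprime_dvd_left (orderOf_dvd_of_pow_eq_one x.2.2)).coprime_dvd_right hb) (hc ▸ orderOf_dvd_card_of_mem x.2.1))

theorem count {G : Type*} [Group G] [Finite G] {z1 z2 m1 m2 n1 n2 : ℕ} (h : (z1 * m1 * n1).Coprime (z2 * m2 * n2))
    (hz : Nat.card (center G) = z1 * z2) (hg : Nat.card G = z1 * m1 * n1 * (z2 * m2 * n2))
    (hc : ∀ x : G, x ∉ center G → Nat.card (centralizer {x}) = z1 * m1 * (z2 * m2) ∧
      IsMulCommutative (centralizer ({x} : Set G))) : (n1 : ℤ) ∣ m2 - 1 := by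
  classical
  haveI := Fintype.ofFinite G
  set d := z1 * m1 * n1 with hd
  have dv : ∀ a b c : ℕ, a ∣ a * b * c ∧ a * b ∣ a * b * c := fun a b c =>
    ⟨(dvd_mul_right a b).mul_right c, dvd_mul_right _ c⟩
  have sp : ∀ (q : G → Prop) [DecidablePred q], #{x | q x ∧ x ∉ center G} + {x | x ∈ center G ∧ q x}.ncard = {x | q x}.ncard :=
    fun q _ => by
      rw [← Set.ncard_coe_finset, ← Set.ncard_union_eq (Set.disjoint_left.2 fun x a b => by simp_all)]
      congr 1; ext x; simp; tauto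
  have k := H1.sum_card_inf_centralizer_comm (G := G) {x | x ^ d = 1 ∧ x ∉ center G} {x | True ∧ x ∉ center G}
  have hZ := tors (A := center G) inferInstance h (dv _ _ _).1 (dv _ _ _).1 hz
  have zc : (center G : Set G).ncard = z1 * z2 := by rw [← hz, ← Nat.card_coe_set_eq]; rfl
  rw [sum_const_nat (m := z1 * m1 * (z2 * m2) - z1 * z2), sum_const_nat (m := z1 * m1 - z1)] at k
  · have k1 := sp (fun x => x ^ d = 1)
    have k2 := sp (fun _ => True)
    obtain ⟨j, hj⟩ := Cfsg.Agent.S3993.result (G := G) d (hg ▸ dvd_mul_right _ _)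
    rw [hZ, ← Nat.card_coe_set_eq, show Nat.card {x : G | x ^ d = 1} = d * j from hj] at k1
    simp only [and_true, Set.setOf_true, Set.ncard_univ, hg, SetLike.setOf_mem_eq, zc] at k2
    have p0 : z1 * m1 * n1 * (z2 * m2 * n2) ≠ 0 := hg ▸ Nat.card_pos.ne'
    simp only [ne_eq, mul_eq_zero, not_or] at p0
    obtain ⟨⟨⟨a1, a2⟩, -⟩, ⟨a3, a4⟩, -⟩ := p0
    zify [Nat.mul_le_mul (Nat.le_mul_of_pos_right z1 (Nat.pos_of_ne_zero a2))
      (Nat.le_mul_of_pos_right z2 (Nat.pos_of_ne_zero a4)), Nat.le_mul_of_pos_right z1 (Nat.pos_of_ne_zero a2), hd]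
      at k k1 k2
    refine ⟨(m1 * m2 - 1) * j - m2 * n2 * (m1 - 1), mul_left_cancel₀
      (show (z1 * z1 * z2 * m1 : ℤ) ≠ 0 by positivity) ?_⟩
    rw [eq_sub_of_add_eq k1, eq_sub_of_add_eq k2] at k
    linear_combination -k
  · intro y hy
    have := sp fun x => x ∈ centralizer {y} ∧ x ^ d = 1
    rw [tors (hc y (mem_filter.1 hy).2.2).2 h (dv _ _ _).2 (dv _ _ _).2 (hc y (mem_filter.1 hy).2.2).1,
      show {x | x ∈ center G ∧ x ∈ centralizer {y} ∧ x ^ d = 1} = {x | x ∈ center G ∧ x ^ d = 1} from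
        Set.ext fun x => ⟨fun a => ⟨a.1, a.2.2⟩, fun a => ⟨a.1, center_le_centralizer _ a.1, a.2⟩⟩, hZ] at this
    rw [← Nat.eq_sub_of_add_eq this, filter_filter]
    congr 1; ext x; simp [mem_centralizer_singleton_iff, eq_comm (a := y * x)]; tauto
  · intro y hy
    have := sp fun x => x ∈ centralizer {y}
    rw [show {x | x ∈ center G ∧ x ∈ centralizer {y}} = (center G : Set G) from
        Set.ext fun x => ⟨fun a => a.1, fun a => ⟨a, center_le_centralizer _ a⟩⟩, zc, ← Nat.card_coe_set_eq,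
        show Nat.card {x : G | x ∈ centralizer {y}} = _ from (hc y (mem_filter.1 hy).2.2).1] at this
    rw [← Nat.eq_sub_of_add_eq this, filter_filter]
    congr 1; ext x; simp [mem_centralizer_singleton_iff, eq_comm (a := y * x)]; tauto

theorem one_prime {G : Type*} [Group G] [Finite G] {n : ℕ} (e0 : ∀ x : G, x ∉ center G → (centralizer {x}).index = n)
    {p q : ℕ} (hp : p.Prime) (hq : q.Prime) {x y : G} (hx : x ∉ center G) (hy : y ∉ center G)
    (ox : ∃ k, orderOf x = p ^ k) (oy : ∃ k, orderOf y = q ^ k) : p = q := by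
  by_contra hpq
  have n0 : 0 < n := e0 x hx ▸ Nat.pos_of_ne_zero index_ne_zero_of_finite
  have f1 : ∀ {u v : G}, u ∉ center G → v ∉ center G → centralizer {u} ≤ centralizer {v} →
      centralizer {u} = centralizer ({v} : Set G) := fun hu hv k => by
    have := relIndex_mul_index k
    rw [e0 _ hu, e0 _ hv] at this
    exact k.antisymm (relIndex_eq_one.1 (Nat.eq_of_mul_eq_mul_right n0 (this.trans (one_mul n).symm)))
  have f2 : ∀ {u v : G}, u ∉ center G → v ∈ centralizer {u} → (orderOf u).Coprime (orderOf v) →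
      centralizer {u} ≤ centralizer ({v} : Set G) := fun {u v} hu hv k => by
    have := H1.centralizer_mul_of_coprime (Commute.symm (mem_centralizer_singleton_iff.1 hv)) k
    rw [← f1 (u := u * v) (fun e => hu (H1.ci_eq_one_iff.1 (index_eq_one.2 (eq_top_iff.2
      ((index_eq_one.1 (H1.ci_eq_one_iff.2 e)).ge.trans (this.le.trans inf_le_left)))))) hu (this.le.trans inf_le_left), this]
    exact inf_le_right
  set m := (center G).relIndex (centralizer {x}) with hm
  have f3 : ∀ u : G, u ∉ center G → (center G).relIndex (centralizer {u}) = m := fun u hu =>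
    Nat.eq_of_mul_eq_mul_right n0 (by
      nth_rewrite 1 [← e0 u hu]
      rw [hm, ← e0 x hx, relIndex_mul_index (center_le_centralizer _), relIndex_mul_index (center_le_centralizer _)])
  have f4 : ∀ {r : ℕ} {u : G}, r.Prime → u ∉ center G → (∃ k, orderOf u = r ^ k) → r ∣ m := fun {r u} hr hu ⟨k, hk⟩ => by
    by_contra hd
    exact hu (zpowers_le.1 (H1.le_of_coprime_relIndex (zpowers_le.2 (mem_centralizer_singleton_iff.2 rfl))
      le_normalizer_of_normal (by
        rw [Nat.card_zpowers, hk, f3 u hu]; exact (hr.coprime_iff_not_dvd.2 hd).pow_left k)))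
  have f5 : ∀ u : G, u ∉ center G → IsMulCommutative (centralizer ({u} : Set G)) := fun u hu => by
    obtain ⟨r, k, hr, v, hv, ov, -, h1⟩ := H1.exists_primePow_notMem hu
    rw [f1 hu h1 (H1.centralizer_le_centralizer_of_mem_zpowers hv)]
    obtain ⟨s, hs, h2, h3⟩ : ∃ s, s.Prime ∧ r ≠ s ∧ s ∣ m := by
      by_cases e : r = p
      · exact ⟨q, hq, e ▸ hpq, f4 hq hy oy⟩
      · exact ⟨p, hp, e, f4 hp hx ox⟩
    obtain ⟨w, w1, ⟨j, w2⟩, w3⟩ := H1.exists_odd_of_dvd_relIndex hs (f3 v h1 ▸ h3)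
    have c := (Nat.coprime_primes hr hs).2 h2
    have e := f1 h1 w3 (f2 h1 w1 (ov ▸ w2 ▸ c.pow k j))
    haveI := Fact.mk hr
    exact le_centralizer_iff_isMulCommutative.1 (H1.le_of_p_and_p' r (fun a ha ⟨i, hi⟩ b hb =>
      mem_centralizer_singleton_iff.1 (f2 w3 (e ▸ ha) (w2 ▸ hi ▸ c.symm.pow j i) (e ▸ hb)))
      fun a ha hi b hb => mem_centralizer_singleton_iff.1 (f2 h1 ha (ov ▸ hi.symm.pow_left k) hb))
  have f6 : ∀ u : G, u ∉ center G → Nat.card (centralizer ({u} : Set G)) = Nat.card (center G) * m := fun u hu => by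
    rw [← f3 u hu, H1.card_mul_relIndex (center_le_centralizer _)]
  have f7 : Nat.card G = Nat.card (center G) * m * n := by rw [← f6 x hx, ← e0 x hx, card_mul_index]
  have m0 : m ≠ 0 := index_ne_zero_of_finite
  have f8 : m ≤ n := by
    obtain ⟨u, hu⟩ := H1.exists_notMem (H := centralizer {x}) fun e => hx (H1.ci_eq_one_iff.1 (index_eq_one.2 e))
    have hu' : u ∉ center G := fun e => hu (center_le_centralizer _ e)
    have := H1.card_mul_card_le (A := centralizer {x}) (B := centralizer {u}) (L := ⊤) le_top le_top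
    rw [show centralizer {x} ⊓ centralizer {u} = center G from le_antisymm (fun v hv => by
      by_contra k
      refine hu (f1 hx k (fun a ha => mem_centralizer_singleton_iff.2 (H1.comm_of_mem (f5 x hx) ha hv.1)) ▸ ?_)
      exact mem_centralizer_singleton_iff.2 (mem_centralizer_singleton_iff.1 hv.2).symm)
      (le_inf (center_le_centralizer _) (center_le_centralizer _)), f6 x hx, f6 u hu', card_top, f7] at this
    have z0 : 0 < Nat.card (center G) := Nat.card_pos
    refine Nat.le_of_mul_le_mul_left (c := Nat.card (center G) * m * Nat.card (center G)) ?_ (by positivity)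
    linarith
  obtain ⟨z1, z2, hz, a1, a2⟩ := H1.exists_piNum_mul {p} (Nat.card_pos (α := center G)).ne'
  obtain ⟨m1, m2, hm', b1, b2⟩ := H1.exists_piNum_mul {p} m0
  obtain ⟨n1, n2, rfl, c1, c2⟩ := H1.exists_piNum_mul {p} n0.ne'
  have cop := ((a1.mul b1).mul c1).coprime ((a2.mul b2).mul c2)
  have k1 := count (G := G) cop hz (by rw [f7, hz, hm']; ring) fun u hu => ⟨by rw [f6 u hu, hz, hm']; ring, f5 u hu⟩
  have k2 := count (G := G) cop.symm (by rw [hz, mul_comm]) (by rw [f7, hz, hm']; ring)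
    fun u hu => ⟨by rw [f6 u hu, hz, hm']; ring, f5 u hu⟩
  rw [hm'] at f4 f8 m0
  have d1 : 2 ≤ m1 := hp.two_le.trans (Nat.le_of_dvd (Nat.pos_of_ne_zero (left_ne_zero_of_mul m0))
    (((Nat.Prime.dvd_mul hp).1 (f4 hp hx ox)).resolve_right fun e => b2 p hp e rfl))
  have d2 : 2 ≤ m2 := hq.two_le.trans (Nat.le_of_dvd (Nat.pos_of_ne_zero (right_ne_zero_of_mul m0))
    (((Nat.Prime.dvd_mul hq).1 (f4 hq hy oy)).resolve_left fun e => hpq (b1 q hq e).symm))
  have l1 := Int.le_of_dvd (by omega) k1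
  have l2 := Int.le_of_dvd (by omega) k2
  have l3 : n1 < m2 := by omega
  have l4 : n2 < m1 := by omega
  nlinarith [Nat.mul_lt_mul'' l3 l4]

/-- Let G be a finite group whose conjugacy classes have exactly two sizes, 1 and n > 1. Then n is a power of a prime p and G is the direct product of a p-group and an abelian group of order prime to p: its Sylow p-subgroup P is normal with an abelian normal complement centralizing it; moreover P has an abelian normal subgroup A with P/A of exponent dividing p. -/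
theorem result {G : Type*} [Group G] [Finite G] (n : ℕ) (hn : 1 < n)
    (h : ∀ x : G, (Subgroup.centralizer ({x} : Set G)).index = 1 ∨ (Subgroup.centralizer ({x} : Set G)).index = n) (hex : ∃ x : G, (Subgroup.centralizer ({x} : Set G)).index = n) :
    ∃ (p : ℕ) (_ : Fact p.Prime) (a : ℕ), n = p ^ a ∧ ∀ P : Sylow p G, (P : Subgroup G).Normal ∧
      (∃ N : Subgroup G, N.Normal ∧ N.IsComplement' (P : Subgroup G) ∧ IsMulCommutative N ∧
        ∀ x ∈ N, ∀ y ∈ (P : Subgroup G), x * y = y * x) ∧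
      ∃ A : Subgroup (P : Subgroup G), A.Normal ∧ IsMulCommutative A ∧ ∀ y : (P : Subgroup G), y ^ p ∈ A := by
  obtain ⟨x, hx⟩ := hex
  have e0 : ∀ x : G, x ∉ center G → (centralizer {x}).index = n := fun x hx =>
    (h x).resolve_left fun e => hx (H1.ci_eq_one_iff.1 e)
  obtain ⟨p, k, hp, y, -, oy, -, hy⟩ := H1.exists_primePow_notMem (K := center G) (g := x)
    fun e => hn.ne ((H1.ci_eq_one_iff.2 e).symm.trans hx)
  haveI := Fact.mk hp
  have h1 : Ores p ⊤ ≤ center G := Ores_le_iff'.2 fun u _ hu => by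
    by_contra k
    obtain ⟨q, j, hq, v, -, ov, dv, hv⟩ := H1.exists_primePow_notMem k
    exact cop_iff.1 hu (one_prime e0 hp hq hy hv ⟨_, oy⟩ ⟨_, ov⟩ ▸ dv)
  have h2 : NPC p (Ores p (⊤ : Subgroup G)) := npc_of_nilpotent (isNilpotent_of_le_centralizer
    (h1.trans (center_le_centralizer _)))
  rw [NPC, Ores_Ores] at h2
  haveI := normal_of_top_le (normalizer_Ores (p := p) (K := (⊤ : Subgroup G)) le_normalizer)
  have h3 : ∀ (P : Sylow p G) (u : G), (centralizer {u}).relIndex P = (centralizer {u}).index := fun P u => by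
    rw [← relIndex_top_right]
    exact ((H1.fac_of_normalizer (Or.inl le_normalizer_of_normal)).mono le_rfl
      (h1.trans (center_le_centralizer _)) le_sup_left (le_top.trans (by
        rw [sup_comm, (syl_top_of_sylow P).Ores_sup]))).relIndex_eq.trans (by
        rw [sup_comm, (syl_top_of_sylow P).Ores_sup])
  obtain ⟨P⟩ : Nonempty (Sylow p G) := inferInstance
  obtain ⟨b, hb⟩ := IsPGroup.iff_card.1 P.isPGroup'
  obtain ⟨a, -, ha⟩ := (Nat.dvd_prime_pow hp).1 (hb ▸ hx ▸ h3 P x ▸ relIndex_dvd_card _ _)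
  refine ⟨p, inferInstance, a, ha, fun P => ⟨normal_of_top_le ?_, ⟨Ores p ⊤, inferInstance, ?_,
    H1.isMulCommutative_of_le h1 inferInstance, fun u hu v _ => (mem_center_iff.1 (h1 hu) v).symm⟩,
    center P, inferInstance, inferInstance, Cfsg.Agent.S4365.aux P.isPGroup' (m := n) fun u => ?_⟩⟩
  · rw [← (syl_top_of_sylow P).Ores_sup]
    exact sup_le (h1.trans (center_le_normalizer _)) le_normalizer
  · refine isComplement'_of_disjoint_and_mul_eq_univ (disjoint_iff.2 ?_) ?_
    · rw [inf_comm, inf_eq_bot_of_p_p' P.isPGroup' h2]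
    · rw [← normal_mul, (syl_top_of_sylow P).Ores_sup, coe_top]
  · rw [H1.ci_subtype, h3]; exact h u

end Cfsg.Agent.S4134
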