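import Cfsg.Statements.S4142
import Cfsg.Agent.H1.Misc2

set_option autoImplicit false
open Cfsg

namespace Cfsg.Agent.S4142

open H1

/-- Let G be a finite group and N a normal subgroup. Then the conjugacy class of every element g outside N is a union of cosets of N (gn is conjugate to g for all n ∈ N) if and only if for every g outside N the centralizer of g in G has the same order as the centralizer of gN in G/N. -/
theorem result {G : Type*} [Group G] [Finite G] (N : Subgroup G) [N.Normal] :
    (∀ g : G, g ∉ N → ∀ n ∈ N, ∃ x : G, x * g * x⁻¹ = g * n) ↔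
      ∀ g : G, g ∉ N → Nat.card (Subgroup.centralizer ({g} : Set G)) =
        Nat.card (Subgroup.centralizer ({(QuotientGroup.mk g : G ⧸ N)} : Set (G ⧸ N))) := by
  refine forall₂_congr fun g _ => ?_
  have h1 := card_mul_relIndex (centralizer_le_comap (QuotientGroup.mk' N) g)
  rw [card_comap_mk', relIndex_centralizer_eq_card] at h1
  set S := {y : G | ∃ x ∈ (Subgroup.centralizer {QuotientGroup.mk' N g}).comap (QuotientGroup.mk' N),
      x * g * x⁻¹ = y} with hS
  have h2 : S ⊆ (fun n => g * n) '' (N : Set G) := by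
    rintro y ⟨x, hx, rfl⟩
    refine ⟨g⁻¹ * (x * g * x⁻¹), ?_, by simp⟩
    rw [Subgroup.mem_comap, Subgroup.mem_centralizer_singleton_iff] at hx
    refine (QuotientGroup.eq_one_iff _).1 ?_
    change QuotientGroup.mk' N (g⁻¹ * (x * g * x⁻¹)) = 1
    simp only [map_mul, map_inv, hx]; group
  have h3 : ((fun n => g * n) '' (N : Set G)).ncard = Nat.card N :=
    Set.ncard_image_of_injective _ (mul_right_injective g)
  constructor
  · intro h
    have h4 : S = (fun n => g * n) '' (N : Set G) := by
      refine h2.antisymm ?_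
      rintro _ ⟨n, hn, rfl⟩
      obtain ⟨x, hx⟩ := h n hn
      refine ⟨x, ?_, hx⟩
      rw [Subgroup.mem_comap, Subgroup.mem_centralizer_singleton_iff, ← mul_inv_eq_iff_eq_mul, ← map_inv,
        ← map_mul, ← map_mul, hx, map_mul]
      have : QuotientGroup.mk' N n = 1 := (QuotientGroup.eq_one_iff n).2 hn
      rw [this, mul_one]
    rw [h4, Nat.card_coe_set_eq, h3, mul_comm] at h1
    exact Nat.eq_of_mul_eq_mul_left Nat.card_pos h1
  · intro h n hn
    rw [h, mul_comm] at h1
    have h4 : S.ncard = Nat.card N := Nat.eq_of_mul_eq_mul_right Nat.card_pos h1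
    have h5 := Set.eq_of_subset_of_ncard_le h2 (by rw [h3, h4])
    have : g * n ∈ S := h5 ▸ ⟨n, hn, rfl⟩
    obtain ⟨x, -, hx⟩ := this
    exact ⟨x, hx⟩

end Cfsg.Agent.S4142
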