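import Cfsg.Statements.S4140
import Cfsg.Agent.CZ.C
import Cfsg.Agent.S4112
import Cfsg.Agent.S4142
import Cfsg.Agent.H1.FC
import Cfsg.Agent.H1.Thompson

set_option autoImplicit false
open Cfsg

namespace Cfsg.Agent.S4140

open Subgroup H9
open scoped commutatorElement

theorem nil {G : Type*} [Group G] [Finite G] {N : Subgroup G} [N.Normal] (hN : Group.IsNilpotent N) {p r : ℕ}
    [hp : Fact p.Prime] [Fact r.Prime] (hpr : r ≠ p) (h1 : p ∣ Nat.card N) (h2 : p ∣ N.index) (h3 : r ∣ Nat.card N)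
    (ho : ∀ x ∉ N, ∀ n ∈ N, orderOf (x * n) = orderOf x)
    (hc : ∀ x ∉ N, Nat.card (centralizer {x}) ∣ N.index) : False := by
  obtain ⟨P⟩ : Nonempty (Sylow p G) := inferInstance
  have hP := syl_top_of_sylow P
  have sA := syl_Op_of_nilpotent (p := p) hN
  haveI : (Op p N).Normal := normal_of_top_le (normalizer_Op le_normalizer_of_normal)
  haveI : (Op r N).Normal := normal_of_top_le (normalizer_Op le_normalizer_of_normal)
  have a1 : Op p N ≤ P := hP.le_of_le_normalizer sA.isP le_top (Or.inr le_normalizer_of_normal)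
  have a2 : (P : Subgroup G) ⊓ N = Op p N := sA.maximal (hP.isP.to_le inf_le_left) inf_le_right (le_inf a1 sA.le)
  have d := inf_eq_bot_of_p_p' sA.isP (cop_of_isPGroup_ne hpr (Op_p r N))
  have pq : H1.PQ ((P : Subgroup G).map (QuotientGroup.mk' (Op p N))) := by
    refine H1.pq_of_fpf (K := (Op r N).map (QuotientGroup.mk' (Op p N))) (fun e => ?_)
      (map_le_normalizer_map _ le_normalizer_of_normal) (H1.fpf_iff.2 ?_)
    · rw [Subgroup.map_eq_bot_iff, QuotientGroup.ker_mk', ← inf_eq_right, d] at e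
      exact cop_iff.1 ((syl_Op_of_nilpotent hN).eq_bot_iff.1 e.symm) h3
    rintro _ ⟨u, hu, rfl⟩ _ ⟨v, hv, rfl⟩ e
    rw [← map_mul, ← map_mul, ← mul_inv_eq_one, ← map_inv, ← map_mul, QuotientGroup.mk'_apply,
      QuotientGroup.eq_one_iff] at e
    have c : Commute u v := mul_inv_eq_one.1 (mem_bot.1 (d.le ⟨e, by
      simpa [mul_assoc] using mul_mem (‹(Op r N).Normal›.conj_mem v hv u) (inv_mem hv)⟩))
    by_cases k : u ∈ N
    · exact Or.inl ((QuotientGroup.eq_one_iff u).2 (a2.le ⟨hu, k⟩))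
    obtain ⟨i, hi⟩ := H1.exists_orderOf_eq_pow hP.isP hu
    have := pow_orderOf_eq_one (u * v)
    rw [ho u k v (Op_le r N hv), c.mul_pow, pow_orderOf_eq_one, one_mul, hi] at this
    rw [H2.eq_one_of_pow_of_coprime this ((cop_of_isPGroup_ne hpr (Op_p r N)).coprime_dvd_left
      (orderOf_dvd_card_of_mem hv)), map_one]
    exact Or.inr rfl
  have i1 : (Op p N).relIndex P * (N ⊔ P).index = N.index := by
    rw [← a2, inf_relIndex_left, ← relIndex_sup_left, relIndex_mul_index le_sup_left]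
  have i2 : ¬ p ∣ (N ⊔ P).index := H1.not_dvd_index_of_sylow_le P le_sup_right
  obtain ⟨x, x1, x2, x3, -⟩ := L.exists_central_mod_pow hP.isP (lt_of_le_not_ge a1 fun e => by
    rw [relIndex_eq_one.2 e, one_mul] at i1; exact i2 (i1 ▸ h2)) le_rfl le_normalizer_of_normal le_normalizer
  obtain ⟨a, ha⟩ := L.exists_card_eq_pow sA.isP
  obtain ⟨a, rfl⟩ := Nat.exists_eq_succ_of_ne_zero (n := a) fun e =>
    cop_iff.1 (sA.eq_bot_iff.1 (card_eq_one.1 (by simpa [e] using ha))) h1
  obtain ⟨Z, z1, z2, z3⟩ := L.exists_normal_card' hP.isP a1 le_normalizer_of_normal a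
    (ha ▸ Nat.pow_le_pow_right hp.out.pos a.le_succ)
  have z4 := L.commutator_le_of_relIndex_prime hP.isP z1 a1 z2 le_normalizer_of_normal (by
    have := H1.card_mul_relIndex z1
    rw [z3, ha, pow_succ] at this
    rw [Nat.eq_of_mul_eq_mul_left (pow_pos hp.out.pos a) this]; exact hp.out)
  have z5 : ∀ y ∈ (P : Subgroup G), ⁅x, y⁆ ∈ Z := fun y hy => by
    by_cases k : y ∈ Op p N
    · simpa using inv_mem (z4 (commutator_mem_commutator k x1))
    obtain ⟨i, hi⟩ := hP.isP ⟨y, hy⟩
    obtain ⟨j, j1, j2⟩ := H1.exists_pow_notMem_pow_mem (p := p) (k := i) k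
      (by rw [show y ^ p ^ i = 1 from congrArg Subtype.val hi]; exact one_mem _)
    have o : ∀ {u : G}, u ∉ Op p N → u ^ p ∈ Op p N → orderOf (QuotientGroup.mk' (Op p N) u) = p := fun a b =>
      orderOf_eq_prime ((QuotientGroup.eq_one_iff _).2 b) fun e => a ((QuotientGroup.eq_one_iff _).1 e)
    obtain ⟨l, hl⟩ := pq.mem_zpowers_of_pgroup (hP.isP.map _) le_rfl (mem_map_of_mem _ (pow_mem hy _))
      (mem_map_of_mem _ x1) (o j1 j2) (o x2 x3)
    have := QuotientGroup.eq.1 (show (((y ^ p ^ j) ^ l : G) : G ⧸ Op p N) = x from hl)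
    rw [show ⁅x, y⁆ = (y ^ p ^ j) ^ l * ⁅((y ^ p ^ j) ^ l)⁻¹ * x, y⁆ * ((y ^ p ^ j) ^ l)⁻¹ by group]
    exact conj_mem_of_le_normalizer z2 (zpow_mem (pow_mem hy _) _) (z4 (commutator_mem_commutator this hy))
  have c1 := L.relIndex_centralizer_le z5
  have c2 := H1.card_inf_mul_relIndex (centralizer {x}) (P : Subgroup G)
  obtain ⟨c, c3⟩ := L.exists_card_eq_pow (hP.isP.to_le (inf_le_right (a := centralizer {x})))
  have c4 := (card_dvd_of_le (inf_le_left (b := (P : Subgroup G)))).trans (hc x fun e => x2 (a2.le ⟨x1, e⟩))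
  rw [← i1, c3] at c4
  have c5 := Nat.le_of_dvd (L.relIndex_pos _ _) (((cop_iff.2 i2).symm.pow_left c).dvd_of_dvd_mul_right c4)
  rw [← H1.card_mul_relIndex a1, ha, c3, pow_succ] at c2
  rw [z3] at c1
  have := Nat.mul_le_mul c5 c1
  rw [c2, mul_comm] at this
  have := Nat.le_of_mul_le_mul_left this (L.relIndex_pos _ _)
  nlinarith [hp.out.two_le, pow_pos hp.out.pos a]

/-- Let G be a finite group and N a proper non-trivial normal subgroup such that for every g outside N the conjugacy class of g is a union of cosets of N (equivalently gn is conjugate to g for every n ∈ N). Then either every element of G outside N acts fixed-point-freely on N (C_G(x) ≤ N for all x ∈ N, x ≠ 1, so G is a Frobenius group with kernel N), or N has prime-power order, or G/N has prime-power order. -/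
theorem result {G : Type*} [Group G] [Finite G] (N : Subgroup G) [N.Normal] (hN1 : N ≠ ⊥) (hN2 : N ≠ ⊤)
    (hcam : ∀ g : G, g ∉ N → ∀ n ∈ N, ∃ x : G, x * g * x⁻¹ = g * n) :
    (∀ x ∈ N, x ≠ 1 → Subgroup.centralizer ({x} : Set G) ≤ N) ∨ IsPrimePow (Nat.card N) ∨ IsPrimePow N.index := by
  have ho : ∀ x ∉ N, ∀ n ∈ N, orderOf (x * n) = orderOf x := fun x hx n hn => by
    obtain ⟨g, hg⟩ := hcam x hx n hn
    rw [← hg, H1.orderOf_conj]
  have hc : ∀ x ∉ N, Nat.card (centralizer {x}) ∣ N.index := fun x hx =>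
    (Cfsg.Agent.S4142.result N).1 hcam x hx ▸ card_subgroup_dvd_card _
  by_contra! h
  obtain ⟨p, hp, h1, h2⟩ := Nat.Prime.not_coprime_iff_dvd.1 fun e => by
    obtain ⟨x, k1, k2, k3⟩ := h.1
    exact k3 ((Cfsg.Agent.S4112.result N N le_rfl hN1 hN2 hcam).1.2 e x k1 k2)
  have ex : ∀ {n : ℕ}, p ∣ n → ¬ IsPrimePow n → ∃ q, q.Prime ∧ q ∣ n ∧ q ≠ p := fun a b => by
    by_contra! k
    exact b (isPrimePow_iff_unique_prime_dvd.2 ⟨p, ⟨hp, a⟩, fun q e => k q e.1 e.2⟩)
  obtain ⟨q, hq, q1, q2⟩ := ex h1 h.2.2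
  obtain ⟨r, hr, r1, r2⟩ := ex h2 h.2.1
  haveI := Fact.mk hp
  haveI := Fact.mk hq
  haveI := Fact.mk hr
  by_cases q3 : q ∣ Nat.card N
  · obtain ⟨H, k1, -, k3⟩ := H1.exists_supplement_top N
    have ei : (N.subgroupOf H).index = N.index := by
      rw [← relIndex, ← relIndex_sup_right, k1, relIndex_top_right]
    have dv : ∀ (s : ℕ) [Fact s.Prime], s ∣ Nat.card N → s ∣ N.index → s ∣ Nat.card (N.subgroupOf H) := fun s hs a b => by
      by_contra k
      rw [H1.card_subgroupOf'] at k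
      obtain ⟨S, hS⟩ := exists_syl (p := s) H
      obtain ⟨T, hT⟩ := hS.isP.exists_le_sylow
      have d : S ⊓ N = ⊥ := eq_bot_of_p_p' (hS.isP.to_le inf_le_left)
        (cop_of_le (cop_iff.2 k) (le_inf inf_le_right (inf_le_left.trans hS.le)))
      have s0 : S ≠ ⊥ := fun e => cop_iff.1 (hS.eq_bot_iff.1 e) ((ei ▸ b).trans (index_dvd_card _))
      obtain ⟨x, x1, x2⟩ := H1.exists_mem_ne_one (inf_centralizer_ne_bot_of_p hS.isP hS.isP le_normalizer s0)
      have t0 : (T : Subgroup G) ⊓ N ≠ ⊥ := fun e => cop_iff.1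
        (((syl_top_of_sylow T).inf_normal le_top le_normalizer_of_normal).eq_bot_iff.1 e) a
      have t1 := inf_centralizer_ne_bot_of_p (T.isPGroup'.to_le inf_le_left) T.isPGroup'
        (normalizer_inf le_normalizer le_normalizer_of_normal) t0
      set Z := (T : Subgroup G) ⊓ N ⊓ centralizer ((T : Subgroup G) : Set G)
      have t2 : S ≤ centralizer (Z : Set G) := le_centralizer_iff.1 (inf_le_right.trans (centralizer_le hT))
      have t3 := (card_dvd_of_le (show S ⊔ Z ≤ centralizer {x} from sup_le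
        (fun u hu => mem_centralizer_singleton_iff.2 (x1.2 u hu))
        fun u hu => mem_centralizer_singleton_iff.2 (t2 x1.1 u hu))).trans (hc x fun e => x2 (mem_bot.1 (d.le ⟨x1.1, e⟩)))
      rw [H1.card_sup_of_disjoint (t2.trans (centralizer_le_normalizer _))
        (eq_bot_iff.2 ((inf_le_inf_left S (inf_le_left.trans inf_le_right)).trans d.le))] at t3
      have t4 := t3.trans (ei ▸ index_dvd_card (N.subgroupOf H))
      rw [← H1.card_mul_relIndex hS.le] at t4
      exact hS.not_dvd ((dvd_card_of_isPGroup (T.isPGroup'.to_le (inf_le_left.trans inf_le_left)) t1).trans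
        (Nat.dvd_of_mul_dvd_mul_left Nat.card_pos t4))
    refine nil (N := N.subgroupOf H) (isNilpotent_of_le H1.fitting_isNilpotent ((H1.le_frattini_iff.2 fun M hM => ?_).trans
      H1.frattini_le_fitting)) q2 (dv p h2 h1) (ei ▸ h1) (dv q q3 q1) (fun x hx n hn => ?_) fun x hx => ?_
    · by_contra k
      have := congrArg (map H.subtype) (H1.sup_eq_top_of_coatom hM k)
      rw [Subgroup.map_sup, subgroupOf_map_subtype, map_top_subtype] at this
      refine hM.1 (map_injective H.subtype_injective ((k3 _ (map_subtype_le M) (eq_top_iff.2 ?_)).trans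
        (map_top_subtype H).symm))
      rw [← k1]
      exact sup_le (this.ge.trans (sup_le_sup_left inf_le_left _)) le_sup_right
    · rw [← orderOf_coe, ← orderOf_coe]; exact ho x hx n hn
    · rw [ei, H1.card_inf_centralizer_subtype]; exact (card_dvd_of_le inf_le_right).trans (hc x hx)
  obtain ⟨y, hy⟩ := exists_prime_orderOf_dvd_card' (G := G) q (q1.trans N.index_dvd_card)
  have y1 : y ∉ N := fun e => q3 (hy ▸ orderOf_dvd_card_of_mem e)
  refine nil (H1.isNilpotent_of_fpf (A := zpowers y) le_normalizer_of_normal (H1.fpf_of_prime_card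
    (by rwa [Nat.card_zpowers, hy]) (eq_bot_iff.2 fun n hn => ?_)) (by
      rw [Ne, zpowers_eq_bot]; exact H1.ne_one_of_orderOf_prime hq hy)) r2 h2 h1 r1 ho hc
  have := pow_orderOf_eq_one (y * n)
  rw [ho y y1 n hn.1, Commute.mul_pow (hn.2 y (mem_zpowers y)), pow_orderOf_eq_one, one_mul, hy] at this
  by_contra k
  exact q3 (orderOf_eq_prime this k ▸ orderOf_dvd_card_of_mem hn.1)

end Cfsg.Agent.S4140
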