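import Cfsg.Statements.S4193
import Cfsg.Agent.H1.Invol
import Cfsg.Agent.H1.Tr
import Cfsg.Agent.H1.MaxNil
import Cfsg.Agent.H2.Residual
import Cfsg.Agent.FT.Final
import Cfsg.Agent.S3861

set_option autoImplicit false
open Cfsg

namespace Cfsg.Agent.S4193

open Subgroup H1

/-- Let G be a finite group in which the conjugacy classes of all non-central real elements (elements conjugate to their inverses) have sizes with the same 2-part, and suppose G has a Sylow 2-subgroup S such that every element of S that is conjugate in S to its inverse lies in the centre of S. Then G is solvable and the subgroup generated by the 2-elements of G (the smallest normal subgroup of odd index) has a normal 2-complement. -/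
theorem result {G : Type*} [Group G] [Finite G] (a : ℕ) (h : ∀ x : G, IsConj x x⁻¹ → x ∉ Subgroup.center G → ((Subgroup.centralizer ({x} : Set G)).index).factorization 2 = a) (S : Sylow 2 G) (hS : ∀ s : ↥(S : Subgroup G), IsConj s s⁻¹ → s ∈ Subgroup.center ↥(S : Subgroup G)) : Group.IsSolvable G ∧ Cfsg.HasNormalPComplement 2 ↥(Subgroup.closure {g : G | ∃ k : ℕ, orderOf g = 2 ^ k}) := by
  have hS' : ∀ u ∈ (S : Subgroup G), ∀ y ∈ (S : Subgroup G), y * u * y⁻¹ = u⁻¹ →
      ∀ s ∈ (S : Subgroup G), s * u = u * s := fun u hu y hy e s hs =>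
    congrArg Subtype.val (mem_center_iff.1 (hS ⟨u, hu⟩ (isConj_iff.2 ⟨⟨y, hy⟩, Subtype.ext e⟩)) ⟨s, hs⟩)
  by_cases h1 : ∀ t : G, t * t = 1 → t ∈ center G
  · have npc : HasNormalPComplement 2 G := by
      by_contra hn
      obtain ⟨Q, hQ, q, k, hq, hq2, -, c, hc, oc, hcc⟩ := exists_of_not_hasNPC S hn
      have odd : Odd (orderOf c) := by rw [oc]; exact (hq.odd_of_ne_two hq2).pow
      have key : ∀ n : ℕ, ∀ y ∈ Q, y ^ 2 ^ n = 1 → y * c = c * y := by
        intro n
        induction n with
        | zero => intro y _ e; simp at e; simp [e]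
        | succ n ih =>
          intro y hy e
          have e2 : y * y * c = c * (y * y) :=
            ih (y * y) (Q.mul_mem hy hy) (by rw [← pow_two, ← pow_mul, ← pow_succ', e])
          have hy' : c * y * c⁻¹ ∈ Q := (mem_normalizer_iff.1 hc y).1 hy
          have e3 : c * y * y * c⁻¹ = y * y := by
            rw [mul_assoc c, ← e2, mul_inv_cancel_right]
          have hu : y⁻¹ * (c * y * c⁻¹) ∈ Q := Q.mul_mem (Q.inv_mem hy) hy'
          have e4 : y * (y⁻¹ * (c * y * c⁻¹)) * y⁻¹ = (y⁻¹ * (c * y * c⁻¹))⁻¹ := by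
            calc y * (y⁻¹ * (c * y * c⁻¹)) * y⁻¹ = c * y⁻¹ * c⁻¹ * (c * y * y * c⁻¹) * y⁻¹ := by group
              _ = _ := by rw [e3]; group
          have e5 := hS' _ (hQ hu) y (hQ hy) e4 y (hQ hy)
          have e6 : y⁻¹ * (c * y * c⁻¹) * (y⁻¹ * (c * y * c⁻¹)) = 1 := by
            rw [e5, mul_inv_cancel_right] at e4
            nth_rewrite 2 [e4]
            exact mul_inv_cancel _
          have e7 := mem_center_iff.1 (h1 _ e6) c
          have e8 : Commute (c * c) y := by
            have : c * (c * y * c⁻¹) * c⁻¹ = y := by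
              calc c * (c * y * c⁻¹) * c⁻¹ = c * y * c⁻¹ * (c * (y⁻¹ * (c * y * c⁻¹))) * c⁻¹ := by group
                _ = y * (y⁻¹ * (c * y * c⁻¹) * (y⁻¹ * (c * y * c⁻¹))) := by rw [e7]; group
                _ = y := by rw [e6, mul_one]
            calc c * c * y = c * (c * y * c⁻¹) * c⁻¹ * (c * c) := by group
              _ = y * (c * c) := by rw [this]
          obtain ⟨m, hm⟩ := odd
          have e9 : c = (c * c) ^ (m + 1) := by
            rw [← pow_two, ← pow_mul, show 2 * (m + 1) = (2 * m + 1) + 1 by ring, ← hm, pow_succ,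
              pow_orderOf_eq_one, one_mul]
          rw [e9]
          exact (e8.pow_left _).eq.symm
      refine hcc fun y hy => ?_
      obtain ⟨n, hn⟩ := S.isPGroup' ⟨y, hQ hy⟩
      exact key n y hy (congrArg Subtype.val hn)
    refine ⟨?_, hasNPC_subgroup npc _⟩
    obtain ⟨k, hk⟩ := hasNPC_iff_index.1 npc
    haveI := FT.feit_thompson (pPrimeCore 2 G) (Nat.coprime_two_right.1 pPrimeCore_coprime)
    haveI : Group.IsNilpotent (G ⧸ pPrimeCore 2 G) := (IsPGroup.of_card (p := 2) hk).isNilpotent
    exact solvable_of_ker_le_range (pPrimeCore 2 G).subtype (QuotientGroup.mk' (pPrimeCore 2 G)) (by simp)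
  · push Not at h1
    obtain ⟨t, t2, ht⟩ := h1
    have hp : IsPGroup 2 (zpowers t) := fun ⟨_, n, rfl⟩ => ⟨1, Subtype.ext (by
      show (t ^ n) ^ 2 ^ 1 = 1
      rw [pow_one, ← zpow_natCast, ← zpow_mul, mul_comm, zpow_mul, zpow_natCast, pow_two, t2, one_zpow])⟩
    obtain ⟨T, hT⟩ := hp.exists_le_sylow
    obtain ⟨g, rfl⟩ := MulAction.exists_smul_eq G S T
    have m : g⁻¹ * t * g ∈ (S : Subgroup G) := by
      have := hT (mem_zpowers t)
      rw [Sylow.coe_subgroup_smul, mem_pointwise_smul_iff_inv_smul_mem] at this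
      simpa using this
    have s2 : g⁻¹ * t * g * (g⁻¹ * t * g) = 1 := by
      calc _ = g⁻¹ * (t * t) * g := by group
        _ = 1 := by rw [t2]; group
    have si := inv_eq_of_mul_eq_one_right s2
    have ha : a = 0 := by
      rw [← h (g⁻¹ * t * g) (by rw [si]) fun k => ht (by
        simpa [mul_assoc] using (inferInstance : (center G).Normal).conj_mem _ k g)]
      refine Nat.factorization_eq_zero_of_not_dvd fun k => S.not_dvd_index (k.trans
        (index_dvd_of_le fun s hs => mem_centralizer_singleton_iff.2 ?_))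
      exact hS' _ m 1 (Subgroup.one_mem _) (by rw [si]; group) s hs
    haveI : (S : Subgroup G).Normal := (Cfsg.Agent.S3861.result S).1 fun x x1 xo hx => by
      have ne : x ≠ x⁻¹ := fun e => x1 (by
        have : orderOf x ∣ 2 := orderOf_dvd_of_pow_eq_one (by
          rw [pow_two]; nth_rewrite 2 [e]; exact mul_inv_cancel x)
        exact orderOf_eq_one_iff.1 (Nat.eq_one_of_dvd_coprimes (Nat.coprime_two_right.2 xo) dvd_rfl this))
      have nc : x ∉ center G := fun k => ne (by
        obtain ⟨c, hc⟩ := isConj_iff.1 hx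
        rw [← hc, mem_center_iff.1 k c, mul_inv_cancel_right])
      have e := h x hx nc
      rw [ha, Nat.factorization_eq_zero_iff] at e
      rcases e with e | e | e
      · exact e Nat.prime_two
      · exact e (by
          rw [← relIndex_extC hx ne]
          exact relIndex_dvd_index_of_le (centralizer_le_extC x))
      · exact index_ne_zero_of_finite e
    haveI : Group.IsNilpotent S := S.isPGroup'.isNilpotent
    haveI : Group.IsSolvable (G ⧸ (S : Subgroup G)) := FT.feit_thompson _
      (Nat.odd_iff.2 (Nat.two_dvd_ne_zero.1 S.not_dvd_index))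
    refine ⟨solvable_of_ker_le_range (S : Subgroup G).subtype (QuotientGroup.mk' S) (by simp),
      H2.hasNPC_of_isPGroup (S.isPGroup'.to_le ((closure_le _).2 ?_))⟩
    rintro y ⟨k, hk⟩
    have : IsPGroup 2 (zpowers y) := IsPGroup.of_card (by rw [Nat.card_zpowers, hk])
    exact (H1.isSylowIn_top S).le_of_le_normalizer this le_top le_normalizer_of_normal (mem_zpowers y)

end Cfsg.Agent.S4193
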