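import Cfsg.Statements.S4196
import Cfsg.Agent.H1.Misc2
import Cfsg.Agent.S3863

set_option autoImplicit false
open Cfsg

namespace Cfsg.Agent.S4196

open scoped Pointwise

open H1

/-- A finite group G has elementary abelian Sylow 2-subgroups (commutative with every element squaring to the identity) if and only if every 2-element of G has a Sylow 2-subgroup in its centralizer and is conjugate to its inverse. -/
theorem result {G : Type*} [Group G] [Finite G] (P : Sylow 2 G) :
    (IsMulCommutative (P : Subgroup G) ∧ ∀ x ∈ (P : Subgroup G), x ^ 2 = 1) ↔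
      ∀ x : G, (∃ k : ℕ, orderOf x = 2 ^ k) → (∃ Q : Sylow 2 G, (Q : Subgroup G) ≤ Subgroup.centralizer ({x} : Set G)) ∧ IsConj x x⁻¹ := by
  constructor
  · rintro ⟨h1, h2⟩ x hx
    obtain ⟨g, hg⟩ := exists_conj_mem_sylow P hx
    refine ⟨⟨g⁻¹ • P, fun y hy => ?_⟩, ?_⟩
    · rw [sylow_coe_smul, mem_conj_smul, inv_inv] at hy
      have := comm_of_mem h1 hy hg
      rw [Subgroup.mem_centralizer_singleton_iff]
      simpa using this
    · have := h2 _ hg
      rw [conj_pow, conj_eq_one_iff, sq] at this
      rw [inv_eq_of_mul_eq_one_right this]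
  · intro h
    have h2 : ∀ x ∈ (P : Subgroup G), x ^ 2 = 1 := by
      intro x hx
      obtain ⟨⟨Q, hQ⟩, h3⟩ := h x (exists_orderOf_eq_pow P.isPGroup' hx)
      refine (Cfsg.Agent.S3863.result x h3).2.1 ?_
      rw [← Nat.not_even_iff_odd, even_iff_two_dvd]
      exact fun h => Q.not_dvd_index (h.trans (Subgroup.index_dvd_of_le hQ))
    refine ⟨isMulCommutative_of_comm fun x hx y hy => ?_, h2⟩
    have a := h2 x hx
    have b := h2 y hy
    have c := h2 _ (Subgroup.mul_mem _ hx hy)
    rw [sq] at a b c
    rw [← inv_eq_of_mul_eq_one_right c, mul_inv_rev, inv_eq_of_mul_eq_one_right a, inv_eq_of_mul_eq_one_right b]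

end Cfsg.Agent.S4196
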