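import Cfsg.Statements.S4236
import Cfsg.Agent.H3.Ord4
import Cfsg.Agent.H1.SylN

set_option autoImplicit false
open Cfsg

namespace Cfsg.Agent.S4236

open H3 H4 Subgroup

/-- No finite group has exactly 35 Sylow 17-subgroups. -/
theorem result {G : Type*} [Group G] [Finite G] : Nat.card (Sylow 17 G) ≠ 35 := by
  haveI : Fact (Nat.Prime 17) := ⟨by norm_num⟩
  intro h
  obtain ⟨l, a, b⟩ := H1.sylow_list (p := 17) G
  obtain ⟨m, c, d⟩ : ∃ m ∈ l, m ≠ 1 := by
    by_contra! n
    rw [List.prod_eq_one n, h] at a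
    omega
  have e : m ∣ 35 := h ▸ a ▸ List.dvd_prod c
  have k : m % 17 = 1 → m = 35 := fun k => by
    have := Nat.le_of_dvd (by norm_num) e
    interval_cases m <;> omega
  obtain ⟨f, g⟩ | ⟨S, _, _, _, f, -⟩ := b m c
  · rw [k g] at f
    exact absurd ((Nat.Coprime.isPrimePow_dvd_mul (a := 5) (b := 7) (by norm_num) f).1 dvd_rfl) (by norm_num)
  replace f := (k (f ▸ card_sylow_mod S)).symm.trans f
  obtain ⟨P⟩ : Nonempty (Sylow 17 S) := inferInstance
  have n := H1.card_sylow_mul P
  rw [← f] at n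
  have hS : ¬ IsMulCommutative S := fun c => absurd (n ▸ H1.prime_card_of_comm c.1.1) (Nat.not_prime_of_dvd_of_lt (m := 5)
    (Dvd.dvd.mul_right (by norm_num) _) (by norm_num) (by have : 0 < Nat.card (normalizer ((P : Subgroup S) : Set S)) := Nat.card_pos; omega))
  have hP := Cfsg.Agent.S4343.result hS 17 (by_contra fun c => by
    have : (P : Subgroup S) = ⊥ := card_eq_one.1 (card_sylow_of P rfl (k := 0) (by simp) (by simpa using c))
    rw [this, normalizer_eq_top, card_top] at n
    have : 0 < Nat.card S := Nat.card_pos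
    omega) (by omega) P
  obtain ⟨-, -, c⟩ := brauer_reynolds (ord_perfect hS) P hP fun ⟨a, b, h1, h2, h3, h4⟩ => by
    rw [← f] at h1
    have : a ≤ 32 := by nlinarith
    interval_cases a <;> omega
  have : pPrimeCore 17 S = ⊥ := (Subgroup.Normal.eq_bot_or_eq_top inferInstance).resolve_right fun e => by
    have := H9.pPrimeCore_cop (G := S) 17
    rw [e, card_top] at this
    exact absurd (this.symm.eq_one_of_dvd (hP ▸ card_subgroup_dvd_card (P : Subgroup S))) (by norm_num)
  have E := (QuotientGroup.quotientBot.symm.trans (QuotientGroup.quotientMulEquivOfEq this.symm) : S ≃* _)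
  rcases c with ⟨⟨f⟩⟩ | ⟨m, F, _, _, c, d, ⟨f⟩⟩
  · have := ord_card_psl ⟨E.trans f⟩
    rw [ZMod.card] at this
    norm_num at this
    omega
  · have := (Nat.card_congr (E.trans f).toEquiv).trans H5.card_SL2
    rw [show Fintype.card F = 16 by omega] at this
    omega

end Cfsg.Agent.S4236
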