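import Cfsg.Statements.S4237
import Cfsg.Agent.H9.Kul2

set_option autoImplicit false
open Cfsg

namespace Cfsg.Agent.S4237

/-- Let G be a finite group, p a prime and a a natural number such that p^(a+1) divides the order of G. Then the number of subgroups of G of order p^a is congruent to 1 or to 1 + p modulo p². -/
theorem result {G : Type*} [Group G] [Finite G] (p a : ℕ) (hp : p.Prime) (hdvd : p ^ (a + 1) ∣ Nat.card G) :
    Nat.card {H : Subgroup G // Nat.card H = p ^ a} ≡ 1 [MOD p ^ 2] ∨
      Nat.card {H : Subgroup G // Nat.card H = p ^ a} ≡ 1 + p [MOD p ^ 2] := by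
  open H9 Subgroup in open scoped commutatorElement in
  haveI := Fact.mk hp
  by_cases h2 : p = 2
  · subst h2
    have := Cfsg.Agent.S3975.result (G := G) 2 a hp ((pow_dvd_pow 2 a.le_succ).trans hdvd)
    unfold Nat.ModEq at this ⊢
    omega
  rcases Nat.eq_zero_or_pos a with rfl | ha
  · left
    haveI : Unique {H : Subgroup G // Nat.card H = p ^ 0} :=
      ⟨⟨⟨⊥, by simp⟩⟩, fun H => Subtype.ext (Subgroup.card_eq_one.mp (H.2.trans (pow_zero p)))⟩
    rw [Nat.card_unique]
  obtain ⟨P⟩ : Nonempty (Sylow p G) := inferInstance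
  have hP := P.card_eq_multiplicity
  have hle := (hp.pow_dvd_iff_le_factorization Nat.card_pos.ne').mp hdvd
  obtain ⟨n, hn⟩ : ∃ n, (Nat.card G).factorization p = n + 1 := ⟨(Nat.card G).factorization p - 1, by omega⟩
  rw [hn] at hP hle
  have h1 := H9.Kul.red P (a := a) hP (by omega)
  rw [← H9.Kul.sb_top, ← ZMod.natCast_eq_natCast_iff, ← ZMod.natCast_eq_natCast_iff, h1]
  by_cases hc : IsCyclic (P : Subgroup G)
  · left
    rw [H9.Kul.sb_cyc hc (by rw [hP]; exact pow_dvd_pow p (by omega))]
  · right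
    rw [H9.Kul.sb_card, ← H9.Kul.sb_top, H9.Kul.kul h2 (n + 1) _ hP hc a ha (by omega)]
    simp

end Cfsg.Agent.S4237
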