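import Cfsg.Statements.S4257
import Cfsg.Agent.CZ.G

set_option autoImplicit false
open Cfsg

namespace Cfsg.Agent.S4257

open Subgroup H9 CZ

/-- Let G be a finite group. Call a prime a vertex if it divides some conjugacy class size of G, and two distinct vertices adjacent if their product divides some class size. If this graph is connected, then its diameter is at most 3: any two distinct vertices p and q are adjacent, or joined through one or two intermediate vertices. -/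
theorem result {G : Type*} [Group G] [Finite G]
    (hconn : ∀ S : Set ℕ, (∃ p ∈ S, (p.Prime ∧ ∃ g : G, p ∣ (Subgroup.centralizer ({g} : Set G)).index)) → (∃ q ∉ S, (q.Prime ∧ ∃ g : G, q ∣ (Subgroup.centralizer ({g} : Set G)).index)) →
      ∃ p q : ℕ, (p.Prime ∧ ∃ g : G, p ∣ (Subgroup.centralizer ({g} : Set G)).index) ∧ (q.Prime ∧ ∃ g : G, q ∣ (Subgroup.centralizer ({g} : Set G)).index) ∧ p ∈ S ∧ q ∉ S ∧ (∃ g : G, p * q ∣ (Subgroup.centralizer ({g} : Set G)).index))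
    (p q : ℕ) (hp : (p.Prime ∧ ∃ g : G, p ∣ (Subgroup.centralizer ({g} : Set G)).index)) (hq : (q.Prime ∧ ∃ g : G, q ∣ (Subgroup.centralizer ({g} : Set G)).index)) (hpq : p ≠ q) :
    (∃ g : G, p * q ∣ (Subgroup.centralizer ({g} : Set G)).index) ∨ (∃ r : ℕ, (r.Prime ∧ ∃ g : G, r ∣ (Subgroup.centralizer ({g} : Set G)).index) ∧ r ≠ p ∧ r ≠ q ∧ (∃ g : G, p * r ∣ (Subgroup.centralizer ({g} : Set G)).index) ∧ (∃ g : G, r * q ∣ (Subgroup.centralizer ({g} : Set G)).index)) ∨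
      (∃ r s : ℕ, (r.Prime ∧ ∃ g : G, r ∣ (Subgroup.centralizer ({g} : Set G)).index) ∧ (s.Prime ∧ ∃ g : G, s ∣ (Subgroup.centralizer ({g} : Set G)).index) ∧ r ≠ p ∧ s ≠ q ∧ r ≠ s ∧ r ≠ q ∧ s ≠ p ∧
        (∃ g : G, p * r ∣ (Subgroup.centralizer ({g} : Set G)).index) ∧ (∃ g : G, r * s ∣ (Subgroup.centralizer ({g} : Set G)).index) ∧ (∃ g : G, s * q ∣ (Subgroup.centralizer ({g} : Set G)).index)) := by
  let W := fun a b : ℕ => ∃ g : G, a ∣ ix g ∧ b ∣ ix g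
  have adj : ∀ {a b : ℕ}, a.Prime → b.Prime → a ≠ b → W a b → ∃ g : G, a * b ∣ ix g := fun a b c ⟨g, d, e⟩ =>
    ⟨g, ((Nat.coprime_primes a b).2 c).mul_dvd_of_dvd_of_dvd d e⟩
  obtain ⟨y, hy⟩ := exists_max (G := G)
  have key : ∀ {p q : ℕ}, p.Prime → (∃ g : G, p ∣ ix g) → q.Prime → (∃ g : G, q ∣ ix g) →
      (∀ g : G, p ∣ ix g → (ix g).Coprime (ix y)) → ∃ r s : ℕ, r.Prime ∧ s.Prime ∧ W p r ∧ W r s ∧ W s q :=
    fun {p q} a ⟨x, hx⟩ b ⟨z, hz⟩ c => by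
      haveI := Fact.mk a
      obtain ⟨P⟩ : Nonempty (Sylow p G) := inferInstance
      obtain ⟨K, M, h1, -, h2⟩ := far hy hx c P
      obtain ⟨k, hk⟩ := h1.exists_ix
      by_cases e : q ∣ M.index
      · exact ⟨p, q, a, b, ⟨x, hx, hx⟩, ⟨k, hk ▸ h2, hk ▸ e⟩, z, hz, hz⟩
      obtain ⟨r, t, ⟨d, -⟩, -, f, g, w, hw⟩ := hconn {r | r ∣ M.index} ⟨p, h2, a, x, hx⟩ ⟨q, e, b, z, hz⟩
      obtain ⟨s, u, v⟩ := Nat.exists_prime_and_dvd (mt card_eq_one.1 h1.ne)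
      exact ⟨r, s, d, u, ⟨k, hk ▸ h2, hk ▸ f⟩, ⟨w, (dvd_mul_right _ _).trans hw, v.trans (h1.dvd_out fun i =>
        g (((dvd_mul_left _ _).trans hw).trans (h1.dvd_in i)))⟩, z, v.trans (h1.dvd_out fun i =>
        e (hz.trans (h1.dvd_in i))), hz⟩
  have sy : ∀ {a b}, W a b → W b a := fun ⟨g, a, b⟩ => ⟨g, b, a⟩
  obtain ⟨r, s, a, b, c, d, e⟩ : ∃ r s : ℕ, r.Prime ∧ s.Prime ∧ W p r ∧ W r s ∧ W s q := by
    by_cases k : ∀ g : G, p ∣ ix g → (ix g).Coprime (ix y)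
    · exact key hp.1 hp.2 hq.1 hq.2 k
    by_cases l : ∀ g : G, q ∣ ix g → (ix g).Coprime (ix y)
    · obtain ⟨r, s, a, b, c, d, e⟩ := key hq.1 hq.2 hp.1 hp.2 l
      exact ⟨s, r, b, a, sy e, sy d, sy c⟩
    push Not at k l
    obtain ⟨g, a, b⟩ := k
    obtain ⟨u, c, d⟩ := l
    obtain ⟨r, e, f, i⟩ := Nat.Prime.not_coprime_iff_dvd.1 b
    obtain ⟨s, j, k, l⟩ := Nat.Prime.not_coprime_iff_dvd.1 d
    exact ⟨r, s, e, j, ⟨g, a, f⟩, ⟨y, i, l⟩, u, k, c⟩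
  have two : ∀ {r : ℕ}, r.Prime → W p r → W r q → (∃ g : G, p * q ∣ ix g) ∨ ∃ r : ℕ, (r.Prime ∧ ∃ g : G, r ∣ ix g) ∧ r ≠ p ∧
      r ≠ q ∧ (∃ g : G, p * r ∣ ix g) ∧ ∃ g : G, r * q ∣ ix g := fun {r} a b c => by
    by_cases k : r = p
    · exact .inl (adj hp.1 hq.1 hpq (k ▸ c))
    by_cases l : r = q
    · exact .inl (adj hp.1 hq.1 hpq (l ▸ b))
    exact .inr ⟨r, ⟨a, c.imp fun _ => And.left⟩, k, l, adj hp.1 a (Ne.symm k) b, adj a hq.1 l c⟩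
  by_cases k1 : r = p
  · exact (two b (k1 ▸ d) e).imp_right .inl
  by_cases k2 : s = q
  · exact (two a c (k2 ▸ d)).imp_right .inl
  by_cases k3 : r = s
  · exact (two a c (k3 ▸ e)).imp_right .inl
  by_cases k4 : r = q
  · exact .inl (adj hp.1 hq.1 hpq (k4 ▸ c))
  by_cases k5 : s = p
  · exact .inl (adj hp.1 hq.1 hpq (k5 ▸ e))
  exact .inr (.inr ⟨r, s, ⟨a, d.imp fun _ => And.left⟩, ⟨b, e.imp fun _ => And.left⟩, k1, k2, k3, k4, k5,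
    adj hp.1 a (Ne.symm k1) c, adj a b k3 d, adj b hq.1 k2 e⟩)

end Cfsg.Agent.S4257
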