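import Cfsg.Statements.S4314
import Cfsg.Agent.CZ.G
import Cfsg.Agent.CZ.A
import Cfsg.Agent.S4134

set_option autoImplicit false
open Cfsg

namespace Cfsg.Agent.S4314

open Subgroup H9 CZ

/-- Let `G` be a finite group every conjugacy class of which has size 1 or a prime. Then either `G` is nilpotent of class at most 2, or `G/Z(G)` is a non-abelian group of order `pq` for distinct primes `p, q` (a Frobenius group of order `pq`). -/
theorem result {G : Type*} [Group G] [Finite G]
    (h : ∀ x : G, (Subgroup.centralizer ({x} : Set G)).index = 1 ∨ ((Subgroup.centralizer ({x} : Set G)).index).Prime) :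
    Subgroup.upperCentralSeries G 2 = ⊤ ∨
      ∃ p q : ℕ, p.Prime ∧ q.Prime ∧ p ≠ q ∧ Nat.card (G ⧸ Subgroup.center G) = p * q ∧ ¬ IsMulCommutative (G ⧸ Subgroup.center G) := by
  by_cases k : ∃ x y : G, ix x ≠ 1 ∧ ix y ≠ 1 ∧ ix x ≠ ix y
  · obtain ⟨x, y, a, b, c⟩ := k
    obtain ⟨K, M, L, h1, h2, h5, h3, h4⟩ := CZ.disc {ix x} ⟨_, rfl, (h x).resolve_left a, x, dvd_rfl⟩
      ⟨_, c.symm, (h y).resolve_left b, y, dvd_rfl⟩ fun p q a b c d g e f => by
        have i := (h g).resolve_left fun k => a.ne_one (Nat.dvd_one.1 (k ▸ e))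
        exact d ((((Nat.prime_dvd_prime_iff_eq b i).1 f).trans ((Nat.prime_dvd_prime_iff_eq a i).1 e).symm).trans c)
    obtain ⟨k, hk⟩ := h1.exists_ix
    obtain ⟨g, g1, g2⟩ := SetLike.not_le_iff_exists.1 fun e : L ≤ M => h2 (eq_top_iff.2 (h1.sup.ge.trans (sup_le h1.le e)))
    have h6 := h5 g g2
    have h7 := (h g).resolve_left fun e => g2 (h3.ge (H1.ci_eq_one_iff.1 e)).1
    rw [ix, h4 g g1 g2] at h6
    rw [h4 g g1 g2] at h7
    have h8 : M.index.Prime := hk ▸ (h k).resolve_left fun e => h2 (index_eq_one.1 (hk.symm.trans e))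
    refine .inr ⟨_, _, h8, h7, (Nat.coprime_primes h8 h7).1 h6.symm, ?_, fun e => ?_⟩
    · rw [← H1.index_inf_of_coprime h6.symm, h3]; rfl
    exact (h1.map_ne h3 h2).1 ((inf_eq_left.2 fun a _ b _ => e.is_comm.comm b a).symm.trans
      ((h1.frob h3).inf_centralizer le_rfl (h1.map_ne h3 h2).2))
  have h1 : fittingSubgroup G = ⊤ := by
    by_cases l : ∃ x : G, ix x ≠ 1
    · obtain ⟨x, hx⟩ := l
      obtain ⟨p, _, a, -, h1⟩ := S4134.result (ix x) ((h x).resolve_left hx).one_lt
        (fun y => or_iff_not_imp_left.2 fun e => by_contra fun f => k ⟨y, x, e, hx, f⟩) ⟨x, rfl⟩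
      obtain ⟨P⟩ : Nonempty (Sylow p G) := inferInstance
      obtain ⟨_, ⟨N, _, h2, h3, -⟩, -⟩ := h1 P
      exact eq_top_iff.2 (h2.sup_eq_top.ge.trans (sup_le (H1.le_fitting (H1.isNilpotent_of_isMulCommutative h3))
        (H1.le_fitting P.isPGroup'.isNilpotent)))
    · exact eq_top_iff.2 (le_trans (fun x _ => H1.ci_eq_one_iff.1 (not_not.1 fun e => l ⟨x, e⟩))
        (H1.le_fitting (H1.isNilpotent_of_isMulCommutative (inferInstance : IsMulCommutative (center G)))))
  rw [SF.fit_eq fun x => (h x).elim (fun e => e ▸ squarefree_one) fun e => e.prime.squarefree] at h1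
  refine .inl (eq_top_iff.2 fun x _ => Subgroup.mem_upperCentralSeries_succ_iff.2 fun y => ?_)
  rw [Subgroup.upperCentralSeries_one]
  exact mem_center_iff.2 fun g => (h1.ge (mem_top g) _ (commutator_mem_commutator (mem_top x) (mem_top y))).symm

end Cfsg.Agent.S4314
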