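import Cfsg.Statements.S4347
import Cfsg.Agent.H1.Misc2

set_option autoImplicit false
open Cfsg

namespace Cfsg.Agent.S4347

open scoped Pointwise

open H1

/-- Let G be a finite group and p a prime. Say a Sylow p-subgroup Q is redundant when every element of p-power order lies in some Sylow p-subgroup other than Q. Then G has no redundant Sylow p-subgroup if and only if some element of p-power order lies in exactly one Sylow p-subgroup. -/
theorem result {G : Type*} [Group G] [Finite G]
    (p : ℕ) [Fact p.Prime] :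
    (¬ ∃ Q : Sylow p G, ∀ x : G, (∃ k : ℕ, orderOf x = p ^ k) → ∃ P : Sylow p G, P ≠ Q ∧ x ∈ P) ↔
      ∃ x : G, (∃ k : ℕ, orderOf x = p ^ k) ∧ ∃! P : Sylow p G, x ∈ P := by
  constructor
  · intro h
    push Not at h
    obtain ⟨Q⟩ := (inferInstance : Nonempty (Sylow p G))
    obtain ⟨x, hx, h1⟩ := h Q
    obtain ⟨P, hP⟩ := exists_sylow_mem hx
    have h2 : ∀ R : Sylow p G, x ∈ R → R = Q := fun R hR => by by_contra h3; exact h1 R h3 hR
    exact ⟨x, hx, P, hP, fun R hR => (h2 R hR).trans (h2 P hP).symm⟩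
  · rintro ⟨x, hx, P, hP, h1⟩ ⟨Q, hQ⟩
    obtain ⟨g, rfl⟩ := MulAction.exists_smul_eq G P Q
    obtain ⟨R, h2, h3⟩ := hQ (g * x * g⁻¹) (by rwa [orderOf_conj])
    apply h2
    have : g⁻¹ • R = P := h1 _ (show x ∈ MulAut.conj g⁻¹ • (R : Subgroup G) from mem_conj_smul.2 (by rw [inv_inv]; exact h3))
    rw [← this, smul_inv_smul]

end Cfsg.Agent.S4347
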