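import Cfsg.Statements.S4348
import Cfsg.Agent.H1.Misc2

set_option autoImplicit false
open Cfsg

namespace Cfsg.Agent.S4348

open H1

/-- Let G be a finite group, p a prime and P a Sylow p-subgroup of G, and let O_p(G) be the largest normal p-subgroup of G. If P/O_p(G) is cyclic, then some element of p-power order of G lies in exactly one Sylow p-subgroup. -/
theorem result {G : Type*} [Group G] [Finite G]
    (p : ℕ) [Fact p.Prime] (P : Sylow p G)
    [hn : ((Cfsg.pCore p G).subgroupOf (P : Subgroup G)).Normal]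
    (hc : IsCyclic ((P : Subgroup G) ⧸ (Cfsg.pCore p G).subgroupOf (P : Subgroup G))) :
    ∃ x : G, (∃ k : ℕ, orderOf x = p ^ k) ∧ ∃! Q : Sylow p G, x ∈ Q := by
  obtain ⟨y, hy⟩ := hc.exists_generator
  obtain ⟨x, rfl⟩ := QuotientGroup.mk_surjective y
  refine ⟨x, exists_orderOf_eq_pow P.isPGroup' x.2, P, x.2, fun Q hQ => ?_⟩
  refine (Sylow.ext (P.is_maximal' Q.isPGroup' fun z hz => ?_))
  obtain ⟨k, hk⟩ := hy (⟨z, hz⟩ : (P : Subgroup G))
  have h1 : ((x ^ k)⁻¹ * ⟨z, hz⟩ : (P : Subgroup G)) ∈ (Cfsg.pCore p G).subgroupOf P := QuotientGroup.eq.1 hk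
  have h2 := pCore_le_sylow Q h1
  exact (Subgroup.mul_mem_cancel_left _ (Subgroup.inv_mem _ (Subgroup.zpow_mem _ hQ k))).1 h2

end Cfsg.Agent.S4348
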