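import Cfsg.Statements.S4356
import Cfsg.Agent.H5.SL2Cl

set_option autoImplicit false
open Cfsg

namespace Cfsg.Agent.S4356

open H5

theorem tor4 {F : Type*} [Field F] [Fintype F] (ho : Odd (Fintype.card F)) :
    ∃ n m, (n = Fintype.card F - 1 ∧ m = Fintype.card F + 1 ∨ n = Fintype.card F + 1 ∧ m = Fintype.card F - 1) ∧
      4 ∣ n ∧ m % 4 = 2 := by
  have := Fintype.one_lt_card (α := F)
  obtain ⟨k, hk⟩ := ho
  by_cases h : Fintype.card F % 4 = 1
  · exact ⟨_, _, Or.inl ⟨rfl, rfl⟩, by omega, by omega⟩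
  · exact ⟨_, _, Or.inr ⟨rfl, rfl⟩, by omega, by omega⟩

/-- Let F be a finite field with q elements, p a prime and G = PSL(2, F). Say a Sylow p-subgroup Q of G is redundant when every element of p-power order lies in some Sylow p-subgroup other than Q. Then G has a redundant Sylow p-subgroup if and only if p = 2 and q is not of any of the forms 2ᵏ - 1, 2ᵏ, 2ᵏ + 1. -/
theorem result {F : Type*} [Field F] [Fintype F] (p : ℕ) [Fact p.Prime] :
    (∃ Q : Sylow p (Matrix.ProjectiveSpecialLinearGroup (Fin 2) F), ∀ x : Matrix.ProjectiveSpecialLinearGroup (Fin 2) F,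
        (∃ k : ℕ, orderOf x = p ^ k) → ∃ P : Sylow p (Matrix.ProjectiveSpecialLinearGroup (Fin 2) F), P ≠ Q ∧ x ∈ P) ↔
      (p = 2 ∧ (¬ ∃ k : ℕ, Fintype.card F + 1 = 2 ^ k) ∧ (¬ ∃ k : ℕ, Fintype.card F = 2 ^ k) ∧
        ¬ ∃ k : ℕ, Fintype.card F = 2 ^ k + 1) := by
  obtain ⟨c, hc⟩ := CharP.exists F
  have : Fact c.Prime := ⟨CharP.char_is_prime F c⟩
  have hq := Fintype.one_lt_card (α := F)
  have hev : (∃ k, Fintype.card F = 2 ^ k) ↔ c = 2 := by
    obtain ⟨n, -, hn⟩ := FiniteField.card F c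
    refine ⟨fun ⟨k, hk⟩ => (Nat.prime_dvd_prime_iff_eq Fact.out Nat.prime_two).1 ((Fact.out : c.Prime).dvd_of_dvd_pow
      (hk ▸ char_dvd_card c)), by rintro rfl; exact ⟨n, hn⟩⟩
  have hodd : c ≠ 2 → Odd (Fintype.card F) := fun h =>
    Nat.not_even_iff_odd.1 (mt even_iff_two_eq_zero.1 ((char_ne_two c).1 h))
  have hidx : ∀ {n m T D}, IsTor (F := F) n T D → c ≠ 2 → (n = Fintype.card F - 1 ∧ m = Fintype.card F + 1 ∨
      n = Fintype.card F + 1 ∧ m = Fintype.card F - 1) → m % 4 = 2 →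
      Nat.card (D.comap psl) = 2 * (n / 2) ∧ ¬ 2 ∣ (D.comap psl).index := fun {n m T D} hT h2 hn hm => by
    have h1 := (D.comap psl).card_mul_index
    have h3 := card_PSL2_mul (F := F)
    have h4 := hT.gcd_dvd
    have h6 := hT.pos
    rw [card_comap_psl, hT.inf_PS_dihedral.1] at h1 ⊢
    rw [gcd_two_of_odd (hodd h2)] at h1 h3 h4 ⊢
    refine ⟨rfl, fun ⟨j, hj⟩ => ?_⟩
    have h5 : n * (4 * j) = n * (Fintype.card F * m) := by
      rw [Nat.mul_div_cancel' h4, hj] at h1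
      rcases hn with ⟨rfl, rfl⟩ | ⟨rfl, rfl⟩ <;> linear_combination 2 * h1 + h3
    have h7 : 4 ∣ Fintype.card F * m := ⟨j, (Nat.eq_of_mul_eq_mul_left h6 h5).symm⟩
    have := (Nat.Coprime.dvd_mul_left (Nat.Coprime.pow_left 2 ((Nat.coprime_two_left).2 (hodd h2)))).1 h7
    omega
  constructor
  · rintro ⟨Q, hQ⟩
    have hQ' : ∀ x ∈ (Q : Subgroup (PSL2 F)), ∃ P : Sylow p (PSL2 F), P ≠ Q ∧ x ∈ (P : Subgroup (PSL2 F)) := fun x hx =>
      hQ x (by obtain ⟨k, hk⟩ := IsPGroup.iff_orderOf.1 Q.isPGroup' ⟨x, hx⟩; exact ⟨k, (Subgroup.orderOf_coe _).trans hk⟩)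
    have hcyc : ¬ IsCyclic Q := fun h => by
      obtain ⟨x, hx⟩ := exists_zpowers_eq (Q : Subgroup (PSL2 F))
      obtain ⟨P, h1, h2⟩ := hQ' x (hx ▸ Subgroup.mem_zpowers x)
      exact h1 (Sylow.ext (Q.is_maximal' P.isPGroup' (hx ▸ (Subgroup.zpowers_le ..).2 h2)))
    have hpc : c ≠ p := by
      rintro rfl
      obtain ⟨y, hy⟩ := le_UP_of_isPGroup c (Q.isPGroup'.map psl)
      obtain ⟨⟨x, hx⟩, h1⟩ := (Subgroup.ne_bot_iff_exists_ne_one (H := Q.1)).1 (fun h => hcyc (by rw [h]; infer_instance))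
      obtain ⟨P, h2, h3⟩ := hQ' x hx
      obtain ⟨z, hz⟩ := le_UP_of_isPGroup c (P.isPGroup'.map psl)
      obtain rfl : z = y := fix_eq_of_UP (hy ⟨x, hx, rfl⟩) (by simpa [map_eq_one_iff _ psl_inj] using h1) (UP_le z (hz ⟨x, h3, rfl⟩))
      have h4 := (isPGroup_UP c z).comap_of_injective psl psl_inj
      exact h2 (Sylow.ext ((P.is_maximal' h4 (Subgroup.map_le_iff_le_comap.1 hz)).symm.trans
        (Q.is_maximal' h4 (Subgroup.map_le_iff_le_comap.1 hy))))
    obtain rfl : p = 2 := by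
      by_contra h
      have h1 := Q.isPGroup'.map psl
      obtain ⟨n, T, D, hT, hle⟩ := le_tor_of_odd c (not_dvd_card_of_isPGroup h1 Fact.out hpc)
        (not_dvd_card_of_isPGroup h1 Nat.prime_two (Ne.symm h))
      have := hT.cyc
      have := Subgroup.isCyclic_of_le hle
      exact hcyc (isCyclic_of_surjective _ (pslSub _).symm.surjective)
    obtain ⟨n, m, hn, h4, hm⟩ := tor4 (hodd hpc)
    have key : ¬ ∃ k, n = 2 ^ k := fun ⟨k, hk⟩ => by
      obtain ⟨T, D, hT⟩ := exists_tor (F := F) (n := n) (by omega)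
      obtain ⟨g, hg⟩ := sylow_card_of Q (hidx hT hpc hn hm).2
      have h1 : cj g (D.comap psl) = (cj (psl g) D).comap psl := by
        ext; simp only [mem_cj, Subgroup.mem_comap, map_mul, map_inv]
      rw [h1] at hg
      replace hT := hT.cj (psl g)
      generalize cj (psl g) D = D at hT hg
      generalize cj (psl g) T = T at hT
      have h2 := (hidx hT hpc hn hm).1
      have h3 : IsPGroup 2 (D.comap psl) := IsPGroup.of_card (n := k) (by omega)
      have h5 := Q.is_maximal' h3 hg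
      obtain ⟨r, hr, ho⟩ := hT.exists_gen_PS
      have hr' : r ∈ T ⊓ PS F := hr ▸ Subgroup.mem_zpowers r
      obtain ⟨x, rfl⟩ := exists_psl hr'.2
      rw [gcd_two_of_odd (hodd hpc)] at ho
      have hp := hT.pos
      have h6 : psl x ≠ 1 := fun e => by rw [e, orderOf_one] at ho; omega
      obtain ⟨P, h7, h8⟩ := hQ' x (h5 ▸ hT.le hr'.1)
      refine h7 (Sylow.ext ((P.is_maximal' h3 ?_).symm.trans h5))
      obtain ⟨n', T', D', hT', hle⟩ := le_D_of_isPGroup c hpc (P.isPGroup'.map psl)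
      by_cases h9 : psl x ∈ T'
      · exact hT.D_eq hT' hr'.1 h9 h6 ▸ Subgroup.map_le_iff_le_comap.1 hle
      · have h10 := hT'.inv _ (hle ⟨x, h8, rfl⟩) h9
        have h11 := Nat.le_of_dvd two_pos (orderOf_dvd_of_pow_eq_one ((sq _).trans h10))
        have h12 : Nat.card P = 2 ^ 2 := by rw [card_equiv (P.equiv Q), ← h5, h2]; omega
        have := IsPGroup.isMulCommutative_of_card_eq_prime_sq h12
        intro y hy
        refine hT.centralizer_le hr'.1 h6 (Subgroup.mem_centralizer_singleton_iff.2 ?_)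
        rw [← map_mul, ← map_mul]
        exact congrArg (fun z : P => psl z.1) (mul_comm' (⟨y, hy⟩ : P) ⟨x, h8⟩)
    have key2 : ∀ k, m = 2 ^ k → False := fun k hk => key ⟨2, by
      rcases k with _ | _ | k
      · omega
      · omega
      · rw [pow_add, pow_add] at hk; omega⟩
    refine ⟨rfl, fun ⟨k, hk⟩ => ?_, fun h => hpc (hev.1 h), fun ⟨k, hk⟩ => ?_⟩ <;> rcases hn with ⟨h, h'⟩ | ⟨h, h'⟩
    exacts [key2 k (by omega), key ⟨k, by omega⟩, key ⟨k, by omega⟩, key2 k (by omega)]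
  · rintro ⟨rfl, h1, h2, h3⟩
    have hpc : c ≠ 2 := mt hev.2 h2
    obtain ⟨n, m, hn, h4, hm⟩ := tor4 (hodd hpc)
    obtain ⟨Q⟩ : Nonempty (Sylow 2 (PSL2 F)) := inferInstance
    refine ⟨Q, fun x ⟨k, hk⟩ => ?_⟩
    obtain ⟨T, D, hT, hx⟩ : ∃ T D, IsTor n T D ∧ psl x ∈ T := by
      by_cases h : x = 1
      · obtain ⟨T, D, hT⟩ := exists_tor (F := F) (n := n) (by omega)
        exact ⟨T, D, hT, by simp [h]⟩
      have hk0 : k ≠ 0 := by rintro rfl; exact h (orderOf_eq_one_iff.1 hk)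
      obtain ⟨n', T, D, hT, hx⟩ := exists_tor_of_orderOf c (g := psl x) fun e => hpc
        ((Nat.prime_dvd_prime_iff_eq Fact.out Nat.prime_two).1 ((Fact.out : c.Prime).dvd_of_dvd_pow (by rw [← hk, ← e, orderOf_psl])))
      have h5 := hT.orderOf_dvd_PS hx (psl_mem x)
      rw [orderOf_psl, hk, gcd_two_of_odd (hodd hpc)] at h5
      have h6 := (dvd_pow_self 2 hk0).trans h5
      have h7 := hT.eq
      obtain rfl : n' = n := by omega
      exact ⟨T, D, hT, hx⟩
    obtain ⟨l, hl, hl1, hl2⟩ : ∃ l, l.Prime ∧ l ∣ n / 2 ∧ l ≠ 2 := by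
      by_contra! h
      have h5 := Nat.eq_prime_pow_of_unique_prime_dvd (p := 2) (n := n / 2) (by omega) fun h1 h2 => h _ h1 h2
      generalize (n / 2).primeFactorsList.length = j at h5
      rcases hn with ⟨h, -⟩ | ⟨h, -⟩
      exacts [h3 ⟨j + 1, by omega⟩, h1 ⟨j + 1, by omega⟩]
    have : Fact l.Prime := ⟨hl⟩
    obtain ⟨t, ht⟩ := exists_prime_orderOf_dvd_card' (G := ↥(T ⊓ PS F)) l (by rwa [hT.card_inf_PS, gcd_two_of_odd (hodd hpc)])
    obtain ⟨t', e⟩ := exists_psl t.2.2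
    rw [← Subgroup.orderOf_coe, ← e, orderOf_psl] at ht
    have htT : psl t' ∈ T := e ▸ t.2.1
    obtain ⟨s, hs, hs'⟩ := SetLike.not_le_iff_exists.1 hT.not_inf_PS_le
    obtain ⟨s, rfl⟩ := exists_psl hs.2
    have hxs : s * x * s⁻¹ = x⁻¹ := psl_inj (by simpa using hT.conj_eq_inv hs.1 hs' hx)
    have hts : s * t' * s⁻¹ = t'⁻¹ := psl_inj (by simpa using hT.conj_eq_inv hs.1 hs' htT)
    have hP : IsPGroup 2 (Subgroup.closure {x, s}) := by
      obtain ⟨e⟩ := dih_equiv_closure (n := 2 ^ k) (by positivity) x s hk (psl_inj (by simpa using hT.inv _ hs.1 hs')) hxs (by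
        rintro ⟨j, rfl⟩; exact hs' (by simpa using T.zpow_mem hx j))
      exact IsPGroup.of_card (n := k + 1) (by rw [card_equiv e, DihedralGroup.nat_card]; ring)
    obtain ⟨P, hP⟩ := hP.exists_le_sylow
    have hxP : x ∈ (P : Subgroup (PSL2 F)) := hP (Subgroup.subset_closure (by simp))
    have hsP : s ∈ (P : Subgroup (PSL2 F)) := hP (Subgroup.subset_closure (by simp))
    by_cases h : P = Q
    · refine ⟨t' • P, fun e => ?_, ?_⟩
      · have h5 := (Subgroup.mem_normalizer_iff.1 (Sylow.smul_eq_iff_mem_normalizer.1 (e.trans h.symm)) s).1 hsP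
        have h6 := P.1.mul_mem h5 (P.1.inv_mem hsP)
        rw [show t' * s * t'⁻¹ * s⁻¹ = t' * (s * t' * s⁻¹)⁻¹ by group, hts, inv_inv] at h6
        obtain ⟨j, hj⟩ := P.isPGroup' ⟨_, h6⟩
        have h7 : t' ^ 2 ^ (j + 1) = 1 := by rw [pow_succ', pow_mul, sq]; exact congrArg Subtype.val hj
        exact hl2 ((Nat.prime_dvd_prime_iff_eq hl Nat.prime_two).1 (hl.dvd_of_dvd_pow (ht ▸ orderOf_dvd_of_pow_eq_one h7)))
      · have h5 : t' * x = x * t' := psl_inj (by simpa using hT.comm htT hx)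
        exact ⟨x, hxP, by simp [h5]⟩
    · exact ⟨P, h, hxP⟩


end Cfsg.Agent.S4356
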