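import Cfsg.Statements.S4357
import Cfsg.Agent.H5.SL2Cl
import Cfsg.Agent.S4356

set_option autoImplicit false
open Cfsg

namespace Cfsg.Agent.S4357

open H5

theorem transfer {G G' : Type*} [Group G] [Group G'] [Finite G] (φ : G →* G') (hφ : Function.Surjective φ)
    (hk : φ.ker ≤ Subgroup.center G) (p : ℕ) [Fact p.Prime] :
    (∃ Q : Sylow p G, ∀ x : G, (∃ k : ℕ, orderOf x = p ^ k) → ∃ P : Sylow p G, P ≠ Q ∧ x ∈ P) ↔
    (∃ Q : Sylow p G', ∀ x : G', (∃ k : ℕ, orderOf x = p ^ k) → ∃ P : Sylow p G', P ≠ Q ∧ x ∈ P) := by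
  have : Finite G' := Finite.of_surjective φ hφ
  have h1 : ∀ (P : Sylow p G) (x : G), φ x ∈ (P : Subgroup G).map φ → x ∈ Subgroup.normalizer (P : Set G) := by
    rintro P x ⟨y, hy, e⟩
    have h2 : y⁻¹ * x ∈ φ.ker := by rw [MonoidHom.mem_ker, map_mul, map_inv, e, inv_mul_cancel]
    have := mul_mem (Subgroup.le_normalizer hy) (Subgroup.center_le_normalizer (P : Set G) (hk h2))
    rwa [mul_inv_cancel_left] at this
  have h2 : ∀ (P : Sylow p G) (x : G), IsPGroup p (Subgroup.zpowers x) → φ x ∈ (P : Subgroup G).map φ → x ∈ P :=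
    fun P x h hx => ((h.inf_normalizer_sylow P).le ⟨Subgroup.mem_zpowers x, h1 P x hx⟩).2
  have h3 : ∀ {H : Type _} [Group H] [Finite H] (x : H), (∃ k : ℕ, orderOf x = p ^ k) → IsPGroup p (Subgroup.zpowers x) :=
    fun x ⟨k, hk⟩ => IsPGroup.of_card ((Nat.card_zpowers x).trans hk)
  have h4 : ∀ (P : Sylow p G), ∀ x ∈ P, ∃ k : ℕ, orderOf x = p ^ k := fun P x hx => by
    obtain ⟨k, hk⟩ := IsPGroup.iff_orderOf.1 P.isPGroup' ⟨x, hx⟩; exact ⟨k, (Subgroup.orderOf_coe _).trans hk⟩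
  constructor
  · rintro ⟨Q, hQ⟩
    refine ⟨Q.mapSurjective hφ, fun x ⟨k, hk⟩ => ?_⟩
    obtain ⟨P, hP⟩ := (IsPGroup.of_card ((Nat.card_zpowers x).trans hk)).exists_le_sylow
    obtain ⟨P, rfl⟩ := Sylow.mapSurjective_surjective hφ p P
    obtain ⟨y, hy, rfl⟩ := hP (Subgroup.mem_zpowers x)
    obtain ⟨R, hR, hR'⟩ := hQ y (h4 P y hy)
    refine ⟨R.mapSurjective hφ, fun e => hR (Sylow.ext (R.is_maximal' Q.isPGroup' fun z hz => ?_).symm), y, hR', rfl⟩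
    exact h2 Q z (h3 z (h4 R z hz)) (by rw [← Sylow.coe_mapSurjective hφ, ← e]; exact ⟨z, hz, rfl⟩)
  · rintro ⟨Q, hQ⟩
    obtain ⟨Q, rfl⟩ := Sylow.mapSurjective_surjective hφ p Q
    refine ⟨Q, fun x ⟨k, hk⟩ => ?_⟩
    obtain ⟨j, -, hj⟩ := (Nat.dvd_prime_pow Fact.out).1 (hk ▸ orderOf_map_dvd φ x)
    obtain ⟨P, hP, hx⟩ := hQ (φ x) ⟨j, hj⟩
    obtain ⟨P, rfl⟩ := Sylow.mapSurjective_surjective hφ p P
    exact ⟨P, fun e => hP (e ▸ rfl), h2 P x (h3 x ⟨k, hk⟩) hx⟩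

/-- Let F be a finite field with q elements, p a prime and G = SL(2, F). Say a Sylow p-subgroup Q of G is redundant when every element of p-power order lies in some Sylow p-subgroup other than Q. Then G has a redundant Sylow p-subgroup if and only if p = 2 and q is not of any of the forms 2ᵏ - 1, 2ᵏ, 2ᵏ + 1. -/
theorem result {F : Type*} [Field F] [Fintype F] (p : ℕ) [Fact p.Prime] :
    (∃ Q : Sylow p (Matrix.SpecialLinearGroup (Fin 2) F), ∀ x : Matrix.SpecialLinearGroup (Fin 2) F,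
        (∃ k : ℕ, orderOf x = p ^ k) → ∃ P : Sylow p (Matrix.SpecialLinearGroup (Fin 2) F), P ≠ Q ∧ x ∈ P) ↔
      (p = 2 ∧ (¬ ∃ k : ℕ, Fintype.card F + 1 = 2 ^ k) ∧ (¬ ∃ k : ℕ, Fintype.card F = 2 ^ k) ∧
        ¬ ∃ k : ℕ, Fintype.card F = 2 ^ k + 1) := by
  exact (transfer (QuotientGroup.mk' _) (QuotientGroup.mk'_surjective _) (QuotientGroup.ker_mk' _).le p).trans
    (Cfsg.Agent.S4356.result p)


end Cfsg.Agent.S4357
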