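import Cfsg.Statements.S4394
import Cfsg.Agent.H1.Q3

set_option autoImplicit false
open Cfsg

namespace Cfsg.Agent.S4394

open H1
open Subgroup H9

/-- Let X be a finite minimal non-nilpotent group (not nilpotent, every proper subgroup nilpotent) with a nontrivial normal Sylow p-subgroup P. If G is a finite p-solvable group whose Sylow p-subgroups are isomorphic to P, then G has p-length at most 1. -/
theorem result {G X : Type*} [Group G] [Finite G] [Group X] [Finite X] (p : ℕ) [Fact p.Prime]
    (hX : Cfsg.IsMinimalNonNilpotent X) (P : Sylow p X) (hPn : (P : Subgroup X).Normal) (hP1 : (P : Subgroup X) ≠ ⊥)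
    (hG : Cfsg.IsPSolvable p G) (Q : Sylow p G) (hQ : Nonempty (↥(Q : Subgroup G) ≃* ↥(P : Subgroup X))) : Cfsg.PLengthLE p 1 G := by
  obtain ⟨e⟩ := hQ
  obtain ⟨q, _, x, h⟩ := exists_SD hX (syl_top_of_sylow P) hPn hP1
  obtain ⟨Γ, _, _, f, hf, hR, e1⟩ := PS.exists_red (psol_of_isPSolvable hG)
  let φ : (P : Subgroup X) →* Γ := f.comp ((Q : Subgroup G).subtype.comp e.symm.toMonoidHom)
  have eφ : H9.im φ P = (Q : Subgroup G).map f := by
    rw [im_self_eq_range, MonoidHom.range_comp, MonoidHom.range_comp, MonoidHom.range_eq_top.2 e.symm.surjective,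
      ← MonoidHom.range_eq_map, range_subtype]
  have s := (syl_top_of_sylow Q).map f
  rw [map_top_of_surjective f hf] at s
  have l := h.le_pCore hR φ (by rw [eφ, ← Op_top]; exact s.Op_le)
  rw [eφ, map_le_iff_le_comap, e1] at l
  have s2 := (syl_top_of_sylow Q).map (QuotientGroup.mk' (pPrimePCore p G))
  rw [map_top_of_surjective _ (QuotientGroup.mk'_surjective _)] at s2
  refine pl_succ.2 (pl_zero.2 ?_)
  rw [← card_top]
  exact s2.eq_bot_iff.1 ((Subgroup.map_eq_bot_iff _).2 (by rwa [QuotientGroup.ker_mk']))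

end Cfsg.Agent.S4394
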