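import Cfsg.Statements.S4398
import Cfsg.Agent.CZ.C
import Cfsg.Agent.S4399
import Cfsg.Agent.S0115
import Cfsg.Agent.S4143
import Cfsg.Agent.H1.MC2
import Cfsg.Agent.H2.TI2

set_option autoImplicit false
open Cfsg

namespace Cfsg.Agent.S4398

open Subgroup H9

/-- Let S be a finite 2-group of sectional 2-rank at most 2 that contains a subgroup isomorphic to the dihedral group of order 8 or to the quaternion group of order 8. Then S is dihedral of order at least 8, semidihedral of order at least 16 (order 2^(k+4) with an element a of order 2^(k+3) and an involution b with b a b⁻¹ = a^(2^(k+2)−1)), or generalized quaternion of order at least 8. -/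
theorem result {S : Type*} [Group S] [Finite S] (h2 : IsPGroup 2 S) (hr : Cfsg.SectionalPRankLE 2 2 S)
    (hsub : ∃ H : Subgroup S, Nonempty (↥H ≃* DihedralGroup 4) ∨ Nonempty (↥H ≃* QuaternionGroup 2)) :
    ((∃ k : ℕ, Nonempty (S ≃* DihedralGroup (2 ^ (k + 2)))) ∨
      (∃ k : ℕ, Nat.card S = 2 ^ (k + 4) ∧ ∃ a b : S, orderOf a = 2 ^ (k + 3) ∧ orderOf b = 2 ∧ b * a * b⁻¹ = a ^ (2 ^ (k + 2) - 1)) ∨
      (∃ k : ℕ, Nonempty (S ≃* QuaternionGroup (2 ^ (k + 1))))) := by
  obtain ⟨H, a, b, h⟩ : ∃ (H : Subgroup S) (a b : S), H1.MC H 1 a b := by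
    obtain ⟨H, ⟨⟨e⟩⟩ | ⟨⟨e⟩⟩⟩ := hsub
    · obtain ⟨n, a, b, h, h1, -⟩ := H1.mc_of_dihedral (h2.to_subgroup H) (by norm_num) e
      obtain rfl : n = 1 := Nat.succ_injective (Nat.pow_right_injective le_rfl h1).symm
      exact ⟨H, a, b, h⟩
    · obtain ⟨n, a, b, h, h1, -⟩ := H1.mc_of_quaternion (h2.to_subgroup H) le_rfl e
      obtain rfl : n = 1 := (Nat.pow_right_injective le_rfl (show 2 ^ 1 = 2 ^ n from h1)).symm
      exact ⟨H, a, b, h⟩
  have hC : centralizer (H : Set S) ≤ H := by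
    by_contra hn
    obtain ⟨c, c1, c2, c3⟩ := H2T.exists_sq (h2.to_subgroup _) (lt_of_le_not_ge (inf_le_right (a := H))
      fun e => hn (e.trans inf_le_left))
    have c4 : c ∉ H := fun e => c2 ⟨e, c1⟩
    have n1 := centralizer_le_normalizer _ c1
    have k1 : ∀ x ∈ H ⊔ zpowers c, x ^ 2 ∈ zpowers (a ^ 2 ^ 1) := fun x hx => by
      rcases (H1.mem_sup_zpowers_of_sq n1 c3.1).1 hx with k | k
      · exact h.sq_mem k
      · rw [show x = x * c⁻¹ * c by simp, Commute.mul_pow (c1 _ k)]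
        exact mul_mem (h.sq_mem k) (h.center ▸ c3)
    have k2 : H ⊔ zpowers c ≤ centralizer (zpowers (a ^ 2 ^ 1) : Set S) := by
      rw [← h.center]
      exact sup_le (le_centralizer_iff.1 inf_le_right) (zpowers_le.2 (centralizer_le inf_le_left c1))
    haveI := (normal_subgroupOf_iff_le_normalizer (show zpowers (a ^ 2 ^ 1) ≤ H ⊔ zpowers c from
      (h.center ▸ inf_le_left : _ ≤ H).trans le_sup_left)).2 (k2.trans (centralizer_le_normalizer _))
    have k3 : ∀ x : ↥(H ⊔ zpowers c) ⧸ (zpowers (a ^ 2 ^ 1)).subgroupOf (H ⊔ zpowers c), x ^ 2 = 1 := fun x =>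
      QuotientGroup.induction_on x fun x => (QuotientGroup.eq_one_iff _).2 (k1 x x.2)
    have := hr _ _ ⊤ ⟨⟨fun x y => Subtype.ext (Commute.of_orderOf_dvd_two
      (fun x => orderOf_dvd_of_pow_eq_one (k3 x)) _ _)⟩⟩ fun x _ => k3 x
    have k4 := H1.card_mul_relIndex (show zpowers (a ^ 2 ^ 1) ≤ H ⊔ zpowers c from
      (h.center ▸ inf_le_left : _ ≤ H).trans le_sup_left)
    rw [H1.card_sup_zpowers n1 c3.1 c4, h.card, Nat.card_zpowers, h.oz] at k4
    rw [card_top] at this
    change relIndex _ _ ≤ _ at this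
    omega
  obtain ⟨n, hn⟩ := IsPGroup.iff_card.1 h2
  have h8 := card_le_card_group H
  rw [h.card, hn] at h8
  have h3 := (Nat.pow_le_pow_iff_right one_lt_two).1 h8
  have k := (Cfsg.Agent.S0115.result n h3 hn).1 (Cfsg.Agent.S4143.result n hn H h.card (fun e => by
    have := card_le_of_le (le_inf le_rfl (le_centralizer_iff_isMulCommutative.2 e))
    rw [h.center, Nat.card_zpowers, h.card, h.oz] at this; omega) hC)
  refine (Cfsg.Agent.S4399.result h2 k.card_four fun x => k.exponent_two ▸ Monoid.pow_exponent_eq_one x).resolve_left ?_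
  omega

end Cfsg.Agent.S4398
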