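import Cfsg.Statements.S4419
import Cfsg.Agent.H1.Tr2

set_option autoImplicit false
open Cfsg

namespace Cfsg.Agent.S4419

open H1

/-- Let p be a prime and G a finite group whose Sylow p-subgroups are metacyclic (a cyclic normal subgroup with cyclic quotient). Then G has a normal p-complement if and only if the order of G/O_{p′,p}(G) is coprime to p² − 1. -/
theorem result {G : Type*} [Group G] [Finite G] (p : ℕ) [Fact p.Prime] (S : Sylow p G) (hS : Cfsg.IsMetacyclic ↥(S : Subgroup G)) : Cfsg.HasNormalPComplement p G ↔ Nat.Coprime (Nat.card (G ⧸ Cfsg.pPrimePCore p G)) (p ^ 2 - 1) := by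
  have hcard : Nat.card (G ⧸ Cfsg.pPrimePCore p G) = (Cfsg.pCore p (G ⧸ Cfsg.pPrimeCore p G)).index :=
    Subgroup.index_comap_of_surjective _ (QuotientGroup.mk'_surjective _)
  rw [hcard]
  constructor
  · intro h
    have h1 : IsPGroup p (G ⧸ Cfsg.pPrimeCore p G) :=
      H2.pResidual_le_iff.1 (le_pPrimeCore (H2.hasNormalPComplement_iff_coprime.1 h))
    rw [pCore_eq_top_iff.2 h1]; simp
  · intro h
    refine H2.HasNPC.of_quotient_coprime pPrimeCore_coprime ?_
    obtain ⟨T, hT⟩ := ((isSylowIn_top S).map_mk' (Cfsg.pPrimeCore p G)).exists_sylow_top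
    refine hasNPC_of_meta T ?_ fun q hq hqp hd h' => ?_
    · obtain ⟨a, b, h1, h2⟩ := FT.meta_iff.2 hS
      rw [hT]
      refine ⟨QuotientGroup.mk' _ a, QuotientGroup.mk' _ b, ?_, ?_⟩
      · rw [← MonoidHom.map_zpowers]; exact le_normalizer_map _ h1
      · rw [← MonoidHom.map_zpowers, ← MonoidHom.map_zpowers, ← Subgroup.map_sup, h2]
    · rw [← (Cfsg.pCore p (G ⧸ Cfsg.pPrimeCore p G)).card_mul_index] at hd
      have h2 : (Nat.card (Cfsg.pCore p (G ⧸ Cfsg.pPrimeCore p G))).Coprime q :=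
        isPGroup_coprime pCore_isPGroup ((Nat.coprime_primes hq Fact.out).2 hqp)
      exact hq.one_lt.ne' (Nat.eq_one_of_dvd_coprimes h (h2.symm.dvd_of_dvd_mul_left hd) h')

end Cfsg.Agent.S4419
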