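import Cfsg.Statements.S4845
import Cfsg.Agent.H3.Cx

set_option autoImplicit false
open Cfsg

namespace Cfsg.Agent.S4845

open scoped commutatorElement
open H1
open Subgroup H3

universe u

def SK (G : Type u) [Group G] : Prop :=
  ∀ χ ψ : G → ℂ, IsIrrCharacter G χ → IsIrrCharacter G ψ → charDegree χ ≠ 1 → charDegree χ = charDegree ψ →
    charKer χ ≤ charKer ψ

section
variable {G : Type u} [Group G] [Finite G]

omit [Finite G] in
theorem chr {χ : G → ℂ} (h : IsIrrCharacter G χ) : IsCharacter G χ := by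
  obtain ⟨n, ρ, -, e⟩ := h; exact ⟨n, ρ, e⟩

theorem nonlin {χ : G → ℂ} (h : IsIrrCharacter G χ) : charDegree χ ≠ 1 ↔ ¬ commutator G ≤ charKer χ := by
  rw [Ne, deg_eq_one_iff (chr h), degree_one_iff_commutator_le h]

theorem SK.ker_le (h : SK G) {χ : G → ℂ} (hχ : IsIrrCharacter G χ) (h1 : charDegree χ ≠ 1) :
    charKer χ ≤ commutator G := by
  intro g hg
  by_contra hn
  obtain ⟨f, hf⟩ := exists_hom_ne_one hn
  have a := (mem_charKer (chr (irr_mul_hom hχ f)) g).1
    (h χ _ hχ (irr_mul_hom hχ f) h1 (deg_mul_hom χ f).symm hg)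
  have b := (mem_charKer (chr hχ) g).1 hg
  simp only [Pi.mul_apply, b, map_one] at a
  exact hf (Units.ext (mul_left_cancel₀ (irr_one_ne_zero hχ) a))

theorem SK.quot (h : SK G) (N : Subgroup G) [N.Normal] : SK (G ⧸ N) := by
  intro χ ψ hχ hψ h1 e g hg
  obtain ⟨g, rfl⟩ := QuotientGroup.mk_surjective g
  have hχ' := irr_comp_surj hχ (QuotientGroup.mk' N) (QuotientGroup.mk'_surjective N)
  have hψ' := irr_comp_surj hψ (QuotientGroup.mk' N) (QuotientGroup.mk'_surjective N)
  have := h _ _ hχ' hψ' (by rwa [deg_comp]) (by rw [deg_comp, deg_comp, e])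
    ((mem_charKer (chr hχ') g).2 (by simpa using (mem_charKer (chr hχ) _).1 hg))
  exact (mem_charKer (chr hψ) _).2 (by simpa using (mem_charKer (chr hψ') g).1 this)

theorem faith {χ : G → ℂ} (hχ : IsIrrCharacter G χ) (hk : charKer χ = ⊥) :
    ∃ f : center G →* ℂˣ, Function.Injective f ∧ ∀ z : center G, χ z = f z * χ 1 := by
  obtain ⟨f, hf⟩ := exists_hom_charCenter (irr_one_ne_zero hχ)
  have k : ∀ z : center G, χ z = (f.comp (inclusion (center_le_charCenter hχ))) z * χ 1 := fun z => by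
    simpa using hf (inclusion (center_le_charCenter hχ) z) 1
  refine ⟨_, (injective_iff_map_eq_one _).2 fun z hz => ?_, k⟩
  have := (mem_charKer (chr hχ) z.1).2 (by rw [k, hz]; simp)
  rw [hk] at this
  exact Subtype.ext this

theorem van {χ : G → ℂ} (hχ : IsIrrCharacter G χ) (h : commutator G ≤ charCenter χ) {g : G}
    (hg : g ∉ charCenter χ) : χ g = 0 :=
  cls2_vanish hχ hg fun x => h (by
    have := commutator_mem_commutator (mem_top g⁻¹) (mem_top x)
    rw [commutatorElement_def, inv_inv] at this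
    rw [commutator_def]
    simpa only [mul_assoc] using this)

theorem van2 {χ : G → ℂ} (hχ : IsIrrCharacter G χ) (h : commutator G ≤ charCenter χ) :
    charDegree χ ^ 2 = (charCenter χ).index :=
  sq_eq_index_of_vanish_center hχ _ le_rfl (fun _ hg => van hχ h hg) (deg_eq (chr hχ))

theorem eq_bot_or {p : ℕ} (hp : p.Prime) {K M : Subgroup G} (h : K ≤ M) (hM : Nat.card M = p) : K = ⊥ ∨ K = M := by
  rcases (Nat.dvd_prime hp).1 (hM ▸ card_dvd_of_le h) with e | e
  · exact Or.inl (card_eq_one.1 e)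
  · exact Or.inr (eq_of_le_of_card_ge h (by rw [e, hM]))

theorem comm_central {p : ℕ} [hp : Fact p.Prime] (hG : IsPGroup p G) {M : Subgroup G} [M.Normal]
    (hM : Nat.card M = p) : M ≤ center G := by
  haveI := hG.isNilpotent
  have h0 : M ≠ ⊥ := by rintro rfl; rw [card_bot] at hM; exact hp.out.one_lt.ne hM
  rcases eq_bot_or hp.out (inf_le_left : M ⊓ center G ≤ M) hM with e | e
  · exact absurd e (inf_center_ne_bot' M h0)
  · exact inf_eq_left.1 e

theorem exists_L {p : ℕ} [hp : Fact p.Prime] (hG : IsPGroup p G) {M : Subgroup G} [M.Normal] (h : M ≠ ⊥) :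
    ∃ L : Subgroup G, L ≤ M ∧ L ≤ center G ∧ Nat.card L = p := by
  haveI := hG.isNilpotent
  have h1 := inf_center_ne_bot' M h
  have h2 : p ∣ Nat.card ↥(M ⊓ center G) := by
    rcases (hG.to_subgroup (M ⊓ center G)).card_eq_or_dvd with e | e
    · exact absurd (card_eq_one.1 e) h1
    · exact e
  obtain ⟨x, hx⟩ := exists_prime_orderOf_dvd_card' p h2
  exact ⟨zpowers x.1, zpowers_le.2 x.2.1, zpowers_le.2 x.2.2, by rw [Nat.card_zpowers, orderOf_coe, hx]⟩

theorem pw {p : ℕ} [hp : Fact p.Prime] (hG : IsPGroup p G) {χ : G → ℂ} (hχ : IsIrrCharacter G χ) :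
    ∃ k, charDegree χ = p ^ k := by
  obtain ⟨k, hk⟩ := degree_prime_pow hG hχ
  exact ⟨k, deg_of_eq hk⟩

theorem key {p : ℕ} [hp : Fact p.Prime] (hG : IsPGroup p G) (h : SK G) {L : Subgroup G} [L.Normal]
    (hL : Nat.card L = p) (hLZ : L ≤ center G) (hc : IsCyclic (center (G ⧸ L)))
    (hcomm : ∀ g ∈ commutator G, ∀ x, x * g * x⁻¹ * g⁻¹ ∈ L) {χ ψ : G → ℂ} (hχ : IsIrrCharacter G χ)
    (hψ : IsIrrCharacter G ψ) (hk : charKer ψ = L) (h1 : charDegree ψ ≠ 1) (hn : ¬ L ≤ charKer χ) :
    charDegree χ < charDegree ψ ∧ charDegree ψ ^ 2 ≤ (center G).index := by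
  have h2 := van2 hψ fun g hg => (mem_charCenter_iff_comm hψ g).2 (hk ▸ hcomm g hg)
  refine ⟨?_, h2 ▸ index_antitone (center_le_charCenter hψ)⟩
  obtain ⟨⟨xq, hxq⟩, hx⟩ := hc.exists_generator
  obtain ⟨x, rfl⟩ := QuotientGroup.mk_surjective xq
  have hxp : x ^ p ∈ center G := by
    refine mem_center_iff.2 fun y => ?_
    have hl : y * x * y⁻¹ * x⁻¹ ∈ L := by
      rw [← QuotientGroup.eq_one_iff]
      have := mem_center_iff.1 hxq (y : G ⧸ L)
      simp only [QuotientGroup.mk_mul, QuotientGroup.mk_inv, this]; group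
    have e1 : (y * x * y⁻¹ * x⁻¹) ^ p = 1 := by
      have := pow_card_eq_one' (x := (⟨_, hl⟩ : L))
      rw [hL] at this
      exact congrArg Subtype.val this
    have e2 : (y * x * y⁻¹ * x⁻¹ * x) ^ p = x ^ p := by
      rw [Commute.mul_pow (show Commute _ x from (mem_center_iff.1 (hLZ hl) x).symm), e1, one_mul]
    rw [inv_mul_cancel_right, conj_pow] at e2
    exact mul_inv_eq_iff_eq_mul.1 e2
  have h3 : (center G).relIndex (charCenter ψ) ≤ p := by
    have e : (center G).relIndex (charCenter ψ) = Nat.card ((charCenter ψ).map (QuotientGroup.mk' (center G))) := by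
      rw [← relIndex_ker, QuotientGroup.ker_mk']
    have l : (charCenter ψ).map (QuotientGroup.mk' (center G)) ≤ zpowers (x : G ⧸ center G) := by
      rintro _ ⟨g, hg, rfl⟩
      have hg' : (g : G ⧸ L) ∈ center (G ⧸ L) := by
        refine mem_center_iff.2 fun y => ?_
        obtain ⟨y, rfl⟩ := QuotientGroup.mk_surjective y
        have := (mem_charCenter_iff_comm hψ g).1 hg y
        rw [hk, ← QuotientGroup.eq_one_iff] at this
        simp only [QuotientGroup.mk_mul, QuotientGroup.mk_inv] at this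
        rwa [mul_inv_eq_one, mul_inv_eq_iff_eq_mul] at this
      obtain ⟨k, e⟩ := hx ⟨_, hg'⟩
      have e' : ((x ^ k : G) : G ⧸ L) = g := by simpa using congrArg Subtype.val e
      refine ⟨k, ?_⟩
      show ((x ^ k : G) : G ⧸ center G) = g
      exact QuotientGroup.eq.2 (hLZ (QuotientGroup.eq.1 e'))
    rw [e]
    refine (card_le_of_le l).trans ?_
    rw [Nat.card_zpowers]
    exact Nat.le_of_dvd hp.out.pos (orderOf_dvd_of_pow_eq_one (by
      rw [← QuotientGroup.mk_pow, QuotientGroup.eq_one_iff]; exact hxp))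
  have h4 := degree_sq_le_index hχ (deg_eq (chr hχ)) _ (center_le_charCenter hχ)
  rw [← relIndex_mul_index (center_le_charCenter hψ), ← h2] at h4
  have h5 : charDegree χ ≠ charDegree ψ := fun e => hn (hk ▸ h ψ χ hψ hχ h1 e.symm)
  obtain ⟨a, ha⟩ := pw hG hχ
  obtain ⟨b, hb⟩ := pw hG hψ
  rw [ha, hb] at h4 h5 ⊢
  have h6 : p ^ (a * 2) ≤ p ^ (b * 2 + 1) := by
    rw [pow_mul, pow_succ' p, pow_mul]; exact h4.trans (Nat.mul_le_mul_right _ h3)
  rw [Nat.pow_le_pow_iff_right hp.out.one_lt] at h6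
  have : a ≠ b := fun e => h5 (e ▸ rfl)
  exact Nat.pow_lt_pow_right hp.out.one_lt (by omega)

theorem exists_nonlin (h : commutator G ≠ ⊥) : ∃ χ, IsIrrCharacter G χ ∧ charDegree χ ≠ 1 := by
  by_contra! k
  exact h (le_bot_iff.1 (comm_le_of_deg ⊥ fun χ hχ _ => k χ hχ))
end

theorem main (p : ℕ) [hp : Fact p.Prime] (n : ℕ) : ∀ (G : Type u) [Group G] [Finite G], Nat.card G = n →
    IsPGroup p G → SK G → commutator G ≠ ⊥ → IsCyclic (center G) ∧ Nat.card (commutator G) = p := by
  induction n using Nat.strong_induction_on with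
  | _ n ih =>
  intro G _ _ hn hG h h0
  suffices hs : Nat.card (commutator G) = p by
    obtain ⟨χ, hχ, h1⟩ := exists_nonlin h0
    rcases eq_bot_or hp.out (h.ker_le hχ h1) hs with e | e
    · obtain ⟨f, hf, -⟩ := faith hχ e
      exact ⟨isCyclic_of_injective_ringHom ((Units.coeHom ℂ).comp f) (Units.val_injective.comp hf), hs⟩
    · exact absurd e.ge ((nonlin hχ).1 h1)
  by_contra hne
  have cm : ∀ (L : Subgroup G) [L.Normal], commutator (G ⧸ L) = (commutator G).map (QuotientGroup.mk' L) := by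
    intro L _
    rw [commutator_def, commutator_def, map_commutator, map_top_of_surjective _ (QuotientGroup.mk'_surjective L)]
  have st : ∀ (L : Subgroup G) [L.Normal], L ≤ commutator G → Nat.card L = p →
      commutator (G ⧸ L) ≠ ⊥ ∧ IsCyclic (center (G ⧸ L)) ∧ (∀ g ∈ commutator G, ∀ x, x * g * x⁻¹ * g⁻¹ ∈ L) ∧
      ∀ K, L ≤ K → K ≤ commutator G → K = L ∨ commutator G ≤ K := by
    intro L _ h1 h2
    have a : commutator (G ⧸ L) ≠ ⊥ := by
      rw [cm, Ne, Subgroup.map_eq_bot_iff, QuotientGroup.ker_mk']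
      exact fun e => hne (le_antisymm e h1 ▸ h2)
    have lt : Nat.card (G ⧸ L) < n := by
      rw [← hn, card_eq_card_quotient_mul_card_subgroup L, h2]
      exact lt_mul_of_one_lt_right Nat.card_pos hp.out.one_lt
    obtain ⟨b, c⟩ := ih _ lt (G ⧸ L) rfl (hG.to_quotient L) (h.quot L) a
    refine ⟨a, b, fun g hg x => ?_, fun K k1 k2 => ?_⟩
    · have := mem_center_iff.1 (comm_central (hG.to_quotient L) c (cm L ▸ mem_map_of_mem _ hg)) (x : G ⧸ L)
      rw [← QuotientGroup.eq_one_iff]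
      simp only [QuotientGroup.mk'_apply] at this
      simp only [QuotientGroup.mk_mul, QuotientGroup.mk_inv, this]; group
    · rcases eq_bot_or hp.out (show K.map (QuotientGroup.mk' L) ≤ _ from cm L ▸ map_mono k2) c with e | e
      · rw [Subgroup.map_eq_bot_iff, QuotientGroup.ker_mk'] at e
        exact Or.inl (le_antisymm e k1)
      · right
        have := congrArg (comap (QuotientGroup.mk' L)) e
        rw [cm, comap_map_eq, comap_map_eq, QuotientGroup.ker_mk', sup_eq_left.2 k1] at this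
        exact this ▸ le_sup_left
  have nz : ∀ L : Subgroup G, L ≤ center G → L.Normal := fun L hL =>
    ⟨fun x hx g => by rw [mem_center_iff.1 (hL hx) g, mul_inv_cancel_right]; exact hx⟩
  obtain ⟨L, l1, l2, l3⟩ := exists_L hG h0
  haveI := nz L l2
  obtain ⟨s1, s2, s3, s4⟩ := st L l1 l3
  obtain ⟨φ, hφ, d1⟩ := exists_nonlin s1
  have hψ := irr_comp_surj hφ (QuotientGroup.mk' L) (QuotientGroup.mk'_surjective L)
  have dψ := deg_comp (QuotientGroup.mk' L) φ
  set ψ : G → ℂ := fun x => φ (QuotientGroup.mk' L x) with hψd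
  have d2 : charDegree ψ ≠ 1 := dψ ▸ d1
  have kψ : charKer ψ = L := by
    refine (s4 _ (fun x hx => (mem_charKer (chr hψ) x).2 ?_) (h.ker_le hψ d2)).resolve_right ((nonlin hψ).1 d2)
    simp [hψd, (QuotientGroup.eq_one_iff x).2 hx]
  obtain ⟨l, hl, l0⟩ : ∃ l ∈ L, l ≠ 1 := by
    by_contra! k
    rw [(eq_bot_iff_forall L).2 k, card_bot] at l3
    exact hp.out.one_lt.ne l3
  obtain ⟨χ, hχ, hχl⟩ := exists_irr_ne_of_ne_one l0
  have hn' : ¬ L ≤ charKer χ := fun e => hχl ((mem_charKer (chr hχ) l).1 (e hl))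
  have d3 : charDegree χ ≠ 1 := (nonlin hχ).2 fun e => hn' (l1.trans e)
  obtain ⟨k1, k2⟩ := key hG h l3 l2 s2 s3 hχ hψ kψ d2 hn'
  have kχ : charKer χ = ⊥ := by
    by_contra k
    haveI := charKer_normal (irr_class hχ)
    obtain ⟨L', m1, m2, m3⟩ := exists_L hG k
    haveI := nz L' m2
    obtain ⟨-, t2, t3, t4⟩ := st L' (m1.trans (h.ker_le hχ d3)) m3
    have e := (t4 _ m1 (h.ker_le hχ d3)).resolve_right ((nonlin hχ).1 d3)
    refine lt_asymm k1 (key hG h m3 m2 t2 t3 hψ hχ e d3 fun q => hn' ?_).1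
    rw [kψ] at q
    rw [e, eq_of_le_of_card_ge q (by rw [l3, m3])]
  by_cases hz : commutator G ≤ center G
  · have := van2 hχ (hz.trans (center_le_charCenter hχ))
    rw [charCenter_eq_center hχ kχ] at this
    rw [← this] at k2
    exact absurd (Nat.pow_lt_pow_left k1 two_ne_zero) (not_lt.2 k2)
  obtain ⟨y, hy, hyz⟩ := SetLike.not_le_iff_exists.1 hz
  let f : G →* L := MonoidHom.mk' (fun x => ⟨x * y * x⁻¹ * y⁻¹, s3 y hy x⟩) fun a b => Subtype.ext (by
    show a * b * y * (a * b)⁻¹ * y⁻¹ = a * y * a⁻¹ * y⁻¹ * (b * y * b⁻¹ * y⁻¹)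
    have := mem_center_iff.1 (l2 (s3 y hy b)) (y * a⁻¹ * y⁻¹)
    calc _ = a * (b * y * b⁻¹ * y⁻¹ * (y * a⁻¹ * y⁻¹)) := by group
      _ = _ := by rw [← this]; group)
  have i1 : f.ker.index ≤ p := by
    rw [index_ker, ← l3]; exact Nat.card_le_card_of_injective _ Subtype.val_injective
  have c1 : commutator G ≤ centralizer (f.ker : Set G) := by
    refine ((s4 (L ⊔ zpowers y) le_sup_left (sup_le l1 (zpowers_le.2 hy))).resolve_left fun e =>
      hyz (l2 (e ▸ mem_sup_right (mem_zpowers y)))).trans (sup_le (l2.trans (center_le_centralizer _)) ?_)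
    refine zpowers_le.2 (mem_centralizer_iff.2 fun c hc => ?_)
    have : c * y * c⁻¹ * y⁻¹ = 1 := congrArg Subtype.val hc
    rwa [mul_inv_eq_one, mul_inv_eq_iff_eq_mul] at this
  have c2 : ⁅f.ker, f.ker⁆ ≤ center G := by
    have := commutator_commutator_eq_bot_of_rotate (H₁ := f.ker) (H₂ := f.ker) (H₃ := ⊤)
      (commutator_eq_bot_iff_le_centralizer.2 ((commutator_mono le_top le_top).trans c1))
      (commutator_eq_bot_iff_le_centralizer.2 ((commutator_mono le_top le_top).trans c1))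
    rwa [commutator_eq_bot_iff_le_centralizer, coe_top, centralizer_univ] at this
  have c3 : ⁅f.ker, f.ker⁆ ≤ L := by
    exact (le_inf c2 (commutator_mono le_top le_top)).trans
      ((s4 (center G ⊓ commutator G) (le_inf l2 l1) inf_le_right).resolve_right fun e => hz (e.trans inf_le_left)).le
  have c4 : IsMulCommutative (f.ker.map (QuotientGroup.mk' L)) := by
    rw [← le_centralizer_iff_isMulCommutative, ← commutator_eq_bot_iff_le_centralizer, ← map_commutator,
      Subgroup.map_eq_bot_iff, QuotientGroup.ker_mk']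
    exact c3
  have c5 := (deg_le_index hφ c4).trans ((Nat.le_of_dvd (Nat.pos_of_ne_zero index_ne_zero_of_finite)
    (index_map_dvd _ (QuotientGroup.mk'_surjective L))).trans i1)
  obtain ⟨a, ha⟩ := pw hG hχ
  rw [dψ, ha] at k1
  have : p ^ a < p ^ 1 := by rw [pow_one]; omega
  rw [Nat.pow_lt_pow_iff_right hp.out.one_lt] at this
  obtain rfl : a = 0 := by omega
  exact d3 (by simpa using ha)

/-- Let p be a prime and P a finite non-commutative p-group. Then every two irreducible characters of P of the same degree greater than 1 are Galois conjugate (one is obtained from the other by composing with g ↦ g^k for some k prime to the order of P) if and only if the centre of P is cyclic and the derived subgroup of P has order p. -/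
theorem result {P : Type*} [Group P] [Finite P] (p : ℕ) [Fact p.Prime] (hP : IsPGroup p P) (hna : ¬ IsMulCommutative P) :
    (∀ χ ψ : Cfsg.IrrCharacter P, Cfsg.charDegree (χ : P → ℂ) ≠ 1 → Cfsg.charDegree (χ : P → ℂ) = Cfsg.charDegree (ψ : P → ℂ) → ∃ k : ℕ, Nat.Coprime k (Nat.card P) ∧ ∀ g : P, (ψ : P → ℂ) g = (χ : P → ℂ) (g ^ k)) ↔
      (IsCyclic (Subgroup.center P) ∧ Nat.card (commutator P) = p) := by
  have hp : p.Prime := Fact.out
  constructor
  · intro h
    refine main p _ P rfl hP (fun χ ψ hχ hψ h1 e g hg => ?_) fun e => hna ?_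
    · obtain ⟨k, -, hk⟩ := h ⟨χ, hχ⟩ ⟨ψ, hψ⟩ h1 e
      refine (mem_charKer (chr hψ) g).2 ?_
      have a := hk g
      have b := hk 1
      simp only [one_pow] at a b
      rw [a, b]
      exact (mem_charKer (chr hχ) _).1 (pow_mem hg k)
    · rw [commutator_eq_bot_iff_center_eq_top] at e
      exact ⟨⟨fun a b => mem_center_iff.1 (e ▸ mem_top b) a⟩⟩
  · rintro ⟨hc, hd⟩ ⟨χ, hχ⟩ ⟨ψ, hψ⟩ h1 e
    have hz := comm_central hP hd
    have kb : ∀ θ, IsIrrCharacter P θ → charDegree θ ≠ 1 → charKer θ = ⊥ := by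
      intro θ hθ h1
      by_contra k
      haveI := charKer_normal (irr_class hθ)
      obtain ⟨L, l1, l2, l3⟩ := exists_L hP k
      refine (nonlin hθ).1 h1 (le_trans ?_ l1)
      have e1 : ∀ K : Subgroup P, K ≤ center P → Nat.card (K.subgroupOf (center P)) = Nat.card K := fun K hK =>
        Nat.card_congr (subgroupOfEquivOfLe hK).toEquiv
      have : (commutator P).subgroupOf (center P) ≤ L.subgroupOf (center P) :=
        cyclic_le_of_card_dvd (by rw [e1 _ hz, e1 _ l2, hd, l3])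
      intro x hx
      exact mem_subgroupOf.1 (this (show (⟨x, hz hx⟩ : center P) ∈ _ from mem_subgroupOf.2 hx))
    have k1 := kb χ hχ h1
    have k2 := kb ψ hψ (e ▸ h1)
    obtain ⟨f, hf, ef⟩ := faith hχ k1
    obtain ⟨f', hf', ef'⟩ := faith hψ k2
    obtain ⟨z, hz0⟩ := hc.exists_generator
    have o1 : IsPrimitiveRoot (f z) (orderOf z) := orderOf_injective f hf z ▸ IsPrimitiveRoot.orderOf _
    have o2 : IsPrimitiveRoot (f' z) (orderOf z) := orderOf_injective f' hf' z ▸ IsPrimitiveRoot.orderOf _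
    haveI : NeZero (orderOf z) := ⟨(orderOf_pos z).ne'⟩
    obtain ⟨k, -, hk, ek⟩ := ((IsPrimitiveRoot.coe_units_iff.2 o1).isPrimitiveRoot_iff).1
      (IsPrimitiveRoot.coe_units_iff.2 o2)
    have pd : p ∣ orderOf z := by
      rw [orderOf_eq_card_of_forall_mem_zpowers hz0, ← hd]; exact card_dvd_of_le hz
    obtain ⟨m, hm⟩ := hP.exists_card_eq
    have cop : Nat.Coprime k (Nat.card P) := hm ▸ (hk.coprime_dvd_right pd).pow_right m
    have e1 : ψ 1 = χ 1 := by rw [deg_eq (chr hχ), deg_eq (chr hψ)]; exact_mod_cast e.symm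
    refine ⟨k, cop, fun g => ?_⟩
    show ψ g = χ (g ^ k)
    by_cases hg : g ∈ center P
    · obtain ⟨j, hj⟩ := hz0 ⟨g, hg⟩
      have a := ef' ⟨g, hg⟩
      have b := ef (⟨g, hg⟩ ^ k)
      have ek' : f z ^ k = f' z := Units.ext (by simpa using ek)
      rw [coe_pow] at b
      rw [a, b, e1, ← hj]
      simp only [map_pow, map_zpow, ← ek', ← zpow_natCast, ← zpow_mul, mul_comm]
    · have hg' : g ^ k ∉ center P := fun q => hg (by
        have := mem_zpowers_pow_iff.2 (show k.gcd (orderOf g) = 1 from cop.coprime_dvd_right (orderOf_dvd_natCard g))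
        exact zpowers_le.2 q this)
      rw [van hψ (hz.trans (center_le_charCenter hψ)) (by rwa [charCenter_eq_center hψ k2]),
        van hχ (hz.trans (center_le_charCenter hχ)) (by rwa [charCenter_eq_center hχ k1])]

end Cfsg.Agent.S4845
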