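import Cfsg.Statements.S4811
import Cfsg.Agent.H3.Cx
import Cfsg.Agent.S4845

set_option autoImplicit false
open Cfsg

namespace Cfsg.Agent.S4811

open scoped commutatorElement
open H1
open Subgroup H3 Cfsg.Agent.S4845

universe u

section
variable {G : Type u} [Group G] [Finite G]

theorem nm {T : Subgroup G} (hT : commutator G ≤ T) : T.Normal := ⟨fun n hn g => by
  have := mul_mem (hT (commutator_mem_commutator (mem_top g) (mem_top n))) hn
  rwa [commutatorElement_def, inv_mul_cancel_right] at this⟩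

theorem jn [Group.IsSolvable G] (h0 : commutator G ≠ ⊥) (hm : ∀ M : Subgroup G, M.Normal → M ≠ ⊥ → commutator G ≤ M) :
    commutator G ≤ centralizer (commutator G : Set G) ∧ ∃ p k : ℕ, p.Prime ∧
      Nat.card (centralizer (commutator G : Set G)) = p ^ k := by
  have h1 : commutator G ≤ centralizer (commutator G : Set G) := by
    rw [← commutator_eq_bot_iff_le_centralizer]
    by_contra k
    exact (Group.IsSolvable.commutator_lt_of_ne_bot h0).not_ge (hm _ inferInstance k)
  refine ⟨h1, ?_⟩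
  set C := centralizer (commutator G : Set G) with hC
  haveI : C.Normal := nm h1
  haveI : Group.IsNilpotent C := by
    refine Subgroup.nilpotent_iff_lowerCentralSeries.2 ⟨2, Subgroup.lowerCentralSeries_succ_eq_bot _ ?_⟩
    rw [Subgroup.lowerCentralSeries_succ, Subgroup.lowerCentralSeries_zero, commutator_le]
    intro a _ b _
    exact mem_center_iff.2 fun c => Subtype.ext (mem_centralizer_iff.1 c.2 _
      (commutator_mem_commutator (mem_top a.1) (mem_top b.1))).symm
  obtain ⟨p, hp, hd⟩ := Nat.exists_prime_and_dvd (fun e => h0 (card_eq_one.1 e))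
  refine ⟨p, _, hp, Nat.eq_prime_pow_of_unique_prime_dvd Nat.card_pos.ne' fun {q} hq hqd => ?_⟩
  haveI := Fact.mk hq
  let Q : Sylow q C := default
  have hQ : (Q : Subgroup C).Normal := Sylow.normal_of_normalizerCondition normalizerCondition_of_isNilpotent Q
  haveI := Q.characteristic_of_normal hQ
  have := hm ((Q : Subgroup C).map C.subtype) inferInstance (by
    rw [Ne, map_eq_bot_iff_of_injective _ C.subtype_injective]; exact Q.ne_bot_of_dvd_card hqd)
  obtain ⟨j, hj⟩ := (Q.isPGroup'.map C.subtype).exists_card_eq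
  exact ((Nat.prime_dvd_prime_iff_eq hp hq).1 (hp.dvd_of_dvd_pow (hj ▸ hd.trans (card_dvd_of_le this)))).symm

theorem sepc {N : Subgroup G} (h : N ≤ centralizer (N : Set G)) {v : N} (hv : v ≠ 1) : ∃ f : N →* ℂˣ, f v ≠ 1 :=
  exists_hom_ne_one (by
    rwa [(commutator_eq_bot_iff_center_eq_top _).2 (eq_top_iff.2 fun a _ =>
      mem_center_iff.2 fun b => Subtype.ext (mem_centralizer_iff.1 (h a.2) _ b.2))])

theorem jd (h0 : commutator G ≠ ⊥) (hm : ∀ M : Subgroup G, M.Normal → M ≠ ⊥ → commutator G ≤ M)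
    (h1 : commutator G ≤ centralizer (commutator G : Set G)) :
    ∃ χ, IsIrrCharacter G χ ∧ (centralizer (commutator G : Set G)).index ∣ charDegree χ := by
  obtain ⟨v, hv⟩ := ne_bot_iff_exists_ne_one.1 h0
  obtain ⟨f, hf⟩ := sepc h1 hv
  obtain ⟨χ, hχ, hd⟩ := exists_deg_dvd (commutator G) (isIrr_hom f)
  refine ⟨χ, hχ, (index_dvd_of_le ?_).trans ((dvd_mul_right _ _).trans hd)⟩
  set T := inertia (commutator G) fun g => (f g : ℂ) with hT
  haveI : T.Normal := nm (le_inertia _ (irr_class (isIrr_hom f)))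
  rw [← commutator_eq_bot_iff_le_centralizer]
  by_contra k
  have l : ⁅T, commutator G⁆ ≤ f.ker.map (commutator G).subtype := by
    rw [commutator_le]
    intro t ht n hn
    have := (mem_inertia' _).1 ht ⟨n, hn⟩
    refine ⟨⟨t * n * t⁻¹, Normal.conj_mem inferInstance n hn t⟩ * ⟨n, hn⟩⁻¹, ?_, rfl⟩
    show f _ = 1
    rw [map_mul, map_inv, mul_inv_eq_one]
    exact Units.ext this
  obtain ⟨w, hw, e⟩ := l (hm _ inferInstance k v.2)
  exact hf (Subtype.ext e ▸ hw)

theorem manz [Group.IsSolvable G] (h0 : commutator G ≠ ⊥) : ∃ p r : ℕ, p.Prime ∧ r.Prime ∧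
    ∀ χ, IsIrrCharacter G χ → ∀ q : ℕ, q.Prime → q ∣ charDegree χ →
      ∃ ψ, IsIrrCharacter G ψ ∧ q ∣ charDegree ψ ∧ (p ∣ charDegree ψ ∨ r ∣ charDegree ψ) := by
  classical
  have := Fintype.ofFinite G
  obtain ⟨K, ⟨hKn, hK⟩, hmax⟩ := Set.Finite.exists_maximal (Set.toFinite {K : Subgroup G | K.Normal ∧ ¬ commutator G ≤ K})
    ⟨⊥, inferInstance, fun e => h0 (le_bot_iff.1 e)⟩
  set π := QuotientGroup.mk' K with hπ
  have hs : Function.Surjective π := QuotientGroup.mk'_surjective K
  have cm : commutator (G ⧸ K) = (commutator G).map π := by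
    rw [_root_.commutator_def, _root_.commutator_def, map_commutator, map_top_of_surjective _ hs]
  have q0 : commutator (G ⧸ K) ≠ ⊥ := by rwa [cm, Ne, Subgroup.map_eq_bot_iff, QuotientGroup.ker_mk']
  have qm : ∀ M : Subgroup (G ⧸ K), M.Normal → M ≠ ⊥ → commutator (G ⧸ K) ≤ M := by
    intro M hM h1
    rw [cm, map_le_iff_le_comap]
    by_contra k
    have := hmax (y := M.comap π) ⟨hM.comap π, k⟩ (by
      intro x hx; rw [mem_comap, hπ, QuotientGroup.mk'_apply, (QuotientGroup.eq_one_iff x).2 hx]; exact one_mem _)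
    refine h1 ((eq_bot_iff_forall _).2 fun x hx => ?_)
    obtain ⟨x, rfl⟩ := hs x
    exact (QuotientGroup.eq_one_iff x).2 (this hx)
  obtain ⟨h1, p, k, hp, hk⟩ := jn q0 qm
  set D := commutator (G ⧸ K) with hD
  set C := centralizer (D : Set (G ⧸ K)) with hC
  have cop : ∀ {d m : ℕ}, ¬ p ∣ d → m ∣ p ^ k → d.Coprime m := fun a b =>
    ((hp.coprime_iff_not_dvd.2 a).symm.pow_right k).coprime_dvd_right b
  by_cases hCt : C = ⊤
  · refine ⟨p, p, hp, hp, fun χ hχ q hq hqd => ?_⟩
    by_cases hpd : p ∣ charDegree χ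
    · exact ⟨χ, hχ, hqd, Or.inl hpd⟩
    rw [hCt, card_top] at hk
    obtain ⟨β, hβ, d1⟩ := Cfsg.Agent.S4845.exists_nonlin q0
    have d2 : p ∣ charDegree β := by
      obtain ⟨i, -, e⟩ := (Nat.dvd_prime_pow hp).1 (hk ▸ deg_dvd hβ)
      rw [e] at d1 ⊢
      exact dvd_pow_self _ (by rintro rfl; simp at d1)
    have hβ' := irr_comp_surj hβ π hs
    have e : charDegree ((fun x => β (π x)) * χ) = charDegree β * charDegree χ :=
      deg_of_eq (by rw [Pi.mul_apply, map_one, ideg_eq hβ, ideg_eq hχ]; simp)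
    refine ⟨_, gallagher_irr K (chr hχ) (irr_restrict_of_coprime K hχ (cop hpd (hk ▸ dvd_rfl))) hβ'
      (fun n hn => by simp [hπ, (QuotientGroup.eq_one_iff n).2 hn]), ?_, Or.inl ?_⟩ <;> rw [e]
    · exact hqd.mul_left _
    · exact d2.mul_right _
  obtain ⟨r, hr, hrd⟩ := Nat.exists_prime_and_dvd (fun e => hCt (index_eq_one.1 e))
  refine ⟨p, r, hp, hr, fun χ hχ q hq hqd => ?_⟩
  by_cases hpd : p ∣ charDegree χ
  · exact ⟨χ, hχ, hqd, Or.inl hpd⟩
  let N := D.comap π
  have hGN : commutator G ≤ N := map_le_iff_le_comap.1 cm.ge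
  haveI : N.Normal := nm hGN
  have := Fintype.ofFinite N
  obtain ⟨ψ, hψ, hc⟩ := exists_irr_under N hχ
  obtain ⟨e, he, hed⟩ := degree_ratio_dvd N hψ hχ hc
  have he' : charDegree χ = e * charDegree ψ := deg_of_eq (by rw [he, ideg_eq hψ]; simp)
  rw [he'] at hqd hpd
  rcases (hq.dvd_mul).1 hqd with hqe | hqψ
  · obtain ⟨β, hβ, hd⟩ := jd q0 qm h1
    refine ⟨_, irr_comp_surj hβ π hs, ?_, Or.inr ?_⟩ <;> rw [deg_comp]
    · have i1 : N.index = D.relIndex C * C.index := by
        rw [relIndex_mul_index h1]; exact index_comap_of_surjective _ hs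
      rcases hq.dvd_mul.1 (i1 ▸ hqe.trans hed) with a | a
      · have := (Nat.prime_dvd_prime_iff_eq hq hp).1 (hq.dvd_of_dvd_pow (hk ▸ a.trans (relIndex_dvd_card D C)))
        exact absurd (this ▸ hqd) hpd
      · exact a.trans hd
    · exact hrd.trans hd
  by_contra hno
  push Not at hno
  haveI := Fact.mk hr
  let g : N →* D := (π.comp N.subtype).codRestrict D fun x => x.2
  have hgi : g.ker.index ∣ p ^ k := by
    rw [index_ker]; exact (card_subgroup_dvd_card _).trans (hk ▸ card_dvd_of_le h1)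
  have hres := irr_restrict_of_coprime g.ker hψ (cop (fun a => hpd (a.mul_left _)) hgi)
  let R : Sylow r G := default
  obtain ⟨x, hxR, hxC⟩ : ∃ x ∈ (R : Subgroup G), x ∉ C.comap π := by
    by_contra! a
    have := index_dvd_of_le (show (R : Subgroup G) ≤ C.comap π from a)
    rw [index_comap_of_surjective _ hs] at this
    exact R.not_dvd_index (hrd.trans this)
  have fx : ∀ f : N →* ℂˣ, x ∈ inertia N (ψ * fun n => (f n : ℂ)) := by
    intro f
    obtain ⟨χ', hχ', hd⟩ := exists_deg_dvd N (irr_mul_hom hψ f)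
    rw [deg_mul_hom] at hd
    have a := (hno χ' hχ' ((hqψ.mul_left _).trans hd)).2
    haveI : (inertia N (ψ * fun n => (f n : ℂ))).Normal := nm (hGN.trans (le_inertia N (irr_class (irr_mul_hom hψ f))))
    obtain ⟨j, hj⟩ := R.isPGroup' ⟨x, hxR⟩
    have o : orderOf x ∣ r ^ j := orderOf_dvd_of_pow_eq_one (congrArg Subtype.val hj)
    exact zpowers_le.2 (pow_index_mem _ x) (mem_zpowers_pow_iff.2
      (((hr.coprime_iff_not_dvd.2 fun b => a ((b.mul_right _).trans hd)).symm.pow_right j).coprime_dvd_right o))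
  refine hxC (mem_comap.2 (mem_centralizer_iff.2 fun y hy => ?_))
  obtain ⟨y, rfl⟩ := hs y
  let n : N := ⟨y, hy⟩
  have : g (cjAut N x n) * (g n)⁻¹ = 1 := by
    by_contra a
    obtain ⟨f, hf⟩ := sepc h1 a
    have f1 := (mem_inertia' N).1 (fx 1)
    have f2 := (mem_inertia' N).1 (fx (f.comp g))
    have gk : ∀ m ∈ g.ker, cjAut N x m ∈ g.ker := fun m hm => Subtype.ext (by
      have : π m = 1 := congrArg Subtype.val hm
      show π (x * m * x⁻¹) = 1
      simp [this])
    have := gallagher_inj g.ker (chr hψ) hres (isIrr_hom ((f.comp g).comp (cjAut N x).toMonoidHom))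
      (fun m hm => by simp [MonoidHom.mem_ker.1 (gk m hm)]) (isIrr_hom (f.comp g))
      (fun m hm => by simp [MonoidHom.mem_ker.1 hm]) (funext fun m => by
        have a := f1 m
        have b := f2 m
        simp only [Pi.mul_apply, MonoidHom.one_apply, Units.val_one, mul_one] at a b ⊢
        rw [a] at b
        rw [mul_comm, mul_comm _ (ψ m)]
        exact b)
    refine hf ?_
    rw [map_mul, map_inv, mul_inv_eq_one]
    exact Units.ext (congrFun this n)
  have e2 : π (x * y * x⁻¹) = π y := congrArg Subtype.val (mul_inv_eq_one.1 this)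
  rw [map_mul, map_mul, map_inv, mul_inv_eq_iff_eq_mul] at e2
  exact e2.symm
end

/-- For every finite solvable group G the character degree graph of G (vertices: the primes dividing some irreducible complex character degree; edges: distinct primes whose product divides some degree) has at most two connected components. -/
theorem result {G : Type*} [Group G] [Finite G] [Group.IsSolvable G] : Nat.card ((Cfsg.degreeGraph G).induce (Cfsg.degreePrimes G)).ConnectedComponent ≤ 2 := by
  classical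
  obtain ⟨p, r, hp, hr, h⟩ : ∃ p r : ℕ, p.Prime ∧ r.Prime ∧
      ∀ χ, IsIrrCharacter G χ → ∀ q : ℕ, q.Prime → q ∣ charDegree χ →
      ∃ ψ, IsIrrCharacter G ψ ∧ q ∣ charDegree ψ ∧ (p ∣ charDegree ψ ∨ r ∣ charDegree ψ) := by
    by_cases h0 : commutator G = ⊥
    · refine ⟨2, 2, Nat.prime_two, Nat.prime_two, fun χ hχ q hq hd => ?_⟩
      have : charDegree χ = 1 := by
        by_contra k
        exact (nonlin hχ).1 k (h0 ▸ bot_le)
      exact absurd (Nat.dvd_one.1 (this ▸ hd)) hq.ne_one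
    · exact manz h0
  have key : ∀ (v : degreePrimes G) (s : ℕ) (ψ : G → ℂ), IsIrrCharacter G ψ → s.Prime → v.1 ∣ charDegree ψ →
      s ∣ charDegree ψ → ∃ hs : s ∈ degreePrimes G,
        ((degreeGraph G).induce (degreePrimes G)).connectedComponentMk v =
          ((degreeGraph G).induce (degreePrimes G)).connectedComponentMk ⟨s, hs⟩ := by
    intro v s ψ hψ hs h1 h2
    refine ⟨⟨hs, _, ⟨⟨ψ, hψ⟩, rfl⟩, h2⟩, ?_⟩
    by_cases e : v.1 = s
    · subst e; rfl
    · exact SimpleGraph.ConnectedComponent.connectedComponentMk_eq_of_adj ⟨e, v.2.1, hs, _, ⟨⟨ψ, hψ⟩, rfl⟩,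
        ((Nat.coprime_primes v.2.1 hs).2 e).mul_dvd_of_dvd_of_dvd h1 h2⟩
  have key2 : ∀ c : ((degreeGraph G).induce (degreePrimes G)).ConnectedComponent,
      (∃ hs : p ∈ degreePrimes G, c = ((degreeGraph G).induce (degreePrimes G)).connectedComponentMk ⟨p, hs⟩) ∨
      (∃ hs : r ∈ degreePrimes G, c = ((degreeGraph G).induce (degreePrimes G)).connectedComponentMk ⟨r, hs⟩) := by
    refine SimpleGraph.ConnectedComponent.ind fun v => ?_
    obtain ⟨hv, _, ⟨χ, rfl⟩, hd⟩ := v.2
    obtain ⟨ψ, hψ, a, b | b⟩ := h χ.1 χ.2 v.1 hv hd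
    · exact Or.inl (key v p ψ hψ hp a b)
    · exact Or.inr (key v r ψ hψ hr a b)
  refine (Nat.card_le_card_of_injective (fun c => ∃ hs : p ∈ degreePrimes G,
    c = ((degreeGraph G).induce (degreePrimes G)).connectedComponentMk ⟨p, hs⟩) fun a b e => ?_).trans (by simp)
  rcases key2 a with ha | ha <;> rcases key2 b with hb | hb
  · obtain ⟨_, rfl⟩ := ha; obtain ⟨_, rfl⟩ := hb; rfl
  · obtain ⟨_, e1⟩ := e.mp ha; obtain ⟨_, rfl⟩ := ha; exact e1.symm
  · obtain ⟨_, e1⟩ := e.mpr hb; obtain ⟨_, rfl⟩ := hb; exact e1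
  · obtain ⟨_, rfl⟩ := ha; obtain ⟨_, rfl⟩ := hb; rfl

end Cfsg.Agent.S4811
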