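import Cfsg.Statements.S5016
import Cfsg.Agent.H5.SL2Cl

set_option autoImplicit false
open Cfsg

namespace Cfsg.Agent.S5016

open H5

theorem hup {k : Type*} [Field k] (g : SL2 k) : g ∈ Cfsg.upperUnipotentSL2 k ↔ ∃ b, g = up b := by
  refine ⟨fun h => ?_, by rintro ⟨b, rfl⟩; exact Subgroup.subset_closure ⟨rfl, rfl, rfl⟩⟩
  have : g ∈ US OnePoint.infty := (Subgroup.closure_le _).2 (fun g h => by
    obtain ⟨a, b, c, d, e, rfl⟩ := exists_sl2 g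
    exact sl2_mem_US.2 ⟨h.2.1, h.1, h.2.2⟩) h
  obtain ⟨a, b, c, d, e, rfl⟩ := exists_sl2 g
  obtain ⟨rfl, rfl, rfl⟩ := sl2_mem_US.1 this
  exact ⟨b, rfl⟩

theorem hlo {k : Type*} [Field k] (g : SL2 k) : g ∈ Cfsg.lowerUnipotentSL2 k ↔ ∃ b, g = sl2 1 0 b 1 (by simp) := by
  refine ⟨fun h => ?_, by rintro ⟨b, rfl⟩; exact Subgroup.subset_closure ⟨rfl, rfl, rfl⟩⟩
  induction h using Subgroup.closure_induction with
  | mem g h =>
    obtain ⟨a, b, c, d, e, rfl⟩ := exists_sl2 g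
    exact ⟨c, sl2_eq_iff.2 ⟨h.2.1, h.1, rfl, h.2.2⟩⟩
  | one => exact ⟨0, one_eq_sl2⟩
  | mul _ _ _ _ h1 h2 =>
    obtain ⟨a, rfl⟩ := h1
    obtain ⟨b, rfl⟩ := h2
    exact ⟨a + b, by rw [sl2_mul, sl2_eq_iff]; simp⟩
  | inv _ _ h =>
    obtain ⟨a, rfl⟩ := h
    exact ⟨-a, by rw [sl2_inv, sl2_eq_iff]; simp⟩

/-- For any field k, the special linear group SL₂(k) is a special rank one group with abelian unipotent subgroups, the unipotent subgroups being the group of lower unitriangular matrices and the group of upper unitriangular matrices. -/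
theorem result (k : Type*) [Field k] :
    Cfsg.IsRankOneGroup (Matrix.SpecialLinearGroup (Fin 2) k) (Cfsg.lowerUnipotentSL2 k) (Cfsg.upperUnipotentSL2 k) ∧
    Cfsg.IsSpecialRankOnePair (Cfsg.lowerUnipotentSL2 k) (Cfsg.upperUnipotentSL2 k) ∧
    Cfsg.HasAbelianUnipotents (Cfsg.lowerUnipotentSL2 k) (Cfsg.upperUnipotentSL2 k) := by
  have hU : Cfsg.upperUnipotentSL2 k = US OnePoint.infty := by
    ext g
    obtain ⟨a, b, c, d, e, rfl⟩ := exists_sl2 g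
    rw [hup, sl2_mem_US]
    exact ⟨by rintro ⟨t, h⟩; have := sl2_eq_iff.1 h; tauto, by rintro ⟨rfl, rfl, rfl⟩; exact ⟨b, rfl⟩⟩
  have hc : ∀ (c : SL2 k) x, Cfsg.conjBy (US x) c = US (mkS c • x) := fun c x => by
    rw [← mkG_toG, US_smul]
    congr 1
  have hL : Cfsg.lowerUnipotentSL2 k = US ((0 : k) : OnePoint k) := by
    have : mkS (sl2 (0 : k) (-1) 1 0 (by simp)) • (OnePoint.infty : OnePoint k) = (0 : k) := by
      rw [mkS_sl2, pg_infty_eq_coe_iff]; simp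
    rw [← this, ← hc, ← hU]
    ext g
    rw [hlo, mem_cj, hup]
    obtain ⟨a, b, c, d, e, rfl⟩ := exists_sl2 g
    simp only [sl2_inv, sl2_mul, sl2_eq_iff]
    constructor
    · rintro ⟨t, rfl, rfl, rfl, rfl⟩; simp
    · rintro ⟨t, h⟩; exact ⟨c, by grind⟩
  have key : ∀ s t : k, Cfsg.conjBy (Cfsg.lowerUnipotentSL2 k) (up t)⁻¹ =
      Cfsg.conjBy (Cfsg.upperUnipotentSL2 k) (sl2 1 0 s 1 (by simp))⁻¹ ↔ s * t = 1 := fun s t => by
    have : mkS (up t)⁻¹ • ((0 : k) : OnePoint k) = (-t : k) := by rw [sl2_inv, mkS_sl2, pg_coe_eq_iff]; simp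
    rw [hU, hL, hc, hc, US_injective.eq_iff, this, eq_comm, sl2_inv, mkS_sl2, pg_infty_eq_coe_iff]
    grind
  have hl1 : ∀ s : k, sl2 1 0 s 1 (by simp) = 1 ↔ s = 0 := fun s => by rw [one_eq_sl2, sl2_eq_iff]; simp
  have hcomm : ∀ x : OnePoint k, IsMulCommutative (US x) := fun x =>
    ⟨⟨fun a b => Subtype.ext (US_comm (mkS_mem_UP a.2) (mkS_mem_UP b.2))⟩⟩
  have hP : Cfsg.IsRankOnePair (Cfsg.lowerUnipotentSL2 k) (Cfsg.upperUnipotentSL2 k) := by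
    refine ⟨by rw [hU, hL, ne_eq, US_injective.eq_iff]; simp, ?_, ?_, fun a ha h1 => ?_, fun a ha h1 => ?_⟩
    · rw [hL]; exact ⟨1, Subgroup.upperCentralSeries_one_eq_top_iff.2 (hcomm _)⟩
    · rw [hU]; exact ⟨1, Subgroup.upperCentralSeries_one_eq_top_iff.2 (hcomm _)⟩
    · obtain ⟨s, rfl⟩ := (hlo a).1 ha
      have := mt (hl1 s).2 h1
      exact ⟨up s⁻¹, (hup _).2 ⟨_, rfl⟩, by simpa [up_eq_one], (key _ _).2 (mul_inv_cancel₀ this)⟩
    · obtain ⟨s, rfl⟩ := (hup a).1 ha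
      have := mt up_eq_one.2 h1
      exact ⟨_, (hlo _).2 ⟨s⁻¹, rfl⟩, by simpa [hl1], ((key _ _).2 (inv_mul_cancel₀ this)).symm⟩
  refine ⟨⟨SL2_eq_top _ (fun b => Subgroup.mem_sup_right ((hup _).2 ⟨b, rfl⟩)) fun b => Subgroup.mem_sup_left ((hlo _).2 ⟨b, rfl⟩),
    hP⟩, ⟨hP, fun a ha _ b hb _ h => ?_⟩, hL ▸ hcomm _, hU ▸ hcomm _⟩
  obtain ⟨s, rfl⟩ := (hlo a).1 ha
  obtain ⟨t, rfl⟩ := (hup b).1 hb
  rw [key] at h
  simp only [sl2_inv, sl2_mul, sl2_eq_iff]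
  grind


end Cfsg.Agent.S5016
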