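import Cfsg.Statements.S5178
import Cfsg.Agent.H9.ES6

set_option autoImplicit false
universe u
open Cfsg

namespace Cfsg.Agent.S5178

/-- Let p be an odd prime, S a finite p-group containing an extraspecial subgroup Q of index p, and F a saturated fusion system over S whose largest subgroup normal in F is trivial. Then the centre of S equals the centre of Q. -/
theorem result {Ω : Type u} [Group Ω] {S : Subgroup Ω} [Finite S] (p : ℕ) [Fact p.Prime] (hp : Odd p) (hS : IsPGroup p S)
    (Q : Subgroup Ω) (hQS : Q ≤ S) (hQ : Cfsg.IsExtraspecial p ↥Q) (hQi : (Q.subgroupOf S).index = p)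
    (F : Cfsg.FusionSystem S) (hF : F.IsSaturated p) (hO : F.core = ⊥) :
    S ⊓ Subgroup.centralizer (S : Set Ω) = Q ⊓ Subgroup.centralizer (Q : Set Ω) := by
  open H9 Subgroup in open scoped commutatorElement in
  obtain ⟨F', a, -, c, -⟩ := FG.exists_top (p := p) ⟨hS, hF⟩
  obtain ⟨Q, rfl⟩ : ∃ B : Subgroup S, Q = B.map S.subtype := ⟨_, (map_subgroupOf_eq_of_le hQS).symm⟩
  rw [subgroupOf_map_subtype'] at hQi
  have e := FG.xs_center (by rintro rfl; exact absurd hp (by decide)) a (c hO) (FG.xs_down hQ) hQi
  rw [← map_center_subtype S, e, map_inf_centralizer_inj S.subtype_injective]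

end Cfsg.Agent.S5178
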