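import Cfsg.Statements.S5179
import Cfsg.Agent.H9.ES6

set_option autoImplicit false
universe u
open Cfsg

namespace Cfsg.Agent.S5179

/-- Let p be an odd prime, S a finite p-group of order at least p⁶ containing an extraspecial subgroup Q of index p, and F a saturated fusion system over S whose largest subgroup normal in F is trivial. Then no proper subgroup of Q is essential in F: an essential subgroup of F contained in Q equals Q. -/
theorem result {Ω : Type u} [Group Ω] {S : Subgroup Ω} [Finite S] (p : ℕ) [Fact p.Prime] (hp : Odd p) (hS : IsPGroup p S)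
    (Q : Subgroup Ω) (hQS : Q ≤ S) (hQ : Cfsg.IsExtraspecial p ↥Q) (hQi : (Q.subgroupOf S).index = p)
    (h6 : p ^ 6 ≤ Nat.card S)
    (F : Cfsg.FusionSystem S) (hF : F.IsSaturated p) (hO : F.core = ⊥)
    (E : Subgroup Ω) (hEQ : E ≤ Q) (hE : F.IsEssential p E) : E = Q := by
  open H9 Subgroup in open scoped commutatorElement in
  obtain ⟨F', a, b, -⟩ := FG.exists_top (p := p) ⟨hS, hF⟩
  obtain ⟨Q, rfl⟩ : ∃ B : Subgroup S, Q = B.map S.subtype := ⟨_, (map_subgroupOf_eq_of_le hQS).symm⟩
  obtain ⟨E, rfl⟩ : ∃ B : Subgroup S, E = B.map S.subtype := ⟨_, (map_subgroupOf_eq_of_le hE.1.1).symm⟩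
  rw [subgroupOf_map_subtype'] at hQi
  by_contra hne
  have e := FG.xs_ess a (FG.xs_down hQ) ((b E).1 hE)
    ((map_le_map_iff_of_injective S.subtype_injective).1 hEQ) fun e => hne (congrArg _ e)
  rw [← Q.index_mul_card, hQi] at h6
  have := h6.trans (Nat.mul_le_mul_left p e)
  rw [← pow_succ', Nat.pow_le_pow_iff_right (Fact.out : p.Prime).one_lt] at this
  omega

end Cfsg.Agent.S5179
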