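import Cfsg.Statements.S5186
import Cfsg.Agent.H9.ES7

set_option autoImplicit false
universe u
open Cfsg

namespace Cfsg.Agent.S5186

/-- Let F be a saturated fusion system over a finite p-group S and H an essential subgroup of order p³. Then H is elementary abelian, or p is odd and H is extraspecial of exponent p, or p = 2 and H is the quaternion group of order 8. -/
theorem result {Ω : Type u} [Group Ω] {S : Subgroup Ω} [Finite S] (p : ℕ) [Fact p.Prime] (hS : IsPGroup p S)
    (F : Cfsg.FusionSystem S) (hF : F.IsSaturated p) (H : Subgroup Ω) (hH : F.IsEssential p H) (hcard : Nat.card H = p ^ 3) :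
    Cfsg.IsElementaryAbelian p H ∨ (Odd p ∧ Cfsg.IsExtraspecial p ↥H ∧ ∀ x ∈ H, x ^ p = 1) ∨
      (p = 2 ∧ Nonempty (↥H ≃* QuaternionGroup 2)) := by
  open H9 Subgroup in open scoped commutatorElement in
  obtain ⟨M, _, _, Q, T, e, h, -⟩ := FG.ess_rd (p := p) ⟨hS, hF⟩ hH
  exact (h.cube ((Nat.card_congr e.toEquiv).symm.trans hcard)).imp (elem_of_equiv e.symm) (Or.imp
    (fun ⟨a, b, c⟩ => ⟨(Fact.out : p.Prime).odd_of_ne_two a, xs_equiv e.symm b, pow_of_equiv e.symm c⟩)
    fun ⟨a, b⟩ => ⟨a, b.map e.trans⟩)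

end Cfsg.Agent.S5186
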