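import Cfsg.Statements.S5187
import Cfsg.Agent.H9.ES7

set_option autoImplicit false
universe u
open Cfsg

namespace Cfsg.Agent.S5187

/-- Let F be a saturated fusion system over a finite p-group S and H an abelian essential subgroup that can be generated by two elements (its Frattini quotient has order at most p²). Then H is elementary abelian of order p², or p ≤ 3 and H is homocyclic of rank two, that is isomorphic to C_{pᵏ} × C_{pᵏ} for some k. -/
theorem result {Ω : Type u} [Group Ω] {S : Subgroup Ω} [Finite S] (p : ℕ) [Fact p.Prime] (hS : IsPGroup p S)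
    (F : Cfsg.FusionSystem S) (hF : F.IsSaturated p) (H : Subgroup Ω) (hH : F.IsEssential p H) (hab : IsMulCommutative ↥H) (hrk : (frattini ↥H).index ≤ p ^ 2) :
    (Cfsg.IsElementaryAbelian p H ∧ Nat.card H = p ^ 2) ∨
      (p ≤ 3 ∧ ∃ k : ℕ, Nonempty (↥H ≃* Multiplicative (ZMod (p ^ k) × ZMod (p ^ k)))) := by
  open H9 Subgroup in open scoped commutatorElement in
  obtain ⟨M, _, _, Q, T, e, h, -⟩ := FG.ess_rd (p := p) ⟨hS, hF⟩ hH
  haveI : Finite H := Finite.of_equiv _ e.symm.toEquiv
  have hQ := comm_of_equiv e hab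
  obtain ⟨k, a, b, c, d⟩ := h.homo hQ (by
    have c1 := (pow_hom_ab hQ p).2.2
    have c2 : (L.Phi Q).relIndex Q ≤ (frattini H).index := by
      rw [relIndex, subgroupOf_map_subtype', ← index_comap_of_surjective _ (f := e.toMonoidHom) e.surjective]
      exact index_antitone (frattini_le_comap_frattini_of_surjective e.surjective)
    have l : L.Phi Q ≤ mho p Q := L.Phi_le_of ((commutator_eq_bot_iff_le_centralizer.2 (L.le_centralizer_of_comm hQ)).le.trans
      bot_le) fun x hx => ((pow_hom_ab hQ p).1 _).2 ⟨x, hx, rfl⟩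
    rw [← relIndex_mul_card (mho_le p Q), mul_comm] at c1
    exact (Nat.eq_of_mul_eq_mul_left Nat.card_pos c1).ge.trans
      ((relIndex_le_of_le_left l index_ne_zero_of_finite).trans (c2.trans hrk)))
  rcases c with rfl | c
  · exact Or.inl ⟨⟨hab, pow_of_equiv e.symm (by simpa using b)⟩, (Nat.card_congr e.toEquiv).trans a⟩
  · exact Or.inr ⟨c, _, d.map e.trans⟩

end Cfsg.Agent.S5187
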