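import Cfsg.Statements.S5188
import Cfsg.Agent.H9.ES7

set_option autoImplicit false
universe u
open Cfsg

namespace Cfsg.Agent.S5188

/-- Let F be a saturated fusion system over a finite p-group S and H an essential subgroup of order p⁴. Then H is isomorphic to one of: C_p⁴ or C_{p²} × C_p × C_p (any p); C_{p²} × C_{p²} with p ∈ {2, 3}; p^{1+2}_+ × C_p with p odd (the direct product of an extraspecial group of order p³ and exponent p with a group of order p); Q₈ × C₂ (p = 2); or the non-abelian group of order p⁴ of exponent p² whose centre is cyclic of order p² (the central product of an extraspecial group of order p³ with a cyclic group of order p²; for p = 2 this is D₈ ∘ C₄). -/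
theorem result {Ω : Type u} [Group Ω] {S : Subgroup Ω} [Finite S] (p : ℕ) [Fact p.Prime] (hS : IsPGroup p S)
    (F : Cfsg.FusionSystem S) (hF : F.IsSaturated p) (H : Subgroup Ω) (hH : F.IsEssential p H) (hcard : Nat.card H = p ^ 4) :
    Cfsg.IsElementaryAbelian p H ∨
      Nonempty (↥H ≃* Multiplicative (ZMod (p ^ 2) × ZMod p × ZMod p)) ∨
      ((p = 2 ∨ p = 3) ∧ Nonempty (↥H ≃* Multiplicative (ZMod (p ^ 2) × ZMod (p ^ 2)))) ∨
      (Odd p ∧ ∃ (E : Type) (_ : Group E) (_ : Finite E), Cfsg.IsExtraspecial p E ∧ Nat.card E = p ^ 3 ∧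
        (∀ x : E, x ^ p = 1) ∧ Nonempty (↥H ≃* E × Multiplicative (ZMod p))) ∨
      (p = 2 ∧ Nonempty (↥H ≃* QuaternionGroup 2 × Multiplicative (ZMod 2))) ∨
      (¬ IsMulCommutative ↥H ∧ (∀ x ∈ H, x ^ (p ^ 2) = 1) ∧ IsCyclic ↥(Subgroup.center ↥H) ∧
        Nat.card (Subgroup.center ↥H) = p ^ 2) := by
  open H9 Subgroup in open scoped commutatorElement in
  obtain ⟨M, _, _, Q, T, e, h, -⟩ := FG.ess_rd (p := p) ⟨hS, hF⟩ hH
  have hp : p.Prime := Fact.out
  have f := centerCongr e
  refine (h.four ((Nat.card_congr e.toEquiv).symm.trans hcard)).imp (elem_of_equiv e.symm) (Or.imp (·.map e.trans) (Or.imp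
    (fun ⟨a, b⟩ => ⟨by have := hp.two_le; omega, b.map e.trans⟩) (Or.imp
    (fun ⟨a, E, _, _, b, c, d, g⟩ => ⟨hp.odd_of_ne_two a, E, _, ‹_›, b, c, d, g.map e.trans⟩) (Or.imp
    (fun ⟨a, b⟩ => ⟨a, b.map e.trans⟩) fun ⟨a, b, c, d⟩ => ⟨fun k => a (comm_of_equiv e k), pow_of_equiv e.symm b, isCyclic_of_surjective _ f.symm.surjective,
      (Nat.card_congr f.toEquiv).trans d⟩))))

end Cfsg.Agent.S5188
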