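import Cfsg.Statements.S5191
import Cfsg.Agent.H9.FG4

set_option autoImplicit false
open Cfsg

namespace Cfsg.Agent.S5191

/-- Fusion in a finite group G and in its quotient by O_{p'}(G) agree. Let S be a Sylow p-subgroup of G, N = O_{p'}(G) and P ≤ S. If an element of G/N conjugates the image of P into the image of S, then some element g of G conjugates P into S and induces the same map on P modulo N. (Together with the injectivity of S → G/N this says that g ↦ gN induces an isomorphism of the fusion system of G on S with that of G/N on SN/N.) -/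
theorem result {G : Type*} [Group G] [Finite G] {p : ℕ} [Fact p.Prime]
    [hN : (Cfsg.pPrimeCore p G).Normal] (S : Sylow p G) (P : Subgroup G) (hP : P ≤ (S : Subgroup G))
    (γ : G ⧸ Cfsg.pPrimeCore p G)
    (hγ : ∀ x ∈ P, γ * QuotientGroup.mk x * γ⁻¹ ∈ ((S : Subgroup G).map (QuotientGroup.mk' (Cfsg.pPrimeCore p G)))) :
    ∃ g : G, ∀ x ∈ P, g * x * g⁻¹ ∈ S ∧
      (QuotientGroup.mk (g * x * g⁻¹) : G ⧸ Cfsg.pPrimeCore p G) = γ * QuotientGroup.mk x * γ⁻¹ := by
  open H9 Subgroup in open scoped commutatorElement in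
  obtain ⟨g, rfl⟩ := QuotientGroup.mk_surjective γ
  have hS := syl_top_of_sylow S
  obtain ⟨n, h1, h2⟩ := (syl_sup_of_cop hS.isP (pPrimeCore_cop p) (Or.inl (le_top.trans (top_le_normalizer _)))).exists_cj_le
    (isPGroup_cj g (hS.isP.to_le hP)) (by
      rintro _ ⟨x, hx, rfl⟩
      have := hγ x hx
      rw [← QuotientGroup.mk_inv, ← QuotientGroup.mk_mul, ← QuotientGroup.mk_mul] at this
      have := mem_comap.2 (show QuotientGroup.mk' _ _ ∈ _ from this)
      rwa [comap_map_eq, QuotientGroup.ker_mk'] at this)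
  obtain ⟨s, a1, m, a2, rfl⟩ := (mem_sup_of_le_normalizer (le_top.trans (top_le_normalizer _))).1 h1
  refine ⟨m * g, fun x hx => ⟨?_, ?_⟩⟩
  · have := mul_mem (mul_mem (inv_mem a1) (h2 (conj_mem_cj (conj_mem_cj hx)))) a1
    rwa [show s⁻¹ * (s * m * (g * x * g⁻¹) * (s * m)⁻¹) * s = m * g * x * (m * g)⁻¹ by group] at this
  · simp [(QuotientGroup.eq_one_iff m).2 a2]

end Cfsg.Agent.S5191
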