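import Cfsg.Statements.S5192
import Cfsg.Agent.H2.Fus11

set_option autoImplicit false
open Cfsg

namespace Cfsg.Agent.S5192

open H2 Subgroup in

/-- A Thompson-type transfer for saturated fusion systems. Let F be a saturated fusion system on a finite 2-group S, T a subgroup of S of index 2, and i an involution of S such that every fully normalized F-conjugate of i lies in S but outside T. Then i does not lie in the hyperfocal subgroup of F (the Sylow group of the 2-residual subsystem). -/
theorem result {Ω : Type*} [Group Ω] [Finite Ω] {S : Subgroup Ω}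
    (hS : IsPGroup 2 ↥S) (F : Cfsg.FusionSystem S) (hF : F.IsSaturated 2)
    (T : Subgroup Ω) (hTS : T ≤ S) (hT : T.relIndex S = 2)
    (i : Ω) (hi : i ∈ S) (hi2 : orderOf i = 2)
    (h : ∀ j : Ω, F.IsConjElt i j → F.IsFullyNormalized (Subgroup.zpowers j) → j ∉ T) :
    i ∉ F.hyperfocalSubgroup 2 := by
  have hF' : Sat 2 F := ⟨hS, hF⟩
  refine fun hh => hF'.thompson_transfer hT hi hi2 (fun j hj hc => h j hj ?_) (hyp_le_focal F hh)
  obtain ⟨σ, hσ, rfl⟩ := isConjElt_iff.1 hj
  have key : ∀ x : Ω, orderOf x = 2 → normalizer (zpowers x : Set Ω) = centralizer (zpowers x : Set Ω) := by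
    intro x hx
    refine le_antisymm (fun g hg y hy => ?_) (centralizer_le_normalizer _)
    have h2 : ∀ y ∈ zpowers x, y = 1 ∨ y = x := fun y hy => by
      obtain ⟨n, rfl⟩ := mem_zpowers_iff.1 hy
      have : x ^ 2 = 1 := hx ▸ pow_orderOf_eq_one x
      rcases Int.even_or_odd' n with ⟨m, rfl | rfl⟩
      · left; rw [zpow_mul, zpow_ofNat, this, one_zpow]
      · right; rw [zpow_add, zpow_mul, zpow_ofNat, this, one_zpow, one_mul, zpow_one]
    rcases h2 y hy with rfl | rfl
    · simp
    · rcases h2 _ ((mem_normalizer_iff.1 hg y).1 hy) with e | e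
      · have : y = 1 := by simpa using e
        simp [this]
      · exact (mul_inv_eq_iff_eq_mul.1 e).symm
  have ord : ∀ {x : Ω} {τ : Equiv.Perm Ω}, Mor F (zpowers x) τ → orderOf (τ x) = orderOf x := fun {x τ} hτ => by
    rw [← Nat.card_zpowers, ← hτ.homOn.img_zpowers, hτ.card_img, Nat.card_zpowers]
  have h2 := (ord hσ).trans hi2
  refine fn_iff.2 ⟨hc.1, fun τ hτ => ?_⟩
  have := (fc_iff.1 hc).2 τ hτ
  rw [hτ.homOn.img_zpowers] at this ⊢
  rwa [key _ h2, key _ ((ord hτ).trans h2)]

end Cfsg.Agent.S5192
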