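import Cfsg.Statements.S5234
import Cfsg.Agent.H2.Res2
import Cfsg.Agent.S0638

set_option autoImplicit false
open Cfsg

namespace Cfsg.Agent.S5234

open H2 Subgroup in

/-- Let p be an odd prime, F a saturated fusion system over a finite p-group S and P a metacyclic subgroup of S strongly closed in F. Then P is normal in F. -/
theorem result {Ω : Type*} [Group Ω] {S : Subgroup Ω} [Finite S] (p : ℕ) [Fact p.Prime] (hS : IsPGroup p S) (F : Cfsg.FusionSystem S) (hF : F.IsSaturated p) (P : Subgroup Ω) (hP : F.StronglyClosed P) (hp : p ≠ 2) (hm : Cfsg.IsMetacyclic ↥P) : F.IsNormal P := by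
  have hF' : H2.Sat p F := ⟨hS, hF⟩
  have := finite_of_le hP.1
  by_cases hc : IsCyclic P
  · exact hF'.normal_of_abelian hP (commutator_eq_bot_iff_le_centralizer.2 fun a ha b hb =>
      congrArg Subtype.val (IsCyclic.isMulCommutative.1.1 (⟨b, hb⟩ : P) ⟨a, ha⟩))
  obtain ⟨⟨h1, h2⟩, h3⟩ := S0638.result hp (hS.to_le hP.1) hm hc
  refine hF'.normal_of_omega_sq hp hP (V := (Cfsg.omegaOne p ⊤).map P.subtype) (fun x => ⟨?_, fun h =>
    ⟨⟨x, h.1⟩, subset_closure ⟨trivial, Subtype.ext h.2⟩, rfl⟩⟩) ?_ (by rw [card_map_of_injective P.subtype_injective, h3])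
  · rintro ⟨x, hx, rfl⟩
    exact ⟨x.2, congrArg Subtype.val (h2 x hx)⟩
  · rintro _ ⟨x, hx, rfl⟩ _ ⟨y, hy, rfl⟩
    have := congrArg Subtype.val (congrArg Subtype.val (h1.1.1 ⟨y, hy⟩ ⟨x, hx⟩)); exact this

end Cfsg.Agent.S5234
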