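import Cfsg.Statements.S5270
import Cfsg.Agent.H9.ES8

set_option autoImplicit false
open Cfsg

namespace Cfsg.Agent.S5270

/-- Let p ≥ 5 be a prime, S a finite p-group of maximal class of order p^n with n ≥ 4, and F a saturated fusion system over S. If some map of F defined on the second centre Z₂(S) with image Z₂(S) does not carry Z(S) into itself, then the centralizer C_S(Z₂(S)) is an F-essential subgroup. -/
theorem result {Ω : Type*} [Group Ω] {S : Subgroup Ω} [Finite S] (p : ℕ) [Fact p.Prime] (hS : IsPGroup p ↥S) (n : ℕ) (hn : Nat.card S = p ^ n) (h4 : 4 ≤ n) (hmax : Subgroup.lowerCentralSeries S (n - 2) ≠ ⊥) (F : Cfsg.FusionSystem S) (hF : F.IsSaturated p) (hp : 5 ≤ p) (φ : ↥((Subgroup.upperCentralSeries ↥S 2).map S.subtype) →* Ω) (hφ : φ ∈ F.Hom ((Subgroup.upperCentralSeries ↥S 2).map S.subtype)) (hφZ : φ.range = ((Subgroup.upperCentralSeries ↥S 2).map S.subtype)) (hmove : ∃ (z : Ω) (hz : z ∈ ((Subgroup.upperCentralSeries ↥S 2).map S.subtype)), z ∈ ((Subgroup.center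 ↥S).map S.subtype) ∧ φ ⟨z, hz⟩ ∉ ((Subgroup.center ↥S).map S.subtype)) : F.IsEssential p (S ⊓ Subgroup.centralizer (((Subgroup.upperCentralSeries ↥S 2).map S.subtype) : Set Ω)) := by
  open H9 Subgroup in open scoped commutatorElement in
  obtain ⟨z, hz, h1, h2⟩ := hmove
  obtain ⟨m, rfl⟩ := Nat.exists_eq_add_of_le' h4
  have c := card_z2_le hS hn.le fun e => hmax (by rw [← top_subtype_lowerCentralSeries]; exact e ▸ map_bot _)
  have hT := hS.to_subgroup ⊤
  obtain ⟨a, ha⟩ := L.exists_card_eq_pow (hS.to_subgroup (Subgroup.upperCentralSeries S 2))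
  have i := (L.relIndex_centralizer_le_pow hT a le_top (top_le_normalizer _) ha).trans (Nat.pow_le_pow_right
    (Fact.out : p.Prime).pos (Nat.choose_le_choose 2 ((Nat.pow_le_pow_iff_right (Fact.out : p.Prime).one_lt).1 (ha ▸ c))))
  rw [map_center_subtype] at h1 h2
  refine FG.ess_cent ⟨hS, hF⟩ (map_subtype_le_normalizer _) ((map_le_centralizer_iff_inj S.subtype_injective).2
    (L.le_centralizer_of_comm (L.isMulCommutative_of_card_le_sq (hS.to_subgroup _) c))) (fun Q q1 q2 => ?_) (H2.mor_fn.2 hφ)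
    ((H2.range_eq_img_fn φ).symm.trans hφZ) hz h1 (by rwa [H2.fn_apply φ hz])
  obtain ⟨Q, rfl⟩ : ∃ B : Subgroup S, Q = B.map S.subtype := ⟨_, (map_subgroupOf_eq_of_le q2).symm⟩
  rw [← map_centralizer_subtype, map_subtype_lt_map_subtype] at q1
  rw [(L.eq_or_eq_of_relIndex_prime (by
    rw [L.relIndex_eq_of_le hT (fun e => q1.not_ge (le_top.trans e)) (by simpa using i)]; exact Fact.out)
    q1.le le_top).resolve_left q1.ne', ← MonoidHom.range_eq_map, range_subtype]

end Cfsg.Agent.S5270
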