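import Cfsg.Statements.S5296
import Cfsg.Agent.H2.Small

set_option autoImplicit false
universe u
open Cfsg

namespace Cfsg.Agent.S5296

open H2 Subgroup in

/-- Small-exponent abelian subgroups of the hyperfocal subgroup control fusion. Let E and F be saturated fusion systems over the same finite p-group S with E contained in F. Suppose that E and F have the same maps between A and B for all subgroups A, B of the hyperfocal subgroup of F that are elementary abelian when p is odd, respectively abelian of exponent dividing 4 when p = 2. Then E = F. -/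
theorem result {Ω : Type u} [Group Ω] {S : Subgroup Ω} [Finite S] (p : ℕ) [Fact p.Prime] (hS : IsPGroup p S)
    (E F : Cfsg.FusionSystem S) (hE : E.IsSaturated p) (hF : F.IsSaturated p) (hEF : E.IsSubsystemOf F)
    (hodd : p ≠ 2 → ∀ A B : Subgroup Ω, A ≤ (F.hyperfocalSubgroup p) → B ≤ (F.hyperfocalSubgroup p) →
      Cfsg.IsElementaryAbelian p A → Cfsg.IsElementaryAbelian p B → E.homSet A B = F.homSet A B)
    (htwo : p = 2 → ∀ A B : Subgroup Ω, A ≤ (F.hyperfocalSubgroup p) → B ≤ (F.hyperfocalSubgroup p) →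
      IsMulCommutative ↥A → IsMulCommutative ↥B → (∀ a ∈ A, a ^ 4 = 1) → (∀ b ∈ B, b ^ 4 = 1) → E.homSet A B = F.homSet A B) :
    ∀ P : Subgroup Ω, E.Hom P = F.Hom P := by
  have hF' : H2.Sat p F := ⟨hS, hF⟩
  have key := hF'.sub_of_small ⟨hS, hE⟩ hEF fun A h1 h2 h3 τ hτ => by
    have h4 : IsMulCommutative A := ⟨⟨fun a b => Subtype.ext (h2 b.2 a a.2)⟩⟩
    have h5 : IsMulCommutative (img τ A) := ⟨⟨fun a b => Subtype.ext (by
      obtain ⟨x, hx, e⟩ := hτ.homOn.mem_img.1 a.2
      obtain ⟨y, hy, e'⟩ := hτ.homOn.mem_img.1 b.2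
      rw [coe_mul, coe_mul, ← e, ← e', ← hτ.homOn.map_mul hx hy, ← hτ.homOn.map_mul hy hx, h2 hy x hx])⟩⟩
    have h6 : ∀ y ∈ img τ A, y ^ sm p = 1 := fun y hy => by
      obtain ⟨x, hx, rfl⟩ := hτ.homOn.mem_img.1 hy
      rw [← hτ.homOn.map_pow hx, h3 x hx, hτ.homOn.map_one]
    have h7 := sc_img_le hF'.hyp_sc hτ h1
    have h8 : hτ.homOn.toHom ∈ F.homSet A (img τ A) := ⟨hτ.toHom_mem, fun x => mem_img_of_mem x.2⟩
    refine (mor_iff_of hτ.homOn.toHom fun _ => rfl).2 (And.left (b := ∀ x : A, hτ.homOn.toHom x ∈ img τ A) ?_)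
    change _ ∈ E.homSet A (img τ A)
    by_cases h : p = 2
    · simp only [sm, if_pos h] at h3 h6
      rwa [htwo h A _ h1 h7 h4 h5 h3 h6]
    · simp only [sm, if_neg h] at h3 h6
      rwa [hodd h A _ h1 h7 ⟨h4, h3⟩ ⟨h5, h6⟩]
  exact fun P => (hEF P).antisymm (key P)

end Cfsg.Agent.S5296
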