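import Cfsg.Statements.S5299
import Cfsg.Agent.H9.FG4

set_option autoImplicit false
universe u
open Cfsg

namespace Cfsg.Agent.S5299

/-- Let F be a saturated fusion system over a finite p-group S, H a finite group and Q a p-subgroup of H. If Q is not involved in S (no section of S is isomorphic to Q), then F is H-free: H is involved in no model of the normalizer system of a fully normalized centric subgroup. -/
theorem result {Ω : Type u} [Group Ω] {S : Subgroup Ω} [Finite S] (p : ℕ) [Fact p.Prime] (hS : IsPGroup p S)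
    (F : Cfsg.FusionSystem S) (hF : F.IsSaturated p) (H : Type*) [Group H] [Finite H] (Q : Subgroup H) (hQ : IsPGroup p Q)
    (hfree : ¬ Cfsg.Involves (↥Q) (↥S)) : F.IsSectionFree p H := by
  open H9 Subgroup in open scoped commutatorElement in
  intro R _ _ N _ L _ ι hM h
  have hM := H2.model_iff.1 hM
  haveI := hM.fin
  obtain ⟨K, -, f, hf⟩ := involves_iff.1 h
  obtain ⟨P, h1, h2⟩ := Syl.exists_of_im f (pre_le f Q) (P' := Q) (by rw [im_pre_surj f hf]; exact syl_self hQ)
  obtain ⟨g, -, h3⟩ := (FG.m_syl hM).exists_le_cj h1.isP le_top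
  have l := h1.le.trans (pre_le f Q)
  have a : Sect Q P := ⟨P, le_rfl, (f.comp (inclusion l)).codRestrict Q fun x => h2.le (mem_im_of_mem f x.2), fun y => by
    obtain ⟨x, a1, a2⟩ := (mem_im f).1 (h2.ge y.2)
    exact ⟨⟨x, a1⟩, Subtype.ext a2⟩⟩
  refine hfree (involves_iff.2 (Sect.mono (K := (FusionSystem.normalizerIn S R).subgroupOf S) (Sect.of_map S.subtype ?_) le_top))
  rw [map_subgroupOf_eq_of_le (show FusionSystem.normalizerIn S R ≤ S from inf_le_left)]
  refine Sect.of_coe (Sect.of_map ((MulAut.conj g).toMonoidHom.comp ι) (a.mono ?_))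
  rwa [← map_map, ← MonoidHom.range_eq_map]

end Cfsg.Agent.S5299
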