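import Cfsg.Statements.S5308
import Cfsg.Agent.H2.Fus28

set_option autoImplicit false
open Cfsg

namespace Cfsg.Agent.S5308

open H2 Subgroup in

/-- A saturated fusion system F over a finite p-group S has a generalized Fitting subsystem — a central product of the inner fusion system of O_p(F) (the largest subgroup of S normal in F) with a layer of F — and every generalized Fitting subsystem of F is a normal subsystem of F. -/
theorem result {Ω : Type*} [Group Ω] {S : Subgroup Ω} [Finite S] (p : ℕ) [Fact p.Prime] (hS : IsPGroup p S) (F : Cfsg.FusionSystem S) (hF : F.IsSaturated p) :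
    (∃ (U : Subgroup Ω) (D : Cfsg.FusionSystem U), D.IsGeneralizedFittingOf F p) ∧
      ∀ (U : Subgroup Ω) (D : Cfsg.FusionSystem U), D.IsGeneralizedFittingOf F p → D.IsNormalIn F p := by
  refine ⟨?_, fun U D hD => ?_⟩
  · obtain ⟨T, _, E, h⟩ := Sat.exists_lay ⟨hS, hF⟩
    have : Finite ↥(F.core ⊔ T) := finite_of_le (sup_le (core_le F) h.nrm.inv.le)
    obtain ⟨D, k⟩ := h.exists_gf rfl
    exact ⟨_, D, (gf_iff hS).2 ⟨T, inferInstance, E, h, k⟩⟩
  · have := gf_finite hD
    exact (nrm_iff hS).2 ((gf_iff hS).1 hD).nrm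

end Cfsg.Agent.S5308
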