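import Cfsg.Statements.S5309
import Cfsg.Agent.H2.Fus28

set_option autoImplicit false
open Cfsg

namespace Cfsg.Agent.S5309

open H2 Subgroup in

/-- Self-centralizing property of the generalized Fitting subsystem. Let F be a saturated fusion system over a finite p-group S and D a generalized Fitting subsystem of F, over U. Then the centre of D is the largest subgroup Y of C_S(U) centralized by D in F, in the sense that every map of D extends to a map of F fixing Y elementwise: the centre of D is such a subgroup, and every such Y lies in the centre of D. -/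
theorem result {Ω : Type*} [Group Ω] {S : Subgroup Ω} [Finite S] (p : ℕ) [Fact p.Prime] (hS : IsPGroup p S) (F : Cfsg.FusionSystem S) (hF : F.IsSaturated p)
    {U : Subgroup Ω} (D : Cfsg.FusionSystem U) (hD : D.IsGeneralizedFittingOf F p) :
    (D.center ≤ Cfsg.FusionSystem.centralizerIn S U ∧ ∀ P : Subgroup Ω, D.Hom P ⊆ F.centralizerHom D.center P) ∧
      ∀ Y : Subgroup Ω, Y ≤ Cfsg.FusionSystem.centralizerIn S U →
        (∀ P : Subgroup Ω, D.Hom P ⊆ F.centralizerHom Y P) → Y ≤ D.center := by
  have := gf_finite hD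
  rw [gf_iff hS] at hD
  have h1 := hD.nrm.inv
  have h2 : Cen F D D.center := ⟨le_inf ((center_le D).trans h1.le) D.center_le_centralizer, fun P σ hσ =>
    let ⟨τ, k1, k2⟩ := (cen_of_central le_rfl).2 P σ hσ
    ⟨τ, k1.sub h1.sub, k2⟩⟩
  exact ⟨⟨h2.1, (cen_iff.1 h2).2.2⟩, fun Y k1 k2 => hD.le_of_cen (cen_iff.2 ⟨k1, h1.le, k2⟩)⟩

end Cfsg.Agent.S5309
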