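import Cfsg.Statements.S5343
import Cfsg.Agent.H2.Small

set_option autoImplicit false
universe u
open Cfsg

namespace Cfsg.Agent.S5343

open H2 Subgroup in
theorem key {Ω : Type u} [Group Ω] {S : Subgroup Ω} [Finite S] (p : ℕ) [Fact p.Prime] (hS : IsPGroup p S)
    (F : Cfsg.FusionSystem S) (hsimple : F.IsSimple p) (n : ℕ) : ∀ (G : Type u) [Group G] [Finite G] (S₀ : Subgroup G)
    (ι : S →* G), Nat.card G = n → Iso F (groupFusionSystem S₀) ι → H2.IsSylowIn p S₀ ⊤ →
    ∃ (G : Type u) (_ : Group G) (_ : Finite G) (_ : IsSimpleGroup G) (ι : ↥S →* G), F.IsRealizedBy ι ∧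
      ∃ T : Sylow p G, (T : Subgroup G) = ι.range := by
  induction n using Nat.strong_induction_on with
  | _ n ih =>
  intro G _ _ S₀ ι h1 h2 h3
  by_cases h : IsSimpleGroup G
  · have := h2.range
    subst this
    exact ⟨G, _, inferInstance, h, ι, realized_iso.2 h2, sylow_range_iff.2 h3⟩
  obtain ⟨θ, h4, -⟩ := h2.exists_symm
  obtain ⟨-, k1, k2⟩ := (simple_iff h3.pgroup).1 (h4.simple (sat_group' h3) hsimple)
  have : Nontrivial G := by
    obtain ⟨x, -, hx⟩ := (bot_or_exists_ne_one _).resolve_left k1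
    exact ⟨x, 1, hx⟩
  obtain ⟨N, hN, k3, k4⟩ : ∃ N : Subgroup G, N.Normal ∧ N ≠ ⊥ ∧ N ≠ ⊤ := by
    by_contra! k
    exact h ⟨fun N hN => or_iff_not_imp_left.2 (k N hN)⟩
  by_cases k5 : S₀ ⊓ N = ⊥
  · obtain ⟨ι', k6, -⟩ := h2.trans ⟨surjM_group h3 (QuotientGroup.mk' N) (QuotientGroup.mk'_surjective N),
      (injective_iff_map_eq_one _).2 fun x hx => Subtype.ext (mem_bot.1
        (k5 ▸ (⟨x.2, (QuotientGroup.eq_one_iff _).1 hx⟩ : x.1 ∈ S₀ ⊓ N)))⟩
    refine ih _ ?_ (G ⧸ N) _ ι' rfl k6 (by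
      have := h3.map (QuotientGroup.mk' N)
      rwa [map_top_of_surjective _ (QuotientGroup.mk'_surjective N)] at this)
    rw [← h1, card_eq_card_quotient_mul_card_subgroup N]
    exact lt_mul_of_one_lt_right Nat.card_pos ((one_lt_card_iff_ne_bot N).2 k3)
  · rw [group_eq_sub] at k2
    have h5 := k2 _ _ (nrm_sub (H := N) h3 le_top le_normalizer_of_normal) k5
    have h6 := h3.of_le ((sub_le h5).trans inf_le_right) le_top
    have h7 : groupFusionSystem S₀ = fusionSystemOfSubgroup N S₀ h6.le := (group_eq_sub S₀).trans <|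
      eq_of_sub_sub (sub_trans h5 (sub_mono inf_le_left le_rfl)) (sub_mono le_rfl le_top)
    rw [h7] at h2
    obtain ⟨ι', k6, -⟩ := h2.trans (iso_subgroupOf h6)
    refine ih _ ?_ N _ ι' rfl k6 (by simpa using h6.subgroupOf le_rfl)
    rw [← h1, ← card_top (G := G)]
    exact card_lt_of_lt k4.lt_top

open H2 Subgroup in

/-- Let F be a simple saturated fusion system over a finite p-group S that is realized by some finite group on a Sylow p-subgroup. Then F is realized by a finite simple group on a Sylow p-subgroup. -/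
theorem result {Ω : Type u} [Group Ω] {S : Subgroup Ω} [Finite S] (p : ℕ) [Fact p.Prime] (hS : IsPGroup p S) (F : Cfsg.FusionSystem S) (hsimple : F.IsSimple p) (hreal : F.IsRealizable p) : ∃ (G : Type u) (_ : Group G) (_ : Finite G) (_ : IsSimpleGroup G) (ι : ↥S →* G), F.IsRealizedBy ι ∧ ∃ T : Sylow p G, (T : Subgroup G) = ι.range := by
  obtain ⟨G, _, _, ι, h1, h2⟩ := hreal
  exact key p hS F hsimple _ G _ ι rfl (realized_iso.1 h1) (sylow_range_iff.1 h2)

end Cfsg.Agent.S5343
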