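import Cfsg.Statements.S5465
import Cfsg.Agent.H7.Two24
import Cfsg.Agent.S2079

set_option autoImplicit false
open Cfsg

namespace Cfsg.Agent.S5465

open H7 H7.T Subgroup

/-- Let G be a finite group with trivial centre generated by a conjugation-invariant set D of 3-transpositions on which it acts primitively, such that for some d in D the subgroup generated by the members of D other than d commuting with d has central largest normal 2- and 3-subgroups, and suppose G with D is of type M(24), and let L be the commutator subgroup of G. Let d₁, d₂ be distinct commuting members of D and j = d₁ d₂. Then K, the joint centralizer of d₁ and d₂ in L, is quasisimple, is the generalized Fitting subgroup of the centralizer of j in L, has index 2 in it and contains j, and the centralizer of j in L modulo the subgroup generated by j is isomorphic to the full automorphism group of the Fischer group Fi₂₂ (as presented). -/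
theorem result {G : Type*} [Group G] [Finite G] {D : Set G} (hD : Cfsg.IsThreeTranspositionGroup D) (hprim : Cfsg.IsPrimitiveUnderConj D) (d₀ : G) (hd₀ : d₀ ∈ D) (h3 : Cfsg.pCore 3 ↥(Subgroup.closure {y : G | y ∈ D ∧ y ≠ d₀ ∧ Commute d₀ y}) ≤ Subgroup.center ↥(Subgroup.closure {y : G | y ∈ D ∧ y ≠ d₀ ∧ Commute d₀ y})) (h2 : Cfsg.pCore 2 ↥(Subgroup.closure {y : G | y ∈ D ∧ y ≠ d₀ ∧ Commute d₀ y}) ≤ Subgroup.center ↥(Subgroup.closure {y : G | y ∈ D ∧ y ≠ d₀ ∧ Commute d₀ y})) (h24 : Cfsg.IsOfTypeM24 G D) (L : Subgroup G) (hL : L = commutator G) (d₁ d₂ : G) (h₁ : d₁ ∈ D) (h₂ : d₂ ∈ D) (hne : d₁ ≠ d₂) (hc : Commute d₁ d₂) (K CL : Subgroup G) (hK : K = L ⊓ Subgroup.centralizer ({d₁, d₂} : Set G)) (hCL : CL = L ⊓ Subgroup.centralizer ({d₁ * d₂} : Set G)) [hn : ((Subgroup.zpowers (d₁ * d₂)).subgroupOf CL).Normal] : Cfsg.IsQuasisimple ↥K ∧ K = (Cfsg.generalizedFittingSubgroup ↥CL).map CL.subtype ∧ K ≤ CL ∧ (K.subgroupOf CL).index = 2 ∧ d₁ * d₂ ∈ K ∧ Nonempty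 (↥CL ⧸ (Subgroup.zpowers (d₁ * d₂)).subgroupOf CL ≃* MulAut Cfsg.Spor.Fi22) := by
  obtain ⟨F0, rfl⟩ := rec24 hD hprim h24
  obtain ⟨F, e, rfl, rfl⟩ := t2_24 F0 h₁ h₂ hne hc
  rw [← e] at h₁ h₂
  have f := fac2 h₁ h₂ hne hc
  have i : L.index = 2 := hL ▸ (comm24 F).2
  have nL := fun x (hx : x ∈ F.D) => FM.not_mem_two (trD24 F) i hx
  have ev := fun p hp q hq => (mul_mem_iff_of_index_two i).2 (iff_of_false (nL p hp) (nL q hq))
  have l : K ≤ CL := hK ▸ hCL ▸ inf_le_inf_left _ fun g hg => mem_centralizer_singleton_iff.2 (f.fix fun x hx => by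
    rwa [conj_eq_self.2 (mem_cent.1 hg x (by simpa using hx))])
  have hK' : ∀ g, g ∈ K ↔ g ∈ L ∧ ∀ a ∈ [F.e (10,[]), F.e (0,[])], Commute g a := fun g => by simp [hK, mem_cent]
  have j : (K.subgroupOf CL).index = 2 := hCL ▸ index_of_quot (fac_quot (fun g _ => F.conj_mem g) (uq24 F (by decide)) f (F.sw2 f (11,[]) (by decide +kernel))
    ev fun g hg => by simp [hK', hg])
  have z : Nat.card (zpowers (F.e (10,[]) * F.e (0,[]))) = 2 := (Nat.card_zpowers _).trans (orderOf_eq_prime (by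
    rw [hc.mul_pow, pow_two, pow_two, F.t3.sq _ h₁, F.t3.sq _ h₂, mul_one]) fun e => hne (by rw [eq_inv_of_mul_eq_one_left e, F.t3.inv h₂]))
  have k : Nat.card K = 2 * Nat.card Cfsg.Spor.Fi22 := by
    have := card_inf_two i (C := centralizer {F.e (10,[]), F.e (0,[])}) (mem_cent.2 (by simp [hc])) (nL _ h₁)
    rw [← hK, ← top_inf_eq (centralizer _), ← F.PS2, cd2_24] at this
    rw [F22.card]; change _ = 2 * 64561751654400; omega
  obtain ⟨τ, h⟩ := loc24' F h₁ ⟨h₂, hne.symm, hc⟩ F22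
  obtain ⟨a, -, b, c, -, _, _, -, d⟩ := tw_pack F22 simple_Fi22 (trD22 F22) (F22.S_all ▸ sepD22 F22) F.t3 (fun g _ => F.conj_mem g) (l := [F.e (10,[]), F.e (0,[])])
    (fun x => by simp only [List.forall_mem_cons]; exact ⟨fun h => ⟨h.1.1, h.1.2, h.2, nofun⟩, fun h => ⟨⟨h.1, h.2.1⟩, h.2.2.1⟩⟩) h (fun a ha => (oct24 F a (List.mem_append_left [_] ha)).mono fun _ h => h.1) List.mem_cons_self h₁ i nL hK'
    (Z := zpowers (F.e (10,[]) * F.e (0,[]))) (fun W h => zpowers_le.2 (h _ (by simp))) (z ▸ k)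
    (fun g hg => ⟨(hCL ▸ hg).1, f.inv (fun g _ => F.conj_mem g) (uq24 F (by decide)) (mem_centralizer_singleton_iff.1 (hCL ▸ hg).2)⟩) l
  refine ⟨a, b.symm, l, j, c (mem_zpowers _), d ?_⟩
  rw [← (K.subgroupOf CL).card_mul_index, j, Nat.card_congr (subgroupOfEquivOfLe l).toEquiv, k, z, card_eq_card_quotient_mul_card_subgroup (Cfsg.Inn _), Cfsg.Agent.S2079.result]
  have := F22.fin
  exact Nat.mul_le_mul_right _ (Nat.mul_le_mul_left _ (Nat.card_le_card_of_surjective _ (MonoidHom.rangeRestrict_surjective _)))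

end Cfsg.Agent.S5465
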