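import Cfsg.Statements.S5472
import Cfsg.Agent.H8.FA1
import Cfsg.Agent.H8.FA2
import Cfsg.Agent.H8.FA3
import Cfsg.Agent.H8.FA5
-- import your own Cfsg.Agent.* helpers here

set_option autoImplicit false
set_option maxRecDepth 200000
open Cfsg

namespace Cfsg.Agent.S5472

/-- Let G be a finite group with trivial centre generated by a conjugation-invariant set D of 3-transpositions on which it acts primitively, such that for some d in D the subgroup generated by the members of D other than d commuting with d has central largest normal 2- and 3-subgroups, and suppose G with D is of type M(22). Then G has a non-inner automorphism s of order 2 whose fixed-point subgroup is isomorphic to the full automorphism group of Ω⁺(8, 2) (the commutator subgroup of the isometry group of the hyperbolic quadratic form in dimension 8 over the field with two elements), together with distinct commuting members a, b of D fixed by s such that: s, s composed with conjugation by a, and s composed with conjugation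 by a b represent the three classes (under the automorphism group) of non-inner automorphisms of order 2; the elements fixed by the automorphism s composed with conjugation by a are exactly those fixed by s and commuting with a, and they form a group isomorphic to the direct product of a group of order 2 and the symplectic group of dimension 6 over the field with two elements; and the elements fixed by the automorphism s composed with conjugation by a b form a group whose largest normal 2-subgroup is elementary abelian of order 64 with quotient isomorphic to the full isometry group of the elliptic quadratic form in dimension 6 over the field with two elements. -/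
theorem result {G : Type*} [Group G] [Finite G] {D : Set G} (hD : Cfsg.IsThreeTranspositionGroup D) (hprim : Cfsg.IsPrimitiveUnderConj D) (d₀ : G) (hd₀ : d₀ ∈ D) (h3 : Cfsg.pCore 3 ↥(Subgroup.closure {y : G | y ∈ D ∧ y ≠ d₀ ∧ Commute d₀ y}) ≤ Subgroup.center ↥(Subgroup.closure {y : G | y ∈ D ∧ y ≠ d₀ ∧ Commute d₀ y})) (h2 : Cfsg.pCore 2 ↥(Subgroup.closure {y : G | y ∈ D ∧ y ≠ d₀ ∧ Commute d₀ y}) ≤ Subgroup.center ↥(Subgroup.closure {y : G | y ∈ D ∧ y ≠ d₀ ∧ Commute d₀ y})) (h22 : Cfsg.IsOfTypeM22 G D) : ∃ (s : MulAut G) (a b : G) (Cs : Subgroup G), orderOf s = 2 ∧ s ∉ (MulAut.conj : G →* MulAut G).range ∧ (∀ g : G, g ∈ Cs ↔ s g = g) ∧ Nonempty (↥Cs ≃* MulAut (Cfsg.Omega (ZMod 2) (Cfsg.quadFormPlus 4 (ZMod 2)))) ∧ a ∈ D ∧ b ∈ D ∧ a ≠ b ∧ Commute a b ∧ s a = a ∧ s b = b ∧ (∀ t : MulAut G, orderOf t = 2 → t ∉ (MulAut.conj : G →* MulAut G).range → (IsConj t s ∨ IsConj t (s * MulAut.conj a) ∨ IsConj t (s * MulAut.conj (a * b)))) ∧ ¬ IsConj s (s * MulAut.conj a) ∧ ¬ IsConj s (s * MulAut.conj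 (a * b)) ∧ ¬ IsConj (s * MulAut.conj a) (s * MulAut.conj (a * b)) ∧ (∀ g : G, (s * MulAut.conj a) g = g ↔ g ∈ Cs ⊓ Subgroup.centralizer ({a} : Set G)) ∧ Nonempty (↥(Cs ⊓ Subgroup.centralizer ({a} : Set G)) ≃* Multiplicative (ZMod 2) × Cfsg.PSp 3 (ZMod 2)) ∧ ∃ Csab O : Subgroup G, (∀ g : G, g ∈ Csab ↔ (s * MulAut.conj (a * b)) g = g) ∧ O = (Cfsg.pCore 2 ↥Csab).map Csab.subtype ∧ Cfsg.IsElementaryAbelian 2 O ∧ Nat.card O = 64 ∧ ∃ _ : (O.subgroupOf Csab).Normal, Nonempty (↥Csab ⧸ O.subgroupOf Csab ≃* Cfsg.isometryGroup (ZMod 2) (Cfsg.quadFormMinus 2 (ZMod 2) 1 1)) := by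
  obtain ⟨F, rfl⟩ := H7.T.rec22' hD h22
  obtain ⟨s, C⟩ := H8.FA.cx F hprim.1
  obtain ⟨c1, i1, n1, s1⟩ := H8.FA.p1 C
  obtain ⟨c2, e2, i2⟩ := H8.FA.p2 C
  obtain ⟨c3, p3⟩ := H8.FA.p3 C
  have mD : ∀ a < 13, F.gs a ∈ F.D := fun a ha => ⟨_, (F.hl a ha).1, (F.hl a ha).2⟩
  have r0 := C.rep 0 (by decide)
  have r2 := C.rep 2 (by decide)
  have nc : ∀ {s t : MulAut G} {a b : ℕ}, Nat.card (H8.Fx s) = a → Nat.card (H8.Fx t) = b → a ≠ b → ¬ IsConj s t :=
    fun p q n h => n (p.symm.trans ((H8.card_Fx h).trans q))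
  haveI : Fact (Nat.Prime 2) := ⟨Nat.prime_two⟩
  refine ⟨s, F.gs 0, F.gs 2, H8.Fx s, orderOf_eq_prime (by rw [pow_two, C.ss]) s1, n1, fun _ => Iff.rfl, i1, mD 0 (by decide), mD 2 (by decide),
    fun h => Bool.false_ne_true (Eq.trans (by decide +kernel) ((H8.eqB_iff C.bG C.inj r0 r2).2 h)),
    (H8.eqB_iff C.bG C.inj (r0.comp r2) (r2.comp r0)).1 (by decide +kernel), H8.fx_chk C.inj C.bA C.hi C.r1 _ _ r0 (by decide +kernel),
    H8.fx_chk C.inj C.bA C.hi C.r1 _ _ r2 (by decide +kernel), H8.FA.p4 C, nc c1 c2 (by decide), nc c1 c3 (by decide), nc c2 c3 (by decide),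
    fun g => e2 ▸ Iff.rfl, e2 ▸ i2, _, _, fun _ => Iff.rfl, rfl, p3 _ rfl _ rfl⟩

end Cfsg.Agent.S5472
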