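import Cfsg.Statements.S5473
import Cfsg.Agent.H7.T.AU_0
import Cfsg.Agent.H7.Two22
import Cfsg.Agent.H7.Inv22
import Cfsg.Agent.S2079

set_option autoImplicit false
open Cfsg

namespace Cfsg.Agent.S5473

open H7 H7.T Subgroup

/-- Let G be a finite group with trivial centre generated by a conjugation-invariant set D of 3-transpositions on which it acts primitively, such that for some d in D the subgroup generated by the members of D other than d commuting with d has central largest normal 2- and 3-subgroups, and suppose G with D is of type M(22), and let A be the automorphism group of G. Let d₁, d₂ be distinct commuting members of D and j the inner automorphism of their product. Then the generalized Fitting subgroup Q of the centralizer of j in A is a large extraspecial 2-subgroup of A of order 2^11 (extraspecial; centralizer equal to its centre; normal in the centralizer of its centre; normalizing no non-trivial odd-order subgroup), and the centralizer of j modulo Q is isomorphic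 to the full automorphism group of the projective special unitary group of dimension 4 over the field with four elements. -/
theorem result {G : Type*} [Group G] [Finite G] {D : Set G} (hD : Cfsg.IsThreeTranspositionGroup D) (hprim : Cfsg.IsPrimitiveUnderConj D) (d₀ : G) (hd₀ : d₀ ∈ D) (h3 : Cfsg.pCore 3 ↥(Subgroup.closure {y : G | y ∈ D ∧ y ≠ d₀ ∧ Commute d₀ y}) ≤ Subgroup.center ↥(Subgroup.closure {y : G | y ∈ D ∧ y ≠ d₀ ∧ Commute d₀ y})) (h2 : Cfsg.pCore 2 ↥(Subgroup.closure {y : G | y ∈ D ∧ y ≠ d₀ ∧ Commute d₀ y}) ≤ Subgroup.center ↥(Subgroup.closure {y : G | y ∈ D ∧ y ≠ d₀ ∧ Commute d₀ y})) (h22 : Cfsg.IsOfTypeM22 G D) (d₁ d₂ : G) (h₁ : d₁ ∈ D) (h₂ : d₂ ∈ D) (hne : d₁ ≠ d₂) (hc : Commute d₁ d₂) (j : MulAut G) (hj : j = MulAut.conj (d₁ * d₂)) (Q : Subgroup (MulAut G)) (hQ : Q = (Cfsg.generalizedFittingSubgroup ↥(Subgroup.centralizer ({j} : Set (MulAut G)))).map (Subgroup.centralizer ({j} : Set (MulAut G))).subtype) : Cfsg.IsLargeExtraspecial Q ∧ Nat.card Q = 2 ^ 11 ∧ Q ≤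 Subgroup.centralizer ({j} : Set (MulAut G)) ∧ ∃ (_ : (Q.subgroupOf (Subgroup.centralizer ({j} : Set (MulAut G)))).Normal) (F : Type) (_ : Field F) (_ : Fintype F), Fintype.card F = 4 ∧ Nonempty (↥(Subgroup.centralizer ({j} : Set (MulAut G))) ⧸ Q.subgroupOf (Subgroup.centralizer ({j} : Set (MulAut G))) ≃* MulAut (Cfsg.PSU 4 F 2)) := by
  obtain ⟨F0, rfl⟩ := rec22' hD h22
  have o := (H8.out_congr (iso22 F0).some).trans Cfsg.Agent.S2079.result
  obtain ⟨F, -, rfl, rfl⟩ := t2_22 F0 h₁ h₂ hne hc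
  obtain ⟨-, -, u⟩ := cd_2b F
  have a := F0.t3.sq _ h₁
  have b := F0.t3.sq _ h₂
  have a1 := F0.t3.ne _ h₁
  rw [(ev_2b F).1] at a a1
  rw [(ev_2b F).2] at b
  rw [(ev_2b F).1, (ev_2b F).2] at hne hj u
  generalize F22q F = U at *
  have z : U.ev [29] = U.ev [0] * U.ev [2] := (zz_e22 U).trans (U.ev_app [0] [2])
  rw [← show U.ev [0, 2] = _ from U.ev_app [0] [2]] at u
  obtain ⟨K', _, _, k⟩ := gf4
  obtain ⟨-, -, n, _, ⟨e⟩⟩ := qw_Q22E U u.le
  obtain ⟨α, a2, h⟩ := U.au_ex ok_au AW_au ch_au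
  have v := vle_2b U
  obtain ⟨r1, r2, r3, r4, ⟨r5⟩⟩ := aut_pack U.center_eq o a2 z (congrArg (fun x => centralizer {x}) (zz_e22 U).symm) (h [0] [2] (by decide +kernel)) hne a b a1
    (pk_2b U).2.1 (v (subset_closure (by simp))) (v (subset_closure (by simp))) (fun x hx y hy => (NN_last (z := U.zW W_e22) (n := 9)).le (cm_e22 U x hx y hy))
    (ae_au U h) (ac_au U h u.le) e H8.Q22E.cen (H8.Q22E.pk k).1 ((pcs_e22 U).card le_rfl (by decide)) ((cg_au U).symm ▸ FM.inW (by decide +kernel))
    (fun e => (pcs_e22 U).nmem (i := 8) (by decide) (by decide) ((show U.zW W_e22 8 = U.zW W_e22 9 from (cg_au U).symm.trans e) ▸ NN_mem le_rfl (by decide)))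
    (z ▸ hj) hQ
  exact ⟨r1, r2, r3, r4, K', _, _, k, ⟨r5.trans (H8.Q22E.pk k).2.some⟩⟩

end Cfsg.Agent.S5473
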