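import Cfsg.Statements.S5522
import Cfsg.Agent.H8.GG
-- import your own Cfsg.Agent.* helpers here

set_option autoImplicit false
set_option maxRecDepth 200000
open Cfsg

namespace Cfsg.Agent.S5522

/-- The Mathieu group M₁₁, realised as the stabiliser of one point of the dodecad of squares inside the stabiliser M₁₂ of that dodecad in M₂₄, acts on the twelve coordinate positions outside the dodecad of squares (its 3-transitive action of degree 12); in this action every element of prime order fixes a point, i.e. the action is elusive. -/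
theorem result (g : Equiv.Perm Cfsg.GolayPt) (hg : g ∈ Cfsg.Spor.M11) (hord : (orderOf g).Prime) :
    ∃ x : Cfsg.GolayPt, x ∉ Cfsg.Spor.squareDodecad ∧ g x = x := by
  have hC := H8.GC.std
  have S := H8.GF.m11ch hC
  have e : H7.gC.fs 340831 = Spor.squareDodecad := H7.squareDodecad_eq.symm
  let x : H8.SM M24 H7.gC [0] [340831] [] := ⟨⟨g, hg.1.1⟩, List.forall_mem_singleton.2 hg.2, List.forall_mem_singleton.2 (by rw [e]; exact hg.1.2), by simp⟩
  obtain ⟨f, r, h⟩ := S.enum H8.GF.m11x x
  rw [H8.bor_eq_true, H8.bnot_eq_true, H8.band_eq_true, H8.bnot_eq_true, Nat.beq_eq, H8.eqB_iff S.base S.inj (H8.itF_rep r 8) (.id _ _),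
    H8.eqB_iff S.base S.inj (H8.itF_rep r 2) (.id _ _)] at h
  rcases h with h | ⟨h, h'⟩
  · obtain ⟨p, h1, h2⟩ := Finset.not_disjoint_iff.1 (mt (H8.disj_fs hC.n _ (by norm_num)).1 h)
    exact ⟨p, e ▸ hC.cD.1 h2, (H8.fix_iff hC.n r p).2 h1⟩
  have o : orderOf x = orderOf g := by rw [← Subgroup.orderOf_coe, ← Subgroup.orderOf_coe]
  have := (Nat.prime_dvd_prime_iff_eq hord Nat.prime_two).1 (hord.dvd_of_dvd_pow (n := 3) (o ▸ orderOf_dvd_of_pow_eq_one h))
  exact (h' (by rw [← this, ← o, pow_orderOf_eq_one])).elim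

end Cfsg.Agent.S5522
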