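import Cfsg.Statements.S5610
import Cfsg.Agent.H7.M24Orb

set_option autoImplicit false
open scoped Pointwise
open Cfsg

namespace Cfsg.Agent.S5610

open scoped Pointwise
def chA : List H7.Level := [(1, 3, [[4, 1, 3, 3, 1], [4, 4, 3, 3, 2]]),
  (0, 3, [[4, 0, 0, 1, 2, 3, 3, 1], [2, 0, 1, 3, 2, 0, 0, 2]]),
  (2, 2, [[4, 4, 1, 0, 0, 2, 0, 1, 2], [1, 3, 2, 2, 3, 2, 0, 4, 3, 1]]),
  (3, 2, [[4, 3, 4, 3, 4, 3], [2, 2, 1, 0, 0, 0, 2, 3, 3, 1, 2], [3, 2, 0, 1, 3, 3, 1, 0, 2, 2, 0, 0]]),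
  (5, 3, [[2, 2, 3, 4, 3, 3, 3, 2, 0, 2, 2, 0], [3, 2, 0, 4, 1, 3, 3, 3, 2, 0, 2, 3], [4, 3, 1, 0, 2, 0, 4, 3, 3, 4, 0, 0]]),
  (6, 3, [[2, 3, 1, 0, 2, 0, 4, 3, 3, 4, 0, 0, 4, 4], [3, 4, 4, 3, 4, 0, 0, 0, 2, 0, 4, 4]])]

theorem genA : MulAction.stabilizer M24 (H7.SOct.dec 0) =
    Subgroup.closure {g | ∃ w ∈ H7.chainWords chA, H7.S0.ev w = g} :=
  H7.Sys.eq_closure_of_chain (S := H7.S0) H7.gC.inj (kp := 2) (by decide) chA _
    (H7.Sys.mem_stabilizer_of_fixAll (S := H7.SOct) (by decide) (by decide +kernel))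
    (by rw [H7.SOct_card]; decide +kernel)

theorem o0 : MulAction.orbit (MulAction.stabilizer M24 (H7.SOct.dec 0)) (H7.STrio.dec 0) =
    H7.dset H7.STrio.n H7.STrio.dec (nat_lit 0x7fff) ∧
    (MulAction.orbit (MulAction.stabilizer M24 (H7.SOct.dec 0)) (H7.STrio.dec 0)).ncard = 15 :=
  H7.orbit_pack (S := H7.STrio) H7.STrio_inj (kp := 9) (by decide) genA (r := 1) (by decide +kernel)

theorem o1 : MulAction.orbit (MulAction.stabilizer M24 (H7.SOct.dec 0)) (H7.STrio.dec 16) =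
    H7.dset H7.STrio.n H7.STrio.dec (nat_lit 0x7f8000004244000000000000000000000010908000007f801818000000000000000000000006067f800000000000000000000000005050000000000000000020a08484800000000005028000414100000000000048480000000000000000000011117f80000060600001818000000000018622221860000000000000000007ff80000180180000000000000000000000000000000040c41200050050000002805000000000000000000020a4120000000000000000000000280282802800000007ffe00600000220a208000600180018018000000000000060060180180001109108000000000048049806000000007ffe0000000000001800600000000060014000000000000000018006000005200a800180060000000000000421088200000000500600000000103040c000000000000180060000000000010904241801200a00c8040000282121000000000005004c008000222109003020604000000000000000000000000018042420000000000103020604211084000005021213000e00190094008000000000000000007000f4009401000041410480000000000000130030828205040148029000088108820884088800320064000002a00540a08281088811100002204440841410480000004c0099400a8010000)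 ∧
    (MulAction.orbit (MulAction.stabilizer M24 (H7.SOct.dec 0)) (H7.STrio.dec 16)).ncard = 420 :=
  H7.orbit_pack (S := H7.STrio) H7.STrio_inj (kp := 9) (by decide) genA (r := 1) (by decide +kernel)

theorem o2 : MulAction.orbit (MulAction.stabilizer M24 (H7.SOct.dec 0)) (H7.STrio.dec 15) =
    H7.dset H7.STrio.n H7.STrio.dec (nat_lit 0x7f807fffffbdbbffffffffffffffffffffffef6f7fffff807fe7e7fffffffffffffffffffffff9f9807fffffffffffffffffffffffffafafffffffffffffffffdf5f7b7b7ffffffffffafd7fffbebeffffffffffffb7b7ffffffffffffffffffffeeee807fffff9f9ffffe7e7ffffffffffe79dddde79ffffffffffffffffff8007ffffe7fe7ffffffffffffffffffffffffffffffffbf3bedfffaffaffffffd7fafffffffffffffffffffdf5bedffffffffffffffffffffffd7fd7d7fd7fffffff8001ff9fffffddf5df7fff9ffe7ffe7fe7fffffffffffff9ff9fe7fe7fffeef6ef7ffffffffffb7fb67f9ffffffff8001ffffffffffffe7ff9fffffffff9ffebffffffffffffffffe7ff9fffffadff57ffe7ff9fffffffffffffbdef77dffffffffaff9ffffffffefcfbf3ffffffffffffe7ff9fffffffffffef6fbdbe7fedff5ff37fbffffd7dedefffffffffffaffb3ff7fffdddef6ffcfdf9fbfffffffffffffffffffffffffe7fbdbdffffffffffefcfdf9fbdeef7bfffffafdedecfff1ffe6ff6bff7fffffffffffffffff8fff0bff6bfeffffbebefb7fffffffffffffecffcf7d7dfafbfeb7fd6ffff77ef77df77bf777ffcdff9bfffffd5ffabf5f7d7ef777eeeffffddfbbbf7bebefb7ffffffb3ff66bff57fe8000)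 ∧
    (MulAction.orbit (MulAction.stabilizer M24 (H7.SOct.dec 0)) (H7.STrio.dec 15)).ncard = 3360 :=
  H7.orbit_pack (S := H7.STrio) H7.STrio_inj (kp := 9) (by decide) genA (r := 2) (by decide +kernel)

theorem q0 : MulAction.orbit (MulAction.stabilizer M24 (H7.SOct.dec 0)) (H7.SSext.dec 0) =
    H7.dset H7.SSext.n H7.SSext.dec (nat_lit 0x7fe000000ffc00000000000000000000000000000000000000001ff80000001f) ∧
    (MulAction.orbit (MulAction.stabilizer M24 (H7.SOct.dec 0)) (H7.SSext.dec 0)).ncard = 35 :=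
  H7.orbit_pack (S := H7.SSext) H7.SSext_inj (kp := 8) (by decide) genA (r := 1) (by decide +kernel)

theorem q1 : MulAction.orbit (MulAction.stabilizer M24 (H7.SOct.dec 0)) (H7.SSext.dec 25) =
    H7.dset H7.SSext.n H7.SSext.dec (nat_lit 0x607c91cb46b424f4a3c7b89f435073d0cc78b06c07f87e1ac0ec3d87f1c3601cec3d87e7a9ec13e01fe702fe01fc0ff0787903e83e01cdb03ec1f5f01f7860743c7c7bbc0107c03bc7fc03ff06f204fa081f803ffdfb077e0e009f4103f007fef3e3f0021ff3f007fff803ffc007e09f7c1ff000fb05f07a7df07fc00603f003ff7c1eff8000fffc0d813f3f81ff80160602004fe07fe00607fe00400f8000027e7f03ff00180fc00ffcfc00ffdff8000fffff0027f03ff00303ff00200001f00000000fc00ffdff8000fffff001ff8000fffff003e00000007fe000000) ∧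
    (MulAction.orbit (MulAction.stabilizer M24 (H7.SOct.dec 0)) (H7.SSext.dec 25)).ncard = 840 :=
  H7.orbit_pack (S := H7.SSext) H7.SSext_inj (kp := 8) (by decide) genA (r := 1) (by decide +kernel)

theorem q2 : MulAction.orbit (MulAction.stabilizer M24 (H7.SOct.dec 0)) (H7.SSext.dec 5) =
    H7.dset H7.SSext.n H7.SSext.dec (nat_lit 0x1f836e34b94bdb0b5c384760bcaf8c2f33874f93f80781e53f13c2780e3c9fe313c278185613ec1fe018fd01fe03f00f8786fc17c1fe324fc13e0a0fe0879f8bc3838443fef83fc43803fc00f90dfb05f7e07fc00204f881f1ff60befc0ff8010c1c0ffde00c0ff80007fc003ff81f6083e00fff04fa0f85820f803ff9fc0ffc0083e1007fff0003f27ec0c07e007fe9f9fdffb01f801ff9f801ffbff07ffffd8180fc00ffe7f03ff00303ff002007fff00000ffd80fc00ffcfc00ffdff8000fffff00303ff002007fff00000ffe007fff00000ffc1ffffe00001ffffe0) ∧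
    (MulAction.orbit (MulAction.stabilizer M24 (H7.SOct.dec 0)) (H7.SSext.dec 5)).ncard = 896 :=
  H7.orbit_pack (S := H7.SSext) H7.SSext_inj (kp := 8) (by decide) genA (r := 1) (by decide +kernel)

theorem memTrio (g : M24) {j : ℕ} (hj : j < H7.STrio.n) : g • H7.STrio.dec j ∈ trios := by
  rw [H7.smul_mem_trios_iff, H7.trios_eq]; exact H7.dec_mem_ones _ hj

theorem memSext (g : M24) {j : ℕ} (hj : j < H7.SSext.n) : g • H7.SSext.dec j ∈ sextets := by
  rw [H7.smul_mem_sextets_iff, H7.sextets_eq]; exact H7.dec_mem_ones _ hj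

/-- The stabiliser of an octad in the group of the length-24 code has exactly three orbits on the 3795 trios, of sizes 15, 420 and 3360, and exactly three orbits on the 1771 sextets, of sizes 35, 840 and 896. -/
theorem result (o : Finset Cfsg.GolayPt) (ho : o ∈ Cfsg.octads) : (∃ X₁ ∈ Cfsg.trios, ∃ X₂ ∈ Cfsg.trios, ∃ X₃ ∈ Cfsg.trios, (MulAction.orbit ↥(MulAction.stabilizer Cfsg.M24 o) X₁).ncard = 15 ∧ (MulAction.orbit ↥(MulAction.stabilizer Cfsg.M24 o) X₂).ncard = 420 ∧ (MulAction.orbit ↥(MulAction.stabilizer Cfsg.M24 o) X₃).ncard = 3360 ∧ Cfsg.trios = MulAction.orbit ↥(MulAction.stabilizer Cfsg.M24 o) X₁ ∪ MulAction.orbit ↥(MulAction.stabilizer Cfsg.M24 o) X₂ ∪ MulAction.orbit ↥(MulAction.stabilizer Cfsg.M24 o) X₃) ∧ (∃ Y₁ ∈ Cfsg.sextets, ∃ Y₂ ∈ Cfsg.sextets, ∃ Y₃ ∈ Cfsg.sextets, (MulAction.orbit ↥(MulAction.stabilizer Cfsg.M24 o) Y₁).ncard = 35 ∧ (MulAction.orbit ↥(MulAction.stabilizer Cfsg.M24 o) Y₂).ncard = 840 ∧ (MulAction.orbit ↥(MulAction.stabilizer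 Cfsg.M24 o) Y₃).ncard = 896 ∧ Cfsg.sextets = MulAction.orbit ↥(MulAction.stabilizer Cfsg.M24 o) Y₁ ∪ MulAction.orbit ↥(MulAction.stabilizer Cfsg.M24 o) Y₂ ∪ MulAction.orbit ↥(MulAction.stabilizer Cfsg.M24 o) Y₃) := by
  rw [H7.octads_eq, H7.SOct_orbit] at ho
  obtain ⟨g, rfl⟩ := ho
  beta_reduce
  exact ⟨⟨g • H7.STrio.dec 0, memTrio g (by decide), g • H7.STrio.dec 16, memTrio g (by decide), g • H7.STrio.dec 15, memTrio g (by decide),
    by rw [H7.orbit_smul_stabilizer, Set.ncard_smul_set, o0.2], by rw [H7.orbit_smul_stabilizer, Set.ncard_smul_set, o1.2], by rw [H7.orbit_smul_stabilizer, Set.ncard_smul_set, o2.2],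
    by
      rw [H7.orbit_smul_stabilizer, H7.orbit_smul_stabilizer, H7.orbit_smul_stabilizer, o0.1, o1.1, o2.1,
        ← Set.smul_set_union, ← Set.smul_set_union,
        ← H7.dset_or, ← H7.dset_or]
      rw [← H7.smul_trios g, H7.trios_eq]
      exact congrArg (fun x => g • H7.dset _ _ x) (by decide +kernel)⟩,
    ⟨g • H7.SSext.dec 0, memSext g (by decide), g • H7.SSext.dec 25, memSext g (by decide), g • H7.SSext.dec 5, memSext g (by decide),
    by rw [H7.orbit_smul_stabilizer, Set.ncard_smul_set, q0.2], by rw [H7.orbit_smul_stabilizer, Set.ncard_smul_set, q1.2], by rw [H7.orbit_smul_stabilizer, Set.ncard_smul_set, q2.2],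
    by
      rw [H7.orbit_smul_stabilizer, H7.orbit_smul_stabilizer, H7.orbit_smul_stabilizer, q0.1, q1.1, q2.1,
        ← Set.smul_set_union, ← Set.smul_set_union,
        ← H7.dset_or, ← H7.dset_or]
      rw [← H7.smul_sextets g, H7.sextets_eq]
      exact congrArg (fun x => g • H7.dset _ _ x) (by decide +kernel)⟩⟩

end Cfsg.Agent.S5610
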