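import Cfsg.Statements.S5611
import Cfsg.Agent.H7.M24Orb

set_option autoImplicit false
open scoped Pointwise
open Cfsg

namespace Cfsg.Agent.S5611

open scoped Pointwise
def chA : List H7.Level := [(0, 5, [[1, 0, 0, 1, 2, 0], [0, 2, 2, 3, 2, 3]]),
  (2, 1, [[3, 4, 3, 3, 2, 4, 0, 4, 3, 4], [2, 1, 3, 4, 3, 4, 0, 0, 1, 4]]),
  (4, 5, [[2, 2, 3, 4, 3, 4, 3, 2, 2], [1, 0, 4, 3, 4, 0, 0, 0, 0, 0, 1]]),
  (5, 3, [[4, 4, 0, 2, 0, 2, 0, 4, 4], [3, 2, 0, 4, 1, 3, 3, 3, 2, 0, 2, 3], [2, 0, 0, 2, 1, 0, 0, 0, 4, 0, 0, 1, 0]]),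
  (1, 1, [[1, 0, 2, 2, 0, 4, 0, 0, 4, 4, 0, 0, 1], [2, 2, 3, 3, 2, 0, 0, 2, 3, 4, 3, 1, 0, 4]]),
  (6, 2, [[2, 3, 1, 0, 2, 0, 4, 3, 3, 4, 0, 0, 4, 4]])]

theorem genA : MulAction.stabilizer M24 (H7.SSext.dec 0) =
    Subgroup.closure {g | ∃ w ∈ H7.chainWords chA, H7.S0.ev w = g} :=
  H7.Sys.eq_closure_of_chain (S := H7.S0) H7.gC.inj (kp := 2) (by decide) chA _
    (H7.Sys.mem_stabilizer_of_fixAll (S := H7.SSext) (by decide) (by decide +kernel))
    (by rw [H7.SSext_card]; decide +kernel)

theorem o0 : MulAction.orbit (MulAction.stabilizer M24 (H7.SSext.dec 0)) (H7.SOct.dec 0) =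
    H7.dset H7.SOct.n H7.SOct.dec (nat_lit 0x40000200000000000000000000000010000000000030000000800000000000000000000000002000000000000000d0000c00000000000000000000000000000000000000000000000000001800000000000000000000001) ∧
    (MulAction.orbit (MulAction.stabilizer M24 (H7.SSext.dec 0)) (H7.SOct.dec 0)).ncard = 15 :=
  H7.orbit_pack (S := H7.SOct) H7.SOct_inj (kp := 7) (by decide) genA (r := 1) (by decide +kernel)

theorem o1 : MulAction.orbit (MulAction.stabilizer M24 (H7.SSext.dec 0)) (H7.SOct.dec 3) =
    H7.dset H7.SOct.n H7.SOct.dec (nat_lit 0x1e2c1a19926b4899e56dc72eac3ce19253453ba9406a08dafa6284e648eb66cdc35d8e39e18933489f62425824e9f8d4a0b68edad6603e4015edaff2a09325db5a4a71099b7621712dc97d0713253243523da42d66e034a4c9966d66f264d8) ∧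
    (MulAction.orbit (MulAction.stabilizer M24 (H7.SSext.dec 0)) (H7.SOct.dec 3)).ncard = 360 :=
  H7.orbit_pack (S := H7.SOct) H7.SOct_inj (kp := 7) (by decide) genA (r := 2) (by decide +kernel)

theorem o2 : MulAction.orbit (MulAction.stabilizer M24 (H7.SSext.dec 0)) (H7.SOct.dec 1) =
    H7.dset H7.SOct.n H7.SOct.dec (nat_lit 0x61d3e5e66d94b7621a9218d153c31e6dacbac456bf95f625059d7b19b414993234a271c61e76ccb7609dbda7db14072b5f4971252992c1bf2a12500d5f6cda24a5b58ef66489de8ed23682f8ecdacdbcadc25a52991fcb5b366992990d9b26) ∧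
    (MulAction.orbit (MulAction.stabilizer M24 (H7.SSext.dec 0)) (H7.SOct.dec 1)).ncard = 384 :=
  H7.orbit_pack (S := H7.SOct) H7.SOct_inj (kp := 7) (by decide) genA (r := 2) (by decide +kernel)

theorem q0 : MulAction.orbit (MulAction.stabilizer M24 (H7.SSext.dec 0)) (H7.STrio.dec 6) =
    H7.dset H7.STrio.n H7.STrio.dec (nat_lit 0x180000000000000000000000000000000109080000000000000000000000000000000000000000000000000000000000000000000000000000000000000000000000000000000000000000000000000000000000000000000000000000000000000000000000000000000000000000000000000000000000000000000000000000000000000000000000000000000000000000000000000000000000000000000000000000000000000000000000000000000000000000000000000000000000000000000000000000000000000000000000000000000000000000000000000000000000000000000000000000000000000000000000000000000000000000000000000000000000000000000000000000000000000000000000000000000000000000000000000103040c000000000000000000000000000000000000000000000000000000000000000000000000000000000000000000000000000000000000000000000000000000000000000000000000000000000000000000000000000000000000000000000000000000000000000000000000000000000000000000000000000000000000000000000000000000000000000000000000000000000000000000000000000000000000000000000000000000002140)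 ∧
    (MulAction.orbit (MulAction.stabilizer M24 (H7.SSext.dec 0)) (H7.STrio.dec 6)).ncard = 15 :=
  H7.orbit_pack (S := H7.STrio) H7.STrio_inj (kp := 9) (by decide) genA (r := 1) (by decide +kernel)

theorem q1 : MulAction.orbit (MulAction.stabilizer M24 (H7.SSext.dec 0)) (H7.STrio.dec 0) =
    H7.dset H7.STrio.n H7.STrio.dec (nat_lit 0x7e000000800000900000400000000000006f6f0000800000101000200000a000000000000002020000809000000000400000800080000000002000002000000000000000800000000402200000000000a000000008080000800000800000000000000000000000004000000000400000010400000820000080080001001000000000008008000000000080000000000000080002000040020000000004000000000080000080000000000020020000004000000004000000200200800800080000000000000000000000000400100000000004000000000020020000000080000004000000000000000802000000000000000000002000000000000000002000400000800002000000000100000000000001000400001000400004000800000000800000000080000fcfbf3e00000400000080020000000800000800200000000800400000000800200080000000000000000000000000002000400000000200000010000000010000000008000000000001000200000000000080000001000200000000000040000001000200000000100010000000400100000000010000001000200000000001000200000800080000800080000000000200000000002000800000000000400000000010004000000040008000000005ebf)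 ∧
    (MulAction.orbit (MulAction.stabilizer M24 (H7.SSext.dec 0)) (H7.STrio.dec 0)).ncard = 180 :=
  H7.orbit_pack (S := H7.STrio) H7.STrio_inj (kp := 9) (by decide) genA (r := 2) (by decide +kernel)

theorem q2 : MulAction.orbit (MulAction.stabilizer M24 (H7.SSext.dec 0)) (H7.STrio.dec 47) =
    H7.dset H7.STrio.n H7.STrio.dec (nat_lit 0x4c6655194280000c8000000000000000002a006180680e2d13002a1480001e002a801c059e4c1942805500000c80610061000000000041800041800061e18000520000528051288d004b55002a14802a8043448052000052000052805280001e0061800000128000000012800060e2000011c1802a2d25000234a3499980066100700000000061600000000000061600041e61a61c00000000021e0000004c48004c4b4b0004b33495508000000cc8000000cc80028aa8aa2aa555250001e600000000000000052d621e0e00000000012d00000061c00580000052500000012d00052d000000119c1e00000061e000000018580000000000000061c001a000616000041e00000000878000000000009863806788330c00026182aa80012c50000000d25000000000000001e2000019181c18000aa2800343464600000002aab80600052521c1e1610000000000000000000000000c1c38384000c3c000000008784000c2c2000000043c2000000186870d0800000030f0000000020f0c1e10000000330c0000cc316890000000054aac038000296854a80004b2400013230f10800000014a4968900002a551864c4caa2a0000000168900000000a8a834380000000d2900000000545528d0000330c991800000000000)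 ∧
    (MulAction.orbit (MulAction.stabilizer M24 (H7.SSext.dec 0)) (H7.STrio.dec 47)).ncard = 720 :=
  H7.orbit_pack (S := H7.STrio) H7.STrio_inj (kp := 9) (by decide) genA (r := 2) (by decide +kernel)

theorem q3 : MulAction.orbit (MulAction.stabilizer M24 (H7.SSext.dec 0)) (H7.STrio.dec 15) =
    H7.dset H7.STrio.n H7.STrio.dec (nat_lit 0x7f807fffb319aae62d7fffb37fffffffffff80007fd57f9e7f87e1d2ccffd54b7fffe1ffd57fe1f861b3662d7faaffffb37f9e7f9e7fffffffff9e7fff9e7fff9e1e7fffad7fffad7faad552ffb4aaffd54b7fd57fb4b37fad7fffad7fffad7fad7fffe1ff9e7fffffad7fffffffad7fff9e19ffffe61e7fd552d2fffccb4cb6667ff99e7f87ffffffff9e1ffffffffffff9e1fff9e19e19e1fffffffff9e1ffffffb337ffb334b4fffb4ccb4aad7fffffb337fffffb337ffd5555555552aad2fffe19fffffffffffffffad299e1e1fffffffffad2ffffff9e1ff87fffffad2ffffffad2fffad2ffffffe661e1ffffff9e1fffffffe787ffffffffffffff9e1ffe1fff9e1ffff9e1fffffffe787ffffffffffe67987f9867ccb3fff99e75557ffed32fffffff2d2fffe0000001fffe19ffffe667e1e7fff5557ffcb4b999fffffff55507f9fffad2de1e1e1efffffffffffffffffffffffff3c3c787bfff3c3dffffffe787bfff3c3dfffffff3c3dffffffe7878f0f7ffffffcf0f7ffffffcf0f1e1efffffffccb3ffff32ce956fffffffeab543fc7fff9696ab57fffb4cbfffecccf0cf7ffffffeb4b6956ffff55aa679b3335555fffffffe956ffffffff5557c3c7fffffff2d2ffffffffaaaad32ffffccb36667fffffff8000)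 ∧
    (MulAction.orbit (MulAction.stabilizer M24 (H7.SSext.dec 0)) (H7.STrio.dec 15)).ncard = 2880 :=
  H7.orbit_pack (S := H7.STrio) H7.STrio_inj (kp := 9) (by decide) genA (r := 2) (by decide +kernel)

theorem memOct (g : M24) {j : ℕ} (hj : j < H7.SOct.n) : g • H7.SOct.dec j ∈ octads := by
  rw [H7.smul_mem_octads_iff, H7.octads_eq]; exact H7.dec_mem_ones _ hj

theorem memTrio (g : M24) {j : ℕ} (hj : j < H7.STrio.n) : g • H7.STrio.dec j ∈ trios := by
  rw [H7.smul_mem_trios_iff, H7.trios_eq]; exact H7.dec_mem_ones _ hj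

/-- The stabiliser of a sextet in the group of the length-24 code has exactly three orbits on the 759 octads, of sizes 15, 360 and 384, and exactly four orbits on the 3795 trios, of sizes 15, 180, 720 and 2880. -/
theorem result (S : Finset (Finset Cfsg.GolayPt)) (hS : S ∈ Cfsg.sextets) : (∃ X₁ ∈ Cfsg.octads, ∃ X₂ ∈ Cfsg.octads, ∃ X₃ ∈ Cfsg.octads, (MulAction.orbit ↥(MulAction.stabilizer Cfsg.M24 S) X₁).ncard = 15 ∧ (MulAction.orbit ↥(MulAction.stabilizer Cfsg.M24 S) X₂).ncard = 360 ∧ (MulAction.orbit ↥(MulAction.stabilizer Cfsg.M24 S) X₃).ncard = 384 ∧ Cfsg.octads = MulAction.orbit ↥(MulAction.stabilizer Cfsg.M24 S) X₁ ∪ MulAction.orbit ↥(MulAction.stabilizer Cfsg.M24 S) X₂ ∪ MulAction.orbit ↥(MulAction.stabilizer Cfsg.M24 S) X₃) ∧ (∃ Y₁ ∈ Cfsg.trios, ∃ Y₂ ∈ Cfsg.trios, ∃ Y₃ ∈ Cfsg.trios, ∃ Y₄ ∈ Cfsg.trios, (MulAction.orbit ↥(MulAction.stabilizer Cfsg.M24 S) Y₁).ncard = 15 ∧ (MulAction.orbit ↥(MulAction.stabilizer Cfsg.M24 S) Y₂).ncard = 180 ∧ (MulAction.orbit ↥(MulAction.stabilizer Cfsg.M24 S) Y₃).ncard = 720 ∧ (MulAction.orbit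 ↥(MulAction.stabilizer Cfsg.M24 S) Y₄).ncard = 2880 ∧ Cfsg.trios = MulAction.orbit ↥(MulAction.stabilizer Cfsg.M24 S) Y₁ ∪ MulAction.orbit ↥(MulAction.stabilizer Cfsg.M24 S) Y₂ ∪ MulAction.orbit ↥(MulAction.stabilizer Cfsg.M24 S) Y₃ ∪ MulAction.orbit ↥(MulAction.stabilizer Cfsg.M24 S) Y₄) := by
  obtain ⟨g, rfl⟩ := H7.exists_smul_sext' hS
  exact ⟨⟨g • H7.SOct.dec 0, memOct g (by decide), g • H7.SOct.dec 3, memOct g (by decide), g • H7.SOct.dec 1, memOct g (by decide),
    by rw [H7.orbit_smul_stabilizer, Set.ncard_smul_set, o0.2], by rw [H7.orbit_smul_stabilizer, Set.ncard_smul_set, o1.2], by rw [H7.orbit_smul_stabilizer, Set.ncard_smul_set, o2.2],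
    by
      rw [H7.orbit_smul_stabilizer, H7.orbit_smul_stabilizer, H7.orbit_smul_stabilizer, o0.1, o1.1, o2.1,
        ← Set.smul_set_union, ← Set.smul_set_union,
        ← H7.dset_or, ← H7.dset_or]
      rw [← H7.smul_octads g, H7.octads_eq]
      exact congrArg (fun x => g • H7.dset _ _ x) (by decide +kernel)⟩,
    ⟨g • H7.STrio.dec 6, memTrio g (by decide), g • H7.STrio.dec 0, memTrio g (by decide), g • H7.STrio.dec 47, memTrio g (by decide), g • H7.STrio.dec 15, memTrio g (by decide),
    by rw [H7.orbit_smul_stabilizer, Set.ncard_smul_set, q0.2], by rw [H7.orbit_smul_stabilizer, Set.ncard_smul_set, q1.2], by rw [H7.orbit_smul_stabilizer, Set.ncard_smul_set, q2.2], by rw [H7.orbit_smul_stabilizer, Set.ncard_smul_set, q3.2],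
    by
      rw [H7.orbit_smul_stabilizer, H7.orbit_smul_stabilizer, H7.orbit_smul_stabilizer, H7.orbit_smul_stabilizer, q0.1, q1.1, q2.1, q3.1,
        ← Set.smul_set_union, ← Set.smul_set_union, ← Set.smul_set_union,
        ← H7.dset_or, ← H7.dset_or, ← H7.dset_or]
      rw [← H7.smul_trios g, H7.trios_eq]
      exact congrArg (fun x => g • H7.dset _ _ x) (by decide +kernel)⟩⟩

end Cfsg.Agent.S5611
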