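import Cfsg.Statements.S5612
import Cfsg.Agent.H7.M24Orb

set_option autoImplicit false
open scoped Pointwise
open Cfsg

namespace Cfsg.Agent.S5612

open scoped Pointwise
def chA : List H7.Level := [(0, 4, [[3, 4, 1, 3, 2, 0, 4, 3], [2, 1, 4, 4, 3, 2]]),
  (1, 2, [[0, 2, 3, 4, 1, 0, 1, 4, 0, 0, 0], [2, 1, 0, 0, 0, 2, 2, 3, 1, 2]]),
  (2, 2, [[2, 3, 3, 1, 0, 2, 3, 2, 3, 4, 0, 4], [4, 0, 0, 4, 3, 3, 3, 1, 2, 3, 3, 1]]),
  (5, 2, [[0, 2, 3, 2, 2, 3, 2, 0, 4, 3, 4, 3, 4], [2, 2, 0, 4, 3, 2, 3, 1, 4, 4, 3, 4, 0, 2], [3, 2, 3, 3, 4, 4, 3, 2, 3, 1, 0, 0, 1, 4], [4, 4, 1, 0, 0, 4, 4, 3, 4, 0, 0, 1, 4, 4]]),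
  (3, 1, [[1, 0, 0, 4, 0, 2, 0, 0, 0, 2, 2, 0, 0, 1, 4], [2, 0, 2, 3, 3, 1, 0, 4, 0, 4, 3, 2, 0, 4, 0, 4]])]

theorem genA : MulAction.stabilizer M24 (H7.STrio.dec 0) =
    Subgroup.closure {g | ∃ w ∈ H7.chainWords chA, H7.S0.ev w = g} :=
  H7.Sys.eq_closure_of_chain (S := H7.S0) H7.gC.inj (kp := 2) (by decide) chA _
    (H7.Sys.mem_stabilizer_of_fixAll (S := H7.STrio) (by decide) (by decide +kernel))
    (by rw [H7.STrio_card]; decide +kernel)

theorem o0 : MulAction.orbit (MulAction.stabilizer M24 (H7.STrio.dec 0)) (H7.SOct.dec 0) =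
    H7.dset H7.SOct.n H7.SOct.dec (nat_lit 0x800000000000000000000000000000000000000000000000000000000000000000000000000000000000000000000000000000000000000000000000000000000000000000000000000000000000200000000000000000000000000000001) ∧
    (MulAction.orbit (MulAction.stabilizer M24 (H7.STrio.dec 0)) (H7.SOct.dec 0)).ncard = 3 :=
  H7.orbit_pack (S := H7.SOct) H7.SOct_inj (kp := 7) (by decide) genA (r := 1) (by decide +kernel)

theorem o1 : MulAction.orbit (MulAction.stabilizer M24 (H7.STrio.dec 0)) (H7.SOct.dec 18) =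
    H7.dset H7.SOct.n H7.SOct.dec (nat_lit 0x20462008e000004000ca00c200400000c042000018001000000040000000601080c022000000c4004000180000200100000000006010000040182000000000000004006001000000000010000000c330c30180c18063018018180600c0000) ∧
    (MulAction.orbit (MulAction.stabilizer M24 (H7.STrio.dec 0)) (H7.SOct.dec 18)).ncard = 84 :=
  H7.orbit_pack (S := H7.SOct) H7.SOct_inj (kp := 7) (by decide) genA (r := 2) (by decide +kernel)

theorem o2 : MulAction.orbit (MulAction.stabilizer M24 (H7.STrio.dec 0)) (H7.SOct.dec 1) =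
    H7.dset H7.SOct.n H7.SOct.dec (nat_lit 0x75fb9dff71fffffbfff35ff3dffbfffff3fbdffffe7ffefffffffbfffffff9fef7f3fddffffff3bffbfffe7ffffdffeffffffffff9fefffffbfe7dffffffffffffffbff9ffeffffffffffefffffff1ccf3cfe7f3e7f9cfe7fe7e7f9ff3fffe) ∧
    (MulAction.orbit (MulAction.stabilizer M24 (H7.STrio.dec 0)) (H7.SOct.dec 1)).ncard = 672 :=
  H7.orbit_pack (S := H7.SOct) H7.SOct_inj (kp := 7) (by decide) genA (r := 2) (by decide +kernel)

theorem q0 : MulAction.orbit (MulAction.stabilizer M24 (H7.STrio.dec 0)) (H7.SSext.dec 3) =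
    H7.dset H7.SSext.n H7.SSext.dec (nat_lit 0x210000000404000000000000000000000000000000000000000000c000000008) ∧
    (MulAction.orbit (MulAction.stabilizer M24 (H7.STrio.dec 0)) (H7.SSext.dec 3)).ncard = 7 :=
  H7.orbit_pack (S := H7.SSext) H7.SSext_inj (kp := 8) (by decide) genA (r := 1) (by decide +kernel)

theorem q1 : MulAction.orbit (MulAction.stabilizer M24 (H7.STrio.dec 0)) (H7.SSext.dec 0) =
    H7.dset H7.SSext.n H7.SSext.dec (nat_lit 0x400010000000200000000000000000000000000000000000000000000000000008000002000010000a000000000000000000000000000000000000101040000000000900000200088208000c008000080008000044000000080002000000040400020000000000000040008000022000000000002001000800000000000000000000001000001800000000000040000000000001000020000010000000000000000001000000000000000000000100000200000020000100000004000005ee000000bf800004200200000001000008000000001000000001f3800000017) ∧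
    (MulAction.orbit (MulAction.stabilizer M24 (H7.STrio.dec 0)) (H7.SSext.dec 0)).ncard = 84 :=
  H7.orbit_pack (S := H7.SSext) H7.SSext_inj (kp := 8) (by decide) genA (r := 1) (by decide +kernel)

theorem q2 : MulAction.orbit (MulAction.stabilizer M24 (H7.STrio.dec 0)) (H7.SSext.dec 81) =
    H7.dset H7.SSext.n H7.SSext.dec (nat_lit 0x78014a00000030a3810000025072d0c870902000707812402401020183201cc03885e5002802e0158202a000000f002800002802000190048000400f2860040400729c0005803305d40033067004f20817003fb9e2000400009d4103e003fa00018000000010000180037000058000041f0000d900e07000107c0004001000000400e80000e7c00100000101b000120200004ea003c002002e000000000000000202e00010004000000400001e00000dfc000007d000f001001b00000000000000000f800bdc0d8000003ef000078000003fe00000000000000000000) ∧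
    (MulAction.orbit (MulAction.stabilizer M24 (H7.STrio.dec 0)) (H7.SSext.dec 81)).ncard = 336 :=
  H7.orbit_pack (S := H7.SSext) H7.SSext_inj (kp := 8) (by decide) genA (r := 1) (by decide +kernel)

theorem q3 : MulAction.orbit (MulAction.stabilizer M24 (H7.STrio.dec 0)) (H7.SSext.dec 5) =
    H7.dset H7.SSext.n H7.SSext.dec (nat_lit 0x3f87eeb5ffffdfcf5c7efffffdaf8d2f378f6fdfff8f87edbfdbfefdfe7cdfe337c77a18ffd7ed1fe07dfd5ffffff0ffd7ffffd7fdfffe6ffb7fffafe0979ffbfbff8463fff87fc47823ffc0f90ffb05f7e0ffc0021dfffbf7ff60befc1ff801fffc7fffffffeffffe3ffc0ffff85ffffbe0ffff06fe1f87ffef83fffbffeffffffbff07ffff003ffefffffefe0fffedfdffffb05ffc1ffdffc1fffffffffffffffdfc1fffefffbffffffbffffe0fffff003ffffd82ffe0ffeffe0fffff801ffffff00307ff003f07fffffc00ffff07fffffc00ffffffffe007ffffffe0) ∧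
    (MulAction.orbit (MulAction.stabilizer M24 (H7.STrio.dec 0)) (H7.SSext.dec 5)).ncard = 1344 :=
  H7.orbit_pack (S := H7.SSext) H7.SSext_inj (kp := 8) (by decide) genA (r := 2) (by decide +kernel)

theorem memOct (g : M24) {j : ℕ} (hj : j < H7.SOct.n) : g • H7.SOct.dec j ∈ octads := by
  rw [H7.smul_mem_octads_iff, H7.octads_eq]; exact H7.dec_mem_ones _ hj

theorem memSext (g : M24) {j : ℕ} (hj : j < H7.SSext.n) : g • H7.SSext.dec j ∈ sextets := by
  rw [H7.smul_mem_sextets_iff, H7.sextets_eq]; exact H7.dec_mem_ones _ hj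

/-- The stabiliser of a trio in the group of the length-24 code has exactly three orbits on the 759 octads, of sizes 3, 84 and 672, and exactly four orbits on the 1771 sextets, of sizes 7, 84, 336 and 1344. -/
theorem result (T : Finset (Finset Cfsg.GolayPt)) (hT : T ∈ Cfsg.trios) : (∃ X₁ ∈ Cfsg.octads, ∃ X₂ ∈ Cfsg.octads, ∃ X₃ ∈ Cfsg.octads, (MulAction.orbit ↥(MulAction.stabilizer Cfsg.M24 T) X₁).ncard = 3 ∧ (MulAction.orbit ↥(MulAction.stabilizer Cfsg.M24 T) X₂).ncard = 84 ∧ (MulAction.orbit ↥(MulAction.stabilizer Cfsg.M24 T) X₃).ncard = 672 ∧ Cfsg.octads = MulAction.orbit ↥(MulAction.stabilizer Cfsg.M24 T) X₁ ∪ MulAction.orbit ↥(MulAction.stabilizer Cfsg.M24 T) X₂ ∪ MulAction.orbit ↥(MulAction.stabilizer Cfsg.M24 T) X₃) ∧ (∃ Y₁ ∈ Cfsg.sextets, ∃ Y₂ ∈ Cfsg.sextets, ∃ Y₃ ∈ Cfsg.sextets, ∃ Y₄ ∈ Cfsg.sextets, (MulAction.orbit ↥(MulAction.stabilizer Cfsg.M24 T) Y₁).ncard = 7 ∧ (MulAction.orbit ↥(MulAction.stabilizer Cfsg.M24 T) Y₂).ncard = 84 ∧ (MulAction.orbit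 ↥(MulAction.stabilizer Cfsg.M24 T) Y₃).ncard = 336 ∧ (MulAction.orbit ↥(MulAction.stabilizer Cfsg.M24 T) Y₄).ncard = 1344 ∧ Cfsg.sextets = MulAction.orbit ↥(MulAction.stabilizer Cfsg.M24 T) Y₁ ∪ MulAction.orbit ↥(MulAction.stabilizer Cfsg.M24 T) Y₂ ∪ MulAction.orbit ↥(MulAction.stabilizer Cfsg.M24 T) Y₃ ∪ MulAction.orbit ↥(MulAction.stabilizer Cfsg.M24 T) Y₄) := by
  obtain ⟨g, rfl⟩ := H7.exists_smul_trio' hT
  exact ⟨⟨g • H7.SOct.dec 0, memOct g (by decide), g • H7.SOct.dec 18, memOct g (by decide), g • H7.SOct.dec 1, memOct g (by decide),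
    by rw [H7.orbit_smul_stabilizer, Set.ncard_smul_set, o0.2], by rw [H7.orbit_smul_stabilizer, Set.ncard_smul_set, o1.2], by rw [H7.orbit_smul_stabilizer, Set.ncard_smul_set, o2.2],
    by
      rw [H7.orbit_smul_stabilizer, H7.orbit_smul_stabilizer, H7.orbit_smul_stabilizer, o0.1, o1.1, o2.1,
        ← Set.smul_set_union, ← Set.smul_set_union,
        ← H7.dset_or, ← H7.dset_or]
      rw [← H7.smul_octads g, H7.octads_eq]
      exact congrArg (fun x => g • H7.dset _ _ x) (by decide +kernel)⟩,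
    ⟨g • H7.SSext.dec 3, memSext g (by decide), g • H7.SSext.dec 0, memSext g (by decide), g • H7.SSext.dec 81, memSext g (by decide), g • H7.SSext.dec 5, memSext g (by decide),
    by rw [H7.orbit_smul_stabilizer, Set.ncard_smul_set, q0.2], by rw [H7.orbit_smul_stabilizer, Set.ncard_smul_set, q1.2], by rw [H7.orbit_smul_stabilizer, Set.ncard_smul_set, q2.2], by rw [H7.orbit_smul_stabilizer, Set.ncard_smul_set, q3.2],
    by
      rw [H7.orbit_smul_stabilizer, H7.orbit_smul_stabilizer, H7.orbit_smul_stabilizer, H7.orbit_smul_stabilizer, q0.1, q1.1, q2.1, q3.1,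
        ← Set.smul_set_union, ← Set.smul_set_union, ← Set.smul_set_union,
        ← H7.dset_or, ← H7.dset_or, ← H7.dset_or]
      rw [← H7.smul_sextets g, H7.sextets_eq]
      exact congrArg (fun x => g • H7.dset _ _ x) (by decide +kernel)⟩⟩

end Cfsg.Agent.S5612
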