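import Cfsg.Statements.S5617
import Cfsg.Agent.H7.M24Orb

set_option autoImplicit false
open scoped Pointwise
open Cfsg

namespace Cfsg.Agent.S5617

open scoped Pointwise
def chA : List H7.Level := [(0, 3, [[1], [2], [3, 3, 1, 0, 1, 4, 0]]),
  (1, 3, [[3, 4, 3, 3, 3, 2, 0, 2, 2, 0], [1, 0, 2, 0, 4, 3, 3, 2, 3, 1]]),
  (2, 5, [[1, 3, 3, 3, 4, 0, 4, 4, 3, 3, 1], [2, 1, 0, 4, 0, 0, 2, 3, 4, 3, 1]]),
  (3, 3, [[1, 3, 3, 3, 4, 0, 4, 4, 3, 3, 1], [4, 0, 4, 3, 1, 3, 3, 3, 2, 2, 3, 3, 4, 0]]),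
  (4, 2, [[4, 3, 3, 1, 0, 4, 4, 0, 2, 0, 0, 4, 3, 2, 3], [2, 3, 4, 4, 1, 0, 0, 0, 1, 4, 4, 0, 0, 2]])]

theorem genA : MulAction.stabilizer M24 (H7.SPair.dec 23) =
    Subgroup.closure {g | ∃ w ∈ H7.chainWords chA, H7.S0.ev w = g} :=
  H7.Sys.eq_closure_of_chain (S := H7.S0) H7.gC.inj (kp := 2) (by decide) chA _
    (H7.Sys.mem_stabilizer_of_fixAll (S := H7.SPair) (by decide) (by decide +kernel))
    (by rw [H7.SPair_card]; decide +kernel)

theorem o0 : MulAction.orbit (MulAction.stabilizer M24 (H7.SPair.dec 23)) (H7.SSext.dec 45) =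
    H7.dset H7.SSext.n H7.SSext.dec (nat_lit 0x4c054810119063666238011a5a0c55b52888058380168611420a52060854a0001400002060000a61c008fc00000400003078002701b1e0aca24089c92094e007007e492156034042c801543f0301f8761011870001f87084e600003cf00f012a8a218e2a0c09d0e00107140fc0000000000000029500d000000f82400000000000000103000000000c4c00414c0f000a080806800000000200000040d000000131300260c7882981e0029c01000c063de0004b00080fc12000f80d001f0000d00355001000000206800000000000090000000000024006aa00000000000) ∧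
    (MulAction.orbit (MulAction.stabilizer M24 (H7.SPair.dec 23)) (H7.SSext.dec 45)).ncard = 396 :=
  H7.orbit_pack (S := H7.SSext) H7.SSext_inj (kp := 8) (by decide) genA (r := 2) (by decide +kernel)

theorem o1 : MulAction.orbit (MulAction.stabilizer M24 (H7.SPair.dec 23)) (H7.SSext.dec 0) =
    H7.dset H7.SSext.n H7.SSext.dec (nat_lit 0x1980322602200118406c605a04020420300aa00406100080021848010280001c02d79c80dcbe08020620099e1f80f0f83060408404001035101002601030080c0013282a81481813022a80004000288084e00c000028d011000a000040006d561c201d41002201800c0e8000000015ff81f0ffd600320028010018005f40f83ff03fe048000ffc3f1314100320080000202092fa07c1ff807c1ff81207fe0044c4d0180386006401000601e001301c21003b400202000d0020412000007ff2000aa00003e0ffc090000ffc00ffe068000ffc00ffda0015400001ff801f) ∧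
    (MulAction.orbit (MulAction.stabilizer M24 (H7.SPair.dec 23)) (H7.SSext.dec 0)).ncard = 495 :=
  H7.orbit_pack (S := H7.SSext) H7.SSext_inj (kp := 8) (by decide) genA (r := 2) (by decide +kernel)

theorem o2 : MulAction.orbit (MulAction.stabilizer M24 (H7.SPair.dec 23)) (H7.SSext.dec 5) =
    H7.dset H7.SSext.n H7.SSext.dec (nat_lit 0x3262b4cd8e4d9c8819c138e005b38a08d477507c3f8879e6bdd42979e7835ffe2bd286179234151e1f9503661e03f0f04c81fbd0be0e1e500cbe7610de681f783f80845c01e83e3c07dc03c0f8fe0501e7a0783ffe05027a09ff5fc30bf0f800141c7001e3f40f07fe3803f03ffffea007e0f0000afc0ffd7fe07c3ffa0bf07c00fc00f87fff003c0282bebe81f07ff5f5f5f0505f83e005f83e003e0f801ffa8282fc1f0017d03e0ffd03e0ffe0f8000ffc00ffd7d03e0ffd03e0ffe0f8000ffc00ffefc1f001f07fff003ff001f07fff003ff0001ff801ffffe007fe0) ∧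
    (MulAction.orbit (MulAction.stabilizer M24 (H7.SPair.dec 23)) (H7.SSext.dec 5)).ncard = 880 :=
  H7.orbit_pack (S := H7.SSext) H7.SSext_inj (kp := 8) (by decide) genA (r := 2) (by decide +kernel)

theorem memSext (g : M24) {j : ℕ} (hj : j < H7.SSext.n) : g • H7.SSext.dec j ∈ sextets := by
  rw [H7.smul_mem_sextets_iff, H7.sextets_eq]; exact H7.dec_mem_ones _ hj

/-- The setwise stabiliser, in the group of the length-24 code, of a complementary pair of dodecads has exactly three orbits on the 1771 sextets, of sizes 396, 495 and 880. -/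
theorem result (d : Finset Cfsg.GolayPt) (hd : d ∈ Cfsg.dodecads) : ∃ X₁ ∈ Cfsg.sextets, ∃ X₂ ∈ Cfsg.sextets, ∃ X₃ ∈ Cfsg.sextets, (MulAction.orbit ↥(MulAction.stabilizer Cfsg.M24 ({d, Finset.univ \ d} : Finset (Finset Cfsg.GolayPt))) X₁).ncard = 396 ∧ (MulAction.orbit ↥(MulAction.stabilizer Cfsg.M24 ({d, Finset.univ \ d} : Finset (Finset Cfsg.GolayPt))) X₂).ncard = 495 ∧ (MulAction.orbit ↥(MulAction.stabilizer Cfsg.M24 ({d, Finset.univ \ d} : Finset (Finset Cfsg.GolayPt))) X₃).ncard = 880 ∧ Cfsg.sextets = MulAction.orbit ↥(MulAction.stabilizer Cfsg.M24 ({d, Finset.univ \ d} : Finset (Finset Cfsg.GolayPt))) X₁ ∪ MulAction.orbit ↥(MulAction.stabilizer Cfsg.M24 ({d, Finset.univ \ d} : Finset (Finset Cfsg.GolayPt))) X₂ ∪ MulAction.orbit ↥(MulAction.stabilizer Cfsg.M24 ({d, Finset.univ \ d} : Finset (Finset Cfsg.GolayPt))) X₃ := by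
  obtain ⟨g, rfl⟩ := H7.exists_smul_dod hd
  have e : ({g • H7.fs 340831, Finset.univ \ g • H7.fs 340831} : Finset (Finset GolayPt)) = g • H7.SPair.dec 23 := by
    rw [H7.pair0_eq, Finset.smul_finset_insert, Finset.smul_finset_singleton, H7.smul_compl', Finset.compl_eq_univ_sdiff]
  rw [e]
  exact ⟨g • H7.SSext.dec 45, memSext g (by decide), g • H7.SSext.dec 0, memSext g (by decide), g • H7.SSext.dec 5, memSext g (by decide),
    by rw [H7.orbit_smul_stabilizer, Set.ncard_smul_set, o0.2], by rw [H7.orbit_smul_stabilizer, Set.ncard_smul_set, o1.2], by rw [H7.orbit_smul_stabilizer, Set.ncard_smul_set, o2.2],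
    by
      rw [H7.orbit_smul_stabilizer, H7.orbit_smul_stabilizer, H7.orbit_smul_stabilizer, o0.1, o1.1, o2.1,
        ← Set.smul_set_union, ← Set.smul_set_union,
        ← H7.dset_or, ← H7.dset_or]
      rw [← H7.smul_sextets g, H7.sextets_eq]
      exact congrArg (fun x => g • H7.dset _ _ x) (by decide +kernel)⟩

end Cfsg.Agent.S5617
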