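import Cfsg.Statements.S5726
import Cfsg.Agent.PM.E

set_option autoImplicit false
open Cfsg

namespace Cfsg.Agent.S5726

/-- If a finite group acts faithfully and transitively on a set with p^k elements, p a prime and k ≥ 1, then some element of order p fixes no point. -/
theorem result {G Ω : Type*} [Group G] [Finite G] [MulAction G Ω] [FaithfulSMul G Ω] [Fintype Ω] (htr : MulAction.IsPretransitive G Ω)
    (p k : ℕ) (hp : p.Prime) (hk : 1 ≤ k) (hΩ : Fintype.card Ω = p ^ k) :
    ∃ g : G, orderOf g = p ∧ ∀ ω : Ω, g • ω ≠ ω := by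
  haveI := Fact.mk hp
  obtain ⟨P⟩ : Nonempty (Sylow p G) := inferInstance
  have h1 := PM.sylow_tr (G := G) (α := Ω) (by rw [Nat.card_eq_fintype_card, hΩ]) P
  have hΩ2 : Nontrivial Ω := Fintype.one_lt_card_iff_nontrivial.1 (hΩ ▸ Nat.one_lt_pow (by omega) hp.one_lt)
  have hP : Nontrivial (P : Subgroup G) := by
    obtain ⟨a, b, hab⟩ := exists_pair_ne Ω
    obtain ⟨g, rfl⟩ := MulAction.exists_smul_eq (P : Subgroup G) a b
    exact ⟨g, 1, fun h => hab (by simp [h])⟩
  have hZ := P.2.center_nontrivial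
  obtain ⟨j, hj⟩ := (P.2.to_subgroup (Subgroup.center (P : Subgroup G))).exists_card_eq
  have hj0 : j ≠ 0 := by
    rintro rfl
    exact absurd (Finite.one_lt_card_iff_nontrivial.2 hZ) (by simp [hj])
  obtain ⟨z, hz⟩ := exists_prime_orderOf_dvd_card' (G := Subgroup.center (P : Subgroup G)) p (hj ▸ dvd_pow_self p hj0)
  have ho : orderOf ((z : (P : Subgroup G)) : G) = p := by rw [Subgroup.orderOf_coe, Subgroup.orderOf_coe, hz]
  refine ⟨_, ho, fun ω h => ?_⟩
  have : ((z : (P : Subgroup G)) : G) = 1 := by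
    refine eq_of_smul_eq_smul (α := Ω) fun a => ?_
    obtain ⟨g, rfl⟩ := MulAction.exists_smul_eq (P : Subgroup G) ω a
    have e : (g : G) * z = z * g := congrArg Subtype.val (Subgroup.mem_center_iff.1 z.2 g)
    rw [one_smul, Subgroup.smul_def, ← mul_smul, ← e, mul_smul, h]
  rw [this, orderOf_one] at ho
  exact hp.one_lt.ne ho

end Cfsg.Agent.S5726
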