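import Cfsg.Statements.S5727
import Mathlib

set_option autoImplicit false
open Cfsg

namespace Cfsg.Agent.S5727

open Subgroup MulAction

/-- If a finite group acts faithfully and transitively on a set with m·p elements, where p is a prime and 1 ≤ m ≤ p, then some element of order p fixes no point. -/
theorem result {G Ω : Type*} [Group G] [Finite G] [MulAction G Ω] [FaithfulSMul G Ω] [Fintype Ω] (htr : MulAction.IsPretransitive G Ω)
    (p m : ℕ) (hp : p.Prime) (hm : 1 ≤ m) (hmp : m ≤ p) (hΩ : Fintype.card Ω = m * p) :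
    ∃ g : G, orderOf g = p ∧ ∀ ω : Ω, g • ω ≠ ω := by
  classical
  have := Fact.mk hp
  obtain ⟨P⟩ : Nonempty (Sylow p G) := inferInstance
  have := Fintype.ofFinite P
  have h0 : 0 < m * p := Nat.mul_pos hm hp.pos
  have I : ∀ x : Ω, ∃ k, (stabilizer P x).index = p ^ (k + 1) := fun x => by
    obtain ⟨k, hk⟩ := P.isPGroup'.index (stabilizer P x)
    rcases k with _ | k
    · have : (P : Subgroup G) ≤ stabilizer G x := fun g hg =>
        (index_eq_one.1 hk ▸ mem_top (⟨g, hg⟩ : P) : (⟨g, hg⟩ : P) ∈ stabilizer P x)
      have := index_dvd_of_le this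
      rw [index_stabilizer_of_transitive, Nat.card_eq_fintype_card, hΩ] at this
      exact absurd ((Dvd.intro_left _ rfl).trans this) P.not_dvd_index
    · exact ⟨k, hk⟩
  by_cases c : ∀ x : Ω, (stabilizer P x).index = p; swap
  · push Not at c
    obtain ⟨x, c⟩ := c
    obtain ⟨k, hk⟩ := I x
    have T : orbit P x = Set.univ := by
      rw [Set.eq_univ_iff_ncard, ← index_stabilizer, Nat.card_eq_fintype_card]
      refine le_antisymm (by rw [index_stabilizer, ← Nat.card_eq_fintype_card]; exact Set.ncard_le_card _) ?_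
      obtain ⟨k, rfl⟩ : ∃ j, k = j + 1 := ⟨k - 1, by rcases k with _ | k; simp_all; rfl⟩
      rw [hk, hΩ, pow_succ, pow_succ]
      exact Nat.mul_le_mul_right _ (hmp.trans (Nat.le_mul_of_pos_left _ (pow_pos hp.pos _)))
    have : Nontrivial P := by
      by_contra d
      rw [not_nontrivial_iff_subsingleton] at d
      rw [Subsingleton.elim (stabilizer P x) ⊤, index_top] at hk
      exact (Nat.one_lt_pow (by omega) hp.one_lt).ne hk
    have := P.isPGroup'.center_nontrivial
    obtain ⟨k, hk⟩ := (P.isPGroup'.to_subgroup (center P)).nontrivial_iff_card.1 this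
    obtain ⟨z, hz⟩ := exists_prime_orderOf_dvd_card' (G := center P) p (hk.2 ▸ dvd_pow_self p hk.1.ne')
    refine ⟨z.1.1, by rw [orderOf_coe, orderOf_coe, hz], fun ω e => hp.ne_one ?_⟩
    obtain ⟨a, rfl⟩ : ω ∈ orbit P x := T ▸ Set.mem_univ _
    rw [← hz, orderOf_eq_one_iff]
    refine Subtype.ext (Subtype.ext (eq_of_smul_eq_smul (α := Ω) fun y => ?_))
    obtain ⟨b, rfl⟩ : y ∈ orbit P x := T ▸ Set.mem_univ _
    change z.1 • a • x = a • x at e
    change z.1 • b • x = (1 : G) • b • x
    rw [← mul_smul, ← mem_center_iff.1 z.2, mul_smul, smul_left_cancel_iff] at e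
    rw [← mul_smul, ← mem_center_iff.1 z.2, mul_smul, e, one_smul]
  have N : ∀ x : Ω, (stabilizer P x).Normal := fun x => normal_of_index_eq_minFac_card (by
    obtain ⟨k, hk⟩ := P.isPGroup'.exists_card_eq
    have := (stabilizer P x).index_dvd_card
    rw [c x, hk] at *
    rcases k with _ | k
    · exact absurd (Nat.dvd_one.1 this) hp.ne_one
    · rw [hp.pow_minFac (by omega)])
  obtain ⟨g, hg⟩ : ∃ g : P, ∀ x : Ω, g • x ≠ x := by
    by_contra! d
    have S : p * ∑ g : P, (Finset.univ.filter fun x : Ω => g • x = x).card = m * p * Fintype.card P := by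
      simp only [Finset.card_filter]
      rw [Finset.sum_comm, Finset.mul_sum, ← hΩ, Fintype.card, Finset.card_eq_sum_ones, Finset.sum_mul]
      refine Finset.sum_congr rfl fun x _ => ?_
      rw [← Finset.card_filter, one_mul, ← Nat.card_eq_fintype_card, ← (stabilizer P x).index_mul_card, c x,
        Nat.card_eq_fintype_card, Fintype.card_subtype]
      rfl
    have L : ∑ g : P, (p + if g = 1 then m * p - p else 0) ≤ ∑ g : P, (Finset.univ.filter fun x : Ω => g • x = x).card :=
      Finset.sum_le_sum fun g _ => by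
        split_ifs with e
        · simp [e, hΩ, Nat.le_mul_of_pos_left p hm]
        obtain ⟨x, hx⟩ := d g
        refine (add_zero p).trans_le ((c x).symm.trans_le ?_)
        rw [index_stabilizer, Set.ncard_eq_toFinset_card']
        refine Finset.card_le_card fun y hy => ?_
        obtain ⟨a, rfl⟩ := Set.mem_toFinset.1 hy
        have := (N x).conj_mem' g hx a
        rw [mem_stabilizer_iff, mul_smul, mul_smul, inv_smul_eq_iff] at this
        simpa using this
    rw [Finset.sum_add_distrib] at L
    simp only [Finset.sum_const, Finset.card_univ, smul_eq_mul, Finset.sum_ite_eq', Finset.mem_univ, if_true] at L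
    rw [mul_comm m, mul_assoc] at S
    rw [Nat.eq_of_mul_eq_mul_left hp.pos S] at L
    have := Fintype.card_pos (α := P)
    have := hp.one_lt
    rcases hmp.eq_or_lt with rfl | h
    · have : m < m * m := by nlinarith
      rw [mul_comm] at L; omega
    · nlinarith [Nat.zero_le (m * p - p)]
  have : Nonempty Ω := Fintype.card_pos_iff.1 (by omega)
  refine ⟨g, orderOf_eq_prime (eq_of_smul_eq_smul (α := Ω) fun x => ?_) fun e => hg this.some ?_, hg⟩
  · have := N x
    have := (stabilizer P x).pow_index_mem g
    rw [c x] at this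
    rw [one_smul]; exact this
  · rw [Subgroup.smul_def, e, one_smul]


end Cfsg.Agent.S5727
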