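import Cfsg.Statements.S5728
import Cfsg.Agent.H2.Half

set_option autoImplicit false
open Cfsg

namespace Cfsg.Agent.S5728

/-- An elusive transitive action. Let p = 2^s − 1 be a prime and let F be the field with p² elements. Inside the group of affine maps x ↦ a·x + b of F (a ≠ 0), consider the subgroup of maps with both coefficients in the prime field. Then every element of prime order of the affine group is conjugate, within the affine group, to an element of that subgroup; equivalently, in the transitive action of the affine group on the cosets of that subgroup (of degree p(p + 1)) every element of prime order fixes a point. -/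
theorem result (p s : ℕ) [Fact p.Prime] (hs : p = 2 ^ s - 1)
    (g : Equiv.Perm (GaloisField p 2)) (hg : g ∈ Cfsg.affineGroup (GaloisField p 2)) (hord : (orderOf g).Prime) :
    ∃ x ∈ Cfsg.affineGroup (GaloisField p 2), ∃ a b : ZMod p, a ≠ 0 ∧
      ∀ y : GaloisField p 2, (x * g * x⁻¹) y = algebraMap (ZMod p) (GaloisField p 2) a * y + algebraMap (ZMod p) (GaloisField p 2) b := by
  let K := GaloisField p 2
  have hp := (Fact.out : p.Prime)
  obtain ⟨a, b, hab⟩ := hg
  by_cases ha : (a : K) = 1
  · have hb : b ≠ 0 := by
      rintro rfl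
      have : g = 1 := Equiv.ext fun y => by simp [hab, ha]
      rw [this, orderOf_one] at hord; exact Nat.not_prime_one hord
    refine ⟨Equiv.mulLeft₀ b⁻¹ (inv_ne_zero hb), ⟨Units.mk0 b⁻¹ (inv_ne_zero hb), 0, fun y => by simp⟩, 1, 1, one_ne_zero, fun y => ?_⟩
    simp only [Equiv.Perm.mul_apply, hab, ha, map_one]
    simp [Equiv.Perm.inv_def]
    field_simp
  · have h1 : (a : K) - 1 ≠ 0 := sub_ne_zero.2 ha
    set c := b / ((a : K) - 1) with hc
    have hpow : ∀ n : ℕ, ∀ y, (g ^ n) y = (a : K) ^ n * (y + c) - c := by
      intro n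
      induction n with
      | zero => simp
      | succ n ih => intro y; rw [pow_succ', Equiv.Perm.mul_apply, ih, hab, hc]; field_simp; ring
    have har : (a : K) ^ orderOf g = 1 := by
      have := hpow (orderOf g) (1 - c)
      rw [pow_orderOf_eq_one] at this
      simp at this; exact this.symm
    haveI := Fact.mk hord
    have ho : orderOf (a : K) = orderOf g := orderOf_eq_prime har ha
    haveI := Fintype.ofFinite K
    have hK : Fintype.card K = p ^ 2 := by rw [← Nat.card_eq_fintype_card, GaloisField.card p 2 (by norm_num)]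
    have hd : orderOf g ∣ (p + 1) * (p - 1) := by
      rw [← ho, ← Nat.sq_sub_sq, one_pow, ← hK]
      exact orderOf_dvd_of_pow_eq_one (FiniteField.pow_card_sub_one_eq_one _ a.ne_zero)
    have h2 := hp.two_le
    have hs' : p + 1 = 2 ^ s := by have := Nat.one_le_two_pow (n := s); omega
    have hd' : orderOf g ∣ p - 1 := by
      rcases (Nat.Prime.dvd_mul hord).1 hd with h | h
      · rw [hs'] at h
        rw [(Nat.prime_dvd_prime_iff_eq hord Nat.prime_two).1 (hord.dvd_of_dvd_pow h)]
        have : 2 ∣ p + 1 := by rw [hs']; exact dvd_pow_self 2 (by rintro rfl; omega)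
        omega
      · exact h
    have hap : (a : K) ^ p = a := by
      have : (a : K) ^ (p - 1) = 1 := orderOf_dvd_iff_pow_eq_one.1 (ho ▸ hd')
      have e : (a : K) ^ p = (a : K) ^ (p - 1 + 1) := by congr 1; omega
      rw [e, pow_succ, this, one_mul]
    obtain ⟨a', ha'⟩ : ∃ a' : ZMod p, algebraMap (ZMod p) K a' = a := by
      have := (Subfield.mem_bot_iff_pow_eq_self K p).2 hap
      rw [← ZMod.fieldRange_castHom_eq_bot p] at this
      obtain ⟨a', h⟩ := this
      exact ⟨a', by rw [← h]; exact congrFun (congrArg _ (Subsingleton.elim _ _)) a'⟩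
    refine ⟨Equiv.addRight c, ⟨1, c, fun y => by simp⟩, a', 0, fun h => a.ne_zero (by rw [← ha', h, map_zero]), fun y => ?_⟩
    have := hpow 1
    simp only [pow_one] at this
    simp [Equiv.Perm.mul_apply, this, Equiv.Perm.inv_def]
    exact Or.inl ha'.symm

end Cfsg.Agent.S5728
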