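import Cfsg.Statements.S5847
import Cfsg.Agent.H5.AsO3

set_option autoImplicit false
open Cfsg

namespace Cfsg.Agent.S5847

/-- Every maximal subgroup of Ω_10^+(q) is of one of the listed geometric types or lies in the residual class. Let F be a finite field with q elements (characteristic p), Q a non-degenerate quadratic form on F^10 of plus type (Witt index 5: some totally singular 5-space), Ω the commutator subgroup of its isometry group, and H a maximal subgroup of Ω (inside GL_10(F)). Then H is the intersection with Ω of one of: the stabiliser of a non-zero totally singular subspace of dimension ≠ 4; for q odd, the stabiliser of a non-degenerate subspace of odd dimension ≠ 5; the stabiliser of a non-degenerate 2-space of minus type; for q ≥ 4, the stabiliser of a non-degenerate 2-space of plus type; the stabiliser of a non-degenerate 4-space; for q even, the stabiliser of the span of a non-singular vector; for q = p prime with p ≡ 1 mod 4,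 the stabiliser of a decomposition into 10 pairwise orthogonal, pairwise isometric non-degenerate 1-spaces; for q ≥ 7, the stabiliser of a decomposition into 5 pairwise orthogonal, pairwise isometric non-degenerate 2-spaces; for q ≡ 1 mod 4, the stabiliser of a decomposition into 2 pairwise orthogonal, pairwise isometric non-degenerate 5-spaces; for q ≡ 3 mod 4, the stabiliser of a decomposition into two orthogonal, non-isometric non-degenerate 5-spaces; for q odd, the normaliser of a degree-2 subfield of the matrix algebra, self-adjoint for the polar form; a subfield group (|F| = |F₀|^r, r prime) whose F₀-structure carries a non-zero multiple of Q — or else H lies in the residual class of the orthogonal case (modulo scalars H is almost simple, with absolutely irreducible perfect socle preimage realisable over no proper subfield and fixing no non-degenerate unitary form). -/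
theorem result {F : Type*} [Field F] [Fintype F] (Q : (Fin 10 → F) → F) (hQ : Cfsg.Geo.IsNondegenerateQuadraticForm Q) (hplus : Cfsg.Geo.IsPlusTypeOn Q ⊤) (H : Subgroup (Matrix.GeneralLinearGroup (Fin 10) F)) (hH : Cfsg.Geo.IsMaximalIn (Cfsg.Geo.omegaGL Q) H) :
    (∃ W : Submodule F (Fin 10 → F), W ≠ ⊥ ∧ Cfsg.Geo.IsTotallySingularQuad Q W ∧ Module.finrank F W ≠ 4 ∧ H = Cfsg.Geo.subspaceStabilizer W ⊓ Cfsg.Geo.omegaGL Q) ∨
    (Odd (Fintype.card F) ∧ ∃ W : Submodule F (Fin 10 → F), W ≠ ⊥ ∧ W ≠ ⊤ ∧ Odd (Module.finrank F W) ∧ 2 * Module.finrank F W ≠ 10 ∧ Cfsg.Geo.IsNondegenerateOn (QuadraticMap.polar Q) W ∧ H = Cfsg.Geo.subspaceStabilizer W ⊓ Cfsg.Geo.omegaGL Q) ∨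
    (∃ W : Submodule F (Fin 10 → F), Module.finrank F W = 2 ∧ Cfsg.Geo.IsNondegenerateOn (QuadraticMap.polar Q) W ∧ ¬ Cfsg.Geo.IsPlusTypeOn Q W ∧ H = Cfsg.Geo.subspaceStabilizer W ⊓ Cfsg.Geo.omegaGL Q) ∨
    (4 ≤ Fintype.card F ∧ ∃ W : Submodule F (Fin 10 → F), Module.finrank F W = 2 ∧ Cfsg.Geo.IsNondegenerateOn (QuadraticMap.polar Q) W ∧ Cfsg.Geo.IsPlusTypeOn Q W ∧ H = Cfsg.Geo.subspaceStabilizer W ⊓ Cfsg.Geo.omegaGL Q) ∨
    (∃ W : Submodule F (Fin 10 → F), Module.finrank F W = 4 ∧ Cfsg.Geo.IsNondegenerateOn (QuadraticMap.polar Q) W ∧ H = Cfsg.Geo.subspaceStabilizer W ⊓ Cfsg.Geo.omegaGL Q) ∨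
    (¬ Odd (Fintype.card F) ∧ ∃ v : (Fin 10 → F), Q v ≠ 0 ∧ H = Cfsg.Geo.subspaceStabilizer (Submodule.span F {v}) ⊓ Cfsg.Geo.omegaGL Q) ∨
    ((∃ p : ℕ, p.Prime ∧ Fintype.card F = p ∧ (p % 4 = 1)) ∧ ∃ D : Fin 10 → Submodule F (Fin 10 → F), Cfsg.Geo.IsOrthogonalMDecomposition Q 1 D ∧ H = Cfsg.Geo.decompositionStabilizer D ⊓ Cfsg.Geo.omegaGL Q) ∨
    (7 ≤ Fintype.card F ∧ ∃ D : Fin 5 → Submodule F (Fin 10 → F), Cfsg.Geo.IsOrthogonalMDecomposition Q 2 D ∧ H = Cfsg.Geo.decompositionStabilizer D ⊓ Cfsg.Geo.omegaGL Q) ∨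
    (Fintype.card F % 4 = 1 ∧ ∃ D : Fin 2 → Submodule F (Fin 10 → F), Cfsg.Geo.IsOrthogonalMDecomposition Q 5 D ∧ H = Cfsg.Geo.decompositionStabilizer D ⊓ Cfsg.Geo.omegaGL Q) ∨
    (Fintype.card F % 4 = 3 ∧ ∃ D : Fin 2 → Submodule F (Fin 10 → F), Cfsg.Geo.IsNondegenerateMDecomposition (QuadraticMap.polar Q) 5 D ∧ ¬ Cfsg.Geo.AreIsometricFor Q (D 0) (D 1) ∧ H = Cfsg.Geo.decompositionStabilizer D ⊓ Cfsg.Geo.omegaGL Q) ∨
    (Odd (Fintype.card F) ∧ ∃ K : Subalgebra F (Matrix (Fin 10) (Fin 10) F), Cfsg.Geo.IsFieldSubalgebra 2 K ∧ Cfsg.Geo.IsSelfAdjointFor (QuadraticMap.polar Q) K ∧ H = Cfsg.Geo.subalgebraNormalizer K ⊓ Cfsg.Geo.omegaGL Q) ∨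
    (∃ (F₀ : Subfield F) (r : ℕ) (P : Matrix.GeneralLinearGroup (Fin 10) F) (ζ : F), r.Prime ∧ Fintype.card F = Nat.card F₀ ^ r ∧ ζ ≠ 0 ∧ Cfsg.Geo.IsQuadFormRationalStructure (fun v : Fin 10 → F => ζ * Q v) F₀ P ∧ H = Cfsg.Geo.subfieldSubgroup F₀ P ⊓ Cfsg.Geo.omegaGL Q) ∨
    Cfsg.Geo.InOrthogonalResidualClass H := by
  obtain ⟨Φ, G, rfl, hΦ⟩ := H5.As.exists_OF hQ
  have hc : Fintype.card (Fin 10) = 10 := by simp
  have hq : 2 ≤ Fintype.card F := Fintype.one_lt_card
  have k := H5.As.orth_max hΦ (by omega) (fun h => absurd h (by rw [hc]; decide)) hH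
  unfold H5.As.OC at k
  simp only [hc] at k
  rcases k with (⟨W, h1, h2, h3, h⟩ | ⟨W, h1, h2, h3, h4, h5, h6, h8, h9, h⟩ | h | ⟨t, k, h1, h2, h3, h4, h5, D, hD, h6, h8, h⟩ |
    ⟨k, h1, h2, h3, h4, h⟩ | ⟨k, h1, h2, h3, h⟩ | ⟨r, h1, h2, h3, h4, h5, K, hK, h6, h⟩ | ⟨m', h1, h2, K, hK, h⟩ |
    ⟨d, k, h1, h2, h3, h4, h5, h6, e, P, f₁, f₂, h8, h9, h10, h11, h⟩ | ⟨k, h1, h2, h3, h⟩ |
    ⟨F₀, r, P, ζ, h1, h2, h3, h4, h5, h6, h⟩ | ⟨k, t, h1, h2, h3, h4, h5, h⟩ | ⟨h1, h⟩) | h
  · exact .inl ⟨W, h1, h2, fun e => h3 (by omega) hplus, h⟩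
  · replace h5 := h5 (by decide)
    have h10 := Submodule.one_le_finrank_iff.2 h1
    rcases Nat.even_or_odd (Module.finrank F W) with e | e; swap
    · exact .inr <| .inl ⟨h9 e, W, h1, h2, e, fun k => Nat.not_even_iff_odd.2 e (h6 k).1, h3, h⟩
    rw [Nat.even_iff] at e
    by_cases e2 : Module.finrank F W = 2
    · by_cases e3 : Cfsg.Geo.IsPlusTypeOn Φ.Q W
      exacts [.inr <| .inr <| .inr <| .inl ⟨h8 e2 e3, W, e2, h3, e3, h⟩, .inr <| .inr <| .inl ⟨W, e2, h3, e3, h⟩]
    exact .inr <| .inr <| .inr <| .inr <| .inl ⟨W, by omega, h3, h⟩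
  · repeat first | exact .inl h | exact h | right
  · have := Nat.le_of_dvd (by norm_num) (Dvd.intro _ h1)
    interval_cases t <;> first | omega | skip
    · obtain rfl : k = 5 := by omega
      obtain ⟨h9, h10⟩ := h5 (by decide)
      have h11 := h10 5 rfl
      have ho := Nat.odd_iff.1 h9
      have h12 : Fintype.card F % 4 = 1 ∨ Fintype.card F % 4 = 3 := by omega
      have h13 := h12.resolve_right fun e => by simpa [Nat.pow_mod, e] using h11.1 hplus
      repeat first | exact .inl ⟨h13, D, hD, h⟩ | exact ⟨h13, D, hD, h⟩ | right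
    · obtain rfl : k = 2 := by omega
      have h9 := h6 0 (((h8 (by decide) 0).1 hplus).resolve_left (by decide))
      repeat first | exact .inl ⟨h9.1 rfl, D, hD, h⟩ | exact ⟨h9.1 rfl, D, hD, h⟩ | right
    · obtain rfl : k = 1 := by omega
      obtain ⟨h9, h10⟩ := h5 (by decide)
      have h11 := h10 5 rfl
      have ho := Nat.odd_iff.1 h9
      have h12 : Fintype.card F % 4 = 1 ∨ Fintype.card F % 4 = 3 := by omega
      have h13 := h12.resolve_right fun e => by simpa [Nat.pow_mod, e] using h11.1 hplus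
      repeat first | exact .inl ⟨⟨_, h3 rfl, rfl, h13⟩, D, hD, h⟩ | exact ⟨⟨_, h3 rfl, rfl, h13⟩, D, hD, h⟩ | right
  · obtain rfl : k = 5 := by omega
    have ho := Nat.odd_iff.1 h3
    have h12 : Fintype.card F % 4 = 1 ∨ Fintype.card F % 4 = 3 := by omega
    have h13 := h12.resolve_left fun e => by simpa [Nat.pow_mod, e] using h4.1 hplus
    repeat first | exact .inl ⟨h13, h⟩ | exact ⟨h13, h⟩ | right
  · obtain rfl : k = 5 := by omega
    exact absurd h2 (by decide)
  · have := Nat.le_of_dvd (by norm_num) h2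
    interval_cases r <;> first | omega | (exfalso; revert h1; decide) | repeat first | exact .inl ⟨by_contra fun k => absurd (h5 k) (by decide), K, hK, h6, h⟩ | exact ⟨by_contra fun k => absurd (h5 k) (by decide), K, hK, h6, h⟩ | right
  · obtain rfl : m' = 5 := by omega
    exact absurd (h2 hplus) (by decide)
  · nlinarith
  · obtain rfl : k = 5 := by omega
    exact absurd h2 (by decide)
  · repeat first | exact .inl ⟨F₀, r, P, ζ, h1, h3, h4, h6, h⟩ | exact ⟨F₀, r, P, ζ, h1, h3, h4, h6, h⟩ | right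
  · obtain ⟨rfl, rfl⟩ := H5.As.wr_small h2 h3 (by omega)
    omega
  · omega
  · repeat first | exact .inl h | exact h | right


end Cfsg.Agent.S5847
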