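import Cfsg.Statements.S5874
import Cfsg.Agent.H5.AsO3

set_option autoImplicit false
open Cfsg

namespace Cfsg.Agent.S5874

/-- Every maximal subgroup of Ω_12^-(q) is of one of the listed geometric types or lies in the residual class. Let F be a finite field with q elements (characteristic p), Q a non-degenerate quadratic form on F^12 of minus type (Witt index 5: no totally singular 6-space), Ω the commutator subgroup of its isometry group, and H a maximal subgroup of Ω (inside GL_12(F)). Then H is the intersection with Ω of one of: the stabiliser of a non-zero totally singular subspace; for q odd, the stabiliser of a non-degenerate subspace of odd dimension; the stabiliser of a non-degenerate 2-space of minus type; for q ≥ 4, the stabiliser of a non-degenerate 2-space of plus type; the stabiliser of a non-degenerate 4-space; the stabiliser of a non-degenerate 6-space; for q even, the stabiliser of the span of a non-singular vector;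 the stabiliser of a decomposition into 3 pairwise orthogonal, pairwise isometric non-degenerate 4-spaces of minus type; the normaliser of a degree-2 subfield of the matrix algebra; the normaliser of a degree-3 subfield of the matrix algebra; for q odd with q ≥ 5, the stabiliser of a tensor decomposition of the polar form into symmetric forms on F^3 and F^4 (minus type); a subfield group (|F| = |F₀|^r, r odd prime) whose F₀-structure carries a non-zero multiple of Q — or else H lies in the residual class of the orthogonal case (modulo scalars H is almost simple, with absolutely irreducible perfect socle preimage realisable over no proper subfield and fixing no non-degenerate unitary form). -/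
theorem result {F : Type*} [Field F] [Fintype F] (Q : (Fin 12 → F) → F) (hQ : Cfsg.Geo.IsNondegenerateQuadraticForm Q) (hminus : ¬ Cfsg.Geo.IsPlusTypeOn Q ⊤) (H : Subgroup (Matrix.GeneralLinearGroup (Fin 12) F)) (hH : Cfsg.Geo.IsMaximalIn (Cfsg.Geo.omegaGL Q) H) :
    (∃ W : Submodule F (Fin 12 → F), W ≠ ⊥ ∧ Cfsg.Geo.IsTotallySingularQuad Q W ∧ H = Cfsg.Geo.subspaceStabilizer W ⊓ Cfsg.Geo.omegaGL Q) ∨
    (Odd (Fintype.card F) ∧ ∃ W : Submodule F (Fin 12 → F), W ≠ ⊥ ∧ W ≠ ⊤ ∧ Odd (Module.finrank F W) ∧ 2 * Module.finrank F W ≠ 12 ∧ Cfsg.Geo.IsNondegenerateOn (QuadraticMap.polar Q) W ∧ H = Cfsg.Geo.subspaceStabilizer W ⊓ Cfsg.Geo.omegaGL Q) ∨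
    (∃ W : Submodule F (Fin 12 → F), Module.finrank F W = 2 ∧ Cfsg.Geo.IsNondegenerateOn (QuadraticMap.polar Q) W ∧ ¬ Cfsg.Geo.IsPlusTypeOn Q W ∧ H = Cfsg.Geo.subspaceStabilizer W ⊓ Cfsg.Geo.omegaGL Q) ∨
    (4 ≤ Fintype.card F ∧ ∃ W : Submodule F (Fin 12 → F), Module.finrank F W = 2 ∧ Cfsg.Geo.IsNondegenerateOn (QuadraticMap.polar Q) W ∧ Cfsg.Geo.IsPlusTypeOn Q W ∧ H = Cfsg.Geo.subspaceStabilizer W ⊓ Cfsg.Geo.omegaGL Q) ∨
    (∃ W : Submodule F (Fin 12 → F), Module.finrank F W = 4 ∧ Cfsg.Geo.IsNondegenerateOn (QuadraticMap.polar Q) W ∧ H = Cfsg.Geo.subspaceStabilizer W ⊓ Cfsg.Geo.omegaGL Q) ∨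
    (∃ W : Submodule F (Fin 12 → F), Module.finrank F W = 6 ∧ Cfsg.Geo.IsNondegenerateOn (QuadraticMap.polar Q) W ∧ H = Cfsg.Geo.subspaceStabilizer W ⊓ Cfsg.Geo.omegaGL Q) ∨
    (¬ Odd (Fintype.card F) ∧ ∃ v : (Fin 12 → F), Q v ≠ 0 ∧ H = Cfsg.Geo.subspaceStabilizer (Submodule.span F {v}) ⊓ Cfsg.Geo.omegaGL Q) ∨
    (∃ D : Fin 3 → Submodule F (Fin 12 → F), Cfsg.Geo.IsOrthogonalMDecomposition Q 4 D ∧ (∀ i, ¬ Cfsg.Geo.IsPlusTypeOn Q (D i)) ∧ H = Cfsg.Geo.decompositionStabilizer D ⊓ Cfsg.Geo.omegaGL Q) ∨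
    (∃ K : Subalgebra F (Matrix (Fin 12) (Fin 12) F), Cfsg.Geo.IsFieldSubalgebra 2 K ∧ H = Cfsg.Geo.subalgebraNormalizer K ⊓ Cfsg.Geo.omegaGL Q) ∨
    (∃ K : Subalgebra F (Matrix (Fin 12) (Fin 12) F), Cfsg.Geo.IsFieldSubalgebra 3 K ∧ H = Cfsg.Geo.subalgebraNormalizer K ⊓ Cfsg.Geo.omegaGL Q) ∨
    (Odd (Fintype.card F) ∧ 5 ≤ Fintype.card F ∧ ∃ (e : Fin 12 ≃ Fin 3 × Fin 4) (P : Matrix.GeneralLinearGroup (Fin 12) F) (f₁ : (Fin 3 → F) → (Fin 3 → F) → F) (f₂ : (Fin 4 → F) → (Fin 4 → F) → F), Cfsg.Geo.IsSymmetricForm f₁ ∧ Cfsg.Geo.IsSymmetricForm f₂ ∧ ¬ Cfsg.Geo.IsPlusTypeOn (fun v : Fin 4 → F => f₂ v v) ⊤ ∧ Cfsg.Geo.IsTensorFormStructure id (QuadraticMap.polar Q) f₁ f₂ e P ∧ H = Cfsg.Geo.tensorProductSubgroup 3 4 e P ⊓ Cfsg.Geo.omegaGL Q) ∨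
    (∃ (F₀ : Subfield F) (r : ℕ) (P : Matrix.GeneralLinearGroup (Fin 12) F) (ζ : F), r.Prime ∧ Odd r ∧ Fintype.card F = Nat.card F₀ ^ r ∧ ζ ≠ 0 ∧ Cfsg.Geo.IsQuadFormRationalStructure (fun v : Fin 12 → F => ζ * Q v) F₀ P ∧ H = Cfsg.Geo.subfieldSubgroup F₀ P ⊓ Cfsg.Geo.omegaGL Q) ∨
    Cfsg.Geo.InOrthogonalResidualClass H := by
  obtain ⟨Φ, G, rfl, hΦ⟩ := H5.As.exists_OF hQ
  have hc : Fintype.card (Fin 12) = 12 := by simp
  have hq : 2 ≤ Fintype.card F := Fintype.one_lt_card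
  have k := H5.As.orth_max hΦ (by omega) (fun h => absurd h (by rw [hc]; decide)) hH
  unfold H5.As.OC at k
  simp only [hc] at k
  rcases k with (⟨W, h1, h2, h3, h⟩ | ⟨W, h1, h2, h3, h4, h5, h6, h8, h9, h⟩ | h | ⟨t, k, h1, h2, h3, h4, h5, D, hD, h6, h8, h⟩ |
    ⟨k, h1, h2, h3, h4, h⟩ | ⟨k, h1, h2, h3, h⟩ | ⟨r, h1, h2, h3, h4, h5, K, hK, h6, h⟩ | ⟨m', h1, h2, K, hK, h⟩ |
    ⟨d, k, h1, h2, h3, h4, h5, h6, e, P, f₁, f₂, h8, h9, h10, h11, h⟩ | ⟨k, h1, h2, h3, h⟩ |
    ⟨F₀, r, P, ζ, h1, h2, h3, h4, h5, h6, h⟩ | ⟨k, t, h1, h2, h3, h4, h5, h⟩ | ⟨h1, h⟩) | h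
  · exact .inl ⟨W, h1, h2, h⟩
  · replace h5 := h5 (by decide)
    have h10 := Submodule.one_le_finrank_iff.2 h1
    rcases Nat.even_or_odd (Module.finrank F W) with e | e; swap
    · exact .inr <| .inl ⟨h9 e, W, h1, h2, e, fun k => Nat.not_even_iff_odd.2 e (h6 k).1, h3, h⟩
    rw [Nat.even_iff] at e
    by_cases e2 : Module.finrank F W = 2
    · by_cases e3 : Cfsg.Geo.IsPlusTypeOn Φ.Q W
      exacts [.inr <| .inr <| .inr <| .inl ⟨h8 e2 e3, W, e2, h3, e3, h⟩, .inr <| .inr <| .inl ⟨W, e2, h3, e3, h⟩]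
    by_cases e4 : Module.finrank F W = 4
    exacts [.inr <| .inr <| .inr <| .inr <| .inl ⟨W, e4, h3, h⟩, .inr <| .inr <| .inr <| .inr <| .inr <| .inl ⟨W, by omega, h3, h⟩]
  · repeat first | exact .inl h | exact h | right
  · have := Nat.le_of_dvd (by norm_num) (Dvd.intro _ h1)
    interval_cases t <;> first | omega | skip
    · obtain rfl : k = 6 := by omega
      exact (hminus ((h8 (by decide) 0).2 (.inl (by decide)))).elim
    · obtain rfl : k = 4 := by omega
      repeat first | exact .inl ⟨D, hD, fun i e => hminus ((h8 (by decide) i).2 (.inr e)), h⟩ | exact ⟨D, hD, fun i e => hminus ((h8 (by decide) i).2 (.inr e)), h⟩ | right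
    · obtain rfl : k = 3 := by omega
      obtain ⟨h9, h10⟩ := h5 (by decide)
      have h11 := h10 6 rfl
      have ho := Nat.odd_iff.1 h9
      have h12 : Fintype.card F % 4 = 1 ∨ Fintype.card F % 4 = 3 := by omega
      exact (hminus (h11.2 (by rcases h12 with e | e <;> simp [Nat.pow_mod, e]))).elim
    · obtain rfl : k = 2 := by omega
      exact (hminus ((h8 (by decide) 0).2 (.inl (by decide)))).elim
    · obtain rfl : k = 1 := by omega
      obtain ⟨h9, h10⟩ := h5 (by decide)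
      have h11 := h10 6 rfl
      have ho := Nat.odd_iff.1 h9
      have h12 : Fintype.card F % 4 = 1 ∨ Fintype.card F % 4 = 3 := by omega
      exact (hminus (h11.2 (by rcases h12 with e | e <;> simp [Nat.pow_mod, e]))).elim
  · obtain rfl : k = 6 := by omega
    exact absurd h2 (by decide)
  · exact absurd h3 hminus
  · have := Nat.le_of_dvd (by norm_num) h2
    interval_cases r <;> first | omega | (exfalso; revert h1; decide) | repeat first | exact .inl ⟨K, hK, h⟩ | exact ⟨K, hK, h⟩ | right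
  · obtain rfl : m' = 6 := by omega
    repeat first | exact .inl ⟨K, hK, h.2.2.2⟩ | exact ⟨K, hK, h.2.2.2⟩ | right
  · obtain rfl : d = 3 := by nlinarith
    obtain rfl : k = 4 := by omega
    repeat first | exact .inl ⟨h5, h4 rfl, e, P, f₁, f₂, h8, h9, h10 rfl rfl, h11, h⟩ | exact ⟨h5, h4 rfl, e, P, f₁, f₂, h8, h9, h10 rfl rfl, h11, h⟩ | right
  · exact absurd h3 hminus
  · repeat first | exact .inl ⟨F₀, r, P, ζ, h1, h2 (by decide) hminus, h3, h4, h6, h⟩ | exact ⟨F₀, r, P, ζ, h1, h2 (by decide) hminus, h3, h4, h6, h⟩ | right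
  · obtain ⟨rfl, rfl⟩ := H5.As.wr_small h2 h3 (by omega)
    omega
  · omega
  · repeat first | exact .inl h | exact h | right


end Cfsg.Agent.S5874
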